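import Cfsg.Agent.Lib.Lie.Chev.Bruhat
import Cfsg.Agent.Lib.Lie.Chev.Tw.Root

/-!
# Centralisers of root elements that are central in the maximal unipotent subgroup
-/

set_option autoImplicit false

namespace CfsgLib.Lie.Chev

open Cfsg.Lie
open scoped MatrixGroups

variable {D : ChevalleyDatum} {K : Type*} [Field K]

/-- the product of the root elements `x_θ(1)`, `θ ∈ S` -/
noncomputable def tS (G : Good D) (S : List (Fin D.nroots)) : GL D.Idx K :=
  (S.map fun θ => G.xu θ 1).prod

/-- the subgroup generated by `U` and the negative simple root subgroups of the nodes in `J` -/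
noncomputable def centTop (G : Good D) (J : List (Fin D.rank)) : Subgroup (GL D.Idx K) :=
  D.posUnipotent K ⊔
    Subgroup.closure {g | ∃ i ∈ J, ∃ t, g = G.xu (G.negr (G.simp' i)) t}

/-- `θ` is the last root of a set of roots that is closed under the simple reflections -/
def IsTop (D : ChevalleyDatum) (θ : ℕ) (P : ℕ → Bool) : Prop :=
  P θ = true ∧ ∀ r < D.nroots, P r = true → r ≤ θ ∧ ∀ i < D.rank, P (D.reflectRoot i r) = true

instance (θ : ℕ) (P : ℕ → Bool) : Decidable (IsTop D θ P) := by unfold IsTop; infer_instance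

/-- all terms of the commutator formula between a positive root and `θ` are even -/
def EvenTerms (D : ChevalleyDatum) (θ : ℕ) : Prop :=
  ∀ r < D.nroots, D.IsPosRoot r → r ≠ θ → ∀ c ∈ D.commTerms r θ, c.2.1 % 2 = 0

instance (θ : ℕ) : Decidable (EvenTerms D θ) := by
  unfold EvenTerms
  have : ∀ r : ℕ, Decidable (D.IsPosRoot r) := fun r => by
    unfold ChevalleyDatum.IsPosRoot; infer_instance
  infer_instance

namespace Good

variable (G : Good D)

include G

theorem rootSubgroup_closure (r : Fin D.nroots) :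
    D.rootSubgroup K r.val = Subgroup.closure {g : GL D.Idx K | ∃ t, g = G.xu r t} := by
  rw [ChevalleyDatum.rootSubgroup]
  congr 1
  ext g
  simp only [Set.mem_ofPred_eq, G.x_eq_xu]
  exact exists_congr fun t => ⟨fun h => Units.ext h, fun h => congrArg Units.val h⟩

theorem xu_mem_rootSubgroup (r : Fin D.nroots) (t : K) : G.xu r t ∈ D.rootSubgroup K r.val := by
  rw [G.rootSubgroup_closure]
  exact Subgroup.subset_closure ⟨t, rfl⟩

/-- the character of a root on the parametrised torus -/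
theorem chi_cart (c : Fin D.rank → Kˣ) (r : Fin D.nroots) :
    G.chi (fun l => ∏ i, c i ^ cart D i (G.simp' l)) (G.rho r) = ∏ i, c i ^ cart D i r := by
  simp only [chi]
  rw [Finset.prod_congr rfl fun l _ => (Finset.prod_zpow _ _ _).symm, Finset.prod_comm]
  refine Finset.prod_congr rfl fun i _ => ?_
  rw [G.cart_eq i r]
  induction (Finset.univ : Finset (Fin D.rank)) using Finset.induction with
  | empty => simp
  | insert a s ha ih =>
    rw [Finset.prod_insert ha, Finset.sum_insert ha, zpow_add, ih, ← zpow_mul,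
      mul_comm (cart D i (G.simp' a))]

theorem torθ_conj_xu (c : Fin D.rank → Kˣ) (r : Fin D.nroots) (t : K) :
    G.torθ c * G.xu r t * (G.torθ c)⁻¹ =
      G.xu r (((∏ i, c i ^ cart D i r : Kˣ) : K) * t) := by
  rw [← G.chi_cart c r]
  exact G.tor_conj_xu _ r t

theorem ht_le {r s : Fin D.nroots} (h : r.val ≤ s.val) : G.ht (G.rho r) ≤ G.ht (G.rho s) := by
  rcases Nat.lt_or_eq_of_le h with h | h
  · exact le_of_lt (G.eq_of_le_ht h)
  · rw [Fin.ext h]

theorem pw_isTop {θ : Fin D.nroots} {P : ℕ → Bool} (h : IsTop D θ.val P) :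
    ∀ (l : List (Fin D.rank)), P (G.pw l θ).val = true := by
  intro l
  induction l with
  | nil => simpa [G.pw_nil] using h.1
  | cons i l ih =>
    rw [G.pw_cons, Equiv.Perm.mul_apply, G.sP_apply, G.w_reflect]
    exact (h.2 _ (Fin.isLt _) ih).2 i.val i.isLt

/-- an element of the Weyl group fixing top roots is a word in the reflections fixing them -/
theorem stab_word {S : List (Fin D.nroots)} (hS : ∀ θ ∈ S, D.IsPosRoot θ.val)
    (htop : ∀ θ ∈ S, ∃ P, IsTop D θ.val P) {π : Equiv.Perm (Fin D.nroots)} (hπ : π ∈ G.Wg)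
    (hfix : ∀ θ ∈ S, π θ = θ) :
    ∃ l : List (Fin D.rank), G.pw l = π ∧ ∀ i ∈ l, ∀ θ ∈ S, cart D i θ = 0 := by
  obtain ⟨l₀, rfl⟩ := G.exists_pw hπ
  induction hn : l₀.length using Nat.strong_induction_on generalizing l₀ with
  | _ n ih =>
    subst hn
    rcases List.eq_nil_or_concat l₀ with rfl | ⟨l', j, rfl⟩
    · exact ⟨[], rfl, by simp⟩
    rw [List.concat_eq_append] at hfix ⊢
    by_cases hj : D.IsPosRoot (G.pw l' (G.simp' j)).val
    · have hc : ∀ θ ∈ S, cart D j θ = 0 := by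
        intro θ hθ
        obtain ⟨P, hP⟩ := htop θ hθ
        have hle : G.ht (G.rho (G.pw l' θ)) ≤ G.ht (G.rho θ) :=
          G.ht_le ((hP.2 _ (Fin.isLt _) (G.pw_isTop hP l')).1)
        have hge : 0 ≤ cart D j θ := by
          have h1 : G.ht (G.rho (G.w j θ)) ≤ G.ht (G.rho θ) := by
            have := G.pw_isTop hP [j]
            rw [G.pw_single, G.sP_apply] at this
            exact G.ht_le ((hP.2 _ (Fin.isLt _) this).1)
          rw [G.rho_w, sub_eq_add_neg, G.ht_add, G.ht_neg, G.ht_smul] at h1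
          nlinarith [G.ht_single_pos j]
        have hf := hfix θ hθ
        rw [G.pw_append, Equiv.Perm.mul_apply, G.pw_single, G.sP_apply] at hf
        have h2 : G.ht (G.rho (G.pw l' (G.w j θ))) =
            G.ht (G.rho (G.pw l' θ)) - cart D j θ * G.ht (G.rho (G.pw l' (G.simp' j))) := by
          rw [G.ht_pw, G.ht_pw l' θ, G.rho_w]
          simp only [Pi.sub_apply, Pi.smul_apply, smul_eq_mul, sub_mul, Finset.sum_sub_distrib]
          congr 1
          rw [Finset.sum_eq_single j (fun b _ hb => by rw [Pi.single_eq_of_ne hb]; ring) (by simp),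
            Pi.single_eq_same, mul_one]
        rw [hf] at h2
        have hpos : 0 < G.ht (G.rho (G.pw l' (G.simp' j))) := (G.isPosRoot_iff _).1 hj
        nlinarith
      have hfix' : ∀ θ ∈ S, G.pw l' θ = θ := fun θ hθ => by
        have hw : G.w j θ = θ := G.rho_injective (by rw [G.rho_w, hc θ hθ, zero_smul, sub_zero])
        have := hfix θ hθ
        rwa [G.pw_append, Equiv.Perm.mul_apply, G.pw_single, G.sP_apply, hw] at this
      obtain ⟨l, hl, hl2⟩ := ih l'.length (by simp) l' (G.pw_mem l') hfix' rfl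
      refine ⟨l ++ [j], by rw [G.pw_append, hl, G.pw_append], ?_⟩
      intro i hi
      rcases List.mem_append.1 hi with h | h
      · exact hl2 i h
      · rw [List.mem_singleton.1 h]; exact hc
    · obtain ⟨l₁, i, l₂, rfl, he, -⟩ := G.delete_right hj
      have e : G.pw ((l₁ ++ i :: l₂) ++ [j]) = G.pw (l₁ ++ l₂) := by
        rw [G.pw_append, G.pw_single, he]
      rw [e] at hfix ⊢
      exact ih (l₁ ++ l₂).length (by simp) (l₁ ++ l₂) (G.pw_mem _) hfix rfl

/-- the image of a product of root elements under a monomial element -/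
theorem conj_prod {n : GL D.Idx K} {π : Equiv.Perm (Fin D.nroots)} {c : Fin D.nroots → Kˣ}
    (hc : ∀ s t, n * G.xu s t * n⁻¹ = G.xu (π s) ((c s : K) * t)) (S : List (Fin D.nroots)) :
    n * tS G S * n⁻¹ = (S.map fun θ => G.xu (π θ) (c θ : K)).prod := by
  induction S with
  | nil => simp [tS]
  | cons a S ih =>
    simp only [tS, List.map_cons, List.prod_cons] at ih ⊢
    rw [show n * (G.xu a 1 * (S.map fun θ => G.xu θ 1).prod) * n⁻¹ =
      (n * G.xu a 1 * n⁻¹) * (n * (S.map fun θ => G.xu θ 1).prod * n⁻¹) by group, ih, hc, mul_one]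

end Good

namespace Full

variable (C : Full D)

include C

theorem commute_of_even [CharP K 2] {θ r : Fin D.nroots} (hθ : D.IsPosRoot θ.val)
    (hr : D.IsPosRoot r.val) (h : EvenTerms D θ.val) (t u : K) :
    Commute (C.G.xu r t) (C.G.xu θ u) := by
  by_cases e : r = θ
  · subst e
    rw [Commute, SemiconjBy, ← C.G.xu_add, ← C.G.xu_add, add_comm]
  have hcm := C.commAt r θ (Ne.symm e) (C.pos_ne_negr hr hθ) t u
  unfold CommAt at hcm
  have h0 : wordR K D (cwR D r.val θ.val t u) = 1 := by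
    refine List.prod_eq_one fun M hM => ?_
    obtain ⟨p, hp, rfl⟩ := List.mem_map.1 hM
    obtain ⟨c, hc, rfl⟩ := List.mem_map.1 hp
    have h2 : ((c.2.1 : ℤ) : K) = 0 := by
      obtain ⟨k, hk⟩ := Int.dvd_of_emod_eq_zero (h r.val r.isLt hr (fun e' => e (Fin.ext e')) c hc)
      rw [hk]; push_cast; rw [CharTwo.two_eq_zero]; ring
    simp only [h2, zero_mul, xN]
    split_ifs
    · exact xg_zero K _
    · rfl
  rw [h0, mul_one] at hcm
  exact Units.ext hcm.symm

theorem commute_U_tS [CharP K 2] {S : List (Fin D.nroots)} (hS : ∀ θ ∈ S, D.IsPosRoot θ.val)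
    (hev : ∀ θ ∈ S, EvenTerms D θ.val) {u : GL D.Idx K} (hu : u ∈ D.posUnipotent K) :
    u * tS C.G S = tS C.G S * u := by
  have hle : D.posUnipotent K ≤ Subgroup.centralizer {tS C.G S} := by
    rw [C.G.posUnipotent_eq_closure, Subgroup.closure_le]
    rintro g ⟨r, t, hr, rfl⟩
    rw [SetLike.mem_coe, Subgroup.mem_centralizer_singleton_iff]
    exact (Commute.list_prod_right (S.map fun θ => C.G.xu θ 1) _ (fun x hx => by
      obtain ⟨θ, hθ, rfl⟩ := List.mem_map.1 hx
      exact C.commute_of_even (hS θ hθ) hr (hev θ hθ) t 1)).eq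
  exact Subgroup.mem_centralizer_singleton_iff.1 (hle hu)

/-- the centraliser of a product of top root elements -/
theorem centralizer_tS [CharP K 2] (S : List (Fin D.nroots)) (J : List (Fin D.rank))
    (hS : ∀ θ ∈ S, D.IsPosRoot θ.val) (hev : ∀ θ ∈ S, EvenTerms D θ.val)
    (htop : ∀ θ ∈ S, ∃ P, IsTop D θ.val P)
    (hJ : ∀ i, i ∈ J ↔ ∀ θ ∈ S, cart D i θ = 0)
    (hout : ∀ i, i ∉ J → ∃ θ ∈ S, cart D i θ = 1 ∧ ∀ j, j ∉ J → j ≠ i → cart D j θ = 0)
    (hrig : ∀ (π : Equiv.Perm (Fin D.nroots)) (c : Fin D.nroots → Kˣ), π ∈ C.G.Wg →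
      (S.map fun θ => C.G.xu (π θ) (c θ : K)).prod = tS C.G S → ∀ θ ∈ S, π θ = θ ∧ c θ = 1) :
    D.group K ⊓ Subgroup.centralizer {tS C.G S} = centTop C.G J := by
  have hfixn : ∀ i ∈ J, C.G.nU i * tS C.G S = tS C.G S * (C.G.nU i : GL D.Idx K) := by
    intro i hi
    refine (Commute.list_prod_right (S.map fun θ => C.G.xu θ 1) _ (fun x hx => ?_)).eq
    obtain ⟨θ, hθ, rfl⟩ := List.mem_map.1 hx
    have hw : C.G.w i θ = θ :=
      C.G.rho_injective (by rw [C.G.rho_w, (hJ i).1 hi θ hθ, zero_smul, sub_zero])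
    have h1 := C.G.nU_xu i θ (1 : K)
    rw [hw, mul_one] at h1
    have h2 : ((C.G.eta i θ : ℤ) : K) = 1 := by
      rcases C.G.eta_unit i θ with e | e <;> rw [e] <;> simp [CharTwo.neg_eq]
    rw [h2] at h1
    exact h1
  have hUle : ∀ x ∈ D.posUnipotent K, x ∈ D.group K ⊓ Subgroup.centralizer {tS C.G S} :=
    fun x hx => Subgroup.mem_inf.2 ⟨C.G.posUnipotent_le_group hx,
      Subgroup.mem_centralizer_singleton_iff.2 (C.commute_U_tS hS hev hx)⟩
  have hMle : centTop C.G J ≤ D.group K ⊓ Subgroup.centralizer {tS C.G S} := by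
    refine sup_le hUle ((Subgroup.closure_le _).2 ?_)
    rintro g ⟨i, hi, t, rfl⟩
    have hn : C.G.nU i ∈ D.group K ⊓ Subgroup.centralizer {tS C.G S} :=
      Subgroup.mem_inf.2 ⟨C.G.nU_mem_group i,
        Subgroup.mem_centralizer_singleton_iff.2 (hfixn i hi)⟩
    have h1 := C.G.nU_xu i (C.G.simp' i) (-t : K)
    rw [C.G.w_simp, C.G.eta_simp, Int.cast_neg, Int.cast_one, neg_one_mul, neg_neg] at h1
    rw [show C.G.xu (C.G.negr (C.G.simp' i)) t =
      C.G.nU i * C.G.xu (C.G.simp' i) (-t) * (C.G.nU i)⁻¹ by rw [h1]; group]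
    exact mul_mem (mul_mem hn (hUle _ (C.G.xu_mem_U (C.G.simp_pos i) _))) (inv_mem hn)
  refine le_antisymm ?_ hMle
  intro g hg
  rw [Subgroup.mem_inf, Subgroup.mem_centralizer_singleton_iff] at hg
  obtain ⟨hgG, hgt⟩ := hg
  obtain ⟨b, hb, n, hn, π₀, -, v, hv, rfl⟩ := C.refined_exists hgG
  obtain ⟨u, hu, h, hh, rfl⟩ := C.G.mem_borel_iff.1 hb
  have hv' := C.G.Uinv_le π₀ hv
  have hN : h * n ∈ D.monomialSubgroup K := mul_mem (C.G.H_le_monomial hh) hn
  have hcomm : h * n * tS C.G S = tS C.G S * (h * n) := by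
    have e1 := C.commute_U_tS hS hev hu
    have e2 := C.commute_U_tS hS hev hv'
    have e3 : u * (h * n * tS C.G S) * v = u * (tS C.G S * (h * n)) * v := by
      calc u * (h * n * tS C.G S) * v = u * (h * n) * (tS C.G S * v) := by simp [mul_assoc]
        _ = u * h * n * v * tS C.G S := by rw [← e2]; simp [mul_assoc]
        _ = tS C.G S * (u * h * n * v) := hgt
        _ = (tS C.G S * u) * (h * n) * v := by simp [mul_assoc]
        _ = u * (tS C.G S * (h * n)) * v := by rw [← e1]; simp [mul_assoc]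
    exact mul_left_cancel (mul_right_cancel e3)
  obtain ⟨l₁, hl₁⟩ := C.G.exists_nPerm hN
  choose c hc using hl₁
  have him : (S.map fun θ => C.G.xu (C.G.pw l₁ θ) (c θ : K)).prod = tS C.G S := by
    rw [← C.G.conj_prod hc, hcomm]; group
  have hr := hrig _ c (C.G.pw_mem l₁) him
  obtain ⟨l, hl, hlJ⟩ := C.G.stab_word hS htop (C.G.pw_mem l₁) fun θ hθ => (hr θ hθ).1
  have hlM : C.G.nw l ∈ centTop (K := K) C.G J := by
    refine list_prod_mem fun x hx => ?_
    obtain ⟨i, hi, rfl⟩ := List.mem_map.1 hx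
    have hi' : i ∈ J := (hJ i).2 (hlJ i hi)
    refine mul_mem (mul_mem ?_ ?_) ?_
    · exact Subgroup.mem_sup_left (C.G.xu_mem_U (C.G.simp_pos i) _)
    · exact Subgroup.mem_sup_right (Subgroup.subset_closure ⟨i, hi', _, rfl⟩)
    · exact Subgroup.mem_sup_left (C.G.xu_mem_U (C.G.simp_pos i) _)
  have hd : h * n * (C.G.nw l)⁻¹ ∈ D.diagonalSubgroup K := by
    refine C.G.mem_H_of_nPerm_one (mul_mem hN (inv_mem (C.G.nw_mem_monomial l))) ?_
    have := Good.NPerm.mul C.G (fun s => ⟨c s, hc s⟩ : C.G.NPerm (h * n) (C.G.pw l₁))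
      (Good.NPerm.inv C.G (C.G.nPerm_nw (K := K) l))
    rwa [hl, mul_inv_cancel] at this
  rw [C.G.diagonal_eq_range] at hd
  obtain ⟨d, hd'⟩ := hd
  have hdcomm : C.G.torθ d * tS C.G S = tS C.G S * C.G.torθ d := by
    have h1 := (Subgroup.mem_inf.1 (hMle hlM)).2
    have h2 : h * n ∈ Subgroup.centralizer {tS C.G S} :=
      Subgroup.mem_centralizer_singleton_iff.2 hcomm
    rw [hd']
    exact Subgroup.mem_centralizer_singleton_iff.1 (mul_mem h2 (inv_mem h1))
  have hchar : ∀ θ ∈ S, (∏ i, d i ^ cart D i θ) = 1 := by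
    intro θ hθ
    have e := C.G.conj_prod (n := C.G.torθ d) (π := 1)
      (c := fun r => ∏ i, d i ^ cart D i r) (fun s t => C.G.torθ_conj_xu d s t) S
    rw [hdcomm, mul_assoc, mul_inv_cancel, mul_one] at e
    exact ((hrig 1 _ (one_mem _) e.symm) θ hθ).2
  have hd1 : ∀ i, i ∉ J → d i = 1 := by
    intro i hi
    obtain ⟨θ, hθ, h1, h2⟩ := hout i hi
    have := hchar θ hθ
    rwa [Finset.prod_eq_single i (fun j _ hj => by
      by_cases hjJ : j ∈ J
      · rw [(hJ j).1 hjJ θ hθ, zpow_zero]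
      · rw [h2 j hjJ hj, zpow_zero]) (by simp), h1, zpow_one] at this
  have hdM : C.G.torθ d ∈ centTop (K := K) C.G J := by
    rw [C.G.torθ_eq_prod]
    refine list_prod_mem fun x hx => ?_
    obtain ⟨i, -, rfl⟩ := List.mem_map.1 hx
    by_cases hi : i ∈ J
    · rw [← C.G.hE_eq]
      have hp : ∀ t : K, C.G.xu (C.G.simp' i) t ∈ centTop (K := K) C.G J := fun t =>
        Subgroup.mem_sup_left (C.G.xu_mem_U (C.G.simp_pos i) _)
      have hm : ∀ t : K, C.G.xu (C.G.negr (C.G.simp' i)) t ∈ centTop (K := K) C.G J := fun t =>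
        Subgroup.mem_sup_right (Subgroup.subset_closure ⟨i, hi, _, rfl⟩)
      simp only [Good.hE, Good.nE]
      exact mul_mem (mul_mem (mul_mem (hp _) (hm _)) (hp _)) (mul_mem (mul_mem (hp _) (hm _)) (hp _))
    · rw [hd1 i hi, map_one]; exact one_mem _
  rw [show u * h * n * v = u * (C.G.torθ d * C.G.nw l) * v by rw [hd']; group]
  exact mul_mem (mul_mem (Subgroup.mem_sup_left hu) (mul_mem hdM hlM)) (Subgroup.mem_sup_left hv')

theorem rigid_single (θ : Fin D.nroots) (π : Equiv.Perm (Fin D.nroots))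
    (c : Fin D.nroots → Kˣ) (_ : π ∈ C.G.Wg)
    (h : (([θ] : List (Fin D.nroots)).map fun r => C.G.xu (π r) (c r : K)).prod = tS C.G [θ]) :
    ∀ r ∈ ([θ] : List (Fin D.nroots)), π r = r ∧ c r = 1 := by
  intro r hr
  rw [List.mem_singleton] at hr
  subst hr
  simp only [tS, List.map_cons, List.map_nil, List.prod_cons, List.prod_nil, mul_one] at h
  have e := C.G.xu_eq_xu h (c r).ne_zero
  refine ⟨e, ?_⟩
  rw [e] at h
  have h3 : C.G.xu r ((c r : K) - 1) = 1 := by
    rw [sub_eq_add_neg, C.G.xu_add, h, ← C.G.xu_inv, mul_inv_cancel]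
  exact Units.ext (sub_eq_zero.1 ((C.G.xu_eq_one_iff r _).1 h3))

theorem uprod_two {a b : Fin D.nroots} (hab : a < b) (ha : D.IsPosRoot a.val)
    (hb : D.IsPosRoot b.val) (x y : K) :
    C.G.xu a x * C.G.xu b y = C.uprod 0 (fun r => if r = a then x else if r = b then y else 0) := by
  have key : ∀ (d m : ℕ), m + d = D.nroots →
      C.uprod m (fun r => if r = a then x else if r = b then y else 0) =
        (if m ≤ a.val then C.G.xu a x else 1) * (if m ≤ b.val then C.G.xu b y else 1) := by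
    intro d
    induction d with
    | zero =>
      intro m hm
      have := b.isLt
      rw [C.uprod_of_ge (by omega), if_neg (by have := a.isLt; omega), if_neg (by omega), one_mul]
    | succ d ih =>
      intro m hm
      have hlt : m < D.nroots := by omega
      have hab' : a.val < b.val := hab
      by_cases hp : D.IsPosRoot m
      · rw [C.uprod_step hlt hp, ih (m + 1) (by omega)]
        by_cases e1 : (⟨m, hlt⟩ : Fin D.nroots) = a
        · have : m = a.val := congrArg Fin.val e1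
          simp only [e1, if_true, if_neg (show ¬ m + 1 ≤ a.val by omega), one_mul,
            if_pos (show m ≤ a.val by omega), if_pos (show m + 1 ≤ b.val by omega),
            if_pos (show m ≤ b.val by omega)]
        · have h1 : m ≠ a.val := fun e => e1 (Fin.ext e)
          by_cases e2 : (⟨m, hlt⟩ : Fin D.nroots) = b
          · have : m = b.val := congrArg Fin.val e2
            simp only [e1, if_false, e2, if_true, if_neg (show ¬ m + 1 ≤ b.val by omega), mul_one,
              if_neg (show ¬ m + 1 ≤ a.val by omega), if_neg (show ¬ m ≤ a.val by omega), one_mul,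
              if_pos (show m ≤ b.val by omega), Ne.symm (ne_of_lt hab)]
          · have h2 : m ≠ b.val := fun e => e2 (Fin.ext e)
            simp only [e1, e2, if_false, C.G.xu_zero, one_mul]
            congr 1 <;> split_ifs <;> first | rfl | (exfalso; omega)
      · rw [C.uprod_skip hlt hp, ih (m + 1) (by omega)]
        have h1 : m ≠ a.val := fun e => hp (e ▸ ha)
        have h2 : m ≠ b.val := fun e => hp (e ▸ hb)
        congr 1 <;> split_ifs <;> first | rfl | (exfalso; omega)
  rw [key D.nroots 0 (Nat.zero_add _), if_pos (Nat.zero_le _), if_pos (Nat.zero_le _)]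

theorem two_xu_inj {a b a' b' : Fin D.nroots} (hab : a < b) (hab' : a' < b')
    (ha : D.IsPosRoot a.val) (hb : D.IsPosRoot b.val) (ha' : D.IsPosRoot a'.val)
    (hb' : D.IsPosRoot b'.val) {x y x' y' : K} (hx : x ≠ 0) (hy : y ≠ 0)
    (hx' : x' ≠ 0) (hy' : y' ≠ 0)
    (h : C.G.xu a x * C.G.xu b y = C.G.xu a' x' * C.G.xu b' y') :
    a = a' ∧ b = b' ∧ x = x' ∧ y = y' := by
  rw [C.uprod_two hab ha hb, C.uprod_two hab' ha' hb'] at h
  have key := C.uprod_inj D.nroots 0 (Nat.zero_add _) _ _ h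
  have k1 := key a (Nat.zero_le _) ha
  have k2 := key b (Nat.zero_le _) hb
  have k3 := key a' (Nat.zero_le _) ha'
  simp only [if_true, if_neg (ne_of_gt hab)] at k1 k2 k3
  by_cases e1 : a = a'
  · subst e1
    simp only [if_true, if_neg (ne_of_gt hab)] at k1 k2
    by_cases e2 : b = b'
    · subst e2; simp only [if_true] at k2; exact ⟨rfl, rfl, k1, k2⟩
    · rw [if_neg e2] at k2; exact absurd k2 hy
  · rw [if_neg e1] at k1
    by_cases e2 : a = b'
    · exfalso
      have h3 : a' < a := e2 ▸ hab'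
      rw [if_neg (ne_of_lt h3), if_neg (ne_of_lt (h3.trans hab))] at k3
      exact hx' k3.symm
    · rw [if_neg e2] at k1; exact absurd k1 hx

theorem rigid_pair {a b : Fin D.nroots} (hab : a < b) (ha : D.IsPosRoot a.val)
    (hb : D.IsPosRoot b.val) (hcomm : Commute (C.G.xu a (1 : K)) (C.G.xu b 1))
    {P : ℕ → Bool} (hP : IsTop D a.val P) (hbP : P b.val = false)
    (π : Equiv.Perm (Fin D.nroots)) (c : Fin D.nroots → Kˣ) (hπ : π ∈ C.G.Wg)
    (h : (([b, a] : List (Fin D.nroots)).map fun r => C.G.xu (π r) (c r : K)).prod = tS C.G [b, a]) :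
    ∀ r ∈ ([b, a] : List (Fin D.nroots)), π r = r ∧ c r = 1 := by
  obtain ⟨l, rfl⟩ := C.G.exists_pw hπ
  simp only [tS, List.map_cons, List.map_nil, List.prod_cons, List.prod_nil, mul_one] at h
  set p := C.G.pw l
  have hPa : P (p a).val = true := C.G.pw_isTop hP l
  have hne : p a ≠ p b := fun e => (ne_of_lt hab) (p.injective e)
  have hU : C.G.xu b 1 * C.G.xu a (1 : K) ∈ D.posUnipotent K :=
    mul_mem (C.G.xu_mem_U hb _) (C.G.xu_mem_U ha _)
  have hneg : ∀ r, ¬ D.IsPosRoot (r : Fin D.nroots).val → ∀ t : K,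
      C.G.xu r t ∈ D.posUnipotent K → t = 0 := fun r hr t ht =>
    (C.G.xu_eq_one_iff r t).1 (Subgroup.mem_bot.1 (C.G.U_inf_V_eq (K := K) ▸
      Subgroup.mem_inf.2 ⟨ht, C.G.xu_mem_V ((C.G.isNegRoot_iff_not_pos r).2 hr) t⟩))
  have hpa : D.IsPosRoot (p a).val := by
    by_contra hn
    by_cases hnb : D.IsPosRoot (p b).val
    · exact (c a).ne_zero (hneg _ hn _ (by
        rw [show C.G.xu (p a) (c a : K) = (C.G.xu (p b) (c b : K))⁻¹ *
          (C.G.xu b 1 * C.G.xu a 1) by rw [← h]; group]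
        exact mul_mem (inv_mem (C.G.xu_mem_U hnb _)) hU))
    · have h1 := Subgroup.mem_bot.1 (C.G.U_inf_V_eq (K := K) ▸ Subgroup.mem_inf.2
        ⟨hU, h ▸ mul_mem (C.G.xu_mem_V ((C.G.isNegRoot_iff_not_pos _).2 hnb) _)
          (C.G.xu_mem_V ((C.G.isNegRoot_iff_not_pos _).2 hn) _)⟩)
      rw [mul_eq_one_iff_eq_inv, C.G.xu_inv] at h1
      exact (ne_of_gt hab) (C.G.xu_eq_xu h1 one_ne_zero)
  have hpb : D.IsPosRoot (p b).val := by
    by_contra hn
    exact (c b).ne_zero (hneg _ hn _ (by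
      rw [show C.G.xu (p b) (c b : K) = (C.G.xu b 1 * C.G.xu a 1) *
        (C.G.xu (p a) (c a : K))⁻¹ by rw [← h]; group]
      exact mul_mem hU (inv_mem (C.G.xu_mem_U hpa _))))
  have res : p a = a ∧ p b = b ∧ (c a : K) = 1 ∧ (c b : K) = 1 := by
    rcases lt_or_gt_of_ne hne with hlt | hlt
    · have h' := congrArg (·⁻¹) h
      simp only [mul_inv_rev, C.G.xu_inv] at h'
      obtain ⟨e1, e2, e3, e4⟩ := C.two_xu_inj hlt hab hpa hpb ha hb
        (neg_ne_zero.2 (c a).ne_zero) (neg_ne_zero.2 (c b).ne_zero) (neg_ne_zero.2 one_ne_zero)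
        (neg_ne_zero.2 one_ne_zero) h'
      exact ⟨e1, e2, neg_injective e3, neg_injective e4⟩
    · rw [← hcomm.eq] at h
      obtain ⟨-, e2, -, -⟩ := C.two_xu_inj hlt hab hpb hpa ha hb (c b).ne_zero (c a).ne_zero
        one_ne_zero one_ne_zero h
      rw [e2, hbP] at hPa
      exact Bool.noConfusion hPa
  intro r hr
  simp only [List.mem_cons, List.not_mem_nil, or_false] at hr
  rcases hr with rfl | rfl
  · exact ⟨res.2.1, Units.ext res.2.2.2⟩
  · exact ⟨res.1, Units.ext res.2.2.1⟩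

end Full

end CfsgLib.Lie.Chev

namespace CfsgLib.Lie.Chev.Good

open Cfsg.Lie
open scoped MatrixGroups

variable {D : ChevalleyDatum} {K : Type*} [Field K] (G : Good D)

include G

/-- `centTop` as a join with named root subgroups -/
theorem centTop_eq (J : List (Fin D.rank)) :
    centTop (K := K) G J = D.posUnipotent K ⊔
      Subgroup.closure {g : GL D.Idx K | ∃ s ∈ J.map (fun i => D.neg (D.simple i.val)), ∃ c : K,
        (g : Matrix D.Idx D.Idx K) = D.x K s c} := by
  rw [centTop]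
  congr 1
  congr 1
  ext g
  simp only [Set.mem_ofPred_eq, List.mem_map]
  constructor
  · rintro ⟨i, hi, t, rfl⟩
    exact ⟨_, ⟨i, hi, rfl⟩, t, by rw [← G.simp_val, ← G.negr_val, G.x_eq_xu]⟩
  · rintro ⟨s, ⟨i, hi, rfl⟩, t, h⟩
    exact ⟨i, hi, t, Units.ext (by rw [h, ← G.simp_val, ← G.negr_val, G.x_eq_xu])⟩

theorem sup_rootSubgroups (A : Subgroup (GL D.Idx K)) (L : List ℕ) :
    L.foldl (fun M s => M ⊔ D.rootSubgroup K s) A = A ⊔
      Subgroup.closure {g : GL D.Idx K | ∃ s ∈ L, ∃ c : K,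
        (g : Matrix D.Idx D.Idx K) = D.x K s c} := by
  induction L generalizing A with
  | nil =>
    simp only [List.foldl_nil, List.not_mem_nil, false_and, exists_false]
    rw [show {g : GL D.Idx K | False} = ∅ from rfl, Subgroup.closure_empty, sup_bot_eq]
  | cons a L ih =>
    rw [List.foldl_cons, ih, sup_assoc, ChevalleyDatum.rootSubgroup, ← Subgroup.closure_union]
    congr 2
    ext g
    simp

theorem eq_tS_single {θ : Fin D.nroots} {t : GL D.Idx K}
    (h : (t : Matrix D.Idx D.Idx K) = D.x K θ.val 1) : t = tS G [θ] := by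
  refine Units.ext ?_
  rw [h, G.x_eq_xu]
  simp [tS]

theorem eq_tS_pair {θ₁ θ₂ : Fin D.nroots} {t : GL D.Idx K}
    (h : (t : Matrix D.Idx D.Idx K) = D.x K θ₁.val 1 * D.x K θ₂.val 1) : t = tS G [θ₁, θ₂] := by
  refine Units.ext ?_
  rw [h, G.x_eq_xu, G.x_eq_xu]
  simp [tS]

end CfsgLib.Lie.Chev.Good

namespace CfsgLib.Lie.Chev.Full

open Cfsg.Lie
open scoped MatrixGroups

variable {D : ChevalleyDatum} {K : Type*} [Field K] (C : Full D)

include C

/-- the centraliser of a single top root element -/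
theorem centralizer_single [CharP K 2] (θ : Fin D.nroots) (P : ℕ → Bool) (J : List (Fin D.rank))
    (hθ : D.IsPosRoot θ.val) (hev : EvenTerms D θ.val) (htop : IsTop D θ.val P)
    (hJ : ∀ i, i ∈ J ↔ cart D i θ = 0)
    (hout : ∀ i, i ∉ J → cart D i θ = 1 ∧ ∀ j, j ∉ J → j ≠ i → cart D j θ = 0)
    {t : GL D.Idx K} (ht : (t : Matrix D.Idx D.Idx K) = D.x K θ.val 1) :
    D.group K ⊓ Subgroup.centralizer {t} = centTop C.G J := by
  rw [C.G.eq_tS_single ht]
  refine C.centralizer_tS [θ] J (by simpa using hθ) (by simpa using hev)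
    (fun r hr => ⟨P, by rw [List.mem_singleton.1 hr]; exact htop⟩) (by simpa using hJ)
    (fun i hi => ⟨θ, by simp, hout i hi⟩) (C.rigid_single θ)

end CfsgLib.Lie.Chev.Full
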