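import Cfsg.Agent.Lib.Lie.Chev.Borel

/-!
# Perfectness
-/

set_option autoImplicit false

namespace CfsgLib.Lie.Chev

open Cfsg.Lie
open scoped MatrixGroups commutatorElement

variable {D : ChevalleyDatum} {K : Type*} [Field K]

/-- the root subgroup lies in the derived group -/
def InDer (G : Good D) (K : Type*) [Field K] (r : Fin D.nroots) : Prop :=
  ∀ t : K, G.xu r t ∈ ⁅D.group K, D.group K⁆

namespace Good

variable (G : Good D)

include G

theorem derived_conj {g x : GL D.Idx K} (hg : g ∈ D.group K) (hx : x ∈ ⁅D.group K, D.group K⁆) :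
    g * x * g⁻¹ ∈ ⁅D.group K, D.group K⁆ := by
  have hle : ⁅D.group K, D.group K⁆ ≤ D.group K :=
    Subgroup.commutator_le.2 fun a ha b hb =>
      mul_mem (mul_mem (mul_mem ha hb) (inv_mem ha)) (inv_mem hb)
  have h1 := Subgroup.commutator_mem_commutator hg (hle hx)
  have := mul_mem h1 hx
  simpa [commutatorElement_def, mul_assoc] using this

theorem xu_injective' (r : Fin D.nroots) {x y : K} (h : G.xu r x = G.xu r y) : x = y := by
  have h1 : G.xu r (x - y) = 1 := by
    rw [sub_eq_add_neg, G.xu_add, ← G.xu_inv, h, mul_inv_cancel]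
  exact sub_eq_zero.1 ((G.xu_eq_one_iff r _).1 h1)

theorem inDer_w (i : Fin D.rank) {r : Fin D.nroots} (h : InDer G K r) : InDer G K (G.w i r) := by
  intro t
  have h1 := G.derived_conj (G.nU_mem_group i) (h ((G.eta i r : K) * t))
  rw [G.nU_xu, mul_assoc, mul_inv_cancel, mul_one, ← mul_assoc, ← Int.cast_mul] at h1
  have he : G.eta i r * G.eta i r = 1 := by rcases G.eta_unit i r with e | e <;> rw [e] <;> norm_num
  rwa [he, Int.cast_one, one_mul] at h1

/-- a torus element that moves the root -/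
theorem inDer_torus {r : Fin D.nroots} (i : Fin D.rank) {a : K} (ha : a ≠ 0)
    (hne : a ^ cart D i r ≠ 1) : InDer G K r := by
  intro t
  set h := G.hd (G.simp' i) (Units.mk0 a ha)
  have hh : h ∈ D.group K := G.diagonal_le_group (G.hd_mem_H _ _)
  have hc : ∀ u : K, h * G.xu r u * h⁻¹ = G.xu r (a ^ cart D i r * u) := by
    intro u
    obtain ⟨b, hb⟩ := G.H_conj_xu (G.hd_mem_H (G.simp' i) (Units.mk0 a ha)) r
    rw [hb]
    congr 2
    have hv : h = G.tor fun l => Units.mk0 a ha ^ G.pair (G.simp' i) l := rfl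
    have h2 := G.tor_conj_xu (fun l => Units.mk0 a ha ^ G.pair (G.simp' i) l) r 1
    have h3 := hb 1
    rw [show G.hd (G.simp' i) (Units.mk0 a ha) = h from rfl, hv, h2] at h3
    rw [← mul_one (b : K), ← G.xu_injective' r h3, mul_one]
    simp only [chi, G.pair_simp, ← zpow_mul, G.cart_eq i r]
    have e : ∀ s : Finset (Fin D.rank), (∏ x ∈ s, Units.mk0 a ha ^ (cart D i (G.simp' x) * G.rho r x)) =
        Units.mk0 a ha ^ (∑ x ∈ s, G.rho r x * cart D i (G.simp' x)) := by
      intro s
      induction s using Finset.induction with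
      | empty => simp
      | insert x s hx ih => rw [Finset.prod_insert hx, Finset.sum_insert hx, zpow_add, ih, mul_comm (G.rho r x)]
    rw [e, Units.val_zpow_eq_zpow_val]
    rfl
  have hk : (a ^ cart D i r - 1) ≠ 0 := sub_ne_zero.2 hne
  have h1 := Subgroup.commutator_mem_commutator hh (G.xu_mem r (t / (a ^ cart D i r - 1)))
  rw [commutatorElement_def, hc, G.xu_inv, ← G.xu_add] at h1
  convert h1 using 2
  field_simp
  ring

theorem commutator_eq_top (h : ∀ j, InDer G K (G.simp' j)) : commutator ↥(D.group K) = ⊤ := by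
  have hall : ∀ r, InDer G K r := G.orbit _ (fun i _ => h i) fun i r hr => G.inDer_w i hr
  have hle : D.group K ≤ ⁅D.group K, D.group K⁆ := by
    conv_lhs => rw [G.group_eq]
    rw [Subgroup.closure_le]
    rintro g ⟨r, t, rfl⟩
    exact hall r t
  rw [eq_top_iff]
  intro g _
  have h1 := hle g.2
  rw [← D.group K |>.map_subtype_commutator] at h1
  obtain ⟨x, hx, e⟩ := h1
  exact Subtype.ext e ▸ hx

end Good

namespace Full

variable (C : Full D)

include C

theorem commutator_word {r s : Fin D.nroots} (hsr : s ≠ r) (hsn : s ≠ C.G.negr r) (t u : K) :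
    ∃ hl : ∀ c ∈ D.commTerms r.val s.val, c.1 < D.nroots,
      ((D.commTerms r.val s.val).pmap (fun c hc => C.G.xu ⟨c.1, hc⟩
        ((c.2.1 : K) * (-t) ^ c.2.2.1 * u ^ c.2.2.2)) hl).prod ∈ ⁅D.group K, D.group K⁆ := by
  refine ⟨fun c hc => (C.commTerms_weight hc).2.2.1, ?_⟩
  have h := C.commAt r s hsr hsn t u
  unfold CommAt at h
  have e : C.G.xu s u * C.G.xu r t = C.G.xu r t * C.G.xu s u *
      ((D.commTerms r.val s.val).pmap (fun c hc => C.G.xu ⟨c.1, hc⟩
        ((c.2.1 : K) * (-t) ^ c.2.2.1 * u ^ c.2.2.2))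
        fun c hc => (C.commTerms_weight hc).2.2.1).prod := by
    apply Units.ext
    simp only [Units.val_mul, Good.coe_xu, h, mul_assoc]
    congr 2
    rw [← Units.coeHom_apply, map_list_prod, wordR, cwR, List.map_map, List.map_pmap]
    congr 1
    refine List.ext_getElem (by simp) fun i h1 h2 => ?_
    simp only [List.getElem_map, List.getElem_pmap, Function.comp_apply, Units.coeHom_apply,
      Good.coe_xu, xN]
    rw [dif_pos, mul_assoc]
    exact (C.commTerms_weight (List.getElem_mem _)).2.2.1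
  have h1 := Subgroup.commutator_mem_commutator (inv_mem (C.G.xu_mem s u)) (inv_mem (C.G.xu_mem r t))
  rw [commutatorElement_def, inv_inv, inv_inv] at h1
  rw [show (C.G.xu s u)⁻¹ * (C.G.xu r t)⁻¹ * C.G.xu s u * C.G.xu r t =
      (C.G.xu r t * C.G.xu s u)⁻¹ * (C.G.xu s u * C.G.xu r t) by group, e, inv_mul_cancel_left] at h1
  exact h1

theorem inDer_one {r s j : Fin D.nroots} (hsr : s ≠ r) (hsn : s ≠ C.G.negr r) {c : ℤ}
    (hc : c = 1 ∨ c = -1) (hl : D.commTerms r.val s.val = [(j.val, c, 1, 1)]) : InDer C.G K j := by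
  intro a
  obtain ⟨_, h⟩ := C.commutator_word (K := K) hsr hsn (-((c : K) * a)) 1
  simp only [hl, List.pmap, List.prod_cons, List.prod_nil, mul_one, pow_one, one_pow, neg_neg] at h
  rcases hc with rfl | rfl <;> simpa using h

theorem inDer_two {r s j k : Fin D.nroots} (hsr : s ≠ r) (hsn : s ≠ C.G.negr r) {c d : ℤ} {m : ℕ}
    (hd : d = 1 ∨ d = -1) (hl : D.commTerms r.val s.val = [(k.val, c, 1, 1), (j.val, d, 1, m)])
    (hk : InDer C.G K k) : InDer C.G K j := by
  intro a
  obtain ⟨_, h⟩ := C.commutator_word (K := K) hsr hsn (-((d : K) * a)) 1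
  simp only [hl, List.pmap, List.prod_cons, List.prod_nil, mul_one, pow_one, one_pow, neg_neg] at h
  have h2 := mul_mem (inv_mem (hk ((c : K) * ((d : K) * a)))) h
  rw [inv_mul_cancel_left] at h2
  rcases hd with rfl | rfl <;> simpa using h2

end Full

end CfsgLib.Lie.Chev
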