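import Cfsg.Agent.Lib.Lie.Chev.Bruhat

/-!
# The length generating function of the Weyl group

It factors over a parabolic subgroup and its minimal coset representatives.
-/

set_option autoImplicit false

namespace CfsgLib.Lie.Chev

open Cfsg.Lie

variable {D : ChevalleyDatum}

/-- the subgroup generated by the simple reflections in `J` -/
def WJ (G : Good D) (J : Finset (Fin D.rank)) : Subgroup (Equiv.Perm (Fin D.nroots)) :=
  Subgroup.closure (G.sP '' (J : Set (Fin D.rank)))

open scoped Classical in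
/-- the length generating function of a parabolic subgroup, evaluated at `q` -/
noncomputable def Psum (G : Good D) (J : Finset (Fin D.rank)) {R : Type*} [CommSemiring R] (q : R) : R :=
  ∑ π ∈ Finset.univ.filter (· ∈ WJ G J), q ^ ninv G π

namespace Good

variable (G : Good D)

include G

theorem exists_pwJ {J : Finset (Fin D.rank)} {v : Equiv.Perm (Fin D.nroots)} (hv : v ∈ WJ G J) :
    ∃ l : List (Fin D.rank), (∀ i ∈ l, i ∈ J) ∧ G.pw l = v := by
  induction hv using Subgroup.closure_induction_left with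
  | one => exact ⟨[], by simp, rfl⟩
  | mul_left x hx y _ ih =>
    obtain ⟨l, hlJ, rfl⟩ := ih; obtain ⟨i, hi, rfl⟩ := hx
    exact ⟨i :: l, List.forall_mem_cons.2 ⟨hi, hlJ⟩, G.pw_cons i l⟩
  | inv_mul_cancel x hx y _ ih =>
    obtain ⟨l, hlJ, rfl⟩ := ih; obtain ⟨i, hi, rfl⟩ := hx
    exact ⟨i :: l, List.forall_mem_cons.2 ⟨hi, hlJ⟩, by rw [G.pw_cons, G.sP_inv]⟩

theorem sP_mem_WJ {J : Finset (Fin D.rank)} {i : Fin D.rank} (hi : i ∈ J) : G.sP i ∈ WJ G J :=
  Subgroup.subset_closure ⟨i, hi, rfl⟩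

theorem pw_eq_one_of_posJ (J : Finset (Fin D.rank)) : ∀ (n : ℕ) (l : List (Fin D.rank)),
    l.length = n → (∀ i ∈ l, i ∈ J) →
    (∀ j ∈ J, D.IsPosRoot (G.pw l (G.simp' j)).val) → G.pw l = 1 := by
  intro n
  induction n using Nat.strong_induction_on with
  | _ n ih =>
    intro l hn hlJ hl
    rcases List.eq_nil_or_concat l with rfl | ⟨l', j, rfl⟩
    · exact G.pw_nil
    · rw [List.concat_eq_append] at hn hl hlJ ⊢
      have hj := hl j (hlJ j (by simp))
      rw [pw_append, pw_single, Equiv.Perm.mul_apply, sP_apply, G.w_simp, G.pw_negr,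
        G.negr_pos_iff] at hj
      obtain ⟨l₁, i, l₂, rfl, hperm, -⟩ := G.delete_right hj
      have e : G.pw ((l₁ ++ i :: l₂) ++ [j]) = G.pw (l₁ ++ l₂) := by
        rw [pw_append, pw_single, hperm]
      rw [e] at hl ⊢
      refine ih _ (by simp at hn ⊢; omega) (l₁ ++ l₂) rfl (fun a ha => hlJ a ?_) hl
      rcases List.mem_append.1 ha with h | h <;> simp [h]

theorem rho_pw_outside (J : Finset (Fin D.rank)) : ∀ (l : List (Fin D.rank)), (∀ i ∈ l, i ∈ J) →
    ∀ (r : Fin D.nroots) (m : Fin D.rank), m ∉ J → G.rho (G.pw l r) m = G.rho r m := by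
  intro l
  induction l with
  | nil => intro _ r m _; rfl
  | cons i l ih =>
    intro hl r m hm
    rw [List.forall_mem_cons] at hl
    rw [pw_cons, Equiv.Perm.mul_apply, sP_apply, G.rho_w]
    have hmi : m ≠ i := fun e => hm (e ▸ hl.1)
    simp only [Pi.sub_apply, Pi.smul_apply, smul_eq_mul, Pi.single_eq_of_ne hmi, mul_zero, sub_zero]
    exact ih hl.2 r m hm

/-- a map that keeps the fundamental roots of `J` positive keeps all positive roots of `J` positive -/
theorem keep_posJ {J : Finset (Fin D.rank)} {l : List (Fin D.rank)}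
    (hu : ∀ j ∈ J, D.IsPosRoot (G.pw l (G.simp' j)).val) {r : Fin D.nroots}
    (hsupp : ∀ m, m ∉ J → G.rho r m = 0) (hr : D.IsPosRoot r.val) :
    D.IsPosRoot (G.pw l r).val := by
  rw [G.isPosRoot_iff, G.rho_pw]
  have hsum : G.ht (∑ j, G.rho r j • G.rho (G.pw l (G.simp' j))) =
      ∑ j, G.rho r j * G.ht (G.rho (G.pw l (G.simp' j))) := by
    induction (Finset.univ : Finset (Fin D.rank)) using Finset.induction with
    | empty => simpa using G.ht_smul 0 0
    | insert a s ha ih => rw [Finset.sum_insert ha, Finset.sum_insert ha, G.ht_add, ih, G.ht_smul]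
  rw [hsum]
  obtain ⟨m, hm⟩ : ∃ m, G.rho r m ≠ 0 := by
    by_contra h
    push Not at h
    exact G.rho_ne_zero r (funext h)
  have hmJ : m ∈ J := by
    by_contra h
    exact hm (hsupp m h)
  refine Finset.sum_pos' (fun j _ => ?_) ⟨m, Finset.mem_univ m, ?_⟩
  · by_cases hj : j ∈ J
    · exact mul_nonneg (G.rho_nonneg hr j) ((G.isPosRoot_iff _).1 (hu j hj)).le
    · rw [hsupp j hj, zero_mul]
  · exact mul_pos (lt_of_le_of_ne (G.rho_nonneg hr m) (Ne.symm hm))
      ((G.isPosRoot_iff _).1 (hu m hmJ))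

theorem keep_signJ {J : Finset (Fin D.rank)} {l : List (Fin D.rank)}
    (hu : ∀ j ∈ J, D.IsPosRoot (G.pw l (G.simp' j)).val) {r : Fin D.nroots}
    (hsupp : ∀ m, m ∉ J → G.rho r m = 0) :
    D.IsPosRoot (G.pw l r).val ↔ D.IsPosRoot r.val := by
  refine ⟨fun h => ?_, G.keep_posJ hu hsupp⟩
  by_contra hr
  have h2 := G.keep_posJ hu (r := G.negr r)
    (fun m hm => by rw [G.rho_negr, Pi.neg_apply, hsupp m hm, neg_zero]) ((G.negr_pos_iff r).2 hr)
  rw [G.pw_negr, G.negr_pos_iff] at h2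
  exact h2 h

theorem ninv_mul {J : Finset (Fin D.rank)} {lu lv : List (Fin D.rank)}
    (hu : ∀ j ∈ J, D.IsPosRoot (G.pw lu (G.simp' j)).val) (hv : ∀ i ∈ lv, i ∈ J) :
    ninv G (G.pw lu * G.pw lv) = ninv G (G.pw lu) + ninv G (G.pw lv) := by
  classical
  set u := G.pw lu with hudef
  set v := G.pw lv with hvdef
  have hout : ∀ r m, m ∉ J → G.rho (v r) m = G.rho r m := G.rho_pw_outside J lv hv
  let InJ : Fin D.nroots → Prop := fun r => ∀ m, m ∉ J → G.rho r m = 0
  have hpos_out : ∀ r, ¬ InJ r → (D.IsPosRoot (v r).val ↔ D.IsPosRoot r.val) := by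
    intro r hr
    obtain ⟨m, hm, hm0⟩ : ∃ m, m ∉ J ∧ G.rho r m ≠ 0 := by
      by_contra h
      push Not at h
      exact hr h
    constructor
    · intro h
      have h1 := G.rho_nonneg h m
      rw [hout r m hm] at h1
      exact G.isPosRoot_of_coord (lt_of_le_of_ne h1 (Ne.symm hm0))
    · intro h
      have h1 := lt_of_le_of_ne (G.rho_nonneg h m) (Ne.symm hm0)
      rw [← hout r m hm] at h1
      exact G.isPosRoot_of_coord h1
  set A := Finset.univ.filter fun r : Fin D.nroots =>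
    D.IsPosRoot r.val ∧ ¬ D.IsPosRoot ((u * v) r).val
  have hA1 : A.filter InJ = Finset.univ.filter fun r : Fin D.nroots =>
      D.IsPosRoot r.val ∧ ¬ D.IsPosRoot (v r).val := by
    ext r
    simp only [A, Finset.mem_filter, Finset.mem_univ, true_and]
    constructor
    · rintro ⟨⟨h1, h2⟩, h3⟩
      refine ⟨h1, fun h => h2 ?_⟩
      exact (G.keep_signJ hu (r := v r) fun m hm => by rw [hout r m hm, h3 m hm]).2 h
    · rintro ⟨h1, h2⟩
      have h3 : InJ r := by
        by_contra h3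
        exact h2 ((hpos_out r h3).2 h1)
      refine ⟨⟨h1, fun h => h2 ?_⟩, h3⟩
      exact (G.keep_signJ hu (r := v r) fun m hm => by rw [hout r m hm, h3 m hm]).1 h
  have hA2 : (A.filter fun r => ¬ InJ r).card = (Finset.univ.filter fun r : Fin D.nroots =>
      D.IsPosRoot r.val ∧ ¬ D.IsPosRoot (u r).val).card := by
    rw [← Finset.card_image_of_injective _ v.injective]
    congr 1
    ext s
    simp only [A, Finset.mem_image, Finset.mem_filter, Finset.mem_univ, true_and]
    constructor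
    · rintro ⟨r, ⟨⟨h1, h2⟩, h3⟩, rfl⟩
      exact ⟨(hpos_out r h3).2 h1, h2⟩
    · rintro ⟨h1, h2⟩
      refine ⟨v⁻¹ s, ?_, v.apply_symm_apply s⟩
      have h3 : ¬ InJ (v⁻¹ s) := fun h => h2 (G.keep_posJ hu (fun m hm => by
        have := hout (v⁻¹ s) m hm
        rw [show v (v⁻¹ s) = s from v.apply_symm_apply s, h m hm] at this
        exact this) h1)
      refine ⟨⟨(hpos_out _ h3).1 (by rwa [show v (v⁻¹ s) = s from v.apply_symm_apply s]), ?_⟩, h3⟩
      rwa [Equiv.Perm.mul_apply, show v (v⁻¹ s) = s from v.apply_symm_apply s]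
  show A.card = _
  rw [← Finset.card_filter_add_card_filter_not (s := A) InJ, hA1, hA2, add_comm]
  rfl

theorem Psum_empty {R : Type*} [CommSemiring R] (q : R) : Psum G ∅ q = 1 := by
  classical
  have h : ∀ π, π ∈ WJ G ∅ ↔ π = 1 := by
    intro π; simp [WJ, Subgroup.mem_bot]
  have h0 : ninv G (1 : Equiv.Perm (Fin D.nroots)) = 0 := by
    simp [ninv]
  simp [Psum, h, Finset.filter_eq', h0]

/-- one step of the factorisation -/
theorem Psum_step {I J : Finset (Fin D.rank)} (hJI : J ⊆ I) {ι : Type*} [Fintype ι]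
    (u : ι → Equiv.Perm (Fin D.nroots)) (hinj : Function.Injective u) (hmem : ∀ k, u k ∈ WJ G I)
    (hone : ∃ k, u k = 1) (hpos : ∀ k, ∀ j ∈ J, D.IsPosRoot (u k (G.simp' j)).val)
    (hclosed : ∀ k, ∀ i ∈ I, (∃ k', G.sP i * u k = u k') ∨
      ∃ j ∈ J, ∃ k', G.sP i * u k = u k' * G.sP j)
    {R : Type*} [CommSemiring R] (q : R) :
    Psum G I q = (∑ k, q ^ ninv G (u k)) * Psum G J q := by
  classical
  have hle : WJ G J ≤ WJ G I := Subgroup.closure_mono (Set.image_mono (Finset.coe_subset.2 hJI))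
  -- the map is surjective
  have hsurj : ∀ π ∈ WJ G I, ∃ k, ∃ v ∈ WJ G J, π = u k * v := by
    intro π hπ
    induction hπ using Subgroup.closure_induction_left with
    | one => obtain ⟨k, hk⟩ := hone; exact ⟨k, 1, one_mem _, by rw [hk, one_mul]⟩
    | mul_left x hx y _ ih =>
      obtain ⟨k, v, hv, rfl⟩ := ih
      obtain ⟨i, hi, rfl⟩ := hx
      rcases hclosed k i hi with ⟨k', e⟩ | ⟨j, hj, k', e⟩
      · exact ⟨k', v, hv, by rw [← mul_assoc, e]⟩
      · exact ⟨k', G.sP j * v, mul_mem (G.sP_mem_WJ hj) hv, by rw [← mul_assoc, e, mul_assoc]⟩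
    | inv_mul_cancel x hx y _ ih =>
      obtain ⟨k, v, hv, rfl⟩ := ih
      obtain ⟨i, hi, rfl⟩ := hx
      rw [G.sP_inv]
      rcases hclosed k i hi with ⟨k', e⟩ | ⟨j, hj, k', e⟩
      · exact ⟨k', v, hv, by rw [← mul_assoc, e]⟩
      · exact ⟨k', G.sP j * v, mul_mem (G.sP_mem_WJ hj) hv, by rw [← mul_assoc, e, mul_assoc]⟩
  -- and injective
  have hinj2 : ∀ k k', ∀ v ∈ WJ G J, ∀ v' ∈ WJ G J, u k * v = u k' * v' → k = k' ∧ v = v' := by
    intro k k' v hv v' hv' e
    have hw : v * v'⁻¹ ∈ WJ G J := mul_mem hv (inv_mem hv')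
    obtain ⟨l, hlJ, hl⟩ := G.exists_pwJ hw
    obtain ⟨lu, -, hlu⟩ := G.exists_pwJ (hmem k)
    have e2 : u k' = u k * G.pw l := by rw [hl, ← mul_assoc, e, mul_inv_cancel_right]
    have h1 : G.pw l = 1 := by
      refine G.pw_eq_one_of_posJ J l.length l rfl hlJ fun j hj => ?_
      have hp := hpos k' j hj
      rw [e2, Equiv.Perm.mul_apply, ← hlu] at hp
      refine (G.keep_signJ (fun a ha => hlu ▸ hpos k a ha) (r := G.pw l (G.simp' j))
        fun m hm => ?_).1 hp
      rw [G.rho_pw_outside J l hlJ _ m hm, G.rho_simp, Pi.single_eq_of_ne (show m ≠ j from fun h => hm (by rw [h]; exact hj))]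
    rw [h1, mul_one] at e2
    refine ⟨(hinj e2).symm, ?_⟩
    rw [e2] at e
    exact mul_left_cancel e
  rw [Psum, Psum, Finset.sum_mul_sum, ← Finset.sum_product']
  symm
  refine Finset.sum_bij (fun x _ => u x.1 * x.2) ?_ ?_ ?_ ?_
  · intro x hx
    simp only [Finset.mem_product, Finset.mem_univ, Finset.mem_filter, true_and] at hx ⊢
    exact mul_mem (hmem _) (hle hx)
  · intro x hx y hy e
    simp only [Finset.mem_product, Finset.mem_univ, Finset.mem_filter, true_and] at hx hy
    obtain ⟨e1, e2⟩ := hinj2 _ _ _ hx _ hy e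
    exact Prod.ext e1 e2
  · intro π hπ
    simp only [Finset.mem_filter, Finset.mem_univ, true_and] at hπ
    obtain ⟨k, v, hv, rfl⟩ := hsurj π hπ
    exact ⟨(k, v), by simpa using hv, rfl⟩
  · intro x hx
    simp only [Finset.mem_product, Finset.mem_univ, Finset.mem_filter, true_and] at hx
    obtain ⟨lu, -, hlu⟩ := G.exists_pwJ (hmem x.1)
    obtain ⟨lv, hlv, hlv'⟩ := G.exists_pwJ hx
    rw [← pow_add]
    congr 1
    rw [← hlu, ← hlv']
    exact (G.ninv_mul (fun j hj => hlu ▸ hpos x.1 j hj) hlv).symm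

theorem WJ_univ : WJ G Finset.univ = G.Wg := by simp [WJ, Good.Wg, Set.image_univ]

end Good

namespace Full

variable (C : Full D) {K : Type*} [Field K]

include C

theorem card_group_Psum [Fintype K] :
    Nat.card ↥(D.group K) =
      Nat.card ↥(D.borelSubgroup K) * Psum C.G Finset.univ (Fintype.card K) := by
  classical
  rw [C.card_group, Psum]
  simp only [C.G.WJ_univ]

end Full

end CfsgLib.Lie.Chev
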