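import Cfsg.Agent.Lib.Lie.Chev.Torus
import Mathlib.GroupTheory.SpecificGroups.Cyclic

/-!
# The order of the diagonal subgroup

An integer certificate identifies the kernel of `torθ` with a product of groups of roots of unity.
-/

set_option autoImplicit false

namespace CfsgLib.Lie.Chev

open Cfsg.Lie

/-- the Cartan matrix -/
def cmat (D : ChevalleyDatum) (i l : Fin D.rank) : ℤ := D.cartan i.val (D.simple l.val)

/-- a certificate for the cokernel of the Cartan matrix -/
structure KerData (n : ℕ) where
  k : ℕ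
  d : ℕ
  J : Fin k → Fin n
  V : Fin n → Fin k → ℤ
  M : Fin n → Fin n → ℤ
  N : Fin k → Fin n → ℤ

/-- the conditions on the certificate -/
def KerData.Ok {n : ℕ} (T : KerData n) (A : Fin n → Fin n → ℤ) : Prop :=
  (∀ j i, ((if i = j then 1 else 0) : ℤ) - ∑ a, T.V j a * (if i = T.J a then 1 else 0) =
      ∑ l, T.M j l * A i l) ∧
  (∀ a i, ((if i = T.J a then (T.d : ℤ) else 0)) = ∑ l, T.N a l * A i l) ∧
  (∀ l a, (T.d : ℤ) ∣ ∑ j, A j l * T.V j a) ∧
  (∀ a b, T.V (T.J a) b = if a = b then 1 else 0)

instance {n : ℕ} (T : KerData n) (A : Fin n → Fin n → ℤ) : Decidable (T.Ok A) := by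
  unfold KerData.Ok; infer_instance

theorem prod_zpow_sum {ι M : Type*} [CommGroup M] (s : Finset ι) (x : M) (f : ι → ℤ) :
    x ^ (∑ i ∈ s, f i) = ∏ i ∈ s, x ^ f i := by
  classical
  induction s using Finset.induction with
  | empty => simp
  | insert a s ha ih => rw [Finset.sum_insert ha, Finset.prod_insert ha, zpow_add, ih]

namespace Good

variable {D : ChevalleyDatum} (G : Good D) {K : Type*} [Field K]

include G

theorem cmat_eq (i l : Fin D.rank) : cmat D i l = cart D i (G.simp' l) := by
  rw [cmat, cart, G.simp_val]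

theorem tor_eq_one {c : Fin D.rank → Kˣ} (h : G.tor c = 1) : c = 1 := by
  funext j
  have e := congrFun (congrFun (congrArg (fun g : GL D.Idx K => (g : Matrix D.Idx D.Idx K)) h)
    (Sum.inr (G.simp' j))) (Sum.inr (G.simp' j))
  simp only [coe_tor, Matrix.diagonal_apply_eq, Units.val_one, Matrix.one_apply_eq, weight,
    Sum.elim_inr, G.rho_simp, G.chi_single] at e
  simpa using e

theorem torθ_ker (c : Fin D.rank → Kˣ) :
    c ∈ (G.torθ (K := K)).ker ↔ ∀ l, ∏ i, c i ^ cmat D i l = 1 := by
  rw [MonoidHom.mem_ker]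
  simp only [G.cmat_eq]
  refine ⟨fun h l => congrFun (G.tor_eq_one h) l, fun h => ?_⟩
  rw [torθ, MonoidHom.comp_apply]
  convert map_one (G.tor (K := K)) using 2
  funext l
  simpa using h l

theorem card_diagonal [Fintype K] (T : KerData D.rank) (hT : T.Ok (cmat D)) :
    (Nat.gcd T.d (Fintype.card K - 1)) ^ T.k * Nat.card ↥(D.diagonalSubgroup K) =
      (Fintype.card K - 1) ^ D.rank := by
  classical
  obtain ⟨hM, hN, hdvd, hV⟩ := hT
  let ker := (G.torθ (K := K)).ker
  have comb : ∀ (c : Fin D.rank → Kˣ), c ∈ ker → ∀ (m : Fin D.rank → ℤ),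
      ∏ i, c i ^ (∑ l, m l * cmat D i l) = 1 := by
    intro c hc m
    simp only [prod_zpow_sum]
    rw [Finset.prod_comm]
    refine Finset.prod_eq_one fun l _ => ?_
    simp only [mul_comm (m l), zpow_mul, Finset.prod_zpow]
    rw [(G.torθ_ker c).1 hc l, one_zpow]
  have hpowd : ∀ c ∈ ker, ∀ a, c (T.J a) ^ T.d = 1 := by
    intro c hc a
    have := comb c hc (T.N a)
    simp only [← hN a] at this
    rw [Finset.prod_eq_single (T.J a) (fun b _ hb => by simp [hb]) (by simp), if_pos rfl] at this
    simpa using this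
  let μ := (powMonoidHom T.d : Kˣ →* Kˣ).ker
  let e : ↥ker ≃ (Fin T.k → μ) :=
    { toFun := fun c a => ⟨c.1 (T.J a), hpowd c.1 c.2 a⟩
      invFun := fun x => ⟨fun j => ∏ a : Fin T.k, ((x a : μ) : Kˣ) ^ T.V j a, by
        rw [G.torθ_ker]
        intro l
        simp only [← Finset.prod_zpow, ← zpow_mul]
        rw [Finset.prod_comm]
        refine Finset.prod_eq_one fun a _ => ?_
        obtain ⟨z, hz⟩ := hdvd l a
        rw [← prod_zpow_sum, Finset.sum_congr rfl (fun j _ => mul_comm (T.V j a) (cmat D j l)), hz,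
          zpow_mul, zpow_natCast, show (x a : Kˣ) ^ T.d = 1 from (x a).2, one_zpow]⟩
      left_inv := fun c => by
        refine Subtype.ext (funext fun j => ?_)
        show ∏ a, c.1 (T.J a) ^ T.V j a = c.1 j
        have := comb c.1 c.2 (T.M j)
        simp only [← hM j, zpow_sub, prod_zpow_sum, Finset.prod_mul_distrib, Finset.prod_inv_distrib] at this
        rw [Finset.prod_eq_single j (fun b _ hb => by simp [hb]) (by simp), if_pos rfl, zpow_one,
          Finset.prod_comm, mul_inv_eq_one] at this
        rw [this]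
        refine Finset.prod_congr rfl fun a _ => ?_
        rw [Finset.prod_eq_single (T.J a) (fun b _ hb => by simp [hb]) (by simp), if_pos rfl, mul_one]
      right_inv := fun x => by
        funext a
        refine Subtype.ext ?_
        show ∏ b, (x b : Kˣ) ^ T.V (T.J a) b = _
        rw [Finset.prod_eq_single a (fun b _ hb => by simp [hV, Ne.symm hb]) (by simp), hV, if_pos rfl,
          zpow_one] }
  have hμ : Nat.card μ = (Fintype.card K - 1).gcd T.d := by
    rw [IsCyclic.card_powMonoidHom_ker, Nat.card_units, Nat.card_eq_fintype_card]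
  have hker : Nat.card ↥ker = (Fintype.card K - 1).gcd T.d ^ T.k := by
    rw [Nat.card_congr e, Nat.card_fun, hμ, Nat.card_fin]
  have h := Subgroup.card_eq_card_quotient_mul_card_subgroup ker
  rw [Nat.card_congr (QuotientGroup.quotientKerEquivRange (G.torθ (K := K))).toEquiv,
    ← G.diagonal_eq_range, hker, Nat.card_fun, Nat.card_units, Nat.card_fin,
    Nat.card_eq_fintype_card] at h
  rw [h, Nat.gcd_comm, mul_comm]

end Good

end CfsgLib.Lie.Chev
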