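import Cfsg.Agent.Lib.Lie.Chev.Unip

/-!
# Nilpotency and the order of `U`
-/

set_option autoImplicit false

namespace CfsgLib.Lie.Chev

open Cfsg.Lie
open scoped MatrixGroups

variable {D : ChevalleyDatum} {K : Type*} [Field K]

theorem pow_raises (G : Good D) {N : Matrix D.Idx D.Idx K}
    (hN : ∀ i j, N i j ≠ 0 → 1 ≤ G.hb i - G.hb j) :
    ∀ (k : ℕ) (i j : D.Idx), (N ^ k) i j ≠ 0 → (k : ℤ) ≤ G.hb i - G.hb j := by
  intro k
  induction k with
  | zero =>
    intro i j h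
    rw [pow_zero] at h
    by_cases hij : i = j
    · subst hij; simp
    · exact absurd (Matrix.one_apply_ne hij) h
  | succ k ih =>
    intro i j h
    rw [pow_succ, Matrix.mul_apply] at h
    obtain ⟨c, -, hc⟩ := Finset.exists_ne_zero_of_sum_ne_zero h
    have h1 := ih i c (left_ne_zero_of_mul hc)
    have h2 := hN c j (right_ne_zero_of_mul hc)
    push_cast
    omega

theorem sub_one_pow_eq_zero (G : Good D) {M : Matrix D.Idx D.Idx K} (hM : G.Raises 1 M) :
    (M - 1) ^ (D.rank + D.nroots) = 0 := by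
  set N := M - 1
  have hN : ∀ i j, N i j ≠ 0 → 1 ≤ G.hb i - G.hb j := by
    intro i j h
    by_cases hij : i = j
    · subst hij; simp [N, hM.1] at h
    · simp only [N] at h
      rw [Matrix.sub_apply, Matrix.one_apply_ne hij, sub_zero] at h
      exact hM.2 i j hij h
  set B : ℕ := ∑ b, (G.hb b).natAbs
  have hnil : IsNilpotent N := by
    refine ⟨2 * B + 1, ?_⟩
    ext i j
    by_contra h
    have h0 := pow_raises G hN _ i j h
    have h1 : (G.hb i).natAbs ≤ B := Finset.single_le_sum (f := fun b => (G.hb b).natAbs)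
      (fun _ _ => Nat.zero_le _) (Finset.mem_univ i)
    have h2 : (G.hb j).natAbs ≤ B := Finset.single_le_sum (f := fun b => (G.hb b).natAbs)
      (fun _ _ => Nat.zero_le _) (Finset.mem_univ j)
    push_cast at h0
    omega
  have h := Matrix.isNilpotent_charpoly_sub_pow_of_isNilpotent hnil
  rw [isNilpotent_iff_eq_zero, sub_eq_zero] at h
  have h2 := Matrix.aeval_self_charpoly N
  rw [h, map_pow, Polynomial.aeval_X] at h2
  rwa [Fintype.card_sum, Fintype.card_fin, Fintype.card_fin] at h2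

namespace Full

variable (C : Full D)

include C

theorem xu_comm_mem {r : Fin D.nroots} (hr : D.IsPosRoot r.val) (t : K) {g : GL D.Idx K}
    (hg : g ∈ C.G.Uge (K := K) 0) : ((C.G.xu r t) * g * (C.G.xu r t)⁻¹ * g⁻¹) ∈ C.G.Uge (K := K) (r.val + 1) := by
  set N := C.G.Uge (K := K) (r.val + 1)
  have hconj : ∀ {a : GL D.Idx K}, a ∈ C.G.Uge (K := K) 0 → ∀ {v : GL D.Idx K}, v ∈ N →
      a * v * a⁻¹ ∈ N := fun ha v hv => (Subgroup.mem_normalizer_iff.1 (C.Uge_normal ha) v).1 hv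
  induction hg using Subgroup.closure_induction with
  | one => simp
  | mem x hx =>
    obtain ⟨s, u, -, hs, rfl⟩ := hx
    have h := C.comm_mem hr hs (-t) (-u)
    rw [C.G.xu_inv r (-t), C.G.xu_inv s (-u), neg_neg, neg_neg, ← C.G.xu_inv r t, ← C.G.xu_inv s u] at h
    -- `h` is `x_s(u) (x_r(t) x_s(u)⁻¹ x_r(t)⁻¹)`, the inverse of the commutator
    have := inv_mem (C.G.Uge_mono (K := K) (show r.val + 1 ≤ max r.val s.val + 1 by omega) h)
    simpa [mul_assoc] using this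
  | mul a b ha _ iha ihb =>
    have : ((C.G.xu r t) * (a * b) * (C.G.xu r t)⁻¹ * (a * b)⁻¹) = ((C.G.xu r t) * a * (C.G.xu r t)⁻¹ * a⁻¹) * (a * ((C.G.xu r t) * b * (C.G.xu r t)⁻¹ * b⁻¹) * a⁻¹) := by
      group
    rw [this]
    exact mul_mem iha (hconj ha ihb)
  | inv a ha iha =>
    have : ((C.G.xu r t) * (a⁻¹) * (C.G.xu r t)⁻¹ * (a⁻¹)⁻¹) = a⁻¹ * ((C.G.xu r t) * a * (C.G.xu r t)⁻¹ * a⁻¹)⁻¹ * (a⁻¹)⁻¹ := by
      group
    rw [this]
    exact hconj (inv_mem ha) (inv_mem iha)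

theorem Uge_comm_mem {m : ℕ} {x g : GL D.Idx K} (hx : x ∈ C.G.Uge (K := K) m)
    (hg : g ∈ C.G.Uge (K := K) 0) : (x * g * x⁻¹ * g⁻¹) ∈ C.G.Uge (K := K) (m + 1) := by
  have hconj : ∀ {a : GL D.Idx K}, a ∈ C.G.Uge (K := K) 0 → ∀ {v : GL D.Idx K},
      v ∈ C.G.Uge (K := K) (m + 1) → a * v * a⁻¹ ∈ C.G.Uge (K := K) (m + 1) :=
    fun ha v hv => (Subgroup.mem_normalizer_iff.1 (C.Uge_normal ha) v).1 hv
  have key : ∀ v ∈ C.G.Uge (K := K) (m + 1), (v * g * v⁻¹ * g⁻¹) ∈ C.G.Uge (K := K) (m + 1) := fun v hv => by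
    have : (v * g * v⁻¹ * g⁻¹) = v * (g * v⁻¹ * g⁻¹) := by group
    rw [this]
    exact mul_mem hv (hconj hg (inv_mem hv))
  by_cases hp : D.IsPosRoot m
  · obtain ⟨t, v, hv, rfl⟩ := C.Uge_step (r := ⟨m, hp.1⟩) hp hx
    set a := C.G.xu (K := K) ⟨m, hp.1⟩ t with ha
    have : a * v * g * (a * v)⁻¹ * g⁻¹ = a * (v * g * v⁻¹ * g⁻¹) * a⁻¹ * (a * g * a⁻¹ * g⁻¹) := by
      group
    rw [this]
    refine mul_mem (hconj ?_ (key v hv)) ?_
    · exact C.G.xu_mem_Uge (r := ⟨m, hp.1⟩) (Nat.zero_le _) hp t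
    · exact C.xu_comm_mem (r := ⟨m, hp.1⟩) hp t hg
  · rw [C.Uge_skip hp] at hx
    exact key x hx

theorem posUnipotent_nilpotent : Group.IsNilpotent (D.posUnipotent K) := by
  rw [C.G.posUnipotent_eq]
  refine (Subgroup.nilpotent_iff_finite_descending_central_series _).2
    ⟨D.nroots, fun k => (C.G.Uge (K := K) k).subgroupOf (C.G.Uge 0), ⟨Subgroup.subgroupOf_self _, ?_⟩, ?_⟩
  · intro x k hx g
    rw [Subgroup.mem_subgroupOf] at hx ⊢
    have := C.Uge_comm_mem hx g.2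
    simpa [commutatorElement_def] using this
  · simp only [C.G.Uge_top le_rfl]; exact Subgroup.bot_subgroupOf _

theorem nPos_eq : Fintype.card {r : Fin D.nroots // D.IsPosRoot r.val} = D.nroots / 2 := by
  classical
  have h := Fintype.card_subtype_compl fun r : Fin D.nroots => D.IsPosRoot r.val
  have e : Fintype.card {r : Fin D.nroots // D.IsPosRoot r.val} =
      Fintype.card {r : Fin D.nroots // ¬ D.IsPosRoot r.val} :=
    Fintype.card_congr
      { toFun := fun r => ⟨C.G.negr r.1, fun h => (C.G.negr_pos_iff r.1).1 h r.2⟩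
        invFun := fun r => ⟨C.G.negr r.1, (C.G.negr_pos_iff r.1).2 r.2⟩
        left_inv := fun r => Subtype.ext (C.G.negr_negr r.1)
        right_inv := fun r => Subtype.ext (C.G.negr_negr r.1) }
  rw [Fintype.card_fin] at h
  have := Fintype.card_subtype_le fun r : Fin D.nroots => D.IsPosRoot r.val
  rw [Fintype.card_fin] at this
  omega

theorem posUnipotent_card [Fintype K] :
    Nat.card (D.posUnipotent K) = Fintype.card K ^ (D.nroots / 2) := by
  classical
  rw [C.G.posUnipotent_eq]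
  let ext : ({r : Fin D.nroots // D.IsPosRoot r.val} → K) → Fin D.nroots → K :=
    fun t r => if h : D.IsPosRoot r.val then t ⟨r, h⟩ else 0
  let Φ : ({r : Fin D.nroots // D.IsPosRoot r.val} → K) → ↥(C.G.Uge (K := K) 0) :=
    fun t => ⟨C.uprod 0 (ext t), C.uprod_mem 0 _⟩
  have hΦ : Function.Bijective Φ := by
    constructor
    · intro t t' h
      funext r
      have := C.uprod_inj D.nroots 0 (Nat.zero_add _) _ _ (congrArg Subtype.val h) r.1 (Nat.zero_le _) r.2
      simpa [ext, r.2] using this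
    · rintro ⟨g, hg⟩
      obtain ⟨t, rfl⟩ := C.exists_uprod D.nroots 0 (Nat.zero_add _) g hg
      exact ⟨fun r => t r.1, Subtype.ext (C.uprod_congr fun r _ hr => by simp [ext, hr])⟩
  rw [← Nat.card_eq_of_bijective Φ hΦ, Nat.card_eq_fintype_card, Fintype.card_fun, C.nPos_eq]

end Full

end CfsgLib.Lie.Chev
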