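import Cfsg.Agent.Lib.Lie.Chev.Bruhat
import Cfsg.Agent.Lib.Lie.Chev.Poincare
import Cfsg.Agent.Lib.Lie.Chev.Perfect
import Cfsg.Agent.Lib.Lie.Chev.TorCard
import Cfsg.Agent.Lib.Lie.Chev.Unip2
import Mathlib.GroupTheory.Solvable

/-!
# Simplicity of a perfect Chevalley group with connected diagram
-/

set_option autoImplicit false

namespace CfsgLib.Lie.Chev

open Cfsg.Lie
open scoped MatrixGroups

variable {D : ChevalleyDatum} {K : Type*} [Field K]

/-- the Dynkin diagram is connected -/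
def DiagramConnected (D : ChevalleyDatum) : Prop :=
  ∀ J ∈ (Finset.univ : Finset (Fin D.rank)).powerset, J.Nonempty → J ≠ Finset.univ →
    ∃ i ∈ J, ∃ j, j ∉ J ∧ cmat D i j ≠ 0 ∧ cmat D j i ≠ 0

instance (D : ChevalleyDatum) : Decidable (DiagramConnected D) := by
  unfold DiagramConnected; infer_instance

namespace Good

variable (G : Good D)

include G

theorem isSolvable_borel [Group.IsNilpotent ↥(D.posUnipotent K)] : Group.IsSolvable ↥(D.borelSubgroup K) := by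
  set U := (D.posUnipotent K).subgroupOf (D.borelSubgroup K)
  have hU : U.Normal := by
    refine ⟨fun x hx g => ?_⟩
    obtain ⟨u, hu, h, hh, e⟩ := G.mem_borel_iff.1 g.2
    show ((g * x * g⁻¹ : ↥(D.borelSubgroup K)) : GL D.Idx K) ∈ D.posUnipotent K
    simp only [Subgroup.coe_mul, Subgroup.coe_inv, e]
    rw [show u * h * (x : GL D.Idx K) * (u * h)⁻¹ = u * (h * x * h⁻¹) * u⁻¹ by group]
    exact mul_mem (mul_mem hu ((Subgroup.mem_normalizer_iff.1 (G.H_normalizes_U hh) _).1 hx)) (inv_mem hu)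
  have hab : commutator ↥(D.borelSubgroup K) ≤ U := by
    rw [commutator_def, Subgroup.commutator_le]
    rintro ⟨a, ha⟩ - ⟨b, hb⟩ -
    obtain ⟨u, hu, h, hh, rfl⟩ := G.mem_borel_iff.1 ha
    obtain ⟨v, hv, k, hk, rfl⟩ := G.mem_borel_iff.1 hb
    rw [Subgroup.mem_subgroupOf, commutatorElement_def]
    simp only [Subgroup.coe_mul, Subgroup.coe_inv]
    rw [show u * h * (v * k) * (u * h)⁻¹ * (v * k)⁻¹ =
      u * (h * v * h⁻¹) * ((h * k * h⁻¹) * u⁻¹ * k⁻¹) * v⁻¹ by group, G.diagonal_comm hh hk,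
      mul_inv_cancel_right]
    exact mul_mem (mul_mem (mul_mem hu ((Subgroup.mem_normalizer_iff.1 (G.H_normalizes_U hh) v).1 hv))
      ((Subgroup.mem_normalizer_iff.1 (G.H_normalizes_U hk) _).1 (inv_mem hu))) (inv_mem hv)
  have h1 : Group.IsSolvable ↥U :=
    Group.isSolvable_of_isSolvable_injective
      (f := (Subgroup.subgroupOfEquivOfLe (show D.posUnipotent K ≤ D.borelSubgroup K from le_sup_left)).toMonoidHom)
      (MulEquiv.injective _)
  have h2 : Group.IsSolvable (↥(D.borelSubgroup K) ⧸ U) := by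
    refine ⟨⟨1, ?_⟩⟩
    rw [derivedSeries_one, commutator_def, ← Subgroup.map_top_of_surjective _ (QuotientGroup.mk'_surjective U),
      ← Subgroup.map_commutator, ← commutator_def, eq_bot_iff, Subgroup.map_le_iff_le_comap, MonoidHom.comap_bot,
      QuotientGroup.ker_mk']
    exact hab
  exact Group.isSolvable_of_ker_le_range U.subtype (QuotientGroup.mk' U) (by simp)

theorem Uinv_simple (j : Fin D.rank) {v : GL D.Idx K}
    (hv : v ∈ (Uinv G (G.sP j) : Subgroup (GL D.Idx K))) : ∃ t, v = G.xu (G.simp' j) t := by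
  induction hv using Subgroup.closure_induction with
  | one => exact ⟨0, (G.xu_zero _).symm⟩
  | mul a b _ _ ha hb =>
    obtain ⟨s, rfl⟩ := ha; obtain ⟨t, rfl⟩ := hb; exact ⟨s + t, (G.xu_add _ _ _).symm⟩
  | inv a _ ha => obtain ⟨s, rfl⟩ := ha; exact ⟨-s, G.xu_inv _ _⟩
  | mem x hx =>
    obtain ⟨r, t, ⟨hr, hneg⟩, rfl⟩ := hx
    by_cases h : r = G.simp' j
    · subst h; exact ⟨t, rfl⟩
    · exact absurd (G.w_pos hr h) hneg

end Good

namespace Full

variable (C : Full D)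

include C

theorem nPerm_WJ {J : Finset (Fin D.rank)} {n : ↥(D.group K)}
    (hn : n ∈ Subgroup.closure {x : ↥(D.group K) | ∃ i ∈ J, x = C.sG i}) :
    ∃ π ∈ WJ C.G J, C.G.NPerm (n : GL D.Idx K) π := by
  induction hn using Subgroup.closure_induction with
  | one => exact ⟨1, one_mem _, Good.NPerm.one C.G⟩
  | mul a b _ _ ha hb =>
    obtain ⟨π, hπ, h⟩ := ha; obtain ⟨τ, hτ, h'⟩ := hb
    exact ⟨π * τ, mul_mem hπ hτ, Good.NPerm.mul C.G h h'⟩
  | inv a _ ha =>
    obtain ⟨π, hπ, h⟩ := ha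
    exact ⟨π⁻¹, inv_mem hπ, Good.NPerm.inv C.G h⟩
  | mem x hx =>
    obtain ⟨i, hi, rfl⟩ := hx
    exact ⟨C.G.sP i, C.G.sP_mem_WJ hi, C.G.nPerm_nU i⟩

/-- the three letters word that leaves every parabolic not containing `j` -/
theorem sjsisj_notMem {J : Finset (Fin D.rank)} {i j : Fin D.rank} (hi : i ∈ J) (hj : j ∉ J)
    (h1 : cmat D i j ≠ 0) (h2 : cmat D j i ≠ 0) :
    C.G.sP j * C.G.sP i * C.G.sP j ∉ WJ C.G J := by
  intro h
  obtain ⟨l, hl, e⟩ := C.G.exists_pwJ h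
  have hij : i ≠ j := fun e => hj (e ▸ hi)
  have hout := C.G.rho_pw_outside J l hl (C.G.simp' j) j hj
  rw [e] at hout
  simp only [Equiv.Perm.mul_apply, Good.sP_apply, C.G.w_simp, C.G.w_negr, C.G.rho_negr, C.G.rho_w,
    C.G.rho_simp, Pi.neg_apply, Pi.sub_apply, Pi.smul_apply, smul_eq_mul, Pi.single_eq_same,
    Pi.single_eq_of_ne hij.symm, C.G.cart_negr, neg_mul, mul_zero, sub_zero, mul_one] at hout
  rw [C.G.cmat_eq] at h1 h2
  rw [C.G.cart_eq j (C.G.w i (C.G.simp' j))] at hout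
  have hsum : ∑ m, C.G.rho (C.G.w i (C.G.simp' j)) m * cart D j (C.G.simp' m) =
      2 - cart D i (C.G.simp' j) * cart D j (C.G.simp' i) := by
    simp only [C.G.rho_w, C.G.rho_simp, Pi.sub_apply, Pi.smul_apply, smul_eq_mul, sub_mul,
      Finset.sum_sub_distrib]
    rw [Finset.sum_eq_single j (fun b _ hb => by simp [hb]) (by simp),
      Finset.sum_eq_single i (fun b _ hb => by simp [hb]) (by simp)]
    simp [C.G.cart_simp]
  rw [hsum] at hout
  have := mul_ne_zero h1 h2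
  omega

theorem eq_bot_of_le_borel (N : Subgroup ↥(D.group K)) [N.Normal]
    (hN : N ≤ (D.borelSubgroup K).subgroupOf (D.group K)) : N = ⊥ := by
  obtain ⟨l, hl⟩ := C.G.exists_longest
  have hH : ∀ k ∈ N, (k : GL D.Idx K) ∈ D.diagonalSubgroup K := by
    intro k hk
    let m : ↥(D.group K) := ⟨C.G.nw l, C.G.monomial_le_group (C.G.nw_mem_monomial l)⟩
    have hb := hN hk
    have hb2 : ((m⁻¹ * k * m⁻¹⁻¹ : ↥(D.group K)) : GL D.Idx K) ∈ D.borelSubgroup K :=
      hN (Subgroup.Normal.conj_mem ‹_› k hk m⁻¹)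
    simp only [Subgroup.coe_mul, Subgroup.coe_inv, inv_inv, m] at hb2
    obtain ⟨v, hv, d, hd, e⟩ := C.G.mem_borel_iff.1 hb2
    set n := C.G.nw (K := K) l
    have hv' : v ∈ (Uinv C.G (C.G.pw l) : Subgroup (GL D.Idx K)) := by
      rw [C.G.posUnipotent_eq_closure] at hv
      refine Subgroup.closure_mono ?_ hv
      rintro x ⟨r, t, hr, hx⟩
      exact ⟨r, t, ⟨hr, hl r hr⟩, hx⟩
    have hVH : (k : GL D.Idx K) ∈ D.negUnipotent K ⊔ D.diagonalSubgroup K := by
      rw [show (k : GL D.Idx K) = n * (n⁻¹ * (k : GL D.Idx K) * n) * n⁻¹ by group, e,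
        show n * (v * d) * n⁻¹ = (n * v * n⁻¹) * (n * d * n⁻¹) by group]
      exact mul_mem (Subgroup.mem_sup_left (C.G.conj_Uinv (C.G.nPerm_nw l) v hv'))
        (Subgroup.mem_sup_right ((Subgroup.mem_normalizer_iff.1
          (C.G.monomial_le_normalizer (C.G.nw_mem_monomial l)) d).1 hd))
    exact C.G.B_inf_VH (K := K) ▸ Subgroup.mem_inf.2 ⟨hb, hVH⟩
  rw [eq_bot_iff]
  intro k hk
  obtain ⟨c, hc⟩ := C.G.exists_tor (hH k hk)
  have hc1 : c = 1 := by
    funext j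
    set x : ↥(D.group K) := ⟨C.G.xu (C.G.simp' j) 1, C.G.xu_mem _ _⟩
    have h1 : ((k * (x * k⁻¹ * x⁻¹) : ↥(D.group K)) : GL D.Idx K) ∈ D.diagonalSubgroup K :=
      hH _ (mul_mem hk (Subgroup.Normal.conj_mem ‹_› _ (inv_mem hk) x))
    simp only [Subgroup.coe_mul, Subgroup.coe_inv, x] at h1
    rw [← mul_assoc, ← mul_assoc, hc, C.G.tor_conj_xu, C.G.rho_simp, C.G.chi_single, mul_one,
      C.G.xu_inv, ← C.G.xu_add] at h1
    have h2 : C.G.xu (C.G.simp' j) ((c j : K) + -1) = 1 :=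
      (C.G.eq_one_of_U_H (C.G.xu_mem_U (C.G.simp_pos j) _) (inv_mem h1) (mul_inv_cancel _)).1
    rw [C.G.xu_eq_one_iff, add_neg_eq_zero] at h2
    exact Units.ext h2
  rw [hc1, map_one] at hc
  exact Subgroup.mem_bot.2 (Subtype.ext hc)

/-- a perfect Chevalley group with connected diagram is simple -/
theorem isSimpleGroup (hconn : DiagramConnected D) (hperf : commutator ↥(D.group K) = ⊤)
    (r0 : Fin D.nroots) :
    IsSimpleGroup ↥(D.group K) ∧ ¬ IsMulCommutative ↥(D.group K) := by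
  classical
  have hne : (⟨C.G.xu r0 1, C.G.xu_mem _ _⟩ : ↥(D.group K)) ≠ 1 := fun h =>
    one_ne_zero ((C.G.xu_eq_one_iff r0 (1 : K)).1 (congrArg Subtype.val h))
  haveI : Nontrivial ↥(D.group K) := ⟨⟨_, _, hne⟩⟩
  refine ⟨⟨fun N hN => ?_⟩, fun hcomm => ?_⟩
  swap
  · have : commutator ↥(D.group K) = ⊥ := by
      rw [commutator_def, Subgroup.commutator_eq_bot_iff_le_centralizer]
      exact fun x _ => Subgroup.mem_centralizer_iff.2 fun y _ => hcomm.is_comm.comm y x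
    exact bot_ne_top (this.symm.trans hperf)
  haveI := hN
  let P := C.bnPair (K := K)
  set M : Subgroup ↥(D.group K) := P.B ⊔ N with hM
  let J : Finset (Fin D.rank) := Finset.univ.filter fun i => C.sG i ∈ M
  by_cases hJ0 : J = ∅
  · refine Or.inl (C.eq_bot_of_le_borel N ?_)
    have hMB := BN.eq_parabolic_of_le P M le_sup_left
    have hS : P.S ∩ (M : Set ↥(D.group K)) = ∅ := by
      rw [Set.eq_empty_iff_forall_notMem]
      rintro x ⟨⟨i, rfl⟩, hi⟩
      exact Finset.eq_empty_iff_forall_notMem.1 hJ0 i (Finset.mem_filter.2 ⟨Finset.mem_univ i, hi⟩)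
    rw [hS] at hMB
    refine le_trans (le_sup_right : N ≤ M) (le_trans hMB.le ?_)
    simp [Cfsg.BNPair.parabolic]
    exact le_rfl
  right
  by_cases hJ1 : J = Finset.univ
  · have htop : M = ⊤ := by
      rw [eq_top_iff, ← P.sup_eq_top, sup_le_iff]
      refine ⟨le_sup_left, ?_⟩
      rw [← P.closure_sup, sup_le_iff]
      refine ⟨(Subgroup.closure_le _).2 ?_, le_trans inf_le_left le_sup_left⟩
      rintro x ⟨i, rfl⟩
      exact (Finset.mem_filter.1 (hJ1 ▸ Finset.mem_univ i : i ∈ J)).2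
    haveI := C.posUnipotent_nilpotent (K := K)
    haveI : Group.IsSolvable ↥(D.borelSubgroup K) := C.G.isSolvable_borel
    haveI : Group.IsSolvable ↥P.B :=
      Group.isSolvable_of_isSolvable_injective
        (f := (Subgroup.subgroupOfEquivOfLe C.G.borel_le_group).toMonoidHom) (MulEquiv.injective _)
    let f : ↥P.B →* ↥(D.group K) ⧸ N := (QuotientGroup.mk' N).comp P.B.subtype
    have hf : Function.Surjective f := by
      intro y
      obtain ⟨g, rfl⟩ := QuotientGroup.mk'_surjective N y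
      obtain ⟨b, hb, k, hk, rfl⟩ := Subgroup.mem_sup_of_normal_right.1 (show g ∈ P.B ⊔ N by rw [← hM, htop]; exact Subgroup.mem_top g)
      refine ⟨⟨b, hb⟩, ?_⟩
      show QuotientGroup.mk' N b = _
      rw [map_mul, (QuotientGroup.eq_one_iff k).2 hk |> fun e => (show QuotientGroup.mk' N k = 1 from e),
        mul_one]
    haveI : Group.IsSolvable (↥(D.group K) ⧸ N) := Group.isSolvable_of_surjective hf
    have hperfQ : commutator (↥(D.group K) ⧸ N) = ⊤ := by
      rw [commutator_def, ← Subgroup.map_top_of_surjective _ (QuotientGroup.mk'_surjective N),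
        ← Subgroup.map_commutator, ← commutator_def, hperf]
    obtain ⟨n, hn⟩ := Group.IsSolvable.solvable (G := ↥(D.group K) ⧸ N)
    have hall : ∀ m, derivedSeries (↥(D.group K) ⧸ N) m = ⊤ := by
      intro m
      induction m with
      | zero => rfl
      | succ m ih => rw [derivedSeries_succ, ih, ← commutator_def, hperfQ]
    rw [hall n] at hn
    exact QuotientGroup.subgroup_eq_top_of_subsingleton _
      (subsingleton_of_forall_eq 1 fun x => Subgroup.mem_bot.1 (hn ▸ Subgroup.mem_top x))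
  exfalso
  obtain ⟨i, hi, j, hj, h1, h2⟩ := hconn J (Finset.mem_powerset.2 (Finset.subset_univ J))
    (Finset.nonempty_iff_ne_empty.2 hJ0) hJ1
  -- an element of `N` in the cell of `sG i`
  have hiM : C.sG i ∈ P.B ⊔ N := (Finset.mem_filter.1 hi).2
  obtain ⟨b, hb, k, hk, e⟩ := Subgroup.mem_sup_of_normal_right.1 hiM
  have hk2 : C.sG i * b⁻¹ ∈ N := by
    have := Subgroup.Normal.conj_mem hN k hk b
    rwa [show b * k * b⁻¹ = C.sG i * b⁻¹ by rw [e]] at this
  set c := b⁻¹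
  have hc : (c : GL D.Idx K) ∈ D.borelSubgroup K := inv_mem hb
  have hk3 : C.sG j * (C.sG i * c) * (C.sG j)⁻¹ ∈ M :=
    Subgroup.mem_sup_right (Subgroup.Normal.conj_mem hN _ hk2 _)
  obtain ⟨u, hu, d, hd, ec⟩ := C.G.mem_borel_iff.1 hc
  obtain ⟨a, ha, v, hv, eu⟩ := C.exists_keep_mul_inv (C.G.sP j) (inv_mem hu)
  obtain ⟨t, hv'⟩ := C.G.Uinv_simple j (inv_mem hv)
  set ni := C.G.nU (K := K) i
  set nj := C.G.nU (K := K) j
  have hfirst : nj * ni * v⁻¹ * (nj * ni)⁻¹ ∈ D.posUnipotent K := by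
    rw [hv']
    obtain ⟨s, hs⟩ := Good.NPerm.mul C.G (C.G.nPerm_nU (K := K) j) (C.G.nPerm_nU (K := K) i) (C.G.simp' j)
    rw [hs]
    refine C.G.xu_mem_U ?_ _
    have hij : i ≠ j := fun e => hj (e ▸ hi)
    have hp : D.IsPosRoot (C.G.w i (C.G.simp' j)).val :=
      C.G.w_pos (C.G.simp_pos j) fun e => hij (C.G.simp_injective e).symm
    rw [Equiv.Perm.mul_apply, Good.sP_apply, Good.sP_apply]
    refine C.G.w_pos hp fun e => ?_
    have e2 := congrFun (congrArg C.G.rho e) i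
    rw [C.G.cmat_eq] at h1
    simp [C.G.rho_w, C.G.rho_simp, hij] at e2
    exact h1 e2
  have hlast : nj * (a⁻¹ * d) * nj⁻¹ ∈ D.borelSubgroup K := by
    rw [show nj * (a⁻¹ * d) * nj⁻¹ = (nj * a⁻¹ * nj⁻¹) * (nj * d * nj⁻¹) by group]
    exact mul_mem (Subgroup.mem_sup_left (C.G.conj_Ukeep (C.G.nPerm_nU j) _ (inv_mem ha)))
      (Subgroup.mem_sup_right ((Subgroup.mem_normalizer_iff.1
        (C.G.monomial_le_normalizer (C.G.nU_mem_monomial j)) d).1 hd))
  set m : ↥(D.group K) := C.sG j * C.sG i * (C.sG j)⁻¹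
  have hm : m ∈ M := by
    let b1 : ↥(D.group K) := ⟨_, C.G.posUnipotent_le_group hfirst⟩
    let b2 : ↥(D.group K) := ⟨_, C.G.borel_le_group hlast⟩
    have e3 : C.sG j * (C.sG i * c) * (C.sG j)⁻¹ = b1 * m * b2 := by
      apply Subtype.ext
      have e4 : u = v⁻¹ * a⁻¹ := by rw [← mul_inv_rev, ← eu, inv_inv]
      show nj * (ni * (c : GL D.Idx K)) * nj⁻¹ =
        nj * ni * v⁻¹ * (nj * ni)⁻¹ * (nj * ni * nj⁻¹) * (nj * (a⁻¹ * d) * nj⁻¹)
      rw [ec, e4]
      group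
    rw [e3] at hk3
    have hb1 : b1 ∈ M := Subgroup.mem_sup_left (Subgroup.mem_sup_left hfirst)
    have hb2 : b2 ∈ M := Subgroup.mem_sup_left hlast
    have := mul_mem (mul_mem (inv_mem hb1) hk3) (inv_mem hb2)
    simpa [mul_assoc] using this
  rw [BN.eq_parabolic_of_le P M le_sup_left, BN.mem_parabolic_iff P Set.inter_subset_left] at hm
  obtain ⟨n, hn, hcell⟩ := hm
  have hmN : m ∈ P.N := P.N.mul_mem (P.N.mul_mem (C.G.nU_mem_monomial j) (C.G.nU_mem_monomial i))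
    (P.N.inv_mem (C.G.nU_mem_monomial j))
  have hnN : n ∈ P.N := (Subgroup.closure_le _).2 (fun x hx => BN.S_mem P hx.1) hn
  have hH : (n⁻¹ * m : ↥(D.group K)).val ∈ D.diagonalSubgroup K := C.G.B_inf_N (K := K) ▸
    Subgroup.mem_inf.2 ⟨BN.eqv_of_mem_cell P hnN hmN hcell (BN.mem_cell_self P m),
      P.N.mul_mem (P.N.inv_mem hnN) hmN⟩
  obtain ⟨π, hπ, hnπ⟩ := C.nPerm_WJ (J := J) (n := n) (Subgroup.closure_mono (by
    rintro x ⟨⟨q, rfl⟩, hq⟩
    exact ⟨q, Finset.mem_filter.2 ⟨Finset.mem_univ q, hq⟩, rfl⟩) hn)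
  have hmπ : C.G.NPerm (m : GL D.Idx K) (π * 1) := by
    have := Good.NPerm.mul C.G hnπ (C.G.nPerm_H hH)
    rwa [show (n : GL D.Idx K) * (n⁻¹ * m : ↥(D.group K)).val = m from
      congrArg Subtype.val (mul_inv_cancel_left n m)] at this
  have e5 := Good.NPerm.unique C.G hmπ (Good.NPerm.mul C.G (Good.NPerm.mul C.G (C.G.nPerm_nU j)
    (C.G.nPerm_nU i)) (Good.NPerm.inv C.G (C.G.nPerm_nU j)))
  rw [mul_one, C.G.sP_inv] at e5
  exact C.sjsisj_notMem hi hj h1 h2 (e5 ▸ hπ)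

end Full

end CfsgLib.Lie.Chev
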