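import Cfsg.Agent.Lib.Lie.Chev.Poincare
import Cfsg.Agent.Lib.Lie.Chev.Unip2
import Mathlib.GroupTheory.Sylow

/-!
# `U` is a Sylow subgroup in the defining characteristic
-/

set_option autoImplicit false

namespace CfsgLib.Lie.Chev

open Cfsg.Lie
open scoped MatrixGroups

namespace Full

variable {D : ChevalleyDatum} (C : Full D) {F : Type*} [Field F]

include C

theorem ninv_eq_zero {π : Equiv.Perm (Fin D.nroots)} (hπ : π ∈ C.G.Wg) (h0 : ninv C.G π = 0) :
    π = 1 := by
  obtain ⟨l, rfl⟩ := C.G.exists_pw hπ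
  refine C.G.pw_eq_one_of_pos l.length l rfl fun j => ?_
  by_contra hneg
  exact (Finset.eq_empty_iff_forall_notMem.1 (Finset.card_eq_zero.1 h0)) (C.G.simp' j)
    (Finset.mem_filter.2 ⟨Finset.mem_univ _, C.G.simp_pos j, hneg⟩)

/-- the index of the Borel subgroup is one modulo `p` -/
theorem Psum_mod {p q : ℕ} (hpq : p ∣ q) : Psum C.G Finset.univ q ≡ 1 [MOD p] := by
  classical
  have h1 : (1 : Equiv.Perm (Fin D.nroots)) ∈ Finset.univ.filter (· ∈ WJ C.G Finset.univ) := by simp
  rw [Psum, ← Finset.add_sum_erase _ _ h1, show q ^ ninv C.G (1 : Equiv.Perm (Fin D.nroots)) = 1 by simp [ninv]]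
  have hdvd : p ∣ ∑ π ∈ (Finset.univ.filter (· ∈ WJ C.G Finset.univ)).erase 1, q ^ ninv C.G π := by
    refine Finset.dvd_sum fun π hπ => ?_
    simp only [Finset.mem_erase, Finset.mem_filter, Finset.mem_univ, true_and, C.G.WJ_univ] at hπ
    exact hpq.trans (dvd_pow_self _ fun h0 => hπ.1 (C.ninv_eq_zero hπ.2 h0))
  simpa using (Nat.modEq_zero_iff_dvd.2 hdvd).add_left 1

theorem card_diagonal_dvd [Fintype F] :
    Nat.card ↥(D.diagonalSubgroup F) ∣ (Fintype.card F - 1) ^ D.rank := by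
  classical
  rw [C.G.diagonal_eq_range]
  refine (Subgroup.card_range_dvd _).trans ?_
  rw [Nat.card_fun, Nat.card_units, Nat.card_fin, Nat.card_eq_fintype_card]

theorem exists_sylow [Fintype F] (p : ℕ) [Fact p.Prime] [CharP F p] :
    ∃ P : Sylow p ↥(D.group F),
      (P : Subgroup ↥(D.group F)) = (D.posUnipotent F).subgroupOf (D.group F) := by
  classical
  have hp : p.Prime := Fact.out
  obtain ⟨n, -, hcard⟩ := FiniteField.card F p
  set U := (D.posUnipotent F).subgroupOf (D.group F)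
  have hUle := C.G.posUnipotent_le_group (K := F)
  have hUcard : Nat.card U = p ^ ((n : ℕ) * (D.nroots / 2)) := by
    rw [Nat.card_congr (Subgroup.subgroupOfEquivOfLe hUle).toEquiv, C.posUnipotent_card, hcard, pow_mul]
  have hpq : p ∣ Fintype.card F := hcard ▸ dvd_pow_self _ n.ne_zero
  have hidx : ¬ p ∣ U.index := by
    have h := Subgroup.card_mul_index U
    rw [Nat.card_congr (Subgroup.subgroupOfEquivOfLe hUle).toEquiv, C.card_group_Psum,
      C.card_borel, mul_assoc] at h
    rw [Nat.eq_of_mul_eq_mul_left Nat.card_pos h]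
    refine Nat.Prime.not_dvd_mul hp ?_ ?_
    · intro h2
      have h3 := Nat.Prime.dvd_of_dvd_pow hp (h2.trans C.card_diagonal_dvd)
      have h4 : p ∣ Fintype.card F - (Fintype.card F - 1) := Nat.dvd_sub hpq h3
      rw [Nat.sub_sub_self (Fintype.card_pos (α := F))] at h4
      exact hp.one_lt.ne' (Nat.dvd_one.1 h4)
    · intro h2
      have h3 := (Nat.modEq_zero_iff_dvd.2 h2).symm.trans (C.Psum_mod hpq)
      exact hp.one_lt.ne' (Nat.eq_one_of_dvd_one ((Nat.modEq_iff_dvd' (Nat.zero_le 1)).1 h3))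
  exact ⟨(IsPGroup.of_card hUcard).toSylow hidx, rfl⟩

end Full

end CfsgLib.Lie.Chev
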