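import Cfsg.Prelude.Def_ChevStructure
import Cfsg.Prelude.Def_ChevG2
import Cfsg.Prelude.Def_ChevB2
import Cfsg.Prelude.Def_ChevD4
import Cfsg.Prelude.Def_ChevF4
import Cfsg.Prelude.Def_ChevE6
import Cfsg.Prelude.Def_ChevE7
import Cfsg.Prelude.Def_ChevE8

/-!
# Certificates for the torus-invariant subgroups of the positive unipotent group
-/

set_option autoImplicit false

namespace CfsgLib.Lie.Chev.WCl

open Cfsg.Lie

/-- the pairings of a root with the fundamental coroots -/
def col (D : ChevalleyDatum) (r : ℕ) : List ℤ := (List.range D.rank).map fun i => D.cartan i r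

/-- a `2 × 2` minor that is non-zero and at most `N` in absolute value -/
def minorB (N : ℕ) (cr cs : List ℤ) : Bool :=
  (List.range cr.length).any fun i => (List.range cr.length).any fun k =>
    let d := cr.getD k 0 * cs.getD i 0 - cr.getD i 0 * cs.getD k 0
    decide (d ≠ 0 ∧ d.natAbs ≤ N)

/-- two exponents that tell the kernels of the characters apart -/
def kerB (n : ℕ) (cr cs : List ℤ) : Bool :=
  (List.range cr.length).any fun i => (List.range cr.length).any fun k =>
    (List.range n).any fun (a : ℕ) => (List.range n).any fun (b : ℕ) =>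
      decide (((n : ℤ) ∣ (a : ℤ) * cr.getD i 0 + (b : ℤ) * cr.getD k 0) ↔
        ¬ (n : ℤ) ∣ (a : ℤ) * cs.getD i 0 + (b : ℤ) * cs.getD k 0)

/-- a strictly increasing list -/
def incB : List ℕ → Bool
  | a :: b :: l => Nat.blt a b && incB (b :: l)
  | _ => true

/-- full root subgroups propagate by commutators with simple root elements (odd coefficients) -/
def reachB (D : ChevalleyDatum) : ℕ → ℕ → ℕ → Bool
  | 0, q, s => q == s
  | f + 1, q, s => q == s || (List.range D.rank).any fun k =>
      decide (D.IsPosRoot q) && !(D.simple k == q) &&
      incB ((D.commTerms (D.simple k) q).map Prod.fst) && (D.commTerms (D.simple k) q).any fun t =>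
          decide (t.2.1.natAbs % 2 = 1) && reachB D f t.1 s

/-- the escape from a pair of proportional characters -/
def escB (D : ChevalleyDatum) (r s : ℕ) : Bool :=
  (List.range D.rank).any fun k => !(D.simple k == r) &&
    match D.commTerms r (D.simple k) with
    | e :: l => decide (e.2.1.natAbs = 1 ∧ e.2.2.1 = 1 ∧ e.2.2.2 = 1) &&
        l.all (fun t => decide (e.1 < t.1)) && reachB D 5 e.1 s
    | [] => false

/-- all pairs of positive roots -/
def pairsB (D : ChevalleyDatum) (P : ℕ → ℕ → Bool) : Bool :=
  D.posRoots.all fun r => D.posRoots.all fun s => !(Nat.blt r s) || P r s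

/-- separation of the characters of the positive roots for all `n ≥ n₀` -/
def sepB (D : ChevalleyDatum) (n₀ N : ℕ) : Bool :=
  pairsB D (fun r s => minorB N (col D r) (col D s)) &&
    (List.range (N + 1 - n₀)).all fun j =>
      pairsB D fun r s => kerB (n₀ + j) (col D r) (col D s) || (n₀ + j == 3 && escB D r s)

/-- every positive root that is not simple occurs with coefficient `± 1` in a commutator -/
def genB (D : ChevalleyDatum) : Bool :=
  D.posRoots.all fun r => (List.range D.rank).any (fun i => D.simple i == r) ||
    D.posRoots.any fun a => Nat.blt a r && (List.range D.rank).any fun k =>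
      Nat.blt (D.simple k) r && !(D.simple k == a) &&
      (((D.commTerms a (D.simple k)).any fun t => t.1 == r && decide (t.2.1.natAbs = 1)) &&
          incB ((D.commTerms a (D.simple k)).map Prod.fst) ||
        ((D.commTerms (D.simple k) a).any fun t => t.1 == r && decide (t.2.1.natAbs = 1)) &&
          incB ((D.commTerms (D.simple k) a).map Prod.fst))

end CfsgLib.Lie.Chev.WCl
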