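import Cfsg.Agent.Lib.Lie.Chev.ParabLevi
import Cfsg.Agent.Lib.Lie.Chev.Unip2
import Cfsg.Agent.Lib.Lie.Chev.WClData

/-!
# Weakly closed subgroups of the positive unipotent group
-/

set_option autoImplicit false

namespace CfsgLib.Lie.Chev

open Cfsg.Lie
open scoped MatrixGroups

namespace WCl

theorem exists_sq_add_sq {F : Type*} [Field F] [Fintype F] (a : F) : ∃ x y : F, x ^ 2 + y ^ 2 = a := by
  rcases eq_or_ne (ringChar F) 2 with h | h
  · obtain ⟨x, rfl⟩ := FiniteField.isSquare_of_char_two h a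
    exact ⟨x, 0, by ring⟩
  · obtain ⟨x, y, hxy⟩ := FiniteField.exists_root_sum_quadratic (R := F)
      (f := Polynomial.X ^ 2) (g := Polynomial.X ^ 2 - Polynomial.C a)
      (Polynomial.degree_X_pow 2) (Polynomial.degree_X_pow_sub_C (by norm_num) a)
      (FiniteField.odd_card_of_char_ne_two h)
    simp only [Polynomial.eval_sub, Polynomial.eval_pow, Polynomial.eval_X, Polynomial.eval_C] at hxy
    exact ⟨x, y, by linear_combination hxy⟩

/-- a map on a finite additive group with distinct kernels of the two characters splits the pairs -/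
theorem split_pair {F : Type*} [Field F] [Fintype F] (A : Set (F × F))
    (hsub : ∀ p ∈ A, ∀ p' ∈ A, p - p' ∈ A) {a b : F}
    (hinv : ∀ p ∈ A, (a * p.1, b * p.2) ∈ A) (hab : a = 1 ↔ b ≠ 1) {t u : F} (h : (t, u) ∈ A) :
    (t, 0) ∈ A := by
  have hit : ∀ n : ℕ, ((a - 1) ^ n * t, (b - 1) ^ n * u) ∈ A := by
    intro n
    induction n with
    | zero => simpa using h
    | succ n ih =>
      have := hsub _ (hinv _ ih) _ ih
      convert this using 1
      simp only [Prod.mk_sub_mk, pow_succ]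
      exact Prod.ext (by ring) (by ring)
  have hq : 1 ≤ Fintype.card F - 1 := by have := Fintype.one_lt_card (α := F); omega
  have h1 := hit (Fintype.card F - 1)
  by_cases ha : a = 1
  · rw [ha, sub_self, zero_pow (by omega), zero_mul,
      FiniteField.pow_card_sub_one_eq_one (b - 1) (sub_ne_zero.2 (hab.1 ha)), one_mul] at h1
    simpa using hsub _ h _ h1
  · rw [FiniteField.pow_card_sub_one_eq_one (a - 1) (sub_ne_zero.2 ha), one_mul,
      not_ne_iff.1 (fun hb => ha (hab.2 hb)), sub_self, zero_pow (by omega), zero_mul] at h1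
    exact h1

end WCl

variable {D : ChevalleyDatum}

namespace Good

variable (G : Good D) {K : Type*} [Field K]

include G

theorem hd_simp_conj (i : Fin D.rank) (c : Kˣ) (r : Fin D.nroots) (t : K) :
    G.hd (G.simp' i) c * G.xu r t * (G.hd (G.simp' i) c)⁻¹ =
      G.xu r (((c ^ cart D i r : Kˣ) : K) * t) := by
  simp only [hd, MonoidHom.comp_apply, MonoidHom.coe_mk, OneHom.coe_mk]
  rw [G.tor_conj_xu]
  congr 3
  simp only [chi, G.pair_simp, ← zpow_mul]
  rw [G.cart_eq i r]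
  induction (Finset.univ : Finset (Fin D.rank)) using Finset.induction with
  | empty => simp
  | insert a u ha ih =>
    rw [Finset.prod_insert ha, Finset.sum_insert ha, zpow_add, ih, mul_comm (G.rho r a)]

theorem hd_self_conj (r : Fin D.nroots) : ∀ (c : Kˣ) (t : K),
    G.hd r c * G.xu r t * (G.hd r c)⁻¹ = G.xu r ((c : K) ^ 2 * t) := by
  revert r
  refine G.orbit _ (fun i _ c t => ?_) fun i r hr c t => ?_
  · rw [G.hd_simp_conj, G.cart_simp]
    simp
  · have h1 : G.hd (G.w i r) c = G.nU i * G.hd r c * (G.nU i)⁻¹ := by rw [G.hd_w]; group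
    have h2 : ∀ s : K, G.xu (G.w i r) ((G.eta i r : K) * s) = G.nU i * G.xu r s * (G.nU i)⁻¹ := by
      intro s; rw [G.nU_xu]; group
    have h3 : (G.eta i r : K) * ((G.eta i r : K) * t) = t := by
      rcases G.eta_unit i r with e | e <;> simp [e]
    calc G.hd (G.w i r) c * G.xu (G.w i r) t * (G.hd (G.w i r) c)⁻¹
        = G.nU i * (G.hd r c * G.xu r ((G.eta i r : K) * t) * (G.hd r c)⁻¹) * (G.nU i)⁻¹ := by
          conv_lhs => rw [← h3, h2, h1]
          group
      _ = G.xu (G.w i r) ((G.eta i r : K) * ((c : K) ^ 2 * ((G.eta i r : K) * t))) := by rw [hr, h2]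
      _ = _ := by congr 1; linear_combination (c : K) ^ 2 * h3

theorem H_normalizes_Uge {m : ℕ} {h g : GL D.Idx K} (hh : h ∈ D.diagonalSubgroup K)
    (hg : g ∈ G.Uge (K := K) m) : h * g * h⁻¹ ∈ G.Uge (K := K) m := by
  induction hg using Subgroup.closure_induction with
  | one => simp
  | mul a b _ _ ha hb =>
    rw [show h * (a * b) * h⁻¹ = (h * a * h⁻¹) * (h * b * h⁻¹) by group]
    exact mul_mem ha hb
  | inv a _ ha =>
    rw [show h * a⁻¹ * h⁻¹ = (h * a * h⁻¹)⁻¹ by group]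
    exact inv_mem ha
  | mem x hx =>
    obtain ⟨r, t, hm, hr, rfl⟩ := hx
    obtain ⟨a, ha⟩ := G.H_conj_xu hh r
    rw [ha]
    exact G.xu_mem_Uge hm hr _

end Good

namespace WCl

variable (C : Full D) {K : Type*} [Field K]

/-- a subgroup of `U` normalised by `B` -/
structure InU (X : Subgroup (GL D.Idx K)) : Prop where
  le : X ≤ D.posUnipotent K
  conj : ∀ b ∈ D.borelSubgroup K, ∀ x ∈ X, b * x * b⁻¹ ∈ X

/-- the whole root subgroup lies in `X` -/
def IsFull (X : Subgroup (GL D.Idx K)) (r : Fin D.nroots) : Prop := ∀ t : K, C.G.xu r t ∈ X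

/-- leading components of elements of `X` from index `m` on lie in `X` -/
def Dec (X : Subgroup (GL D.Idx K)) (m : ℕ) : Prop :=
  ∀ r : Fin D.nroots, m ≤ r.val → D.IsPosRoot r.val → ∀ (t : K) (v : GL D.Idx K),
    v ∈ C.G.Uge (K := K) (r.val + 1) → C.G.xu r t * v ∈ X → C.G.xu r t ∈ X

variable {X : Subgroup (GL D.Idx K)} (hX : InU X)

include hX

theorem conj_U {u x : GL D.Idx K} (hu : u ∈ D.posUnipotent K) (hx : x ∈ X) : u * x * u⁻¹ ∈ X :=
  hX.conj u (Subgroup.mem_sup_left hu) x hx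

theorem conj_H {h x : GL D.Idx K} (hh : h ∈ D.diagonalSubgroup K) (hx : x ∈ X) : h * x * h⁻¹ ∈ X :=
  hX.conj h (Subgroup.mem_sup_right hh) x hx

theorem full_of_ne [Fintype K] {r : Fin D.nroots} {t : K} (ht : t ≠ 0) (h : C.G.xu r t ∈ X) :
    IsFull C X r := by
  have hsq : ∀ c : K, C.G.xu r (c ^ 2 * t) ∈ X := fun c => by
    by_cases hc : c = 0
    · subst hc; simp [C.G.xu_zero]
    · have := conj_H hX (C.G.hd_mem_H r (Units.mk0 c hc)) h
      rwa [C.G.hd_self_conj, Units.val_mk0] at this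
  intro a
  obtain ⟨x, y, hxy⟩ := exists_sq_add_sq (a / t)
  have e : a = x ^ 2 * t + y ^ 2 * t := by rw [← add_mul, hxy, div_mul_cancel₀ a ht]
  rw [e, C.G.xu_add]
  exact mul_mem (hsq x) (hsq y)

/-- the word of a commutator lies in `X` as soon as one entry does -/
theorem word_mem {r s : Fin D.nroots} (hsr : s ≠ r) (hr : D.IsPosRoot r.val) (hs : D.IsPosRoot s.val)
    (t u : K) (h : C.G.xu r t ∈ X ∨ C.G.xu s u ∈ X) :
    ∃ hlt : ∀ c ∈ D.commTerms r.val s.val, c.1 < D.nroots,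
      (((D.commTerms r.val s.val).pmap
        (fun c hc => ((⟨c.1, hc⟩ : Fin D.nroots), (c.2.1 : K) * (-t) ^ c.2.2.1 * u ^ c.2.2.2)) hlt).map
          fun p => C.G.xu p.1 p.2).prod ∈ X := by
  refine ⟨fun c hc => (C.commTerms_weight hc).2.2.1, ?_⟩
  have e : C.G.xu r t * C.G.xu s u * _ = C.G.xu s u * C.G.xu r t :=
    Units.ext (by
      have h := C.commAt r s hsr (C.pos_ne_negr hr hs) t u
      unfold CommAt at h
      simp only [Units.val_mul, Good.coe_xu, h]
      congr 1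
      rw [← Units.coeHom_apply, map_list_prod, wordR, cwR, List.map_map, List.map_map, List.map_pmap]
      congr 1
      refine List.ext_getElem (by simp) fun i h1 h2 => ?_
      simp only [List.getElem_map, List.getElem_pmap, Function.comp_apply, Units.coeHom_apply,
        Good.coe_xu, xN]
      rw [dif_pos]
      exact (C.commTerms_weight (List.getElem_mem _)).2.2.1 :
      ((C.G.xu r t * C.G.xu s u * (((D.commTerms r.val s.val).pmap
        (fun c hc => ((⟨c.1, hc⟩ : Fin D.nroots), (c.2.1 : K) * (-t) ^ c.2.2.1 * u ^ c.2.2.2))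
        (fun c hc => (C.commTerms_weight hc).2.2.1)).map fun p => C.G.xu p.1 p.2).prod : GL D.Idx K) :
          Matrix D.Idx D.Idx K) = (C.G.xu s u * C.G.xu r t : GL D.Idx K))
  set W := (((D.commTerms r.val s.val).pmap
    (fun c hc => ((⟨c.1, hc⟩ : Fin D.nroots), (c.2.1 : K) * (-t) ^ c.2.2.1 * u ^ c.2.2.2))
    (fun c hc => (C.commTerms_weight hc).2.2.1)).map fun p => C.G.xu p.1 p.2).prod with hW
  rcases h with h | h
  · have h2 := conj_U hX (inv_mem (C.G.xu_mem_U hs u)) (inv_mem h)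
    rw [show W = (C.G.xu s u)⁻¹ * (C.G.xu r t)⁻¹ * ((C.G.xu s u)⁻¹)⁻¹ * C.G.xu r t by
      rw [inv_inv]
      calc W = (C.G.xu s u)⁻¹ * (C.G.xu r t)⁻¹ * (C.G.xu r t * C.G.xu s u * W) := by group
        _ = _ := by rw [e]; group]
    exact mul_mem h2 h
  · have h2 := conj_U hX (inv_mem (C.G.xu_mem_U hr t)) h
    rw [show W = (C.G.xu s u)⁻¹ * ((C.G.xu r t)⁻¹ * C.G.xu s u * ((C.G.xu r t)⁻¹)⁻¹) by
      rw [inv_inv]
      calc W = (C.G.xu s u)⁻¹ * (C.G.xu r t)⁻¹ * (C.G.xu r t * C.G.xu s u * W) := by group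
        _ = _ := by rw [e]; group]
    exact mul_mem (inv_mem h) h2

omit hX in
theorem incB_cons {a : ℕ} {l : List ℕ} (h : incB (a :: l) = true) :
    (∀ b ∈ l, a < b) ∧ incB l = true := by
  induction l generalizing a with
  | nil => exact ⟨by simp, rfl⟩
  | cons b l ih =>
    simp only [incB, Bool.and_eq_true, Nat.blt_eq] at h
    refine ⟨fun c hc => ?_, h.2⟩
    rcases List.mem_cons.1 hc with rfl | hc
    · exact h.1
    · exact h.1.trans ((ih h.2).1 c hc)

omit hX in
theorem prod_mem_Uge {m : ℕ} {l : List (Fin D.nroots × K)}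
    (hl : ∀ p ∈ l, m ≤ p.1.val ∧ D.IsPosRoot p.1.val) :
    (l.map fun p => C.G.xu p.1 p.2).prod ∈ C.G.Uge (K := K) m :=
  list_prod_mem fun x hx => by
    obtain ⟨p, hp, rfl⟩ := List.mem_map.1 hx
    exact C.G.xu_mem_Uge (hl p hp).1 (hl p hp).2 _

omit hX in
theorem peel {m : ℕ} (hd : Dec C X m) : ∀ (l : List (Fin D.nroots × K)),
    (∀ p ∈ l, m ≤ p.1.val ∧ D.IsPosRoot p.1.val) → incB (l.map fun p => p.1.val) = true →
    (l.map fun p => C.G.xu p.1 p.2).prod ∈ X → ∀ p ∈ l, C.G.xu p.1 p.2 ∈ X := by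
  intro l
  induction l with
  | nil => simp
  | cons a l ih =>
    intro hl hinc hmem
    rw [List.map_cons] at hinc
    obtain ⟨hlt, hinc'⟩ := incB_cons hinc
    rw [List.map_cons, List.prod_cons] at hmem
    have ha := hd a.1 (hl a List.mem_cons_self).1 (hl a List.mem_cons_self).2 a.2 _
      (prod_mem_Uge C fun p hp => ⟨hlt _ (List.mem_map_of_mem hp), (hl p (List.mem_cons_of_mem _ hp)).2⟩)
      hmem
    intro p hp
    rcases List.mem_cons.1 hp with rfl | hp
    · exact ha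
    · exact ih (fun q hq => hl q (List.mem_cons_of_mem _ hq)) hinc'
        (by simpa using mul_mem (inv_mem ha) hmem) p hp

/-- a component of a commutator with a non-zero coefficient fills its root subgroup -/
theorem comm_full [Fintype K] {m : ℕ} (hd : Dec C X m) {a b : Fin D.nroots}
    (hab : b ≠ a) (ha : D.IsPosRoot a.val) (hb : D.IsPosRoot b.val) (hm : m ≤ a.val ∨ m ≤ b.val)
    (hinc : incB ((D.commTerms a.val b.val).map Prod.fst) = true)
    (hfull : IsFull C X a ∨ IsFull C X b) {c : ℕ × ℤ × ℕ × ℕ} (hc : c ∈ D.commTerms a.val b.val)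
    (hne : (c.2.1 : K) ≠ 0) {q : Fin D.nroots} (hq : q.val = c.1) : IsFull C X q := by
  obtain ⟨hlt, hW⟩ := word_mem C hX hab ha hb 1 1 (hfull.imp (fun h => h 1) fun h => h 1)
  set l := (D.commTerms a.val b.val).pmap
    (fun c hc => ((⟨c.1, hc⟩ : Fin D.nroots), (c.2.1 : K) * (-1) ^ c.2.2.1 * 1 ^ c.2.2.2)) hlt with hl
  have hlm : ∀ p ∈ l, m ≤ p.1.val ∧ D.IsPosRoot p.1.val := by
    intro p hp
    obtain ⟨c', hc', rfl⟩ := List.mem_pmap.1 hp
    obtain ⟨h1, h2, h3, h4⟩ := C.commTerms_weight hc'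
    obtain ⟨k1, k2, k3⟩ := C.rho_combo_index ha hb h1 h2 h4
    exact ⟨by simp only at k2 k3 ⊢; omega, k1⟩
  have hli : incB (l.map fun p => p.1.val) = true := by
    rw [hl, List.map_pmap, List.pmap_eq_map]
    exact hinc
  have := peel C hd l hlm hli hW ((⟨c.1, hlt c hc⟩ : Fin D.nroots), _) (List.mem_pmap.2 ⟨c, hc, rfl⟩)
  obtain rfl : q = ⟨c.1, hlt c hc⟩ := Fin.ext hq
  refine full_of_ne C hX ?_ this
  simp only [one_pow, mul_one]
  exact mul_ne_zero hne (pow_ne_zero _ (neg_ne_zero.2 one_ne_zero))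

theorem cast_odd [CharP K 2] {z : ℤ} (h : z.natAbs % 2 = 1) : (z : K) ≠ 0 := by
  intro h0
  have := (CharP.intCast_eq_zero_iff K 2 z).1 h0
  omega

theorem reach_full [Fintype K] [CharP K 2] {m : ℕ} (hd : Dec C X m) :
    ∀ (f : ℕ) (q s : Fin D.nroots), m ≤ q.val → IsFull C X q → reachB D f q.val s.val = true →
      IsFull C X s := by
  intro f
  induction f with
  | zero =>
    intro q s _ hq h
    simp only [reachB, beq_iff_eq] at h
    exact Fin.ext h ▸ hq
  | succ f ih =>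
    intro q s hm hq h
    simp only [reachB, Bool.or_eq_true, beq_iff_eq, List.any_eq_true, List.mem_range, Bool.and_eq_true,
      decide_eq_true_eq, Bool.not_eq_true', beq_eq_false_iff_ne] at h
    rcases h with h | ⟨k, hk, ⟨⟨hp, hne⟩, hinc⟩, c, hc, hodd, hr⟩
    · exact Fin.ext h ▸ hq
    · have hs : (C.G.simp' ⟨k, hk⟩).val = D.simple k := C.G.simp_val ⟨k, hk⟩
      rw [← hs] at hinc hc hne
      obtain ⟨h1, h2, h3, h4⟩ := C.commTerms_weight hc
      obtain ⟨k1, k2, k3⟩ := C.rho_combo_index (C.G.simp_pos ⟨k, hk⟩) hp h1 h2 h4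
      refine ih ⟨c.1, h3⟩ s (by simp only at k3 ⊢; omega) ?_ hr
      exact comm_full C hX hd (fun e => hne (congrArg Fin.val e).symm) (C.G.simp_pos ⟨k, hk⟩) hp
        (Or.inr hm) hinc (Or.inr hq) hc (cast_odd hX hodd) rfl

/-- removing the component at `s` -/
theorem escape [Fintype K] [CharP K 2] {r s : Fin D.nroots} (hr : D.IsPosRoot r.val)
    (hs : D.IsPosRoot s.val) (hd : Dec C X (r.val + 1)) (he : escB D r.val s.val = true)
    {t : K} (ht : t ≠ 0) {v : GL D.Idx K} (hv : v ∈ C.G.Uge (K := K) (r.val + 1))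
    (hx : C.G.xu r t * v ∈ X) : IsFull C X s := by
  simp only [escB, List.any_eq_true, List.mem_range, Bool.and_eq_true, Bool.not_eq_true',
    beq_eq_false_iff_ne] at he
  obtain ⟨k, hk, hne, he⟩ := he
  set a := C.G.simp' ⟨k, hk⟩ with ha'
  have hsa : a.val = D.simple k := C.G.simp_val ⟨k, hk⟩
  have hap := C.G.simp_pos ⟨k, hk⟩
  rw [← hsa] at hne he
  have hra : a ≠ r := fun e => hne (congrArg Fin.val e)
  cases hl : D.commTerms r.val a.val with
  | nil => simp [hl] at he
  | cons e l =>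
    simp only [hl, Bool.and_eq_true, decide_eq_true_eq, List.all_eq_true] at he
    obtain ⟨⟨⟨hc1, hi1, hj1⟩, hall⟩, hreach⟩ := he
    obtain ⟨-, -, hq, hrho⟩ := C.commTerms_weight (c := e) (r := r) (s := a) (hl ▸ List.mem_cons_self)
    obtain ⟨hqp, hrq, haq⟩ := C.rho_combo_index hr hap (by omega) (by omega) hrho
    rw [hi1, hj1] at hrho
    set q : Fin D.nroots := ⟨e.1, hq⟩
    refine reach_full C hX hd 5 q s (by omega) ?_ hreach
    refine full_of_ne C hX (t := -(e.2.1 : K) * t) (mul_ne_zero (neg_ne_zero.2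
      (cast_odd hX (z := e.2.1) (by omega))) ht) ?_
    -- the commutator with `x_a(1)` has leading component at `q`
    set A := C.G.xu (K := K) a 1 with hA
    set N := C.G.Uge (K := K) (q.val + 1)
    have hAU : A ∈ C.G.Uge (K := K) 0 := C.G.xu_mem_Uge (Nat.zero_le _) hap 1
    have hNn : ∀ {g w : GL D.Idx K}, g ∈ C.G.Uge (K := K) 0 → w ∈ N → g * w * g⁻¹ ∈ N :=
      fun hg hw => (Subgroup.mem_normalizer_iff.1 (C.Uge_normal hg) _).1 hw
    -- the tail only contributes above `q`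
    have htail : ∀ y ∈ C.G.Uge (K := K) (r.val + 1), y⁻¹ * A * y * A⁻¹ ∈ N := by
      intro y hy
      have hy0 : ∀ y ∈ C.G.Uge (K := K) (r.val + 1), y ∈ C.G.Uge (K := K) 0 :=
        fun y hy => C.G.Uge_mono (K := K) (Nat.zero_le _) hy
      induction hy using Subgroup.closure_induction with
      | one => simp
      | mul y z hy hz iy iz =>
        rw [show (y * z)⁻¹ * A * (y * z) * A⁻¹ =
          (z⁻¹ * (y⁻¹ * A * y * A⁻¹) * (z⁻¹)⁻¹) * (z⁻¹ * A * z * A⁻¹) by group]
        exact mul_mem (hNn (inv_mem (hy0 z hz)) iy) iz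
      | inv y hy iy =>
        rw [show y⁻¹⁻¹ * A * y⁻¹ * A⁻¹ = y * (y⁻¹ * A * y * A⁻¹)⁻¹ * y⁻¹ by group]
        exact hNn (hy0 y hy) (inv_mem iy)
      | mem y hy =>
        obtain ⟨b, u, hrb, hb, rfl⟩ := hy
        by_cases hab : a = b
        · subst hab
          rw [hA, C.G.xu_inv, C.G.xu_inv, ← C.G.xu_add, ← C.G.xu_add, ← C.G.xu_add,
            show -u + 1 + u + -1 = (0 : K) by ring, C.G.xu_zero]
          exact one_mem _
        · obtain ⟨l', hl', e'⟩ := C.conj_xu b a hab (C.pos_ne_negr hb hap) u (1 : K)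
          rw [hA, e']
          refine hNn (C.G.xu_mem_Uge (Nat.zero_le _) hap 1) (list_prod_mem fun x hx => ?_)
          obtain ⟨p, hp, rfl⟩ := List.mem_map.1 hx
          obtain ⟨i, j, hi, hj, hp'⟩ := hl' p hp
          obtain ⟨hpp, -, -⟩ := C.rho_combo_index hb hap hi hj hp'
          refine C.G.xu_mem_Uge (C.G.index_lt_of_ht_lt ?_) hpp _
          rw [hp', hrho, C.G.ht_add, C.G.ht_add, C.G.ht_smul, C.G.ht_smul, C.G.ht_smul, C.G.ht_smul]
          have h1 := C.G.ht_lt (Fin.lt_def.2 (show r.val < b.val by omega))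
          have h2 := (C.G.isPosRoot_iff r).1 hr
          have h3 := (C.G.isPosRoot_iff a).1 hap
          have hi' : (1 : ℤ) ≤ i := by exact_mod_cast hi
          have hj' : (1 : ℤ) ≤ j := by exact_mod_cast hj
          push_cast
          nlinarith
    -- the commutator of the leading term
    obtain ⟨l', hW⟩ : ∃ W ∈ N, (C.G.xu r t)⁻¹ * A * C.G.xu r t =
        A * (C.G.xu q (-(e.2.1 : K) * t) * W) := by
      have h := C.commAt r a hra (C.pos_ne_negr hr hap) t (1 : K)
      unfold CommAt at h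
      refine ⟨(l.pmap (fun c hc => C.G.xu ⟨c.1, hc⟩ ((c.2.1 : K) * (-t) ^ c.2.2.1 * 1 ^ c.2.2.2))
        (fun c hc => (C.commTerms_weight (r := r) (s := a) (hl ▸ List.mem_cons_of_mem _ hc)).2.2.1)).prod,
        list_prod_mem fun x hx => ?_, ?_⟩
      · obtain ⟨c, hc, rfl⟩ := List.mem_pmap.1 hx
        obtain ⟨h1, h2, h3, h4⟩ := C.commTerms_weight (r := r) (s := a) (hl ▸ List.mem_cons_of_mem _ hc)
        exact C.G.xu_mem_Uge (hall c hc) (C.rho_combo_index hr hap h1 h2 h4).1 _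
      · rw [mul_assoc, inv_mul_eq_iff_eq_mul]
        apply Units.ext
        simp only [Units.val_mul, hA, Good.coe_xu, h, cwR, hl, List.map_cons, wordR_cons, mul_assoc]
        congr 2
        rw [hi1, hj1, pow_one, pow_one, mul_one, show (e.2.1 : K) * -t = -(e.2.1 : K) * t by ring]
        congr 1
        · rw [xN, dif_pos hq]
        · rw [← Units.coeHom_apply, map_list_prod, wordR, List.map_map, List.map_pmap]
          congr 1
          refine List.ext_getElem (by simp) fun i h1 h2 => ?_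
          simp only [List.getElem_map, List.getElem_pmap, Function.comp_apply, Units.coeHom_apply,
            Good.coe_xu, xN]
          rw [dif_pos]
          exact (C.commTerms_weight (r := r) (s := a) (hl ▸ List.mem_cons_of_mem _ (List.getElem_mem _))).2.2.1
    obtain ⟨hWN, hconj⟩ := hW
    have hmem := mul_mem (inv_mem hx) (conj_U hX (C.G.xu_mem_U hap 1) hx)
    set x := C.G.xu q (-(e.2.1 : K) * t) with hxq
    have hmem' : x * ((x⁻¹ * ((v⁻¹ * A * v * A⁻¹) * (A * (v⁻¹ * x * v * x⁻¹) * A⁻¹))) * x *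
        (x⁻¹ * (A * x * A⁻¹)) * (A * (v⁻¹ * l' * v⁻¹⁻¹) * A⁻¹)) ∈ X := by
      convert hmem using 1
      rw [mul_inv_rev,
        show v⁻¹ * (C.G.xu r t)⁻¹ * (A * (C.G.xu r t * v) * A⁻¹) =
          v⁻¹ * ((C.G.xu r t)⁻¹ * A * C.G.xu r t) * v * A⁻¹ by group, hconj]
      group
    refine hd q (by omega) hqp _ _ ?_ hmem'
    have hxU : x ∈ C.G.Uge (K := K) 0 := C.G.xu_mem_Uge (Nat.zero_le _) hqp _
    have hxq' : x ∈ C.G.Uge (K := K) q.val := C.G.xu_mem_Uge le_rfl hqp _
    have hv0 : v ∈ C.G.Uge (K := K) 0 := C.G.Uge_mono (K := K) (Nat.zero_le _) hv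
    refine mul_mem (mul_mem ?_ ?_) (hNn hAU (hNn (inv_mem hv0) hWN))
    · have h1 : v⁻¹ * x * v * x⁻¹ ∈ N := by
        have h := C.Uge_comm_mem hxq' (inv_mem hv0)
        rw [show v⁻¹ * x * v * x⁻¹ = (x * v⁻¹ * x⁻¹ * v⁻¹⁻¹)⁻¹ by group]
        exact inv_mem h
      have h0 := hNn (inv_mem hxU) (mul_mem (htail v hv) (hNn hAU h1))
      rwa [inv_inv] at h0
    · rw [show x⁻¹ * (A * x * A⁻¹) = x⁻¹ * (x * A * x⁻¹ * A⁻¹)⁻¹ * x⁻¹⁻¹ by group]
      exact hNn (inv_mem hxU) (inv_mem (C.Uge_comm_mem hxq' hAU))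

/-- one step of the separation -/
theorem split_step [Fintype K] {r s : Fin D.nroots} (hr : D.IsPosRoot r.val) (hs : D.IsPosRoot s.val)
    (hrs : r.val < s.val) {h : GL D.Idx K} (hh : h ∈ D.diagonalSubgroup K) {a b : K}
    (ha : ∀ t : K, h * C.G.xu r t * h⁻¹ = C.G.xu r (a * t))
    (hb : ∀ t : K, h * C.G.xu s t * h⁻¹ = C.G.xu s (b * t)) (hab : a = 1 ↔ b ≠ 1)
    {t u : K} {v : GL D.Idx K} (hv : v ∈ C.G.Uge (K := K) (s.val + 1))
    (hx : C.G.xu r t * (C.G.xu s u * v) ∈ X) :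
    ∃ v' ∈ C.G.Uge (K := K) (s.val + 1), C.G.xu r t * v' ∈ X := by
  set N := C.G.Uge (K := K) (s.val + 1)
  have hNn : ∀ {g w : GL D.Idx K}, g ∈ C.G.Uge (K := K) 0 → w ∈ N → g * w * g⁻¹ ∈ N :=
    fun hg hw => (Subgroup.mem_normalizer_iff.1 (C.Uge_normal hg) _).1 hw
  let A : Set (K × K) := {p | ∃ w ∈ N, C.G.xu r p.1 * (C.G.xu s p.2 * w) ∈ X}
  have hr0 : ∀ t : K, C.G.xu r t ∈ C.G.Uge (K := K) 0 := fun t => C.G.xu_mem_Uge (Nat.zero_le _) hr t
  have hs0 : ∀ t : K, C.G.xu s t ∈ C.G.Uge (K := K) 0 := fun t => C.G.xu_mem_Uge (Nat.zero_le _) hs t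
  have hsub : ∀ p ∈ A, ∀ p' ∈ A, p - p' ∈ A := by
    rintro ⟨p, p2⟩ ⟨w, hw, hwX⟩ ⟨p', p2'⟩ ⟨w', hw', hw'X⟩
    have hm := mul_mem hwX (inv_mem hw'X)
    -- modulo `N`, `x_r` commutes with `x_s`
    have hc := C.comm_mem hr hs (-p') (p2 - p2')
    rw [max_eq_right hrs.le] at hc
    refine ⟨(C.G.xu s (p2 - p2'))⁻¹ * ((C.G.xu r (-p'))⁻¹ * C.G.xu s (p2 - p2') * C.G.xu r (-p')) *
      ((C.G.xu r (-p'))⁻¹ * (C.G.xu s p2' * (w * w'⁻¹) * (C.G.xu s p2')⁻¹) *
        ((C.G.xu r (-p'))⁻¹)⁻¹), mul_mem hc (hNn (inv_mem (hr0 _)) (hNn (hs0 _) (mul_mem hw (inv_mem hw')))), ?_⟩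
    convert hm using 1
    rw [show ((p, p2) - (p', p2')).1 = p + -p' from sub_eq_add_neg p p',
      show ((p, p2) - (p', p2')).2 = p2 + -p2' from sub_eq_add_neg p2 p2']
    simp only [sub_eq_add_neg, C.G.xu_add, ← C.G.xu_inv]
    group
  have hinv : ∀ p ∈ A, (a * p.1, b * p.2) ∈ A := by
    rintro ⟨p, p2⟩ ⟨w, hw, hwX⟩
    refine ⟨h * w * h⁻¹, C.G.H_normalizes_Uge hh hw, ?_⟩
    have := conj_H hX hh hwX
    simp only at this ⊢
    rw [← ha, ← hb]
    convert this using 1
    group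
  obtain ⟨v', hv', hv'X⟩ := split_pair A hsub hinv hab (t := t) (u := u) ⟨v, hv, hx⟩
  simp only [C.G.xu_zero, one_mul] at hv'X
  exact ⟨v', hv', hv'X⟩

omit hX in
theorem col_getD {i : ℕ} (hi : i < D.rank) (r : ℕ) : (col D r).getD i 0 = D.cartan i r := by
  simp [col, List.getD_eq_getElem?_getD, List.getElem?_map, hi]

omit hX in
theorem exists_sep_elt [Fintype K] {r s : Fin D.nroots} {i k : Fin D.rank} {a b : ℤ}
    (hab : ((Fintype.card K - 1 : ℕ) : ℤ) ∣ a * cart D i r + b * cart D k r ↔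
      ¬ ((Fintype.card K - 1 : ℕ) : ℤ) ∣ a * cart D i s + b * cart D k s) :
    ∃ h ∈ D.diagonalSubgroup K, ∃ α β : K, (∀ t : K, h * C.G.xu r t * h⁻¹ = C.G.xu r (α * t)) ∧
      (∀ t : K, h * C.G.xu s t * h⁻¹ = C.G.xu s (β * t)) ∧ (α = 1 ↔ β ≠ 1) := by
  classical
  obtain ⟨g, hg⟩ := IsCyclic.exists_generator (α := Kˣ)
  have hord : orderOf g = Fintype.card K - 1 := by
    rw [← Fintype.card_units, ← Nat.card_eq_fintype_card]
    exact orderOf_eq_card_of_forall_mem_zpowers hg
  have hone : ∀ e : ℤ, ((g ^ e : Kˣ) : K) = 1 ↔ ((Fintype.card K - 1 : ℕ) : ℤ) ∣ e := by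
    intro e
    rw [← hord, orderOf_dvd_iff_zpow_eq_one, Units.val_eq_one]
  refine ⟨C.G.hd (C.G.simp' i) (g ^ a) * C.G.hd (C.G.simp' k) (g ^ b),
    mul_mem (C.G.hd_mem_H _ _) (C.G.hd_mem_H _ _),
    ((g ^ (a * cart D i r + b * cart D k r) : Kˣ) : K), ((g ^ (a * cart D i s + b * cart D k s) : Kˣ) : K),
    ?_, ?_, ?_⟩
  rotate_left 2
  · rw [ne_eq, hone, hone]; exact hab
  all_goals
    intro t
    rw [mul_inv_rev]
    simp only [← mul_assoc]
    rw [mul_assoc _ (C.G.hd (C.G.simp' k) _), mul_assoc _ (C.G.hd (C.G.simp' k) _ * _),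
      C.G.hd_simp_conj, C.G.hd_simp_conj, ← mul_assoc, ← Units.val_mul, zpow_add, ← zpow_mul, ← zpow_mul]

theorem dec_all [Fintype K] {n₀ N : ℕ} (hsep : sepB D n₀ N = true) (hn : n₀ ≤ Fintype.card K - 1) :
    Dec C X 0 := by
  classical
  set n := Fintype.card K - 1 with hn'
  suffices ∀ d m, m + d = D.nroots → Dec C X m from this D.nroots 0 (Nat.zero_add _)
  intro d
  induction d with
  | zero => intro m hm r hr; have := r.isLt; omega
  | succ d ih =>
    intro m hm r hr hrp t v hv hx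
    rcases Nat.lt_or_eq_of_le hr with hlt | heq
    · exact ih (m + 1) (by omega) r hlt hrp t v hv hx
    have hd : Dec C X (r.val + 1) := ih _ (by omega)
    by_cases ht : t = 0
    · rw [ht, C.G.xu_zero]; exact one_mem _
    suffices ∀ j, ∃ w ∈ C.G.Uge (K := K) (r.val + 1 + j), C.G.xu r t * w ∈ X by
      obtain ⟨w, hw, hwX⟩ := this D.nroots
      rw [C.G.Uge_top (by omega), Subgroup.mem_bot] at hw
      rwa [hw, mul_one] at hwX
    intro j
    induction j with
    | zero => exact ⟨v, hv, hx⟩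
    | succ j ihj =>
      obtain ⟨w, hw, hwX⟩ := ihj
      by_cases hp : D.IsPosRoot (r.val + 1 + j)
      swap
      · exact ⟨w, by rwa [C.Uge_skip hp] at hw, hwX⟩
      set s : Fin D.nroots := ⟨r.val + 1 + j, hp.1⟩
      have hrs : r.val < s.val := by simp only [s]; omega
      obtain ⟨u, w', hw', rfl⟩ := C.Uge_step (r := s) hp hw
      have hmem : ∀ q : Fin D.nroots, D.IsPosRoot q.val → q.val ∈ D.posRoots := fun q hq => by
        simp [ChevalleyDatum.posRoots, List.mem_filter, q.isLt, hq]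
      have hcol : ∀ (i : ℕ) (hi : i < D.rank) (q : Fin D.nroots),
          (col D q.val).getD i 0 = cart D ⟨i, hi⟩ q := fun i hi q => col_getD hi _
      have hlen : (col D r.val).length = D.rank := by simp [col]
      simp only [sepB, pairsB, Bool.and_eq_true, List.all_eq_true, List.mem_range, Bool.or_eq_true,
        Bool.not_eq_true'] at hsep
      have hpair : ∀ {P : Prop}, (Nat.blt r.val s.val = false ∨ P) → P := fun h =>
        h.resolve_left (by simp [hrs])
      by_cases hN : N < n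
      · have hmin := hpair (hsep.1 r.val (hmem r hrp) s.val (hmem s hp))
        simp only [minorB, List.any_eq_true, List.mem_range, decide_eq_true_eq, hlen] at hmin
        obtain ⟨i, hi, k, hk, hne, hle⟩ := hmin
        rw [hcol i hi, hcol k hk, hcol i hi, hcol k hk] at hne hle
        obtain ⟨h, hh, α, β, ha, hb, hab⟩ := exists_sep_elt (K := K) C (r := r) (s := s) (i := ⟨i, hi⟩)
          (k := ⟨k, hk⟩) (a := cart D ⟨k, hk⟩ r) (b := -cart D ⟨i, hi⟩ r) (by
            rw [show cart D ⟨k, hk⟩ r * cart D ⟨i, hi⟩ r + -cart D ⟨i, hi⟩ r * cart D ⟨k, hk⟩ r = 0 by ring]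
            refine iff_of_true (dvd_zero _) fun hdvd => ?_
            rw [show cart D ⟨k, hk⟩ r * cart D ⟨i, hi⟩ s + -cart D ⟨i, hi⟩ r * cart D ⟨k, hk⟩ s =
              cart D ⟨k, hk⟩ r * cart D ⟨i, hi⟩ s - cart D ⟨i, hi⟩ r * cart D ⟨k, hk⟩ s by ring,
              Int.natCast_dvd] at hdvd
            have := Nat.le_of_dvd (Int.natAbs_pos.2 hne) hdvd
            omega)
        obtain ⟨w'', hw'', h'⟩ := split_step C hX hrp hp hrs hh ha hb hab hw' hwX
        exact ⟨w'', hw'', h'⟩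
      · have h2 := hsep.2 (n - n₀) (by omega) r.val (hmem r hrp) s.val (hmem s hp)
        rw [show n₀ + (n - n₀) = n by omega] at h2
        rcases hpair h2 with h2 | h2
        · simp only [kerB, List.any_eq_true, List.mem_range, decide_eq_true_eq, hlen] at h2
          obtain ⟨i, hi, k, hk, a, -, b, -, hab'⟩ := h2
          rw [hcol i hi, hcol k hk, hcol i hi, hcol k hk] at hab'
          obtain ⟨h, hh, α, β, ha, hb, hab⟩ := exists_sep_elt (K := K) C (r := r) (s := s) (i := ⟨i, hi⟩)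
            (k := ⟨k, hk⟩) (a := (a : ℤ)) (b := (b : ℤ)) hab'
          obtain ⟨w'', hw'', h'⟩ := split_step C hX hrp hp hrs hh ha hb hab hw' hwX
          exact ⟨w'', hw'', h'⟩
        · simp only [Bool.and_eq_true, beq_iff_eq] at h2
          have hc4 : Fintype.card K = 4 := by omega
          haveI : CharP K 2 := by
            obtain ⟨p, hp'⟩ := CharP.exists K
            obtain ⟨e, hpr, he⟩ := FiniteField.card K p
            have : p ∣ 4 := hc4 ▸ he ▸ dvd_pow_self p e.ne_zero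
            have := (Nat.prime_dvd_prime_iff_eq hpr Nat.prime_two).1 (hpr.dvd_of_dvd_pow (n := 2) (by simpa using this))
            exact this ▸ hp'
          have hsF := escape C hX hrp hp hd h2.2 ht
            (mul_mem (C.G.xu_mem_Uge (by omega) hp u) (C.G.Uge_mono (K := K) (by simp only [s]; omega) hw')) hwX
          refine ⟨w', hw', ?_⟩
          have hw0 : w' ∈ D.posUnipotent K := by
            rw [C.G.posUnipotent_eq]; exact C.G.Uge_mono (K := K) (Nat.zero_le _) hw'
          have := mul_mem hwX (conj_U hX (inv_mem hw0) (inv_mem (hsF u)))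
          convert this using 1
          rw [inv_inv]
          group

/-- `X` is generated by the root elements it contains -/
theorem eq_closure (hd : Dec C X 0) : X = Subgroup.closure
    {g | ∃ r t, D.IsPosRoot (r : Fin D.nroots).val ∧ C.G.xu r t ∈ X ∧ g = C.G.xu r t} := by
  refine le_antisymm (fun g hg => ?_) ((Subgroup.closure_le _).2 ?_)
  swap
  · rintro g ⟨r, t, -, h, rfl⟩; exact h
  suffices ∀ d m, m + d = D.nroots → ∀ t : Fin D.nroots → K, C.uprod m t ∈ X →
      C.uprod m t ∈ Subgroup.closure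
        {g | ∃ r t, D.IsPosRoot (r : Fin D.nroots).val ∧ C.G.xu r t ∈ X ∧ g = C.G.xu r t} by
    obtain ⟨t, ht⟩ := C.exists_uprod D.nroots 0 (Nat.zero_add _) g (by
      have := hX.le hg
      rwa [C.G.posUnipotent_eq] at this)
    rw [ht] at hg ⊢
    exact this D.nroots 0 (Nat.zero_add _) t hg
  intro d
  induction d with
  | zero => intro m hm t _; rw [C.uprod_of_ge (by omega)]; exact one_mem _
  | succ d ih =>
    intro m hm t ht
    by_cases hp : D.IsPosRoot m
    · rw [C.uprod_step (by omega) hp] at ht ⊢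
      have h1 := hd ⟨m, hp.1⟩ (Nat.zero_le _) hp _ _ (C.uprod_mem _ t) ht
      refine mul_mem (Subgroup.subset_closure ⟨⟨m, hp.1⟩, _, hp, h1, rfl⟩) (ih _ (by omega) t ?_)
      simpa using mul_mem (inv_mem h1) ht
    · rw [C.uprod_skip (by omega) hp] at ht ⊢
      exact ih _ (by omega) t ht

include C in
/-- the weakly closed subgroups are the unipotent radicals -/
theorem exists_radical [Fintype K] {n₀ N : ℕ} (hsep : sepB D n₀ N = true) (hgen : genB D = true)
    (hchk : chkSupp D = true) (hn : n₀ ≤ Fintype.card K - 1)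
    (hwc : ∀ g ∈ D.group K, X.map (MulAut.conj g).toMonoidHom ≤ D.posUnipotent K →
      X.map (MulAut.conj g).toMonoidHom = X) :
    ∃ J : Set ℕ, (∀ j ∈ J, j < D.rank) ∧ X = D.unipotentRadical K J := by
  classical
  have hd := dec_all C hX hsep hn
  let J : Set ℕ := {j | ∃ h : j < D.rank, ∀ t, C.G.xu (C.G.simp' ⟨j, h⟩) t ∈ X → t = 0}
  have hJmem : ∀ i : Fin D.rank, i ∈ nodesIn D J ↔ ∀ t, C.G.xu (C.G.simp' i) t ∈ X → t = 0 := fun i => by
    rw [mem_nodesIn]; exact ⟨fun ⟨_, h⟩ => h, fun h => ⟨i.isLt, h⟩⟩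
  have hgens := eq_closure C hX hd
  -- the reflections of `J` normalise `X`
  have hnU : ∀ i ∈ nodesIn D J, ∀ x ∈ X, C.G.nU i * x * (C.G.nU i)⁻¹ ∈ X := by
    intro i hi x hx
    have e : X.map (MulAut.conj (C.G.nU i : GL D.Idx K)).toMonoidHom = X := by
      refine hwc _ (C.G.nU_mem_group i) ?_
      rw [hgens, MonoidHom.map_closure, Subgroup.closure_le]
      rintro _ ⟨_, ⟨r, t, hr, hrX, rfl⟩, rfl⟩
      show C.G.nU i * C.G.xu r t * (C.G.nU i)⁻¹ ∈ D.posUnipotent K
      rw [C.G.nU_xu, mul_inv_cancel_right]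
      by_cases hri : r = C.G.simp' i
      · subst hri
        rw [(hJmem i).1 hi t hrX, mul_zero, C.G.xu_zero]
        exact one_mem _
      · exact C.G.xu_mem_U (C.G.w_pos hr hri) _
    rw [← e]
    exact ⟨x, hx, rfl⟩
  -- no root of the subsystem occurs
  have hzero : ∀ k : ℕ, ∀ r : Fin D.nroots, r.val = k → D.IsPosRoot r.val → InJ C.G (nodesIn D J) r →
      ∀ t, C.G.xu r t ∈ X → t = 0 := by
    intro k
    induction k using Nat.strong_induction_on with
    | _ k ih =>
      intro r hk hr hrJ t ht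
      rcases C.supp_step hchk hr with ⟨i, rfl⟩ | ⟨i, c, hc, hlt, hp, e, -⟩
      · refine (hJmem i).1 ?_ t ht
        by_contra h
        have := hrJ i h
        rw [C.G.rho_simp, Pi.single_eq_same] at this
        exact one_ne_zero this
      · have hz : ∀ m, m ∉ nodesIn D J → C.G.rho (C.G.w i r) m = 0 ∧ m ≠ i := by
          intro m hm
          have h1 := hrJ m hm
          rw [e, Pi.add_apply, Pi.smul_apply, smul_eq_mul] at h1
          have h3 := C.G.rho_nonneg hp m
          by_cases hmi : m = i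
          · subst hmi; rw [Pi.single_eq_same] at h1; omega
          · rw [Pi.single_eq_of_ne hmi, mul_zero, add_zero] at h1
            exact ⟨h1, hmi⟩
        have hi : i ∈ nodesIn D J := by_contra fun h => (hz i h).2 rfl
        have h1 := hnU i hi _ ht
        rw [C.G.nU_xu, mul_inv_cancel_right] at h1
        have := ih _ (hk ▸ hlt) _ rfl hp (fun m hm => (hz m hm).1) _ h1
        rcases C.G.eta_unit i r with e' | e' <;> simpa [e'] using this
  have hfull : ∀ k : ℕ, ∀ r : Fin D.nroots, r.val = k → D.IsPosRoot r.val →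
      ¬ InJ C.G (nodesIn D J) r → IsFull C X r := by
    intro k
    induction k using Nat.strong_induction_on with
    | _ k ih =>
      intro r hk hr hrJ
      have hmem : r.val ∈ D.posRoots := by simp [ChevalleyDatum.posRoots, List.mem_filter, r.isLt, hr]
      have hg := List.all_eq_true.1 hgen r.val hmem
      simp only [Bool.or_eq_true, List.any_eq_true, List.mem_range, beq_iff_eq, Bool.and_eq_true,
        Nat.blt_eq, decide_eq_true_eq, Bool.not_eq_true', beq_eq_false_iff_ne] at hg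
      rcases hg with ⟨i, hi, he⟩ | ⟨a, ha, har, k', hk', ⟨hkr, hka⟩, hcase⟩
      · obtain rfl : r = C.G.simp' ⟨i, hi⟩ := Fin.ext (by rw [C.G.simp_val]; exact he.symm)
        have hnot : (⟨i, hi⟩ : Fin D.rank) ∉ nodesIn D J := fun h => hrJ fun m hm => by
          rw [C.G.rho_simp, Pi.single_eq_of_ne (fun e : m = ⟨i, hi⟩ => hm (e ▸ h))]
        rw [hJmem, not_forall] at hnot
        obtain ⟨t, ht⟩ := hnot
        rw [Classical.not_imp] at ht
        exact full_of_ne C hX ht.2 ht.1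
      · simp only [ChevalleyDatum.posRoots, List.mem_filter, List.mem_range, decide_eq_true_eq] at ha
        obtain ⟨a', rfl⟩ : ∃ a' : Fin D.nroots, a'.val = a := ⟨⟨a, ha.1⟩, rfl⟩
        set b := C.G.simp' ⟨k', hk'⟩
        have hb : b.val = D.simple k' := C.G.simp_val ⟨k', hk'⟩
        have hbp := C.G.simp_pos ⟨k', hk'⟩
        rw [← hb] at hkr hka hcase
        have hor : ∀ {i j : ℕ} (x y : Fin D.nroots),
            C.G.rho r = (i : ℤ) • C.G.rho x + (j : ℤ) • C.G.rho y →
            ¬ InJ C.G (nodesIn D J) x ∨ ¬ InJ C.G (nodesIn D J) y := by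
          intro i j x y e
          by_contra hh
          simp only [not_or, not_not] at hh
          exact hrJ fun m hm => by
            rw [e, Pi.add_apply, Pi.smul_apply, Pi.smul_apply, hh.1 m hm, hh.2 m hm, smul_zero, smul_zero,
              add_zero]
        rcases hcase with ⟨⟨c, hc, hcr, hc1⟩, hinc⟩ | ⟨⟨c, hc, hcr, hc1⟩, hinc⟩
        all_goals
          obtain ⟨h1, h2, h3, h4⟩ := C.commTerms_weight hc
          rw [show (⟨c.1, h3⟩ : Fin D.nroots) = r from Fin.ext hcr] at h4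
          have hne : (c.2.1 : K) ≠ 0 := by
            rcases Int.natAbs_eq_iff.1 hc1 with e | e <;> simp [e]
        · exact comm_full C hX hd (fun e => hka (congrArg Fin.val e)) ha.2 hbp (Or.inl (Nat.zero_le _)) hinc
            ((hor _ _ h4).imp (fun h => ih _ (hk ▸ har) _ rfl ha.2 h) fun h => ih _ (hk ▸ hkr) _ rfl hbp h)
            hc hne hcr.symm
        · exact comm_full C hX hd (fun e => hka (congrArg Fin.val e).symm) hbp ha.2 (Or.inl (Nat.zero_le _)) hinc
            ((hor _ _ h4).imp (fun h => ih _ (hk ▸ hkr) _ rfl hbp h) fun h => ih _ (hk ▸ har) _ rfl ha.2 h)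
            hc hne hcr.symm
  refine ⟨J, fun j hj => hj.1, ?_⟩
  rw [C.radical_eq hchk]
  refine le_antisymm ?_ ?_
  · rw [hgens, Subgroup.closure_le]
    rintro g ⟨r, t, hr, ht, rfl⟩
    by_cases hrJ : InJ C.G (nodesIn D J) r
    · rw [hzero _ r rfl hr hrJ t ht, C.G.xu_zero]; exact one_mem _
    · exact Subgroup.subset_closure ⟨r, t, ⟨hr, hrJ⟩, rfl⟩
  · rw [UR, Subgroup.closure_le]
    rintro g ⟨r, t, ⟨hr, hrJ⟩, rfl⟩
    exact hfull _ r rfl hr hrJ t

end WCl

end CfsgLib.Lie.Chev
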