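import Cfsg.Agent.Lib.Lie.Chev.SL2Root
import Cfsg.Agent.Lib.Lie.Chev.SylowU
import Cfsg.Agent.Lib.Lie.Chev.WCl
import Cfsg.Agent.Lib.Lie.BN

/-!
# Opposite unipotent subgroups inside a Chevalley group, as subgroups of the group
-/

set_option autoImplicit false

namespace CfsgLib.Lie.Chev

open Cfsg.Lie
open scoped MatrixGroups

variable {D : ChevalleyDatum} {K : Type*} [Field K]

namespace Full

variable (C : Full D)

/-- a root element as an element of the group -/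
noncomputable def aX (r : Fin D.nroots) (t : K) : ↥(D.group K) := ⟨C.G.xu r t, C.G.xu_mem r t⟩

/-- a root subgroup as a subgroup of the group -/
noncomputable def aXs (r : Fin D.nroots) : Subgroup ↥(D.group K) where
  carrier := Set.range (C.aX (K := K) r)
  mul_mem' := by
    rintro _ _ ⟨t, rfl⟩ ⟨u, rfl⟩
    exact ⟨t + u, Subtype.ext (C.G.xu_add r t u)⟩
  one_mem' := ⟨0, Subtype.ext (C.G.xu_zero r)⟩
  inv_mem' := by
    rintro _ ⟨t, rfl⟩
    exact ⟨-t, Subtype.ext (C.G.xu_inv r t).symm⟩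

variable (K) in
noncomputable def aU (_ : Full D) : Subgroup ↥(D.group K) := (D.posUnipotent K).subgroupOf (D.group K)

variable (K) in
noncomputable def aV (_ : Full D) : Subgroup ↥(D.group K) := (D.negUnipotent K).subgroupOf (D.group K)

variable (K) in
noncomputable def aB (_ : Full D) : Subgroup ↥(D.group K) := (D.borelSubgroup K).subgroupOf (D.group K)

variable (K) in
noncomputable def aH (_ : Full D) : Subgroup ↥(D.group K) := (D.diagonalSubgroup K).subgroupOf (D.group K)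

/-- the minimal parabolic subgroups -/
noncomputable def aP (i : Fin D.rank) : Subgroup ↥(D.group K) :=
  (C.bnPair (K := K)).parabolic {C.sG i}

theorem aX_add (r : Fin D.nroots) (t u : K) : C.aX r (t + u) = C.aX r t * C.aX r u :=
  Subtype.ext (C.G.xu_add r t u)

theorem aX_inj {r : Fin D.nroots} {t u : K} (h : C.aX r t = C.aX r u) : t = u :=
  C.G.xu_injective' r (congrArg Subtype.val h)

theorem aX_zero (r : Fin D.nroots) : C.aX r (0 : K) = 1 := Subtype.ext (C.G.xu_zero r)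

theorem mem_aXs {r : Fin D.nroots} {g : ↥(D.group K)} :
    g ∈ C.aXs r ↔ ∃ t, C.aX r t = g := Iff.rfl

theorem bnPair_B : (C.bnPair (K := K)).B = C.aB K := rfl

theorem aU_le_aB : C.aU K ≤ C.aB K := fun _ h => Subgroup.mem_sup_left h

theorem aH_le_aB : C.aH K ≤ C.aB K := fun _ h => Subgroup.mem_sup_right h

theorem aX_mem_aU {r : Fin D.nroots} (hr : D.IsPosRoot r.val) (t : K) : C.aX r t ∈ C.aU K :=
  C.G.xu_mem_U hr t

theorem aX_mem_aV {r : Fin D.nroots} (hr : ¬ D.IsPosRoot r.val) (t : K) : C.aX r t ∈ C.aV K :=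
  C.G.xu_mem_V ((C.G.isNegRoot_iff_not_pos r).2 hr) t

theorem aB_inf_aV : C.aB K ⊓ C.aV K = ⊥ := by
  refine eq_bot_iff.2 fun g hg => Subgroup.mem_bot.2 (Subtype.ext ?_)
  exact Subgroup.mem_bot.1 (C.G.B_inf_V (K := K) ▸ Subgroup.mem_inf.2 hg)

theorem mem_aB_iff {g : ↥(D.group K)} :
    g ∈ C.aB K ↔ ∃ u ∈ C.aU K, ∃ h ∈ C.aH K, g = u * h := by
  constructor
  · intro hg
    obtain ⟨u, hu, h, hh, e⟩ := C.G.mem_borel_iff.1 hg
    exact ⟨⟨u, C.G.posUnipotent_le_group hu⟩, hu, ⟨h, C.G.diagonal_le_group hh⟩, hh, Subtype.ext e⟩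
  · rintro ⟨u, hu, h, hh, rfl⟩
    exact mul_mem (C.aU_le_aB hu) (C.aH_le_aB hh)

theorem aH_normalizes_aU : C.aH K ≤ Subgroup.normalizer (C.aU K : Set ↥(D.group K)) := by
  intro h hh
  rw [Subgroup.mem_normalizer_iff]
  intro x
  exact Subgroup.mem_normalizer_iff.1 (C.G.H_normalizes_U (K := K) hh) (x : GL D.Idx K)

theorem aH_normalizes_aV : C.aH K ≤ Subgroup.normalizer (C.aV K : Set ↥(D.group K)) := by
  intro h hh
  rw [Subgroup.mem_normalizer_iff]
  intro x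
  exact Subgroup.mem_normalizer_iff.1 (C.G.H_normalizes_V (K := K) hh) (x : GL D.Idx K)

theorem conj_aX {n : ↥(D.group K)} {π : Equiv.Perm (Fin D.nroots)}
    (hn : C.G.NPerm (n : GL D.Idx K) π) (r : Fin D.nroots) :
    ∃ c : Kˣ, ∀ t : K, n * C.aX r t * n⁻¹ = C.aX (π r) ((c : K) * t) := by
  obtain ⟨c, hc⟩ := hn r
  exact ⟨c, fun t => Subtype.ext (hc t)⟩

theorem map_aXs {n : ↥(D.group K)} {π : Equiv.Perm (Fin D.nroots)}
    (hn : C.G.NPerm (n : GL D.Idx K) π) (r : Fin D.nroots) :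
    (C.aXs r).map (MulAut.conj n).toMonoidHom = C.aXs (π r) := by
  obtain ⟨c, hc⟩ := C.conj_aX hn r
  ext g
  constructor
  · rintro ⟨_, ⟨t, rfl⟩, rfl⟩
    exact ⟨_, (hc t).symm⟩
  · rintro ⟨t, rfl⟩
    refine ⟨_, ⟨((c⁻¹ : Kˣ) : K) * t, rfl⟩, ?_⟩
    simp only [MulEquiv.coe_toMonoidHom, MulAut.conj_apply, hc, Units.mul_inv_cancel_left]

theorem aU_eq : C.aU K = Subgroup.closure {g | ∃ r t, D.IsPosRoot (r : Fin D.nroots).val ∧ g = C.aX r t} := by
  refine le_antisymm ?_ ((Subgroup.closure_le _).2 ?_)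
  · intro g hg
    have h : (g : GL D.Idx K) ∈ (Subgroup.closure {g : ↥(D.group K) |
        ∃ r t, D.IsPosRoot (r : Fin D.nroots).val ∧ g = C.aX r t}).map (D.group K).subtype := by
      have hg' : (g : GL D.Idx K) ∈ D.posUnipotent K := hg
      rw [C.G.posUnipotent_eq_closure] at hg'
      refine (Subgroup.closure_le _).2 ?_ hg'
      rintro _ ⟨r, t, hr, rfl⟩
      exact ⟨C.aX r t, Subgroup.subset_closure ⟨r, t, hr, rfl⟩, rfl⟩
    obtain ⟨y, hy, e⟩ := h
    rwa [Subtype.ext (e : (y : GL D.Idx K) = g)] at hy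
  · rintro _ ⟨r, t, hr, rfl⟩; exact C.aX_mem_aU hr t

theorem aV_eq :
    C.aV K = Subgroup.closure {g | ∃ r t, ¬ D.IsPosRoot (r : Fin D.nroots).val ∧ g = C.aX r t} := by
  refine le_antisymm ?_ ((Subgroup.closure_le _).2 ?_)
  · intro g hg
    have h : (g : GL D.Idx K) ∈ (Subgroup.closure {g : ↥(D.group K) |
        ∃ r t, ¬ D.IsPosRoot (r : Fin D.nroots).val ∧ g = C.aX r t}).map (D.group K).subtype := by
      have hg' : (g : GL D.Idx K) ∈ D.negUnipotent K := hg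
      rw [C.G.negUnipotent_eq_closure] at hg'
      refine (Subgroup.closure_le _).2 ?_ hg'
      rintro _ ⟨r, t, hr, rfl⟩
      exact ⟨C.aX r t, Subgroup.subset_closure ⟨r, t, (C.G.isNegRoot_iff_not_pos r).1 hr, rfl⟩, rfl⟩
    obtain ⟨y, hy, e⟩ := h
    rwa [Subtype.ext (e : (y : GL D.Idx K) = g)] at hy
  · rintro _ ⟨r, t, hr, rfl⟩; exact C.aX_mem_aV hr t

theorem aU_generate : C.aU K ⊔ C.aV K = ⊤ := by
  rw [eq_top_iff]
  intro g _
  have h : D.group K ≤ (C.aU K ⊔ C.aV K).map (D.group K).subtype := by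
    refine le_of_eq_of_le C.G.group_eq ((Subgroup.closure_le _).2 ?_)
    rintro _ ⟨r, t, rfl⟩
    by_cases hr : D.IsPosRoot r.val
    · exact ⟨C.aX r t, Subgroup.mem_sup_left (C.aX_mem_aU hr t), rfl⟩
    · exact ⟨C.aX r t, Subgroup.mem_sup_right (C.aX_mem_aV hr t), rfl⟩
  obtain ⟨y, hy, e⟩ := h g.2
  rwa [Subtype.ext (e : (y : GL D.Idx K) = g)] at hy

/-! ### the normaliser of `U` -/

theorem pos_of_conj_le {n : ↥(D.group K)} {π : Equiv.Perm (Fin D.nroots)}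
    (hn : C.G.NPerm (n : GL D.Idx K) π) (h : ∀ x ∈ C.aU K, n * x * n⁻¹ ∈ C.aB K)
    {r : Fin D.nroots} (hr : D.IsPosRoot r.val) : D.IsPosRoot (π r).val := by
  by_contra hne
  obtain ⟨c, hc⟩ := C.conj_aX hn r
  have h1 := h _ (C.aX_mem_aU hr (1 : K))
  rw [hc] at h1
  have h2 : C.aX (π r) ((c : K) * 1) = 1 :=
    Subgroup.mem_bot.1 (C.aB_inf_aV (K := K) ▸ ⟨h1, C.aX_mem_aV hne _⟩)
  rw [← C.aX_zero (π r)] at h2
  simpa using C.aX_inj h2

theorem eq_one_of_pos {π : Equiv.Perm (Fin D.nroots)} (hπ : π ∈ C.G.Wg)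
    (h : ∀ r : Fin D.nroots, D.IsPosRoot r.val → D.IsPosRoot (π r).val) : π = 1 := by
  classical
  refine C.ninv_eq_zero hπ (Finset.card_eq_zero.2 (Finset.filter_eq_empty_iff.2 fun r _ hr => ?_))
  exact hr.2 (h r hr.1)

theorem exists_perm {n : ↥(D.group K)} (hn : n ∈ (C.bnPair (K := K)).N) :
    ∃ π ∈ C.G.Wg, C.G.NPerm (n : GL D.Idx K) π := by
  obtain ⟨l, hl⟩ := C.G.exists_nPerm (show (n : GL D.Idx K) ∈ D.monomialSubgroup K from hn)
  exact ⟨_, C.G.pw_mem l, hl⟩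

theorem mem_aH_of_perm_one {n : ↥(D.group K)} (hn : n ∈ (C.bnPair (K := K)).N)
    (h : C.G.NPerm (n : GL D.Idx K) 1) : n ∈ C.aH K :=
  C.G.mem_H_of_nPerm_one hn h

theorem normalizer_aU : Subgroup.normalizer (C.aU K : Set ↥(D.group K)) = C.aB K := by
  refine le_antisymm (fun g hg => ?_) ?_
  · obtain ⟨n, hn, hgn⟩ := BN.exists_cell (C.bnPair (K := K)) g
    obtain ⟨b, hb, c, hc, rfl⟩ := (BN.mem_cell _).1 hgn
    obtain ⟨π, hπW, hπ⟩ := C.exists_perm hn
    have hbB : C.aU K ≤ C.aB K := C.aU_le_aB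
    have hBN : C.aB K ≤ Subgroup.normalizer (C.aU K : Set ↥(D.group K)) := by
      intro x hx
      obtain ⟨u, hu, h, hh, rfl⟩ := C.mem_aB_iff.1 hx
      exact mul_mem (Subgroup.le_normalizer hu) (C.aH_normalizes_aU hh)
    have hnN : n ∈ Subgroup.normalizer (C.aU K : Set ↥(D.group K)) := by
      have := mul_mem (mul_mem (inv_mem (hBN hb)) hg) (inv_mem (hBN hc))
      simpa [mul_assoc] using this
    have h1 : π = 1 := C.eq_one_of_pos hπW fun r hr => C.pos_of_conj_le hπ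
      (fun x hx => hbB ((Subgroup.mem_normalizer_iff.1 hnN x).1 hx)) hr
    subst h1
    exact mul_mem (mul_mem hb (C.aH_le_aB (C.mem_aH_of_perm_one hn hπ))) hc
  · intro x hx
    obtain ⟨u, hu, h, hh, rfl⟩ := C.mem_aB_iff.1 hx
    exact mul_mem (Subgroup.le_normalizer hu) (C.aH_normalizes_aU hh)

/-! ### the longest element -/

variable (K) in
/-- a word for the longest element -/
noncomputable def w0List (C : Full D) : List (Fin D.rank) := C.G.exists_longest.choose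

/-- the longest element -/
noncomputable def w0 : Equiv.Perm (Fin D.nroots) := C.G.pw C.G.exists_longest.choose

variable (K) in
/-- a representative of the longest element -/
noncomputable def m0 : ↥(D.group K) :=
  ⟨C.G.nw C.G.exists_longest.choose, C.G.monomial_le_group (C.G.nw_mem_monomial _)⟩

theorem m0_mem : C.m0 K ∈ (C.bnPair (K := K)).N := C.G.nw_mem_monomial _

theorem m0_perm : C.G.NPerm ((C.m0 K : ↥(D.group K)) : GL D.Idx K) C.w0 := C.G.nPerm_nw _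

theorem w0_mem : C.w0 ∈ C.G.Wg := C.G.pw_mem _

theorem w0_pos {r : Fin D.nroots} (hr : D.IsPosRoot r.val) : ¬ D.IsPosRoot (C.w0 r).val :=
  C.G.exists_longest.choose_spec r hr

theorem w0_neg {r : Fin D.nroots} (hr : ¬ D.IsPosRoot r.val) : D.IsPosRoot (C.w0 r).val := by
  have h := C.w0_pos ((C.G.negr_pos_iff r).2 hr)
  rw [show C.w0 (C.G.negr r) = C.G.negr (C.w0 r) from C.G.pw_negr _ r] at h
  rw [C.G.negr_pos_iff, not_not] at h
  exact h

theorem w0_pos_iff (r : Fin D.nroots) : D.IsPosRoot (C.w0 r).val ↔ ¬ D.IsPosRoot r.val :=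
  ⟨fun h hr => C.w0_pos hr h, C.w0_neg⟩

theorem w0_inv_pos_iff (r : Fin D.nroots) : D.IsPosRoot (C.w0⁻¹ r).val ↔ ¬ D.IsPosRoot r.val := by
  have h := C.w0_pos_iff (C.w0⁻¹ r)
  rw [show C.w0 (C.w0⁻¹ r) = r from C.w0.apply_symm_apply r] at h
  tauto

theorem map_closure_conj {n : ↥(D.group K)} {π : Equiv.Perm (Fin D.nroots)}
    (hn : C.G.NPerm (n : GL D.Idx K) π) (P Q : Fin D.nroots → Prop) (hPQ : ∀ r, Q (π r) ↔ P r) :
    (Subgroup.closure {g | ∃ r t, P r ∧ g = C.aX (K := K) r t}).map (MulAut.conj n).toMonoidHom =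
      Subgroup.closure {g | ∃ r t, Q r ∧ g = C.aX (K := K) r t} := by
  rw [MonoidHom.map_closure]
  congr 1
  ext g
  constructor
  · rintro ⟨_, ⟨r, t, hr, rfl⟩, rfl⟩
    obtain ⟨c, hc⟩ := C.conj_aX hn r
    exact ⟨π r, _, (hPQ r).2 hr, hc t⟩
  · rintro ⟨r, t, hr, rfl⟩
    obtain ⟨c, hc⟩ := C.conj_aX hn (π⁻¹ r)
    have e : π (π⁻¹ r) = r := π.apply_symm_apply r
    refine ⟨_, ⟨π⁻¹ r, ((c⁻¹ : Kˣ) : K) * t, (hPQ _).1 (by rwa [e]), rfl⟩, ?_⟩
    simp only [MulEquiv.coe_toMonoidHom, MulAut.conj_apply, hc, e, Units.mul_inv_cancel_left]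

theorem map_aU : (C.aU K).map (MulAut.conj (C.m0 K)).toMonoidHom = C.aV K := by
  rw [C.aU_eq, C.aV_eq]
  exact C.map_closure_conj C.m0_perm _ (fun r => ¬ D.IsPosRoot r.val) fun r => by
    rw [C.w0_pos_iff, not_not]

theorem map_aV : (C.aV K).map (MulAut.conj (C.m0 K)).toMonoidHom = C.aU K := by
  rw [C.aU_eq, C.aV_eq]
  exact C.map_closure_conj C.m0_perm _ (fun r => D.IsPosRoot r.val) fun r => C.w0_pos_iff r

/-- a conjugate of `U` meeting `U` trivially is a conjugate of `V` by an element of `U` -/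
theorem exists_conj_V {g : ↥(D.group K)}
    (h : (C.aU K).map (MulAut.conj g).toMonoidHom ⊓ C.aU K = ⊥) :
    ∃ u ∈ C.aU K, (C.aU K).map (MulAut.conj g).toMonoidHom =
      (C.aV K).map (MulAut.conj u).toMonoidHom := by
  obtain ⟨n, hn, hgn⟩ := BN.exists_cell (C.bnPair (K := K)) g
  obtain ⟨b, hb, c, hc, rfl⟩ := (BN.mem_cell _).1 hgn
  obtain ⟨π, hπW, hπ⟩ := C.exists_perm hn
  have hcU : (C.aU K).map (MulAut.conj c).toMonoidHom = C.aU K := by
    have hcN : c ∈ Subgroup.normalizer (C.aU K : Set ↥(D.group K)) := by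
      rw [C.normalizer_aU]; exact hc
    ext x
    rw [Subgroup.mem_map_equiv]
    simp only [MulAut.conj_symm_apply]
    exact (Subgroup.mem_normalizer_iff''.1 hcN x).symm
  have e1 : ∀ (a b : ↥(D.group K)) (X : Subgroup ↥(D.group K)),
      X.map (MulAut.conj (a * b)).toMonoidHom =
        (X.map (MulAut.conj b).toMonoidHom).map (MulAut.conj a).toMonoidHom := by
    intro a b X
    rw [Subgroup.map_map]
    congr 1
    ext x
    simp [mul_assoc]
  have hflip : ∀ r : Fin D.nroots, D.IsPosRoot r.val → ¬ D.IsPosRoot (π r).val := by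
    intro r hr hpos
    obtain ⟨d, hd'⟩ := C.conj_aX hπ r
    have hbN : b ∈ Subgroup.normalizer (C.aU K : Set ↥(D.group K)) := by
      rw [C.normalizer_aU]; exact hb
    have h1 : b * C.aX (π r) ((d : K) * 1) * b⁻¹ ∈
        (C.aU K).map (MulAut.conj (b * n * c)).toMonoidHom ⊓ C.aU K := by
      refine ⟨?_, (Subgroup.mem_normalizer_iff.1 hbN _).1 (C.aX_mem_aU hpos _)⟩
      rw [e1, hcU]
      refine ⟨C.aX r (1 : K), C.aX_mem_aU hr _, ?_⟩
      simp only [MulEquiv.coe_toMonoidHom, MulAut.conj_apply, ← hd', mul_assoc, mul_inv_rev]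
    rw [h, Subgroup.mem_bot, conj_eq_one_iff, ← C.aX_zero (π r)] at h1
    simpa using C.aX_inj h1
  have hπ0 : π = C.w0 := by
    have := C.eq_one_of_pos (π := C.w0⁻¹ * π) (mul_mem (inv_mem C.w0_mem) hπW) fun r hr => by
      rw [Equiv.Perm.mul_apply, C.w0_inv_pos_iff]
      exact hflip r hr
    exact (inv_mul_eq_one.1 this).symm
  subst hπ0
  have hh : (C.m0 K)⁻¹ * n ∈ C.aH K := by
    refine C.mem_aH_of_perm_one (mul_mem (inv_mem C.m0_mem) hn) ?_
    have := Good.NPerm.mul C.G (Good.NPerm.inv C.G (C.m0_perm (K := K))) hπ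
    rwa [inv_mul_cancel] at this
  have hUh : (C.aU K).map (MulAut.conj ((C.m0 K)⁻¹ * n)).toMonoidHom = C.aU K := by
    have hN := C.aH_normalizes_aU hh
    ext x
    rw [Subgroup.mem_map_equiv]
    simp only [MulAut.conj_symm_apply]
    exact (Subgroup.mem_normalizer_iff''.1 hN x).symm
  obtain ⟨u, hu, d, hdH, rfl⟩ := C.mem_aB_iff.1 hb
  refine ⟨u, hu, ?_⟩
  rw [e1, hcU, show n = C.m0 K * ((C.m0 K)⁻¹ * n) by group, ← mul_assoc, e1, hUh, e1, C.map_aU, e1]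
  congr 1
  ext x
  rw [Subgroup.mem_map_equiv]
  simp only [MulAut.conj_symm_apply]
  exact (Subgroup.mem_normalizer_iff''.1 (C.aH_normalizes_aV hdH) x).symm

theorem aB_inf_normalizer_aV :
    C.aB K ⊓ Subgroup.normalizer (C.aV K : Set ↥(D.group K)) = C.aH K := by
  refine le_antisymm ?_ (le_inf C.aH_le_aB C.aH_normalizes_aV)
  rintro x ⟨hx, hxN⟩
  obtain ⟨u, hu, d, hdH, rfl⟩ := C.mem_aB_iff.1 hx
  have huN : u ∈ Subgroup.normalizer (C.aV K : Set ↥(D.group K)) := by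
    simpa using Subgroup.mul_mem _ hxN (Subgroup.inv_mem _ (C.aH_normalizes_aV hdH))
  have hb : (C.m0 K)⁻¹ * u * C.m0 K ∈ C.aB K := by
    rw [← C.normalizer_aU, Subgroup.mem_normalizer_iff]
    intro y
    have hy : ∀ z, C.m0 K * z * (C.m0 K)⁻¹ ∈ C.aV K ↔ z ∈ C.aU K := fun z => by
      rw [← C.map_aU, Subgroup.mem_map_equiv, MulAut.conj_symm_apply]
      simp [mul_assoc]
    rw [← hy y, ← hy ((C.m0 K)⁻¹ * u * C.m0 K * y * ((C.m0 K)⁻¹ * u * C.m0 K)⁻¹),
      Subgroup.mem_normalizer_iff.1 huN]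
    simp [mul_assoc]
  obtain ⟨v, hv, e, he, heq⟩ := C.mem_aB_iff.1 hb
  have h1 : u = (C.m0 K * v * (C.m0 K)⁻¹) * (C.m0 K * e * (C.m0 K)⁻¹) := by
    calc u = C.m0 K * ((C.m0 K)⁻¹ * u * C.m0 K) * (C.m0 K)⁻¹ := by group
      _ = _ := by rw [heq]; group
  have h2 : C.m0 K * e * (C.m0 K)⁻¹ ∈ C.aH K :=
    (Subgroup.mem_normalizer_iff.1 (C.G.monomial_le_normalizer
      (show ((C.m0 K : ↥(D.group K)) : GL D.Idx K) ∈ D.monomialSubgroup K from C.m0_mem)) _).1 he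
  have h3 : C.m0 K * v * (C.m0 K)⁻¹ ∈ C.aV K := by
    rw [← C.map_aU]
    exact ⟨v, hv, rfl⟩
  have h4 : (u : GL D.Idx K) ∈ D.borelSubgroup K ⊓ (D.negUnipotent K ⊔ D.diagonalSubgroup K) := by
    refine ⟨C.aU_le_aB hu, ?_⟩
    rw [h1, Subgroup.coe_mul]
    exact mul_mem (Subgroup.mem_sup_left h3) (Subgroup.mem_sup_right h2)
  rw [C.G.B_inf_VH] at h4
  exact mul_mem h4 hdH

end Full

end CfsgLib.Lie.Chev
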