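import Cfsg.Agent.Lib.Lie.Chev.PoinCert
import Cfsg.Agent.Lib.Lie.Chev.TorCard

/-!
# The Weyl group as the group of a Coxeter matrix, certificates by evaluation on the roots
-/

set_option autoImplicit false

namespace CfsgLib.Lie.Chev

open Cfsg.Lie

/-- a word in the simple reflections evaluated at a root index -/
noncomputable def wordF (f : Fast) (l : List ℕ) (r : ℕ) : ℕ :=
  List.rec r (fun i _ ih => wF f i ih) l

/-- repeated evaluation -/
noncomputable def iterF (f : Fast) (l : List ℕ) (k r : ℕ) : ℕ :=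
  Nat.rec r (fun _ ih => wordF f l ih) k

/-- the word has order `m` on the roots -/
noncomputable def chkOrd (D : ChevalleyDatum) (f : Fast) (l : List ℕ) (m : ℕ) : Bool :=
  !(Nat.beq m 0) && (allLt D.nroots fun r => Nat.beq (iterF f l m r) r) &&
  allLt m fun k => cond (Nat.beq k 0) true
    (!(allLt D.nroots fun r => Nat.beq (iterF f l k r) r))

/-- the roots whose image under a simple reflection is the negative -/
noncomputable def chkFlip (D : ChevalleyDatum) (f : Fast) : Bool :=
  allLt D.rank fun i => allLt D.nroots fun r =>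
    cond (Nat.beq (wF f i r) (f.negs.get r))
      (Nat.beq r (f.simples.get i) || Nat.beq r (f.negs.get (f.simples.get i))) true

/-- one entry of a straight line programme: `2 a` is `c Pₐ c⁻¹`, `(a, b)` is `Pₐ P_b Pₐ` -/
noncomputable def chkGenStep (D : ChevalleyDatum) (f : Fast) (cox : List ℕ) (P : Tree ℕ)
    (op : Tree (Bool × ℕ × ℕ)) (k : ℕ) : Bool :=
  Nat.blt (op.get k).2.1 k && Nat.blt (op.get k).2.2 k &&
  allLt D.nroots fun r => cond (op.get k).1
    (Nat.beq (digit (P.get k) (wordF f cox r)) (wordF f cox (digit (P.get (op.get k).2.1) r)))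
    (Nat.beq (digit (P.get k) r)
      (digit (P.get (op.get k).2.1) (digit (P.get (op.get k).2.2) (digit (P.get (op.get k).2.1) r))))

namespace Good

variable {D : ChevalleyDatum} {f : Fast} (G : Good D)

include G

theorem pw_val (c : Checks D f) : ∀ (l : List (Fin D.rank)) (r : Fin D.nroots),
    (G.pw l r).val = wordF f (l.map Fin.val) r.val := by
  intro l
  induction l with
  | nil => intro r; rfl
  | cons i l ih =>
    intro r
    rw [G.pw_cons, Equiv.Perm.mul_apply, sP_apply, G.w_eq_wF c, ih]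
    rfl

theorem iter_val (c : Checks D f) (l : List (Fin D.rank)) : ∀ (k : ℕ) (r : Fin D.nroots),
    ((G.pw l ^ k) r).val = iterF f (l.map Fin.val) k r.val := by
  intro k
  induction k with
  | zero => intro r; rfl
  | succ k ih =>
    intro r
    rw [pow_succ', Equiv.Perm.mul_apply, G.pw_val c, ih]
    rfl

theorem orderOf_pw (c : Checks D f) (l : List (Fin D.rank)) {m : ℕ}
    (h : chkOrd D f (l.map Fin.val) m = true) : orderOf (G.pw l) = m := by
  simp only [chkOrd, Bool.and_eq_true, Bool.not_eq_true'] at h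
  obtain ⟨⟨hm, h1⟩, h2⟩ := h
  have hm0 : m ≠ 0 := fun e => by rw [natBeq_true e] at hm; exact Bool.false_ne_true hm.symm
  rw [orderOf_eq_iff (Nat.pos_of_ne_zero hm0)]
  refine ⟨Equiv.ext fun r => Fin.ext ?_, fun k hk hk0 e => ?_⟩
  · rw [G.iter_val c]
    exact Nat.eq_of_beq_eq_true (allLt_spec h1 r.val r.isLt)
  · have := allLt_spec h2 k hk
    rw [natBeq_false (Nat.pos_iff_ne_zero.1 hk0), cond_false, allLt_eq_true (fun r hr => natBeq_true ?_)] at this
    · exact Bool.false_ne_true this
    · rw [← G.iter_val c l k ⟨r, hr⟩, e]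
      rfl

/-- the Weyl group is the group of its Coxeter matrix -/
theorem exists_coxeter_equiv (c : Checks D f) {n : ℕ} (M : CoxeterMatrix (Fin n)) (hn : n = D.rank)
    (hM : ∀ i j : Fin n, chkOrd D f [i.val, j.val] (M i j) = true) :
    ∃ ψ : M.Group ≃* G.Wg, ∀ i : Fin n,
      (ψ (M.simple i) : Equiv.Perm (Fin D.nroots)) = G.sP (Fin.cast hn i) := by
  subst hn
  have e : (G.exSystem).matrix = M := by
    ext i j
    show orderOf ((G.exSystem).f i * (G.exSystem).f j) = M i j
    rw [← Subgroup.orderOf_coe, ← G.orderOf_pw c [i, j] (hM i j)]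
    congr 1
  subst e
  exact ⟨(G.exSystem).coxeterSystem.mulEquiv.symm, fun i =>
    congrArg Subtype.val ((G.exSystem).coxeterSystem_simple i)⟩

theorem coxeter_prod {n : ℕ} (M : CoxeterMatrix (Fin n)) (hn : n = D.rank) (ψ : M.Group ≃* G.Wg)
    (hψ : ∀ i : Fin n, (ψ (M.simple i) : Equiv.Perm (Fin D.nroots)) = G.sP (Fin.cast hn i)) :
    (ψ ((List.finRange n).map M.simple).prod : Equiv.Perm (Fin D.nroots)) =
      G.pw (List.finRange D.rank) := by
  subst hn
  rw [map_list_prod, Subgroup.val_list_prod, List.map_map, List.map_map, pw]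
  congr 1
  exact List.map_congr_left fun i _ => hψ i

/-- a Weyl group element commuting with all simple reflections is `1` or `-1` -/
theorem central_eq (c : Checks D f) (hflip : chkFlip D f = true)
    (hconn : ∀ J ∈ (Finset.univ : Finset (Fin D.rank)).powerset, J.Nonempty → J ≠ Finset.univ →
      ∃ i ∈ J, ∃ j, j ∉ J ∧ cmat D i j ≠ 0 ∧ cmat D j i ≠ 0)
    {l : List (Fin D.rank)} (hcomm : ∀ i, G.sP i * G.pw l = G.pw l * G.sP i) :
    G.pw l = 1 ∨ ∀ r, G.pw l r = G.negr r := by
  classical
  have hpm : ∀ i, G.pw l (G.simp' i) = G.simp' i ∨ G.pw l (G.simp' i) = G.negr (G.simp' i) := by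
    intro i
    set r := G.pw l (G.simp' i)
    have hr : G.w i r = G.negr r := by
      have := Equiv.congr_fun (hcomm i) (G.simp' i)
      rw [Equiv.Perm.mul_apply, Equiv.Perm.mul_apply, sP_apply, sP_apply, G.w_simp, G.pw_negr] at this
      exact this
    have hn : ∀ s : Fin D.nroots, f.negs.get s.val = (G.negr s).val := fun s => by
      rw [← G.neg_val]
      exact (rowsOK c.rows).negs s.val s.isLt
    have h := allLt_spec (allLt_spec hflip i.val i.isLt) r.val r.isLt
    rw [natBeq_true (by rw [← G.w_eq_wF c, hr, hn]), cond_true, Bool.or_eq_true, G.simples_eq' c, hn] at h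
    exact h.imp (fun h => Fin.ext (Nat.eq_of_beq_eq_true h)) (fun h => Fin.ext (Nat.eq_of_beq_eq_true h))
  let J := Finset.univ.filter fun i => G.pw l (G.simp' i) = G.simp' i
  by_cases hJ : J = Finset.univ
  · refine Or.inl (G.pw_eq_one_of_pos l.length l rfl fun j => ?_)
    rw [(Finset.mem_filter.1 (hJ ▸ Finset.mem_univ j : j ∈ J)).2]
    exact G.simp_pos j
  by_cases hJ0 : J.Nonempty
  · exfalso
    obtain ⟨i, hi, j, hj, hij, -⟩ := hconn J (Finset.mem_powerset.2 (Finset.subset_univ J)) hJ0 hJ
    have hi' := (Finset.mem_filter.1 hi).2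
    have hj' : G.pw l (G.simp' j) = G.negr (G.simp' j) :=
      (hpm j).resolve_left fun h => hj (Finset.mem_filter.2 ⟨Finset.mem_univ j, h⟩)
    have e := congrArg G.rho (Equiv.congr_fun (hcomm i) (G.simp' j))
    simp only [Equiv.Perm.mul_apply, sP_apply, hj', G.w_negr] at e
    rw [G.rho_pw, G.rho_negr, G.rho_w] at e
    have hne : i ≠ j := fun h => hj (h ▸ hi)
    have e2 := congrFun e i
    simp only [Pi.neg_apply, Pi.sub_apply, Pi.smul_apply, smul_eq_mul, G.rho_simp, Finset.sum_apply,
      Pi.single_eq_same, Pi.single_eq_of_ne hne] at e2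
    rw [Finset.sum_eq_add i j hne (fun b _ hb => by simp [hb.1, hb.2]) (by simp) (by simp)] at e2
    simp only [hi', hj', G.rho_negr, G.rho_simp, Pi.neg_apply, Pi.single_eq_same,
      Pi.single_eq_of_ne hne, Pi.single_eq_of_ne hne.symm, mul_one, mul_zero, sub_zero, zero_sub,
      add_zero, neg_zero, neg_neg] at e2
    rw [G.cmat_eq] at hij
    omega
  · refine Or.inr fun r => G.rho_injective ?_
    rw [G.rho_pw, G.rho_negr]
    funext m
    simp only [Finset.sum_apply, Pi.smul_apply, smul_eq_mul, Pi.neg_apply]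
    rw [Finset.sum_eq_single m]
    · rw [(hpm m).resolve_left fun h => hJ0 ⟨m, Finset.mem_filter.2 ⟨Finset.mem_univ m, h⟩⟩,
        G.rho_negr, G.rho_simp, Pi.neg_apply, Pi.single_eq_same, mul_neg, mul_one]
    · intro b _ hb
      rw [(hpm b).resolve_left fun h => hJ0 ⟨b, Finset.mem_filter.2 ⟨Finset.mem_univ b, h⟩⟩,
        G.rho_negr, G.rho_simp, Pi.neg_apply, Pi.single_eq_of_ne (Ne.symm hb), neg_zero, mul_zero]
    · simp

/-- the Coxeter element and some reflections generate, by a straight line programme -/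
theorem sP_mem_of_slp (c : Checks D f) (H : Subgroup (Equiv.Perm (Fin D.nroots)))
    {cox : List (Fin D.rank)} (hcox : G.pw cox ∈ H) (N m : ℕ) (P : Tree ℕ) (op : Tree (Bool × ℕ × ℕ))
    (hbase : ∀ k < m, ∃ π ∈ H, ∀ r : Fin D.nroots, (π r).val = digit (P.get k) r.val)
    (hstep : (allLt N fun k => cond (Nat.blt k m) true (chkGenStep D f (cox.map Fin.val) P op k)) = true) :
    ∀ k < N, ∃ π ∈ H, ∀ r : Fin D.nroots, (π r).val = digit (P.get k) r.val := by
  intro k
  induction k using Nat.strong_induction_on with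
  | _ k ih =>
    intro hk
    by_cases hkm : k < m
    · exact hbase k hkm
    · have h := allLt_spec hstep k hk
      rw [natBlt_false hkm, cond_false] at h
      simp only [chkGenStep, Bool.and_eq_true, Nat.blt_eq] at h
      obtain ⟨⟨ha, hb⟩, hr⟩ := h
      obtain ⟨π, hπ, hπr⟩ := ih _ ha (ha.trans hk)
      cases hop : (op.get k).1 with
      | true =>
        refine ⟨G.pw cox * π * (G.pw cox)⁻¹, mul_mem (mul_mem hcox hπ) (inv_mem hcox), fun r => ?_⟩
        have h2 := allLt_spec hr ((G.pw cox)⁻¹ r).val ((G.pw cox)⁻¹ r).isLt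
        rw [hop, cond_true] at h2
        have h3 := Nat.eq_of_beq_eq_true h2
        rw [← hπr, ← G.pw_val c, ← G.pw_val c, ← Equiv.Perm.mul_apply (G.pw cox) (G.pw cox)⁻¹,
          mul_inv_cancel, Equiv.Perm.one_apply] at h3
        rw [h3]
        rfl
      | false =>
        obtain ⟨τ, hτ, hτr⟩ := ih _ hb (hb.trans hk)
        refine ⟨π * τ * π, mul_mem (mul_mem hπ hτ) hπ, fun r => ?_⟩
        have h2 := allLt_spec hr r.val r.isLt
        rw [hop, cond_false] at h2
        rw [Nat.eq_of_beq_eq_true h2, ← hπr, ← hτr, ← hπr]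
        rfl

end Good

end CfsgLib.Lie.Chev
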