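import Cfsg.Agent.Lib.Lie.Chev.StWeyl

/-!
# Bruhat cells and the standard parabolic subgroups
-/

set_option autoImplicit false

namespace CfsgLib.Lie.Chev

open Cfsg.Lie
open scoped MatrixGroups

variable {D : ChevalleyDatum} {K : Type*} [Field K]

/-- the subgroup generated by the negative root elements outside `J` -/
noncomputable def VR (G : Good D) (J : Finset (Fin D.rank)) : Subgroup (GL D.Idx K) :=
  Subgroup.closure {g | ∃ r t, (¬ D.IsPosRoot (r : Fin D.nroots).val ∧ ¬ InJ G J r) ∧ g = G.xu r t}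

/-- off-diagonal entries decrease the weight outside the set -/
def LowerJ (G : Good D) (J : Finset (Fin D.rank)) (M : Matrix D.Idx D.Idx K) : Prop :=
  (∀ a, M a a = 1) ∧ ∀ a b, a ≠ b → M a b ≠ 0 → outW G J a < outW G J b

/-- no entry decreases the weight outside the set -/
def WeakJ (G : Good D) (J : Finset (Fin D.rank)) (M : Matrix D.Idx D.Idx K) : Prop :=
  ∀ a b, M a b ≠ 0 → outW G J b ≤ outW G J a

namespace Good

variable (G : Good D) {J : Finset (Fin D.rank)}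

include G

theorem lowerJ_mul {M N : Matrix D.Idx D.Idx K} (hM : LowerJ G J M) (hN : LowerJ G J N) :
    LowerJ G J (M * N) := by
  refine ⟨fun a => ?_, fun a b hab hne => ?_⟩
  · rw [Matrix.mul_apply, Finset.sum_eq_single a]
    · rw [hM.1, hN.1, one_mul]
    · intro c _ hc
      by_contra hz
      have h1 := hM.2 a c (Ne.symm hc) (left_ne_zero_of_mul hz)
      have h2 := hN.2 c a hc (right_ne_zero_of_mul hz)
      omega
    · simp
  · rw [Matrix.mul_apply] at hne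
    obtain ⟨c, -, hc⟩ := Finset.exists_ne_zero_of_sum_ne_zero hne
    by_cases h1 : a = c
    · subst h1; exact hN.2 a b hab (right_ne_zero_of_mul hc)
    · have e1 := hM.2 a c h1 (left_ne_zero_of_mul hc)
      by_cases h2 : c = b
      · subst h2; exact e1
      · have e2 := hN.2 c b h2 (right_ne_zero_of_mul hc)
        omega

theorem lowerJ_xu {r : Fin D.nroots} (hr : ¬ D.IsPosRoot r.val) (hJ : ¬ InJ G J r) (t : K) :
    LowerJ G J (G.xu r t : Matrix D.Idx D.Idx K) := by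
  have hneg : (∑ m ∈ Jᶜ, G.rho r m) < 0 := by
    have hJ' : ¬ InJ G J (G.negr r) := fun h => hJ fun m hm => by
      have := h m hm
      rwa [G.rho_negr, Pi.neg_apply, neg_eq_zero] at this
    have h1 := G.outW_pos ((G.negr_pos_iff r).2 hr) hJ'
    simp only [G.rho_negr, Pi.neg_apply, Finset.sum_neg_distrib] at h1
    omega
  have hz : ∀ a b k, 1 ≤ k → k < 4 → outW G J b ≤ outW G J a →
      coef (act D r.val k (pos D b)) (pos D a) = 0 := by
    intro a b k hk1 hk4 hle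
    by_contra hne
    have hd : dmat D r k a b ≠ 0 := by simpa [dmat, show k ≠ 0 by omega] using hne
    have e := G.weight_eq r k a b hd hk4
    simp only [outW, e, Pi.add_apply, Pi.smul_apply, smul_eq_mul, Finset.sum_add_distrib,
      ← Finset.mul_sum] at hle
    have h2 : (1 : ℤ) ≤ k := by exact_mod_cast hk1
    nlinarith
  refine ⟨fun a => ?_, fun a b hab hne => ?_⟩
  · rw [coe_xu, xg_apply, if_pos rfl, hz a a 1 le_rfl (by norm_num) le_rfl,
      hz a a 2 (by norm_num) (by norm_num) le_rfl, hz a a 3 (by norm_num) (by norm_num) le_rfl]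
    simp
  · by_contra hlt
    rw [not_lt] at hlt
    apply hne
    rw [coe_xu, xg_apply, if_neg hab, hz a b 1 le_rfl (by norm_num) hlt,
      hz a b 2 (by norm_num) (by norm_num) hlt, hz a b 3 (by norm_num) (by norm_num) hlt]
    simp

theorem lowerJ_VR {g : GL D.Idx K} (hg : g ∈ (VR G J : Subgroup (GL D.Idx K))) :
    LowerJ G J (g : Matrix D.Idx D.Idx K) := by
  induction hg using Subgroup.closure_induction'' with
  | one => exact ⟨fun a => Matrix.one_apply_eq a, fun _ _ h hne => absurd (Matrix.one_apply_ne h) hne⟩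
  | mul x y _ _ hx hy => rw [Units.val_mul]; exact G.lowerJ_mul hx hy
  | mem x hx => obtain ⟨r, t, ⟨h1, h2⟩, rfl⟩ := hx; exact G.lowerJ_xu h1 h2 t
  | inv_mem x hx => obtain ⟨r, t, ⟨h1, h2⟩, rfl⟩ := hx; rw [G.xu_inv]; exact G.lowerJ_xu h1 h2 _

theorem weakJ_mul {M N : Matrix D.Idx D.Idx K} (hM : WeakJ G J M) (hN : WeakJ G J N) :
    WeakJ G J (M * N) := by
  intro a b hne
  rw [Matrix.mul_apply] at hne
  obtain ⟨c, -, hc⟩ := Finset.exists_ne_zero_of_sum_ne_zero hne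
  exact (hN c b (right_ne_zero_of_mul hc)).trans (hM a c (left_ne_zero_of_mul hc))

theorem weakJ_of_graded {M : Matrix D.Idx D.Idx K} (h : GradedJ G J M) : WeakJ G J M := by
  intro a b hne
  exact (Finset.sum_congr rfl fun m hm => h a b hne m (Finset.mem_compl.1 hm)).ge

theorem weakJ_of_strict {M : Matrix D.Idx D.Idx K} (h : StrictJ G J M) : WeakJ G J M := by
  intro a b hne
  by_cases hab : a = b
  · rw [hab]
  · exact (h.2 a b hab hne).le

end Good

namespace Full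

variable (C : Full D)

theorem weakJ_PJ (hchk : chkSupp D = true) {J : Finset (Fin D.rank)} {g : GL D.Idx K}
    (hg : g ∈ C.PJ J) : WeakJ C.G J (g : Matrix D.Idx D.Idx K) := by
  rw [← C.UR_sup_levi hchk, Subgroup.sup_eq_closure] at hg
  have hlevi : ∀ x ∈ D.diagonalSubgroup K ⊔ LJ C.G J, GradedJ C.G J (x : Matrix D.Idx D.Idx K) := by
    intro x hx
    rw [Subgroup.sup_eq_closure] at hx
    induction hx using Subgroup.closure_induction'' with
    | one => exact C.G.gradedJ_one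
    | mul a b _ _ ha hb => rw [Units.val_mul]; exact C.G.gradedJ_mul ha hb
    | mem a ha =>
      rcases ha with ha | ha
      exacts [C.G.gradedJ_H ha, C.G.gradedJ_LJ ha]
    | inv_mem a ha =>
      rcases ha with ha | ha
      exacts [C.G.gradedJ_H (inv_mem ha), C.G.gradedJ_LJ (inv_mem ha)]
  induction hg using Subgroup.closure_induction'' with
  | one => exact C.G.weakJ_of_graded C.G.gradedJ_one
  | mul a b _ _ ha hb => rw [Units.val_mul]; exact C.G.weakJ_mul ha hb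
  | mem a ha =>
    rcases ha with ha | ha
    exacts [C.G.weakJ_of_strict (C.G.strictJ_UR ha), C.G.weakJ_of_graded (hlevi a ha)]
  | inv_mem a ha =>
    rcases ha with ha | ha
    exacts [C.G.weakJ_of_strict (C.G.strictJ_UR (inv_mem ha)), C.G.weakJ_of_graded (hlevi _ (inv_mem ha))]

theorem eq_one_of_VR_PJ (hchk : chkSupp D = true) {J : Finset (Fin D.rank)} {g : GL D.Idx K}
    (hv : g ∈ (VR C.G J : Subgroup (GL D.Idx K))) (hp : g ∈ C.PJ J) : g = 1 := by
  have h1 := C.G.lowerJ_VR hv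
  have h2 := C.weakJ_PJ hchk hp
  apply Units.ext
  ext a b
  rw [Units.val_one]
  by_cases h : a = b
  · subst h; rw [h1.1, Matrix.one_apply_eq]
  · rw [Matrix.one_apply_ne h]
    by_contra hne
    have e1 := h1.2 a b h hne
    have e2 := h2 a b hne
    omega

/-- `g` lies in the cell of `w` -/
def InCell (g : GL D.Idx K) (w : Equiv.Perm (Fin D.nroots)) : Prop :=
  ∃ b ∈ D.borelSubgroup K, ∃ n ∈ D.monomialSubgroup K, C.G.NPerm n w ∧
    ∃ c ∈ D.borelSubgroup K, g = b * n * c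

/-- a representative of `w` in the monomial subgroup -/
noncomputable def nr (w : Equiv.Perm (Fin D.nroots)) : GL D.Idx K :=
  open Classical in if h : w ∈ C.G.Wg then C.G.nw (C.G.exists_pw h).choose else 1

theorem nr_perm {w : Equiv.Perm (Fin D.nroots)} (h : w ∈ C.G.Wg) :
    C.G.NPerm (C.nr w : GL D.Idx K) w := by
  rw [nr, dif_pos h]
  have := C.G.nPerm_nw (K := K) (C.G.exists_pw h).choose
  rwa [(C.G.exists_pw h).choose_spec] at this

theorem nr_mem (w : Equiv.Perm (Fin D.nroots)) : (C.nr w : GL D.Idx K) ∈ D.monomialSubgroup K := by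
  rw [nr]
  split
  · exact C.G.nw_mem_monomial _
  · exact one_mem _

theorem perm_mem_Wg {n : GL D.Idx K} {w : Equiv.Perm (Fin D.nroots)} (hn : n ∈ D.monomialSubgroup K)
    (hw : C.G.NPerm n w) : w ∈ C.G.Wg := by
  obtain ⟨l, hl⟩ := C.G.exists_nPerm hn
  rw [Good.NPerm.unique C.G hw hl]
  exact C.G.pw_mem l

theorem eq_mul_H {n n' : GL D.Idx K} {w : Equiv.Perm (Fin D.nroots)} (hn : n ∈ D.monomialSubgroup K)
    (hn' : n' ∈ D.monomialSubgroup K) (hw : C.G.NPerm n w) (hw' : C.G.NPerm n' w) :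
    n⁻¹ * n' ∈ D.diagonalSubgroup K := by
  refine C.G.mem_H_of_nPerm_one (mul_mem (inv_mem hn) hn') ?_
  have := Good.NPerm.mul C.G (Good.NPerm.inv C.G hw) hw'
  rwa [inv_mul_cancel] at this

theorem inCell_unique {g : GL D.Idx K} {w w' : Equiv.Perm (Fin D.nroots)} (h : C.InCell g w)
    (h' : C.InCell g w') : w = w' := by
  obtain ⟨b, hb, n, hn, hw, c, hc, rfl⟩ := h
  obtain ⟨b', hb', n', hn', hw', c', hc', e⟩ := h'
  have h1 := C.eqv_mem_H hn hn' hb hb' hc hc' e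
  have e2 := Good.NPerm.unique C.G (C.G.nPerm_H h1) (Good.NPerm.mul C.G (Good.NPerm.inv C.G hw) hw')
  rw [eq_comm, inv_mul_eq_one] at e2
  exact e2

theorem inCell_exists {g : GL D.Idx K} (hg : g ∈ D.group K) : ∃ w, w ∈ C.G.Wg ∧ C.InCell g w := by
  obtain ⟨b, hb, n, hn, π, hπ, u, hu, rfl⟩ := C.refined_exists hg
  exact ⟨π, C.perm_mem_Wg hn hπ, b, hb, n, hn, hπ, u, Subgroup.mem_sup_left (C.G.Uinv_le π hu), rfl⟩

theorem inCell_inv {g : GL D.Idx K} {w : Equiv.Perm (Fin D.nroots)} (h : C.InCell g w) :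
    C.InCell g⁻¹ w⁻¹ := by
  obtain ⟨b, hb, n, hn, hw, c, hc, rfl⟩ := h
  exact ⟨c⁻¹, inv_mem hc, n⁻¹, inv_mem hn, Good.NPerm.inv C.G hw, b⁻¹, inv_mem hb, by group⟩

theorem inCell_mul_right {g b' : GL D.Idx K} {w : Equiv.Perm (Fin D.nroots)} (hb' : b' ∈ D.borelSubgroup K)
    (h : C.InCell g w) : C.InCell (g * b') w := by
  obtain ⟨b, hb, n, hn, hw, c, hc, rfl⟩ := h
  exact ⟨b, hb, n, hn, hw, c * b', mul_mem hc hb', by group⟩

theorem inCell_nr {w : Equiv.Perm (Fin D.nroots)} (h : w ∈ C.G.Wg) :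
    C.InCell (C.nr w : GL D.Idx K) w :=
  ⟨1, one_mem _, _, C.nr_mem w, C.nr_perm h, 1, one_mem _, by group⟩

theorem inCell_nU {g : GL D.Idx K} {w : Equiv.Perm (Fin D.nroots)} (h : C.InCell g w) (i : Fin D.rank) :
    C.InCell (g * C.G.nU i) (w * C.G.sP i) ∨ C.InCell (g * C.G.nU i) w := by
  obtain ⟨b, hb, n, hn, hw, c, hc, rfl⟩ := h
  have hsq := C.G.nU_sq (K := K) i
  set s := C.G.nU (K := K) i
  have hb2 : (s * s)⁻¹ * c⁻¹ ∈ D.borelSubgroup K :=
    mul_mem (Subgroup.mem_sup_right (inv_mem hsq)) (inv_mem hc)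
  have e : (n * c * s)⁻¹ = s * ((s * s)⁻¹ * c⁻¹) * n⁻¹ := by group
  have hcase := C.mul_mem_union i (inv_mem hn) hb2
  rw [← e, Set.mem_union, DoubleCoset.mem_doubleCoset, DoubleCoset.mem_doubleCoset] at hcase
  rcases hcase with ⟨x, hx, y, hy, h2⟩ | ⟨x, hx, y, hy, h2⟩
  · left
    have h3 : C.InCell (n * c * s)⁻¹ (C.G.sP i * w⁻¹) :=
      ⟨x, hx, _, mul_mem (C.G.nU_mem_monomial i) (inv_mem hn),
        Good.NPerm.mul C.G (C.G.nPerm_nU i) (Good.NPerm.inv C.G hw), y, hy, h2⟩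
    have h4 := C.inCell_inv h3
    rw [inv_inv, mul_inv_rev, inv_inv, C.G.sP_inv] at h4
    obtain ⟨b1, hb1, m, hm, hmp, c1, hc1, e1⟩ := h4
    exact ⟨b * b1, mul_mem hb hb1, m, hm, hmp, c1, hc1, by
      rw [show b * n * c * s = b * (n * c * s) by group, e1]; group⟩
  · right
    have h3 : C.InCell (n * c * s)⁻¹ w⁻¹ :=
      ⟨x, hx, _, inv_mem hn, Good.NPerm.inv C.G hw, y, hy, h2⟩
    have h4 := C.inCell_inv h3
    rw [inv_inv, inv_inv] at h4
    obtain ⟨b1, hb1, m, hm, hmp, c1, hc1, e1⟩ := h4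
    exact ⟨b * b1, mul_mem hb hb1, m, hm, hmp, c1, hc1, by
      rw [show b * n * c * s = b * (n * c * s) by group, e1]; group⟩

/-- right multiplication by a parabolic subgroup moves a cell inside its coset -/
theorem inCell_mul_PJ {J : Finset (Fin D.rank)} {p : GL D.Idx K} (hp : p ∈ C.PJ J) :
    ∀ {g : GL D.Idx K} {w : Equiv.Perm (Fin D.nroots)}, C.InCell g w →
      ∃ a ∈ WJ C.G J, C.InCell (g * p) (w * a) := by
  have step : ∀ (i : Fin D.rank), i ∈ J → ∀ {g : GL D.Idx K} {w : Equiv.Perm (Fin D.nroots)},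
      C.InCell g w → ∃ a ∈ WJ C.G J, C.InCell (g * C.G.nU i) (w * a) := by
    intro i hi g w h
    rcases C.inCell_nU h i with h' | h'
    · exact ⟨C.G.sP i, C.G.sP_mem_WJ hi, h'⟩
    · exact ⟨1, one_mem _, by rwa [mul_one]⟩
  rw [PJ, ← Subgroup.closure_eq (D.borelSubgroup K), ← Subgroup.closure_union] at hp
  induction hp using Subgroup.closure_induction_left with
  | one => intro g w h; exact ⟨1, one_mem _, by rwa [mul_one, mul_one]⟩
  | mul_left x hx y _ ih =>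
    intro g w h
    obtain ⟨a, ha, h1⟩ : ∃ a ∈ WJ C.G J, C.InCell (g * x) (w * a) := by
      rcases hx with hx | ⟨i, hi, rfl⟩
      · exact ⟨1, one_mem _, by rw [mul_one]; exact C.inCell_mul_right hx h⟩
      · exact step i hi h
    obtain ⟨a', ha', h2⟩ := ih h1
    exact ⟨a * a', mul_mem ha ha', by rwa [← mul_assoc, ← mul_assoc]⟩
  | inv_mul_cancel x hx y _ ih =>
    intro g w h
    obtain ⟨a, ha, h1⟩ : ∃ a ∈ WJ C.G J, C.InCell (g * x⁻¹) (w * a) := by
      rcases hx with hx | ⟨i, hi, rfl⟩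
      · exact ⟨1, one_mem _, by rw [mul_one]; exact C.inCell_mul_right (inv_mem hx) h⟩
      · have e : g * (C.G.nU i)⁻¹ = g * C.G.nU i * (C.G.nU i * C.G.nU i)⁻¹ := by group
        obtain ⟨a, ha, h1⟩ := step i hi h
        exact ⟨a, ha, e ▸ C.inCell_mul_right (Subgroup.mem_sup_right (inv_mem (C.G.nU_sq i))) h1⟩
    obtain ⟨a', ha', h2⟩ := ih h1
    exact ⟨a * a', mul_mem ha ha', by rwa [← mul_assoc, ← mul_assoc]⟩

theorem borel_le_PJ (J : Finset (Fin D.rank)) : D.borelSubgroup K ≤ C.PJ J := le_sup_left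

theorem nr_mem_PJ {J : Finset (Fin D.rank)} {a : Equiv.Perm (Fin D.nroots)} (ha : a ∈ WJ C.G J) :
    (C.nr a : GL D.Idx K) ∈ C.PJ J := by
  obtain ⟨l, hl, rfl⟩ := C.G.exists_pwJ ha
  have h1 : C.G.nw (K := K) l ∈ C.PJ J := list_prod_mem fun x hx => by
    obtain ⟨i, hi, rfl⟩ := List.mem_map.1 hx
    exact Subgroup.mem_sup_right (Subgroup.subset_closure ⟨i, hl i hi, rfl⟩)
  have h2 := C.eq_mul_H (C.G.nw_mem_monomial l) (C.nr_mem (K := K) (C.G.pw l)) (C.G.nPerm_nw l)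
    (C.nr_perm (C.G.pw_mem l))
  have := mul_mem h1 (C.borel_le_PJ J (Subgroup.mem_sup_right h2))
  rwa [mul_inv_cancel_left] at this

theorem PJ_mono {J L : Finset (Fin D.rank)} (h : L ⊆ J) : C.PJ (K := K) L ≤ C.PJ J :=
  sup_le_sup_left (Subgroup.closure_mono (Set.image_mono (Finset.coe_subset.2 h))) _

theorem cell_of_mem_PJ {J : Finset (Fin D.rank)} {p : GL D.Idx K} (hp : p ∈ C.PJ J) :
    ∃ a ∈ WJ C.G J, C.InCell p a := by
  obtain ⟨a, ha, h⟩ := C.inCell_mul_PJ hp (g := 1) (w := 1)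
    ⟨1, one_mem _, 1, one_mem _, Good.NPerm.one C.G, 1, one_mem _, by group⟩
  exact ⟨a, ha, by rwa [one_mul, one_mul] at h⟩

theorem mem_PJ_of_cell {J : Finset (Fin D.rank)} {p : GL D.Idx K} {a : Equiv.Perm (Fin D.nroots)}
    (ha : a ∈ WJ C.G J) (h : C.InCell p a) : p ∈ C.PJ J := by
  obtain ⟨b, hb, n, hn, hw, c, hc, rfl⟩ := h
  have h2 := C.eq_mul_H (C.nr_mem (K := K) a) hn (C.nr_perm (C.G.WJ_le J ha)) hw
  have := mul_mem (C.nr_mem_PJ (K := K) ha) (C.borel_le_PJ J (Subgroup.mem_sup_right h2))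
  rw [mul_inv_cancel_left] at this
  exact mul_mem (mul_mem (C.borel_le_PJ J hb) this) (C.borel_le_PJ J hc)

theorem PJ_univ : C.PJ (K := K) Finset.univ = D.group K := by
  refine le_antisymm C.PJ_le_group fun g hg => ?_
  obtain ⟨w, hw, h⟩ := C.inCell_exists hg
  exact C.mem_PJ_of_cell (C.G.WJ_univ ▸ hw) h

theorem PJ_empty : C.PJ (K := K) ∅ = D.borelSubgroup K := by
  simp [PJ]

/-- a root moved to a fundamental one transports the reflection -/
theorem conj_sP (K : Type*) [Field K] {y : Equiv.Perm (Fin D.nroots)} (hy : y ∈ C.G.Wg)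
    {l k : Fin D.rank} (h : y (C.G.simp' l) = C.G.simp' k) : y * C.G.sP l * y⁻¹ = C.G.sP k := by
  obtain ⟨ly, rfl⟩ := C.G.exists_pw hy
  obtain ⟨c, hc, e⟩ := C.G.nw_conj_nE (K := K) ly (C.G.simp' l) 1 (Or.inl rfl)
  rw [Units.val_one, C.G.nE_simp_one, h] at e
  have hk : C.G.NPerm (C.G.nE (C.G.simp' k) (c : K)) (C.G.sP k) := by
    rw [C.G.nE_simp]
    have h' := Good.NPerm.mul C.G (C.G.nPerm_H (C.G.hd_mem_H (C.G.simp' k) c)) (C.G.nPerm_nU (K := K) k)
    rwa [one_mul] at h'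
  have h1 := Good.NPerm.mul C.G (C.G.nPerm_nw (K := K) ly) (C.G.nPerm_nU (K := K) l)
  have h2 := Good.NPerm.mul C.G hk (C.G.nPerm_nw (K := K) ly)
  rw [← e] at h2
  rw [Good.NPerm.unique C.G h1 h2, mul_inv_cancel_right]

theorem double_unique (K : Type*) [Field K] {I J : Finset (Fin D.rank)} :
    ∀ (a : Equiv.Perm (Fin D.nroots)), a ∈ WJ C.G I →
    ∀ {w w' b : Equiv.Perm (Fin D.nroots)}, w ∈ C.G.Wg → w' ∈ C.G.Wg → b ∈ WJ C.G J →
    Up C.G J w → Up C.G J w' → Up C.G I w⁻¹ → Up C.G I w'⁻¹ → w' = a * w * b → w' = w := by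
  intro a
  induction hn : ninv C.G a using Nat.strong_induction_on generalizing a with
  | _ n ih =>
  intro ha w w' b hw hw' hb hu hu' hi hi' e
  have haW := C.G.WJ_le I ha
  by_cases h1 : Up C.G I a⁻¹
  · have h2 : a⁻¹ = 1 := C.G.eq_one_of_up_mul (one_mem _)
      (fun j _ => C.G.simp_pos j) (inv_mem ha) (by rwa [one_mul])
    rw [inv_eq_one] at h2
    rw [h2, one_mul] at e
    rw [e, C.G.eq_one_of_up_mul hw hu hb (e ▸ hu'), mul_one]
  · simp only [Up, not_forall] at h1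
    obtain ⟨k, hk, hneg⟩ := h1
    have hs : InJ C.G I (a⁻¹ (C.G.simp' k)) :=
      C.G.inJ_image (inv_mem ha) (C.G.inJ_simp_self hk)
    set r0 := w⁻¹ (a⁻¹ (C.G.simp' k)) with hr0
    have hr0neg : ¬ D.IsPosRoot r0.val := fun h =>
      hneg ((C.G.up_sign (inv_mem hw) hi hs).1 h)
    have hb' : b⁻¹ r0 = w'⁻¹ (C.G.simp' k) := by
      rw [e, mul_inv_rev, mul_inv_rev]; rfl
    have hr0J : InJ C.G J r0 := by
      by_contra hc
      have := (C.G.outside_image (inv_mem hb) hc).2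
      rw [hb'] at this
      exact hr0neg (this.1 (hi' k hk))
    obtain ⟨c, hc, j, hj, hcj⟩ := C.G.exists_inJ_orbit J hr0J
    have hy : (a * w * c) ∈ C.G.Wg := mul_mem (mul_mem haW hw) (C.G.WJ_le J hc)
    have hyj : (a * w * c) (C.G.simp' j) = C.G.simp' k := by
      rw [Equiv.Perm.mul_apply, Equiv.Perm.mul_apply, ← hcj, hr0,
        show w (w⁻¹ (a⁻¹ (C.G.simp' k))) = a⁻¹ (C.G.simp' k) from w.apply_symm_apply _,
        show a (a⁻¹ (C.G.simp' k)) = C.G.simp' k from a.apply_symm_apply _]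
    have hconj := C.conj_sP K hy hyj
    have e' : w' = (C.G.sP k * a) * w * (c * C.G.sP j * c⁻¹ * b) := by
      rw [e, ← hconj]
      simp only [mul_inv_rev, mul_assoc, inv_mul_cancel_left]
      rw [← mul_assoc (C.G.sP j) (C.G.sP j), C.G.sP_mul_self, one_mul, mul_inv_cancel_left]
    have hlt : ninv C.G (C.G.sP k * a) < n := by
      have hmem : C.G.sP k * a ∈ C.G.Wg := mul_mem (C.G.WJ_le I (C.G.sP_mem_WJ hk)) haW
      rw [← hn, ← C.G.ninv_inv _ (C.G.negr_WJ hmem), mul_inv_rev, C.G.sP_inv,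
        ← C.G.ninv_inv a (C.G.negr_WJ haW)]
      exact C.G.ninv_mul_sP_lt (inv_mem haW) hneg
    exact ih _ hlt (C.G.sP k * a) rfl (mul_mem (C.G.sP_mem_WJ hk) ha) hw hw'
      (mul_mem (mul_mem (mul_mem hc (C.G.sP_mem_WJ hj)) (inv_mem hc)) hb) hu hu' hi hi' e'

theorem exists_double {I J : Finset (Fin D.rank)} :
    ∀ w : Equiv.Perm (Fin D.nroots), w ∈ C.G.Wg → ∃ a d b, w = a * d * b ∧ a ∈ WJ C.G I ∧
      b ∈ WJ C.G J ∧ d ∈ C.G.Wg ∧ Up C.G J d ∧ Up C.G I d⁻¹ := by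
  intro w
  induction hn : ninv C.G w using Nat.strong_induction_on generalizing w with
  | _ n ih =>
  intro hw
  by_cases h1 : Up C.G J w
  · by_cases h2 : Up C.G I w⁻¹
    · exact ⟨1, w, 1, by group, one_mem _, one_mem _, hw, h1, h2⟩
    · simp only [Up, not_forall] at h2
      obtain ⟨k, hk, hneg⟩ := h2
      have hsk : C.G.sP k ∈ C.G.Wg := C.G.WJ_le I (C.G.sP_mem_WJ hk)
      have hlt : ninv C.G (C.G.sP k * w) < n := by
        rw [← hn, ← C.G.ninv_inv _ (C.G.negr_WJ (mul_mem hsk hw)), mul_inv_rev, C.G.sP_inv,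
          ← C.G.ninv_inv w (C.G.negr_WJ hw)]
        exact C.G.ninv_mul_sP_lt (inv_mem hw) hneg
      obtain ⟨a, d, b, e, ha, hb, hd⟩ := ih _ hlt _ rfl (mul_mem hsk hw)
      refine ⟨C.G.sP k * a, d, b, ?_, mul_mem (C.G.sP_mem_WJ hk) ha, hb, hd⟩
      rw [mul_assoc (C.G.sP k) a, mul_assoc (C.G.sP k), ← e, ← mul_assoc, C.G.sP_mul_self, one_mul]
  · simp only [Up, not_forall] at h1
    obtain ⟨j, hj, hneg⟩ := h1
    have hlt : ninv C.G (w * C.G.sP j) < n := hn ▸ C.G.ninv_mul_sP_lt hw hneg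
    obtain ⟨a, d, b, e, ha, hb, hd⟩ := ih _ hlt _ rfl
      (mul_mem hw (C.G.WJ_le J (C.G.sP_mem_WJ hj)))
    refine ⟨a, d, b * C.G.sP j, ?_, ha, mul_mem hb (C.G.sP_mem_WJ hj), hd⟩
    rw [← mul_assoc, ← e, mul_assoc, C.G.sP_mul_self, mul_one]

end Full

end CfsgLib.Lie.Chev
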