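import Cfsg.Agent.Lib.Lie.Chev.StCount
import Cfsg.Agent.Lib.Char.UnipotentGL
import Cfsg.Agent.Lib.Char.DefectZero

/-!
# The Steinberg character of a finite Chevalley group
-/

set_option autoImplicit false
set_option maxHeartbeats 400000

namespace CfsgLib.Lie.Chev

open Cfsg Cfsg.Lie
open scoped MatrixGroups

variable {D : ChevalleyDatum} {K : Type*} [Field K]

namespace Full

variable (C : Full D)

include C

/-- the double coset representatives -/
abbrev Dred (I J : Finset (Fin D.rank)) : Type :=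
  {d : Equiv.Perm (Fin D.nroots) // d ∈ C.G.Wg ∧ Up C.G J d ∧ Up C.G I d⁻¹}

/-- `g` belongs to the double coset of `d` -/
def InDouble (I J : Finset (Fin D.rank)) (g : GL D.Idx K) (d : Equiv.Perm (Fin D.nroots)) : Prop :=
  ∃ a ∈ WJ C.G I, ∃ b ∈ WJ C.G J, C.InCell g (a * d * b)

theorem inDouble_exists (I J : Finset (Fin D.rank)) {g : GL D.Idx K} (hg : g ∈ D.group K) :
    ∃ d : C.Dred I J, C.InDouble I J g d.1 := by
  obtain ⟨w, hw, h⟩ := C.inCell_exists hg
  obtain ⟨a, d, b, rfl, ha, hb, hd⟩ := C.exists_double (I := I) (J := J) w hw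
  exact ⟨⟨d, hd⟩, a, ha, b, hb, h⟩

theorem inDouble_unique {I J : Finset (Fin D.rank)} {g : GL D.Idx K} {d d' : C.Dred I J}
    (h : C.InDouble I J g d.1) (h' : C.InDouble I J g d'.1) : d = d' := by
  obtain ⟨a, ha, b, hb, h⟩ := h
  obtain ⟨a', ha', b', hb', h'⟩ := h'
  have e := C.inCell_unique h' h
  refine Subtype.ext (C.double_unique K (a'⁻¹ * a) (mul_mem (inv_mem ha') ha) d.2.1 d'.2.1
    (mul_mem hb (inv_mem hb')) d.2.2.1 d'.2.2.1 d.2.2.2 d'.2.2.2 ?_).symm
  calc d'.1 = a'⁻¹ * (a' * d'.1 * b') * b'⁻¹ := by group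
    _ = _ := by rw [e]; group

theorem inDouble_mul {I J : Finset (Fin D.rank)} {g h k : GL D.Idx K} {d : Equiv.Perm (Fin D.nroots)}
    (hh : h ∈ C.PJ I) (hk : k ∈ C.PJ J) (hg : C.InDouble I J g d) :
    C.InDouble I J (h * g * k) d := by
  obtain ⟨a, ha, b, hb, hc⟩ := hg
  obtain ⟨b', hb', h1⟩ := C.inCell_mul_PJ hk hc
  obtain ⟨a', ha', h2⟩ := C.inCell_mul_PJ (inv_mem hh) (C.inCell_inv h1)
  have h3 := C.inCell_inv h2
  rw [mul_inv_rev, inv_inv, inv_inv, mul_inv_rev, inv_inv, ← mul_assoc] at h3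
  exact ⟨a'⁻¹ * a, mul_mem (inv_mem ha') ha, b * b', mul_mem hb hb', by
    rwa [show a'⁻¹ * a * d * (b * b') = a'⁻¹ * (a * d * b * b') by group]⟩

theorem inDouble_rep {I J : Finset (Fin D.rank)} {g : GL D.Idx K} {d : C.Dred I J}
    (hg : C.InDouble I J g d.1) : ∃ h ∈ C.PJ I, ∃ k ∈ C.PJ J, g = h * C.nr d.1 * k := by
  obtain ⟨a, ha, b, hb, x, hx, n, hn, hnw, y, hy, rfl⟩ := hg
  have hm : C.G.NPerm (C.nr a * C.nr d.1 * C.nr b : GL D.Idx K) (a * d.1 * b) :=
    Good.NPerm.mul C.G (Good.NPerm.mul C.G (C.nr_perm (C.G.WJ_le I ha)) (C.nr_perm d.2.1))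
      (C.nr_perm (C.G.WJ_le J hb))
  have h1 := C.eq_mul_H (mul_mem (mul_mem (C.nr_mem a) (C.nr_mem d.1)) (C.nr_mem b)) hn hm hnw
  refine ⟨x * C.nr a, mul_mem (C.borel_le_PJ I hx) (C.nr_mem_PJ ha),
    C.nr b * ((C.nr a * C.nr d.1 * C.nr b)⁻¹ * n) * y,
    mul_mem (mul_mem (C.nr_mem_PJ hb) (C.borel_le_PJ J (Subgroup.mem_sup_right h1))) (C.borel_le_PJ J hy), ?_⟩
  group

theorem classInner_perm [Fintype ↥(D.group K)] (I J : Finset (Fin D.rank)) :
    classInner (fixedPointCharacter (C.PG (K := K) I)) (fixedPointCharacter (C.PG (K := K) J)) =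
      (Nat.card (C.Dred I J) : ℂ) := by
  classical
  let f : ↥(D.group K) → C.Dred I J := fun g => (C.inDouble_exists I J g.2).choose
  have hf : ∀ g : ↥(D.group K), C.InDouble I J (g : GL D.Idx K) (f g).1 := fun g =>
    (C.inDouble_exists I J g.2).choose_spec
  refine CfsgLib.Char.FlagCosets.classInner_fixedPoint _ _ f (fun d => ?_) fun x y => ⟨fun h => ?_, ?_⟩
  · let g : ↥(D.group K) := ⟨C.nr d.1, C.G.monomial_le_group (C.nr_mem _)⟩
    refine ⟨g, C.inDouble_unique (hf g) ⟨1, one_mem _, 1, one_mem _, ?_⟩⟩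
    rw [one_mul, mul_one]
    exact C.inCell_nr d.2.1
  · obtain ⟨h1, hh1, k1, hk1, e1⟩ := C.inDouble_rep (hf x)
    obtain ⟨h2, hh2, k2, hk2, e2⟩ := C.inDouble_rep (hf y)
    refine ⟨⟨h2 * h1⁻¹, C.PJ_le_group (mul_mem hh2 (inv_mem hh1))⟩, mul_mem hh2 (inv_mem hh1),
      ⟨k1⁻¹ * k2, C.PJ_le_group (mul_mem (inv_mem hk1) hk2)⟩, mul_mem (inv_mem hk1) hk2, Subtype.ext ?_⟩
    rw [Subgroup.coe_mul, Subgroup.coe_mul]
    show (y : GL D.Idx K) = h2 * h1⁻¹ * (x : GL D.Idx K) * (k1⁻¹ * k2)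
    rw [e1, e2, h]
    group
  · rintro ⟨h, hh, k, hk, rfl⟩
    exact (C.inDouble_unique (hf (h * x * k)) (C.inDouble_mul (g := (x : GL D.Idx K)) hh hk (hf x))).symm

theorem cfix_univ (L : Finset (Fin D.rank)) (g : ↥(D.group K)) :
    (C.cfix Finset.univ L g : ℂ) = fixedPointCharacter (C.PG (K := K) L) g := by
  rw [cfix, fixedPointCharacter]
  congr 1
  have hall : ∀ x : ↥(D.group K) ⧸ C.PG (K := K) L, ∃ a ∈ C.PG (K := K) Finset.univ,
      QuotientGroup.mk a = x := fun x => Quotient.inductionOn' x fun a =>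
    ⟨a, show (a : GL D.Idx K) ∈ C.PJ Finset.univ by rw [C.PJ_univ]; exact a.2, rfl⟩
  exact Nat.card_congr ((Equiv.subtypeUnivEquiv hall).subtypeEquiv fun x => Iff.rfl)

theorem parabolicIn_eq (J : Finset (Fin D.rank)) :
    D.parabolicIn K (J.map Fin.valEmbedding) = C.PG J := by
  rw [ChevalleyDatum.parabolicIn, C.parabolic_eq]
  congr 2
  ext i
  simp [nodesIn, Fin.val_inj]

theorem steinbergCharacter_eq (g : ↥(D.group K)) :
    D.steinbergCharacter K g =
      ∑ J ∈ (Finset.univ : Finset (Fin D.rank)).powerset,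
        (-1 : ℂ) ^ J.card * fixedPointCharacter (C.PG (K := K) J) g := by
  rw [ChevalleyDatum.steinbergCharacter]
  symm
  refine Finset.sum_bij (fun J _ => J.map Fin.valEmbedding) (fun J _ => ?_) (fun J _ L _ h => ?_)
    (fun S hS => ?_) (fun J _ => ?_)
  · rw [Finset.mem_powerset]
    intro x hx
    obtain ⟨i, -, rfl⟩ := Finset.mem_map.1 hx
    exact Finset.mem_range.2 i.isLt
  · exact Finset.map_injective _ h
  · rw [Finset.mem_powerset] at hS
    refine ⟨Finset.univ.filter fun i => i.val ∈ S, Finset.mem_powerset.2 (Finset.subset_univ _), ?_⟩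
    ext x
    simp only [Finset.mem_map, Finset.mem_filter, Finset.mem_univ, true_and, Fin.valEmbedding_apply]
    exact ⟨fun ⟨i, hi, e⟩ => e ▸ hi, fun hx => ⟨⟨x, Finset.mem_range.1 (hS hx)⟩, hx, rfl⟩⟩
  · rw [C.parabolicIn_eq, Finset.card_map]

theorem steinbergCharacter_stJ [Finite K] (g : ↥(D.group K)) :
    D.steinbergCharacter K g = (C.stJ Finset.univ g : ℂ) := by
  rw [C.steinbergCharacter_eq, stJ]
  push_cast
  exact Finset.sum_congr rfl fun J _ => by rw [C.cfix_univ]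

section finite

variable [Fintype K]

theorem steinberg_degree (hchk : chkSupp D = true) :
    D.steinbergCharacter K 1 = (Fintype.card K : ℂ) ^ (D.nroots / 2) := by
  classical
  rw [C.steinbergCharacter_stJ, C.stJ_borel hchk _ (b := 1) (one_mem _), Subgroup.coe_one,
    C.fcell_top_U _ (one_mem _), if_pos (one_mem _), C.G.ninv_wtop_univ, C.nPos_eq]
  push_cast
  rfl

theorem steinberg_borel (hchk : chkSupp D = true)
    (b : ↥((D.borelSubgroup K).subgroupOf (D.group K))) :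
    D.steinbergCharacter K ((((D.borelSubgroup K).subgroupOf (D.group K)).subtype) b) =
      fixedPointCharacter (((D.diagonalSubgroup K).subgroupOf (D.group K)).subgroupOf
        ((D.borelSubgroup K).subgroupOf (D.group K))) b := by
  classical
  rw [Subgroup.subtype_apply, C.steinbergCharacter_stJ, C.stJ_borel hchk _ b.2, fixedPointCharacter, Int.cast_natCast]
  congr 1
  set w := C.G.wtop (Finset.univ : Finset (Fin D.rank))
  have hW : w ∈ C.G.Wg := C.G.WJ_le _ (C.G.wtop_mem _)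
  have hn := C.nr_perm (K := K) hW
  set n := C.nr (K := K) w
  have hUinv : (Uinv C.G w⁻¹ : Subgroup (GL D.Idx K)) = D.posUnipotent K := by
    rw [C.G.posUnipotent_eq_closure, Uinv]
    refine le_antisymm (Subgroup.closure_mono ?_) (Subgroup.closure_mono ?_)
    · rintro g ⟨r, t, ⟨h1, -⟩, rfl⟩
      exact ⟨r, t, h1, rfl⟩
    · rintro g ⟨r, t, h1, rfl⟩
      refine ⟨r, t, ⟨h1, fun hp => ?_⟩, rfl⟩
      have h := C.G.down_sign hW (C.G.wtop_down _) (C.G.inJ_univ (w⁻¹ r))
      rw [show w (w⁻¹ r) = r from Equiv.apply_symm_apply _ _] at h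
      exact h.1 h1 hp
  have hcond : ∀ y ∈ D.borelSubgroup K, n⁻¹ * y * n ∈ D.borelSubgroup K ↔ y ∈ D.diagonalSubgroup K := by
    intro y hy
    constructor
    · intro h
      obtain ⟨u, hu, d, hd, rfl⟩ := C.G.mem_borel_iff.1 hy
      have h2 : n⁻¹ * d * n ∈ D.borelSubgroup K := Subgroup.mem_sup_right
        ((Subgroup.mem_normalizer_iff''.1 (C.G.monomial_le_normalizer (C.nr_mem w)) d).1 hd)
      have h3 : n⁻¹ * u * n ∈ D.borelSubgroup K := by
        rw [show n⁻¹ * u * n = n⁻¹ * (u * d) * n * (n⁻¹ * d * n)⁻¹ by group]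
        exact mul_mem h (inv_mem h2)
      have h4 := C.G.conj_Uinv (Good.NPerm.inv C.G hn) u (hUinv ▸ hu)
      rw [inv_inv] at h4
      have h5 : n⁻¹ * u * n = 1 :=
        Subgroup.mem_bot.1 (C.G.B_inf_V (K := K) ▸ Subgroup.mem_inf.2 ⟨h3, h4⟩)
      rw [show u = n * (n⁻¹ * u * n) * n⁻¹ by group, h5, mul_one, mul_inv_cancel, one_mul]
      exact hd
    · intro h
      exact Subgroup.mem_sup_right
        ((Subgroup.mem_normalizer_iff''.1 (C.G.monomial_le_normalizer (C.nr_mem w)) y).1 h)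
  let toB : ↥(Uinv C.G w⁻¹ : Subgroup (GL D.Idx K)) → ↥((D.borelSubgroup K).subgroupOf (D.group K)) := fun u =>
    ⟨⟨u, C.G.posUnipotent_le_group (C.G.Uinv_le _ u.2)⟩, Subgroup.mem_sup_left (C.G.Uinv_le _ u.2)⟩
  have hfix : ∀ u, b • (QuotientGroup.mk (toB u) : ↥((D.borelSubgroup K).subgroupOf (D.group K)) ⧸ (((D.diagonalSubgroup K).subgroupOf (D.group K)).subgroupOf ((D.borelSubgroup K).subgroupOf (D.group K)))) = QuotientGroup.mk (toB u) ↔
      C.Cond w (((b : ↥(D.group K)) : GL D.Idx K)) u := by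
    intro u
    rw [MulAction.Quotient.smul_mk, eq_comm, QuotientGroup.eq]
    refine Iff.trans ?_ (hcond ((u : GL D.Idx K)⁻¹ * ((b : ↥(D.group K)) : GL D.Idx K) * (u : GL D.Idx K))
      (mul_mem (mul_mem (inv_mem (Subgroup.mem_sup_left (C.G.Uinv_le _ u.2))) b.2)
        (Subgroup.mem_sup_left (C.G.Uinv_le _ u.2)))).symm
    show ((u : GL D.Idx K))⁻¹ * (((b : ↥(D.group K)) : GL D.Idx K) * (u : GL D.Idx K)) ∈
      D.diagonalSubgroup K ↔ _
    rw [mul_assoc]
  refine Nat.card_eq_of_bijective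
    (fun u : {u : (Uinv C.G w⁻¹ : Subgroup (GL D.Idx K)) //
        C.Cond w (((b : ↥(D.group K)) : GL D.Idx K)) u} =>
      (⟨QuotientGroup.mk (toB u.1), (hfix u.1).2 u.2⟩ : MulAction.fixedBy (↥((D.borelSubgroup K).subgroupOf (D.group K)) ⧸ (((D.diagonalSubgroup K).subgroupOf (D.group K)).subgroupOf ((D.borelSubgroup K).subgroupOf (D.group K)))) b)) ⟨?_, ?_⟩
  · intro u u' h
    have h' := QuotientGroup.eq.1 (congrArg Subtype.val h :)
    have h1 : (u.1 : GL D.Idx K)⁻¹ * (u'.1 : GL D.Idx K) ∈ D.diagonalSubgroup K := h'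
    have h2 : (u.1 : GL D.Idx K)⁻¹ * (u'.1 : GL D.Idx K) = 1 :=
      Subgroup.mem_bot.1 (C.G.U_inf_H (K := K) ▸ Subgroup.mem_inf.2
        ⟨mul_mem (inv_mem (C.G.Uinv_le _ u.1.2)) (C.G.Uinv_le _ u'.1.2), h1⟩)
    exact Subtype.ext (Subtype.ext (inv_mul_eq_one.1 h2))
  · rintro ⟨x, hx⟩
    obtain ⟨a, rfl⟩ := QuotientGroup.mk_surjective x
    obtain ⟨v, hv, d, hd, e⟩ := C.G.mem_borel_iff.1 (show ((a : ↥(D.group K)) : GL D.Idx K) ∈ D.borelSubgroup K from a.2)
    have hm : (QuotientGroup.mk a : ↥((D.borelSubgroup K).subgroupOf (D.group K)) ⧸ (((D.diagonalSubgroup K).subgroupOf (D.group K)).subgroupOf ((D.borelSubgroup K).subgroupOf (D.group K)))) = QuotientGroup.mk (toB ⟨v, hUinv ▸ hv⟩) := by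
      rw [QuotientGroup.eq]
      show ((a : ↥(D.group K)) : GL D.Idx K)⁻¹ * v ∈ D.diagonalSubgroup K
      rw [e, show (v * d)⁻¹ * v = d⁻¹ by group]
      exact inv_mem hd
    exact ⟨⟨⟨v, hUinv ▸ hv⟩, (hfix _).1 (by rw [← hm]; exact hx)⟩, Subtype.ext hm.symm⟩

open Classical in
theorem card_dred_alt (I : Finset (Fin D.rank)) :
    ∑ J ∈ (Finset.univ : Finset (Fin D.rank)).powerset, (-1 : ℂ) ^ J.card * (Nat.card (C.Dred I J) : ℂ) =
      if Up C.G I (C.G.wtop Finset.univ)⁻¹ then 1 else 0 := by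
  classical
  have h1 : ∀ J : Finset (Fin D.rank), (Nat.card (C.Dred I J) : ℂ) =
      ∑ _d ∈ (Finset.univ.filter fun d => d ∈ C.G.Wg ∧ Up C.G I d⁻¹).filter
        (fun d => ∀ j ∈ J, D.IsPosRoot (d (C.G.simp' j)).val), (1 : ℂ) := by
    intro J
    rw [Finset.sum_const, nsmul_one, Finset.filter_filter, Nat.card_eq_fintype_card, Fintype.card_subtype]
    congr 2
    ext d
    rw [Finset.mem_filter, Finset.mem_filter]
    simp only [Finset.mem_univ, true_and, Up]
    tauto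
  rw [Finset.sum_congr rfl fun J _ => by rw [h1 J]]
  refine (alt_sum_filter (R := ℂ) (Finset.univ.filter fun d : Equiv.Perm (Fin D.nroots) => d ∈ C.G.Wg ∧ Up C.G I d⁻¹) (Finset.univ : Finset (Fin D.rank)) (fun d j => D.IsPosRoot (d (C.G.simp' j)).val) fun _ => (1 : ℂ)).trans ?_
  have hu : ∀ d : Equiv.Perm (Fin D.nroots), d ∈ C.G.Wg → Down C.G Finset.univ d → d = C.G.wtop Finset.univ :=
    fun d hd hdd => C.G.down_unique (C.G.WJ_univ ▸ hd) (C.G.wtop_mem _) hdd (C.G.wtop_down _)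
  by_cases h : Up C.G I (C.G.wtop Finset.univ)⁻¹
  · rw [if_pos h, Finset.sum_eq_single (C.G.wtop Finset.univ) (fun d hd hne => ?_) (fun hn => ?_)]
    · simp only [Finset.mem_filter, Finset.mem_univ, true_and] at hd
      exact absurd (hu d hd.1.1 fun j _ => hd.2 j trivial) hne
    · refine absurd ?_ hn
      simp only [Finset.mem_filter, Finset.mem_univ, true_and]
      exact ⟨⟨C.G.WJ_le _ (C.G.wtop_mem _), h⟩, fun j _ => C.G.wtop_down _ j (Finset.mem_univ j)⟩
  · rw [if_neg h]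
    refine Finset.sum_eq_zero fun d hd => absurd ?_ h
    simp only [Finset.mem_filter, Finset.mem_univ, true_and] at hd
    rw [← hu d hd.1.1 fun j _ => hd.2 j trivial]
    exact hd.1.2

theorem classInner_steinberg [Fintype ↥(D.group K)] :
    classInner (D.steinbergCharacter K) (D.steinbergCharacter K) = 1 := by
  classical
  have he : ∀ I : Finset (Fin D.rank), Up C.G I (C.G.wtop Finset.univ)⁻¹ ↔ I = ∅ := by
    intro I
    refine ⟨fun h => Finset.eq_empty_of_forall_notMem fun i hi => ?_, fun h => by subst h; exact fun j hj => absurd hj (Finset.notMem_empty j)⟩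
    exact C.G.wtop_univ_inv i (Finset.mem_univ i) (h i hi)
  have h1 : classInner (D.steinbergCharacter K) (D.steinbergCharacter K) =
      ∑ I ∈ (Finset.univ : Finset (Fin D.rank)).powerset, (-1 : ℂ) ^ I.card *
        ∑ J ∈ (Finset.univ : Finset (Fin D.rank)).powerset, (-1 : ℂ) ^ J.card *
          classInner (fixedPointCharacter (C.PG (K := K) I)) (fixedPointCharacter (C.PG (K := K) J)) := by
    simp only [classInner, C.steinbergCharacter_eq, map_sum, map_mul, map_pow, map_neg, map_one,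
      Finset.sum_mul, Finset.mul_sum]
    rw [Finset.sum_comm, Finset.sum_congr rfl fun a _ => Finset.sum_comm, Finset.sum_comm]
    refine Finset.sum_congr rfl fun I _ => Finset.sum_congr rfl fun J _ =>
      Finset.sum_congr rfl fun g _ => ?_
    ring
  rw [h1, Finset.sum_congr rfl fun I _ => by
    rw [Finset.sum_congr rfl fun J _ => by rw [C.classInner_perm I J], C.card_dred_alt I]]
  simp only [he, mul_ite, mul_one, mul_zero]
  rw [Finset.sum_ite_eq' _ ∅, if_pos (Finset.empty_mem_powerset _), Finset.card_empty, pow_zero]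

theorem isGeneralized_steinberg :
    IsGeneralizedCharacter ↥(D.group K) (D.steinbergCharacter K) := by
  have h : D.steinbergCharacter K = ∑ J ∈ (Finset.univ : Finset (Fin D.rank)).powerset,
      (((-1 : ℤ) ^ J.card : ℤ) : ℂ) • fixedPointCharacter (C.PG (K := K) J) := by
    funext g
    rw [C.steinbergCharacter_eq, Finset.sum_apply]
    simp
  rw [h]
  refine CfsgLib.Char.isGeneralizedCharacter_sum _ _ fun J _ => CfsgLib.Char.isGeneralizedCharacter_zsmul
    (CfsgLib.Char.isGeneralizedCharacter_of_isCharacter ?_) _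
  exact CfsgLib.Char.isCharacter_permChar (G := ↥(D.group K)) _

theorem isIrr_steinberg (hchk : chkSupp D = true) :
    IsIrrCharacter ↥(D.group K) (D.steinbergCharacter K) := by
  classical
  haveI : Fintype ↥(D.group K) := Fintype.ofFinite _
  haveI : Fintype (IrrCharacter ↥(D.group K)) := Fintype.ofFinite _
  refine CfsgLib.Char.isIrr_of_norm_one C.isGeneralized_steinberg C.classInner_steinberg ?_
  rw [C.steinberg_degree hchk, ← Nat.cast_pow, Complex.natCast_re]
  exact_mod_cast pow_pos Fintype.card_pos _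

theorem steinberg_pSingular (hchk : chkSupp D = true) (p : ℕ) [Fact p.Prime] [CharP K p]
    (g : ↥(D.group K)) (hg : p ∣ orderOf g) : D.steinbergCharacter K g = 0 := by
  classical
  obtain ⟨n, -, hn⟩ := FiniteField.card K p
  obtain ⟨S, hS⟩ := C.exists_sylow (F := K) p
  have hcard : Nat.card (S : Subgroup ↥(D.group K)) = p ^ ((n : ℕ) * (D.nroots / 2)) := by
    rw [hS, Nat.card_congr (Subgroup.subgroupOfEquivOfLe C.G.posUnipotent_le_group).toEquiv,
      C.posUnipotent_card, hn, ← pow_mul]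
  refine CfsgLib.Char.char_defect_zero_vanishes ⟨_, C.isIrr_steinberg hchk⟩
    (p := p) (n := (n : ℕ) * (D.nroots / 2)) (d := Fintype.card K ^ (D.nroots / 2)) ?_ ?_ ?_ ?_ hg
  · rw [← hcard]; exact Subgroup.card_subgroup_dvd_card _
  · intro h
    refine Sylow.not_dvd_index S ?_
    rw [← Subgroup.card_mul_index (S : Subgroup ↥(D.group K)), hcard, pow_succ] at h
    exact (Nat.mul_dvd_mul_iff_left (pow_pos (Fact.out : p.Prime).pos _)).1 h
  · show D.steinbergCharacter K 1 = _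
    rw [C.steinberg_degree hchk]; push_cast; rfl
  · rw [hn, ← pow_mul]

end finite

end Full

end CfsgLib.Lie.Chev
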