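import Cfsg.Agent.Lib.Lie.Chev.ParabCent
import Cfsg.Agent.Lib.Lie.Chev.SylowU
import Mathlib.Topology.Order.Compact
import Mathlib.Analysis.Real.Sqrt

/-!
# The theorem of Borel and Tits for finite Chevalley groups

Among the dominant linear functions `f` on the roots such that a conjugate of the `p`-subgroup lies
in the product of the root subgroups with `f ≥ 1`, one of least norm is kept by the normalizer: an
element `b n u` moves it to the function `f ∘ w`, and the mean of the two would have smaller norm.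
-/

set_option autoImplicit false
set_option maxRecDepth 100000
set_option linter.unusedSectionVars false

namespace CfsgLib.Lie.Chev

open Cfsg.Lie
open scoped MatrixGroups

variable {D : ChevalleyDatum}

/-- the linear function on the roots with given values on the fundamental roots -/
noncomputable def fval (G : Good D) (c : Fin D.rank → ℝ) (r : Fin D.nroots) : ℝ :=
  ∑ j, (G.rho r j : ℝ) * c j

/-- the subgroup generated by the root elements of a set of roots -/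
noncomputable def RootGrp (G : Good D) (K : Type*) [Field K] (S : Fin D.nroots → Prop) :
    Subgroup (GL D.Idx K) :=
  Subgroup.closure {g | ∃ r t, S r ∧ g = G.xu r t}

/-- a set of positive roots closed under positive combinations -/
def PosClosed (G : Good D) (S : Fin D.nroots → Prop) : Prop :=
  (∀ r, S r → D.IsPosRoot r.val) ∧ ∀ (r s q : Fin D.nroots) (i j : ℕ), S r → S s → 1 ≤ i → 1 ≤ j →
    G.rho q = (i : ℤ) • G.rho r + (j : ℤ) • G.rho s → S q

/-- the squared norm of a linear function -/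
noncomputable def fnorm (G : Good D) (c : Fin D.rank → ℝ) : ℝ := ∑ r, fval G c r ^ 2

namespace Good

variable (G : Good D)

include G

theorem fval_combo (c : Fin D.rank → ℝ) {r s q : Fin D.nroots} {i j : ℕ}
    (h : G.rho q = (i : ℤ) • G.rho r + (j : ℤ) • G.rho s) :
    fval G c q = i * fval G c r + j * fval G c s := by
  simp only [fval, Finset.mul_sum, ← Finset.sum_add_distrib]
  refine Finset.sum_congr rfl fun m _ => ?_
  rw [h]
  simp only [Pi.add_apply, Pi.smul_apply, smul_eq_mul]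
  push_cast
  ring

theorem fval_simp (c : Fin D.rank → ℝ) (i : Fin D.rank) : fval G c (G.simp' i) = c i := by
  rw [fval, Finset.sum_eq_single i]
  · simp [G.rho_simp]
  · intro b _ hb; simp [G.rho_simp, hb]
  · simp

theorem fval_negr (c : Fin D.rank → ℝ) (r : Fin D.nroots) : fval G c (G.negr r) = - fval G c r := by
  simp [fval, G.rho_negr]

theorem fval_nonneg {c : Fin D.rank → ℝ} (hc : ∀ i, 0 ≤ c i) {r : Fin D.nroots}
    (hr : D.IsPosRoot r.val) : 0 ≤ fval G c r :=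
  Finset.sum_nonneg fun j _ => mul_nonneg (by exact_mod_cast G.rho_nonneg hr j) (hc j)

theorem pos_of_one_le {c : Fin D.rank → ℝ} (hc : ∀ i, 0 ≤ c i) {r : Fin D.nroots}
    (hr : 1 ≤ fval G c r) : D.IsPosRoot r.val := by
  by_contra h
  have := G.fval_nonneg hc ((G.negr_pos_iff r).2 h)
  rw [G.fval_negr] at this
  linarith

theorem posClosed_fval {c : Fin D.rank → ℝ} (hc : ∀ i, 0 ≤ c i) :
    PosClosed G (fun r => 1 ≤ fval G c r) := by
  refine ⟨fun r hr => G.pos_of_one_le hc hr, fun r s q i j hr hs hi hj h => ?_⟩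
  simp only at hr hs ⊢
  rw [G.fval_combo c h]
  have hi' : (1 : ℝ) ≤ i := by exact_mod_cast hi
  have hj' : (0 : ℝ) ≤ j := by positivity
  nlinarith

theorem exists_fval_pw (c : Fin D.rank → ℝ) {π : Equiv.Perm (Fin D.nroots)} (hπ : π ∈ G.Wg) :
    ∃ c' : Fin D.rank → ℝ, ∀ r, fval G c' r = fval G c (π r) := by
  obtain ⟨l, rfl⟩ := G.exists_pw hπ
  refine ⟨fun j => fval G c (G.pw l (G.simp' j)), fun r => ?_⟩
  simp only [fval, Finset.mul_sum]
  rw [G.rho_pw l r, Finset.sum_comm]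
  refine Finset.sum_congr rfl fun m _ => ?_
  simp only [Finset.sum_apply, Pi.smul_apply, smul_eq_mul]
  push_cast
  rw [Finset.sum_mul]
  exact Finset.sum_congr rfl fun j _ => by ring

theorem fnorm_comp {c c' : Fin D.rank → ℝ} {π : Equiv.Perm (Fin D.nroots)}
    (h : ∀ r, fval G c' r = fval G c (π r)) : fnorm G c' = fnorm G c := by
  simp only [fnorm, h]
  exact Equiv.sum_comp π (fun r => fval G c r ^ 2)

theorem exists_dominant (c : Fin D.rank → ℝ) :
    ∃ π ∈ G.Wg, ∃ c' : Fin D.rank → ℝ, (∀ i, 0 ≤ c' i) ∧ ∀ r, fval G c' r = fval G c (π r) := by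
  classical
  let S : Equiv.Perm (Fin D.nroots) → ℝ := fun π =>
    ∑ r ∈ Finset.univ.filter (fun r : Fin D.nroots => D.IsPosRoot r.val), fval G c (π r)
  obtain ⟨π, hπ, hmax⟩ := Finset.exists_max_image
    (Finset.univ.filter fun π : Equiv.Perm (Fin D.nroots) => π ∈ G.Wg) S
    ⟨1, by simp⟩
  rw [Finset.mem_filter] at hπ
  obtain ⟨c', hc'⟩ := G.exists_fval_pw c hπ.2
  refine ⟨π, hπ.2, c', fun i => ?_, hc'⟩
  rw [← G.fval_simp c' i, hc']
  have hmem : π * G.sP i ∈ G.Wg := mul_mem hπ.2 (Subgroup.subset_closure ⟨i, rfl⟩)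
  have h1 := hmax (π * G.sP i) (by simp [hmem])
  set P := Finset.univ.filter (fun r : Fin D.nroots => D.IsPosRoot r.val)
  have hi : G.simp' i ∈ P := by simp [P, G.simp_pos]
  have h2 : ∑ r ∈ P.erase (G.simp' i), fval G c ((π * G.sP i) r) =
      ∑ r ∈ P.erase (G.simp' i), fval G c (π r) := by
    refine Finset.sum_nbij' (G.w i) (G.w i) ?_ ?_ (fun r _ => G.w_w i r) (fun r _ => G.w_w i r)
      (fun r _ => rfl)
    all_goals
      intro r hr
      simp only [Finset.mem_coe, Finset.mem_erase, P, Finset.mem_filter, Finset.mem_univ, true_and] at hr ⊢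
      exact ⟨fun e => G.negr_simp_not_pos i (by
        have : r = G.negr (G.simp' i) := by rw [← G.w_simp, ← e, G.w_w]
        exact this ▸ hr.2), G.w_pos hr.2 hr.1⟩
  simp only [S] at h1
  rw [← Finset.add_sum_erase P _ hi, ← Finset.add_sum_erase P _ hi, h2] at h1
  rw [Equiv.Perm.mul_apply, G.sP_apply, G.w_simp] at h1
  obtain ⟨l, hl⟩ := G.exists_pw hπ.2
  rw [← hl, G.pw_negr, G.fval_negr, hl] at h1
  linarith

end Good

namespace Full

variable (C : Full D) {K : Type*} [Field K]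

include C

theorem rootGrp_mono {S T : Fin D.nroots → Prop} (h : ∀ r, S r → T r) {g : GL D.Idx K}
    (hg : g ∈ RootGrp C.G K S) : g ∈ RootGrp C.G K T :=
  (Subgroup.closure_mono (by rintro x ⟨r, t, hr, rfl⟩; exact ⟨r, t, h r hr, rfl⟩)) hg

theorem rootGrp_step {S : Fin D.nroots → Prop} (hS : PosClosed C.G S) {m : Fin D.nroots} {g : GL D.Idx K}
    (hg : g ∈ RootGrp C.G K (fun r => S r ∧ m.val ≤ r.val)) :
    ∃ t : K, (¬ S m → t = 0) ∧
      ∃ v ∈ RootGrp C.G K (fun r => S r ∧ m.val + 1 ≤ r.val), g = C.G.xu m t * v := by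
  by_cases hm : S m
  swap
  · refine ⟨0, fun _ => rfl, g, ?_, by rw [C.G.xu_zero, one_mul]⟩
    refine (Subgroup.closure_mono ?_) hg
    rintro x ⟨r, t, ⟨h1, h2⟩, rfl⟩
    exact ⟨r, t, ⟨h1, Nat.lt_of_le_of_ne h2 fun e => hm (Fin.ext e ▸ h1)⟩, rfl⟩
  suffices h : ∃ t : K, ∃ v ∈ RootGrp C.G K (fun r => S r ∧ m.val + 1 ≤ r.val), g = C.G.xu m t * v by
    obtain ⟨t, h⟩ := h
    exact ⟨t, fun h' => absurd hm h', h⟩
  have conj : ∀ (s : Fin D.nroots) (t u : K), S s → m.val + 1 ≤ s.val →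
      (C.G.xu m t)⁻¹ * C.G.xu s u * C.G.xu m t ∈ RootGrp C.G K (fun r => S r ∧ m.val + 1 ≤ r.val) := by
    intro s t u hs hle
    have hne : s ≠ m := fun e => by subst e; omega
    obtain ⟨l, hl, e⟩ := C.conj_xu m s hne (C.pos_ne_negr (hS.1 m hm) (hS.1 s hs)) t u
    rw [e]
    refine mul_mem (Subgroup.subset_closure ⟨s, u, ⟨hs, hle⟩, rfl⟩) (list_prod_mem fun x hx => ?_)
    obtain ⟨p, hp, rfl⟩ := List.mem_map.1 hx
    obtain ⟨i, j, hi, hj, hq⟩ := hl p hp
    obtain ⟨-, h2, -⟩ := C.rho_combo_index (hS.1 m hm) (hS.1 s hs) hi hj hq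
    exact Subgroup.subset_closure ⟨p.1, p.2, ⟨hS.2 m s p.1 i j hm hs hi hj hq, h2⟩, rfl⟩
  induction hg using Subgroup.closure_induction_left with
  | one => exact ⟨0, 1, one_mem _, by rw [C.G.xu_zero, mul_one]⟩
  | mul_left x hx y _ ih =>
    obtain ⟨t, v, hv, rfl⟩ := ih
    obtain ⟨s, u, ⟨hs, hle⟩, rfl⟩ := hx
    by_cases hsm : s = m
    · subst hsm; exact ⟨u + t, v, hv, by rw [C.G.xu_add, mul_assoc]⟩
    · exact ⟨t, ((C.G.xu m t)⁻¹ * C.G.xu s u * C.G.xu m t) * v,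
        mul_mem (conj s t u hs (Nat.lt_of_le_of_ne hle fun e => hsm (Fin.ext e.symm))) hv, by group⟩
  | inv_mul_cancel x hx y _ ih =>
    obtain ⟨t, v, hv, rfl⟩ := ih
    obtain ⟨s, u, ⟨hs, hle⟩, rfl⟩ := hx
    by_cases hsm : s = m
    · subst hsm; exact ⟨-u + t, v, hv, by rw [C.G.xu_inv, C.G.xu_add, mul_assoc]⟩
    · refine ⟨t, ((C.G.xu m t)⁻¹ * (C.G.xu s u)⁻¹ * C.G.xu m t) * v, mul_mem ?_ hv, by group⟩
      rw [C.G.xu_inv s]
      exact conj s t (-u) hs (Nat.lt_of_le_of_ne hle fun e => hsm (Fin.ext e.symm))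

theorem exists_coord {S : Fin D.nroots → Prop} (hS : PosClosed C.G S) :
    ∀ (d m : ℕ), m + d = D.nroots → ∀ g ∈ RootGrp C.G K (fun r => S r ∧ m ≤ r.val),
      ∃ t : Fin D.nroots → K, (∀ r, ¬ S r → t r = 0) ∧ g = C.uprod m t := by
  intro d
  induction d with
  | zero =>
    intro m hm g hg
    refine ⟨0, fun _ _ => rfl, ?_⟩
    rw [C.uprod_of_ge (by omega)]
    refine Subgroup.mem_bot.1 ((?_ : RootGrp C.G K (fun r => S r ∧ m ≤ r.val) ≤ ⊥) hg)
    rw [RootGrp, Subgroup.closure_le]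
    rintro x ⟨r, t, ⟨-, h⟩, -⟩
    have := r.isLt
    omega
  | succ d ih =>
    intro m hm g hg
    obtain ⟨t, ht, v, hv, rfl⟩ := C.rootGrp_step hS (m := ⟨m, by omega⟩) hg
    obtain ⟨u, hu, hv'⟩ := ih (m + 1) (by omega) v hv
    refine ⟨Function.update u ⟨m, by omega⟩ t, fun r hr => ?_, ?_⟩
    · by_cases e : r = ⟨m, by omega⟩
      · subst e; rw [Function.update_self]; exact ht hr
      · rw [Function.update_of_ne e]; exact hu r hr
    · have hcongr : C.uprod (m + 1) u = C.uprod (m + 1) (Function.update u ⟨m, by omega⟩ t) :=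
        C.uprod_congr fun r hr _ => by
          rw [Function.update_of_ne]
          intro e; subst e; simp at hr
      by_cases hp : D.IsPosRoot m
      · rw [C.uprod_step (by omega) hp, Function.update_self, hv', hcongr]
      · have h0 : t = 0 := ht fun h => hp (hS.1 _ h)
        rw [C.uprod_skip (by omega) hp, h0, C.G.xu_zero, one_mul, hv', hcongr, h0]

theorem rootGrp_inter {S T : Fin D.nroots → Prop} (hS : PosClosed C.G S) (hT : PosClosed C.G T)
    {g : GL D.Idx K} (h1 : g ∈ RootGrp C.G K S) (h2 : g ∈ RootGrp C.G K T) :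
    g ∈ RootGrp C.G K (fun r => S r ∧ T r) := by
  obtain ⟨t, ht, e⟩ := C.exists_coord hS D.nroots 0 (Nat.zero_add _) g
    (C.rootGrp_mono (fun r hr => ⟨hr, Nat.zero_le _⟩) h1)
  obtain ⟨t', ht', e'⟩ := C.exists_coord hT D.nroots 0 (Nat.zero_add _) g
    (C.rootGrp_mono (fun r hr => ⟨hr, Nat.zero_le _⟩) h2)
  have heq := C.uprod_inj D.nroots 0 (Nat.zero_add _) t t' (e.symm.trans e')
  have := C.uprod_mem_closure (fun r => S r ∧ T r) t fun r hr h => by
    by_cases hs : S r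
    · rw [heq r (Nat.zero_le _) hr]; exact ht' r fun h' => h ⟨hs, h'⟩
    · exact ht r hs
  rw [← e] at this
  exact C.rootGrp_mono (fun r hr => hr.2) this

theorem rootGrp_conj {n : GL D.Idx K} {π : Equiv.Perm (Fin D.nroots)} (hn : C.G.NPerm n π)
    {S T : Fin D.nroots → Prop} (h : ∀ r, S r → T (π r)) {g : GL D.Idx K}
    (hg : g ∈ RootGrp C.G K S) : n * g * n⁻¹ ∈ RootGrp C.G K T := by
  induction hg using Subgroup.closure_induction with
  | one => simp
  | mul a b _ _ ha hb =>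
    rw [show n * (a * b) * n⁻¹ = (n * a * n⁻¹) * (n * b * n⁻¹) by group]; exact mul_mem ha hb
  | inv a _ ha => rw [show n * a⁻¹ * n⁻¹ = (n * a * n⁻¹)⁻¹ by group]; exact inv_mem ha
  | mem x hx =>
    obtain ⟨r, t, hr, rfl⟩ := hx
    obtain ⟨c, hc⟩ := hn r
    rw [hc]
    exact Subgroup.subset_closure ⟨_, _, h r hr, rfl⟩

theorem rootGrp_borel {c : Fin D.rank → ℝ} (hc : ∀ i, 0 ≤ c i) {b g : GL D.Idx K}
    (hb : b ∈ D.borelSubgroup K) (hg : g ∈ RootGrp C.G K (fun r => 1 ≤ fval C.G c r)) :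
    b * g * b⁻¹ ∈ RootGrp C.G K (fun r => 1 ≤ fval C.G c r) := by
  obtain ⟨u, hu, h, hh, rfl⟩ := C.G.mem_borel_iff.1 hb
  have h1 := C.rootGrp_conj (C.G.nPerm_H hh) (T := fun r => 1 ≤ fval C.G c r) (fun r hr => hr) hg
  rw [show u * h * g * (u * h)⁻¹ = u * (h * g * h⁻¹) * u⁻¹ by group]
  revert h1
  generalize h * g * h⁻¹ = y
  rw [C.G.posUnipotent_eq] at hu
  clear hb
  intro hy
  have key : ∀ (r : Fin D.nroots) (t : K), D.IsPosRoot r.val →
      ∀ y ∈ RootGrp C.G K (fun r => 1 ≤ fval C.G c r),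
        C.G.xu r t * y * (C.G.xu r t)⁻¹ ∈ RootGrp C.G K (fun r => 1 ≤ fval C.G c r) := by
    intro r t hr y hy
    induction hy using Subgroup.closure_induction with
    | one => simp
    | mul p q _ _ hp hq =>
      rw [show C.G.xu r t * (p * q) * (C.G.xu r t)⁻¹ =
        (C.G.xu r t * p * (C.G.xu r t)⁻¹) * (C.G.xu r t * q * (C.G.xu r t)⁻¹) by group]
      exact mul_mem hp hq
    | inv p _ hp =>
      rw [show C.G.xu r t * p⁻¹ * (C.G.xu r t)⁻¹ = (C.G.xu r t * p * (C.G.xu r t)⁻¹)⁻¹ by group]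
      exact inv_mem hp
    | mem x hx =>
      obtain ⟨s, u, hs, rfl⟩ := hx
      have hspos := C.G.pos_of_one_le hc hs
      by_cases hsr : s = r
      · subst hsr
        rw [C.G.xu_inv, ← C.G.xu_add, ← C.G.xu_add, show t + u + -t = u by ring]
        exact Subgroup.subset_closure ⟨s, u, hs, rfl⟩
      · obtain ⟨l, hl, e⟩ := C.conj_xu r s hsr (C.pos_ne_negr hr hspos) (-t) u
        rw [C.G.xu_inv r (-t), neg_neg, ← C.G.xu_inv r t] at e
        rw [e]
        refine mul_mem (Subgroup.subset_closure ⟨s, u, hs, rfl⟩) (list_prod_mem fun x hx => ?_)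
        obtain ⟨p, hp, rfl⟩ := List.mem_map.1 hx
        obtain ⟨i, j, hi, hj, hq⟩ := hl p hp
        refine Subgroup.subset_closure ⟨p.1, p.2, ?_, rfl⟩
        show (1 : ℝ) ≤ fval C.G c p.1
        rw [C.G.fval_combo c hq]
        have := C.G.fval_nonneg hc hr
        have : (1 : ℝ) ≤ j := by exact_mod_cast hj
        have : (0 : ℝ) ≤ i := by positivity
        nlinarith
  induction hu using Subgroup.closure_induction_left generalizing y with
  | one => simpa using hy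
  | mul_left x hx z _ ih =>
    obtain ⟨r, t, -, hr, rfl⟩ := hx
    rw [show C.G.xu r t * z * y * (C.G.xu r t * z)⁻¹ =
      C.G.xu r t * (z * y * z⁻¹) * (C.G.xu r t)⁻¹ by group]
    exact key r t hr _ (ih y hy)
  | inv_mul_cancel x hx z _ ih =>
    obtain ⟨r, t, -, hr, rfl⟩ := hx
    rw [C.G.xu_inv, show C.G.xu r (-t) * z * y * (C.G.xu r (-t) * z)⁻¹ =
      C.G.xu r (-t) * (z * y * z⁻¹) * (C.G.xu r (-t))⁻¹ by group]
    exact key r (-t) hr _ (ih y hy)

theorem mem_WJ_of_fixes {c : Fin D.rank → ℝ} (hc : ∀ i, 0 ≤ c i) {J : Finset (Fin D.rank)}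
    (hJ : ∀ i, i ∈ J ↔ c i = 0) :
    ∀ (k : ℕ) (π : Equiv.Perm (Fin D.nroots)), π ∈ C.G.Wg → ninv C.G π ≤ k →
      (∀ r, fval C.G c (π r) = fval C.G c r) → π ∈ WJ C.G J := by
  intro k
  induction k with
  | zero => intro π hπ h _; rw [C.ninv_eq_zero hπ (by omega)]; exact one_mem _
  | succ k ih =>
    intro π hπ h hfix
    by_cases hz : ninv C.G π = 0
    · rw [C.ninv_eq_zero hπ hz]; exact one_mem _
    · obtain ⟨l, rfl⟩ := C.G.exists_pw hπ
      obtain ⟨i, hi⟩ : ∃ i, ¬ D.IsPosRoot (C.G.pw l (C.G.simp' i)).val := by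
        by_contra hall
        push Not at hall
        have h1 := C.G.pw_eq_one_of_pos _ l rfl hall
        refine hz ?_
        rw [h1]
        simp [ninv]
      have hci : c i = 0 := by
        have h1 := C.G.fval_nonneg hc ((C.G.negr_pos_iff _).2 hi)
        rw [C.G.fval_negr, hfix, C.G.fval_simp] at h1
        exact le_antisymm (by linarith) (hc i)
      have hlt := C.G.ninv_mul_sP_lt hπ hi
      have hmem := ih (C.G.pw l * C.G.sP i) (mul_mem hπ (Subgroup.subset_closure ⟨i, rfl⟩))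
        (by omega) fun r => by
          rw [Equiv.Perm.mul_apply, hfix, C.G.sP_apply, fval, fval]
          refine Finset.sum_congr rfl fun j _ => ?_
          rw [C.G.rho_w]
          by_cases e : j = i
          · subst e; simp [hci]
          · simp [e]
      have := mul_mem hmem (C.G.sP_mem_WJ ((hJ i).2 hci))
      rwa [mul_assoc, C.G.sP_mul_self, mul_one] at this

/-- a `p`-subgroup is conjugate into the positive unipotent group -/
theorem conj_le_posUnipotent [Fintype K] (p : ℕ) [Fact p.Prime] [CharP K p] (U : Subgroup (GL D.Idx K))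
    (hUG : U ≤ D.group K) (hU : IsPGroup p U) :
    ∃ g ∈ D.group K, ∀ d ∈ U, g * d * g⁻¹ ∈ D.posUnipotent K := by
  classical
  obtain ⟨P, hP⟩ := C.exists_sylow (F := K) p
  obtain ⟨Q, hQ⟩ := (hU.comap_of_injective (D.group K).subtype Subtype.val_injective).exists_le_sylow
  obtain ⟨g, hg⟩ := MulAction.exists_smul_eq (↥(D.group K)) Q P
  refine ⟨g, g.2, fun d hd => ?_⟩
  have h2 : (⟨d, hUG hd⟩ : ↥(D.group K)) ∈ (Q : Subgroup ↥(D.group K)) := hQ hd
  have h3 : g * ⟨d, hUG hd⟩ * g⁻¹ ∈ ((g • Q : Sylow p ↥(D.group K)) : Subgroup ↥(D.group K)) :=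
    ⟨_, h2, rfl⟩
  rw [hg, hP] at h3
  exact h3

/-- **Borel–Tits**, for every element mapping the conjugate into the same product of root subgroups, for
a subgroup conjugate into the positive unipotent group. -/
theorem borel_tits_of_conj (U : Subgroup (GL D.Idx K)) (hne : U ≠ ⊥)
    (hconj : ∃ g ∈ D.group K, ∀ d ∈ U, g * d * g⁻¹ ∈ D.posUnipotent K) :
    ∃ g ∈ D.group K, ∃ J : Finset (Fin D.rank), J ≠ Finset.univ ∧ ∃ c : Fin D.rank → ℝ,
      (∀ d ∈ U, g * d * g⁻¹ ∈ RootGrp C.G K (fun r => 1 ≤ fval C.G c r)) ∧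
      RootGrp C.G K (fun r => 1 ≤ fval C.G c r) ≤ UR C.G J ∧
      ∀ y ∈ D.group K, (∀ d ∈ U, y * (g * d * g⁻¹) * y⁻¹ ∈ RootGrp C.G K (fun r => 1 ≤ fval C.G c r)) →
        y ∈ C.PJ J := by
  classical
  -- the admissible sets and functions
  let Adm : Set (Finset (Fin D.nroots)) :=
    {A | ∃ g ∈ D.group K, ∀ d ∈ U, g * d * g⁻¹ ∈ RootGrp C.G K (fun r => r ∈ A)}
  let GoodSet : Set (Fin D.rank → ℝ) :=
    ⋃ A ∈ Adm, {c | (∀ i, 0 ≤ c i) ∧ ∀ r ∈ A, 1 ≤ fval C.G c r}
  have hcont : ∀ r, Continuous fun c : Fin D.rank → ℝ => fval C.G c r := fun r =>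
    continuous_finsetSum _ fun j _ => continuous_const.mul (continuous_apply j)
  have hclosed : IsClosed GoodSet := by
    refine (Set.toFinite Adm).isClosed_biUnion fun A _ => ?_
    have : {c : Fin D.rank → ℝ | (∀ i, 0 ≤ c i) ∧ ∀ r ∈ A, 1 ≤ fval C.G c r} =
        (⋂ i, {c | 0 ≤ c i}) ∩ ⋂ r ∈ A, {c | 1 ≤ fval C.G c r} := by
      ext c; simp
    rw [this]
    exact (isClosed_iInter fun i => isClosed_le continuous_const (continuous_apply i)).inter
      (isClosed_biInter fun r _ => isClosed_le continuous_const (hcont r))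
  -- membership
  have hgood : ∀ c : Fin D.rank → ℝ, (∀ i, 0 ≤ c i) →
      (∃ g ∈ D.group K, ∀ d ∈ U, g * d * g⁻¹ ∈ RootGrp C.G K (fun r => 1 ≤ fval C.G c r)) →
      c ∈ GoodSet := by
    rintro c hc ⟨g, hg, hd⟩
    refine Set.mem_biUnion (x := Finset.univ.filter fun r => 1 ≤ fval C.G c r) ⟨g, hg, fun d hd' => ?_⟩
      ⟨hc, fun r hr => (Finset.mem_filter.1 hr).2⟩
    simpa using hd d hd'
  obtain ⟨c₀, hc₀⟩ : GoodSet.Nonempty := by
    obtain ⟨g, hg, hgU⟩ := hconj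
    refine ⟨fun _ => 1, hgood _ (fun _ => zero_le_one) ⟨g, hg, fun d hd => ?_⟩⟩
    have h1 := hgU d hd
    rw [C.G.posUnipotent_eq] at h1
    refine (Subgroup.closure_mono ?_) h1
    rintro x ⟨r, t, -, hr, rfl⟩
    refine ⟨r, t, ?_, rfl⟩
    have hsum : (1 : ℤ) ≤ ∑ j, C.G.rho r j := by
      obtain ⟨φ, hφ⟩ := C.G.primitive r
      by_contra hlt
      have h0 : ∀ j ∈ Finset.univ, C.G.rho r j = 0 := (Finset.sum_eq_zero_iff_of_nonneg
        fun j _ => C.G.rho_nonneg hr j).1 (le_antisymm (by omega)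
          (Finset.sum_nonneg fun j _ => C.G.rho_nonneg hr j))
      simp [Finset.sum_eq_zero (fun j hj => by rw [h0 j hj, mul_zero] : ∀ j ∈ Finset.univ, φ j * C.G.rho r j = 0)] at hφ
    show (1 : ℝ) ≤ fval C.G (fun _ => 1) r
    simp only [fval, mul_one]
    exact_mod_cast hsum
  have hQcont : Continuous (fnorm C.G) := continuous_finsetSum _ fun r _ => (hcont r).pow 2
  have hbound : ∀ c, fnorm C.G c ≤ fnorm C.G c₀ →
      c ∈ Set.Icc (fun _ => -(fnorm C.G c₀ + 1)) (fun _ : Fin D.rank => fnorm C.G c₀ + 1) := by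
    intro c hc
    have h : ∀ i, c i ^ 2 ≤ fnorm C.G c₀ := fun i => le_trans (by
      rw [← C.G.fval_simp c i]
      exact Finset.single_le_sum (f := fun r => fval C.G c r ^ 2) (fun r _ => sq_nonneg _)
        (Finset.mem_univ _)) hc
    exact ⟨fun i => by nlinarith [h i], fun i => by nlinarith [h i]⟩
  obtain ⟨c, ⟨hcG, hcQ⟩, hmin⟩ := IsCompact.exists_isMinOn
    (s := GoodSet ∩ {c | fnorm C.G c ≤ fnorm C.G c₀})
    ((isCompact_Icc.of_isClosed_subset (hclosed.inter (isClosed_le hQcont continuous_const))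
      fun c hc => hbound c hc.2)) ⟨c₀, hc₀, show fnorm C.G c₀ ≤ fnorm C.G c₀ from le_rfl⟩ hQcont.continuousOn
  have hbest : ∀ c' ∈ GoodSet, fnorm C.G c ≤ fnorm C.G c' := fun c' hc' => by
    rcases le_total (fnorm C.G c') (fnorm C.G c₀) with h | h
    · exact hmin ⟨hc', h⟩
    · exact hcQ.trans h
  obtain ⟨A, ⟨g, hg, hgA⟩, hcA⟩ := Set.mem_iUnion₂.1 hcG
  obtain ⟨hc, hcA⟩ : (∀ i, 0 ≤ c i) ∧ ∀ r ∈ A, 1 ≤ fval C.G c r := hcA
  have hUc : ∀ d ∈ U, g * d * g⁻¹ ∈ RootGrp C.G K (fun r => 1 ≤ fval C.G c r) := fun d hd =>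
    C.rootGrp_mono hcA (hgA d hd)
  let J : Finset (Fin D.rank) := Finset.univ.filter fun i => c i = 0
  have hJ : ∀ i, i ∈ J ↔ c i = 0 := fun i => by simp [J]
  refine ⟨g, hg, J, ?_, c, hUc, ?_, ?_⟩
  · intro hall
    refine hne ((Subgroup.eq_bot_iff_forall U).2 fun d hd => ?_)
    have h0 : ∀ i, c i = 0 := fun i => (hJ i).1 (hall ▸ Finset.mem_univ i)
    have h := hUc d hd
    have : RootGrp C.G K (fun r => 1 ≤ fval C.G c r) ≤ ⊥ := by
      rw [RootGrp, Subgroup.closure_le]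
      rintro x ⟨r, t, hr, -⟩
      simp [fval, h0] at hr
      linarith
    exact conj_eq_one_iff.1 (Subgroup.mem_bot.1 (this h))
  · refine Subgroup.closure_mono ?_
    rintro x ⟨r, t, hr, rfl⟩
    refine ⟨r, t, ⟨C.G.pos_of_one_le hc hr, fun hin => ?_⟩, rfl⟩
    have h0 : fval C.G c r = 0 := Finset.sum_eq_zero fun j _ => by
      by_cases hj : j ∈ J
      · rw [(hJ j).1 hj, mul_zero]
      · rw [hin j hj, Int.cast_zero, zero_mul]
    linarith
  intro x hx hxU
  obtain ⟨b, hb, n, hn, π, hπ, u, hu, e⟩ := C.refined_exists hx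
  have hπW := C.perm_mem_Wg hn hπ
  have huB : u ∈ D.borelSubgroup K := Subgroup.mem_sup_left (C.G.Uinv_le π hu)
  obtain ⟨c₁, hc₁⟩ := C.G.exists_fval_pw c hπW
  let cm : Fin D.rank → ℝ := fun i => (c i + c₁ i) / 2
  have hcm : ∀ r, fval C.G cm r = (fval C.G c r + fval C.G c₁ r) / 2 := fun r => by
    simp only [fval, cm, ← Finset.sum_add_distrib, Finset.sum_div]
    exact Finset.sum_congr rfl fun j _ => by ring
  let S : Fin D.nroots → Prop := fun r => 1 ≤ fval C.G c r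
  let T : Fin D.nroots → Prop := fun r => D.IsPosRoot r.val ∧ D.IsPosRoot (π r).val
  have hSc : PosClosed C.G S := C.G.posClosed_fval hc
  -- the conjugate lies in the intersection
  have hmid : ∀ d ∈ U, u * (g * d * g⁻¹) * u⁻¹ ∈ RootGrp C.G K (fun r => 1 ≤ fval C.G cm r) := by
    intro d hd
    have hy : u * (g * d * g⁻¹) * u⁻¹ ∈ RootGrp C.G K S := C.rootGrp_borel hc huB (hUc d hd)
    have hz : n * (u * (g * d * g⁻¹) * u⁻¹) * n⁻¹ ∈ RootGrp C.G K S := by
      have h1 := C.rootGrp_borel hc (inv_mem hb) (hxU d hd)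
      rwa [show b⁻¹ * (x * (g * d * g⁻¹) * x⁻¹) * b⁻¹⁻¹ =
        n * (u * (g * d * g⁻¹) * u⁻¹) * n⁻¹ by rw [e]; group] at h1
    generalize u * (g * d * g⁻¹) * u⁻¹ = y at hy hz
    have hSU : ∀ z ∈ RootGrp C.G K S, z ∈ D.posUnipotent K := fun z hz' => by
      induction hz' using Subgroup.closure_induction with
      | one => exact one_mem _
      | mul p q _ _ hp hq => exact mul_mem hp hq
      | inv p _ hp => exact inv_mem hp
      | mem x hx => obtain ⟨r, t, hr, rfl⟩ := hx; exact C.G.xu_mem_U (hSc.1 r hr) t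
    obtain ⟨a, ha, v, hv, rfl⟩ := C.exists_keep_mul_inv π (hSU _ hy)
    have hv1 : v = 1 := by
      have h2 : n * v * n⁻¹ ∈ D.posUnipotent K := by
        rw [show n * v * n⁻¹ = (n * a * n⁻¹)⁻¹ * (n * (a * v) * n⁻¹) by group]
        exact mul_mem (inv_mem (C.G.conj_Ukeep hπ a ha)) (hSU _ hz)
      have h3 : n * v * n⁻¹ ∈ D.posUnipotent K ⊓ D.negUnipotent K :=
        Subgroup.mem_inf.2 ⟨h2, C.G.conj_Uinv hπ v hv⟩
      rw [C.G.U_inf_V_eq, Subgroup.mem_bot] at h3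
      exact conj_eq_one_iff.1 h3
    subst hv1
    rw [mul_one] at hy hz ⊢
    have haT : a ∈ RootGrp C.G K T := ha
    have hTc : PosClosed C.G T := ⟨fun r hr => hr.1, fun r s q i j hr hs hi hj h => by
      refine ⟨(C.rho_combo_index hr.1 hs.1 hi hj h).1, ?_⟩
      obtain ⟨l, rfl⟩ := C.G.exists_pw hπW
      refine (C.rho_combo_index hr.2 hs.2 hi hj ?_).1
      rw [C.G.rho_pw l q, C.G.rho_pw l r, C.G.rho_pw l s, h]
      simp only [Pi.add_apply, Pi.smul_apply, add_smul, Finset.smul_sum, Finset.sum_add_distrib,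
        smul_smul, smul_eq_mul]⟩
    -- `n a n⁻¹` lies in the roots of `S` kept positive by the inverse
    let T' : Fin D.nroots → Prop := fun r => D.IsPosRoot r.val ∧ D.IsPosRoot (π⁻¹ r).val
    have hT'c : PosClosed C.G T' := ⟨fun r hr => hr.1, fun r s q i j hr hs hi hj h => by
      refine ⟨(C.rho_combo_index hr.1 hs.1 hi hj h).1, ?_⟩
      obtain ⟨l, rfl⟩ := C.G.exists_pw hπW
      simp only [T', ← C.G.pw_reverse] at hr hs ⊢
      refine (C.rho_combo_index hr.2 hs.2 hi hj ?_).1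
      rw [C.G.rho_pw l.reverse q, C.G.rho_pw l.reverse r, C.G.rho_pw l.reverse s, h]
      simp only [Pi.add_apply, Pi.smul_apply, add_smul, Finset.smul_sum, Finset.sum_add_distrib,
        smul_smul, smul_eq_mul]⟩
    have hzT : n * a * n⁻¹ ∈ RootGrp C.G K T' := C.rootGrp_conj hπ (fun r hr => ⟨hr.2, by
      rw [show π⁻¹ (π r) = r from π.symm_apply_apply r]; exact hr.1⟩) haT
    have h4 := C.rootGrp_conj (Good.NPerm.inv C.G hπ)
      (T := fun r => T r ∧ S (π r)) (fun r hr => ⟨⟨hr.2.2, by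
        rw [show π (π⁻¹ r) = r from π.apply_symm_apply r]; exact hr.2.1⟩, by
        rw [show π (π⁻¹ r) = r from π.apply_symm_apply r]; exact hr.1⟩)
      (C.rootGrp_inter hSc hT'c hz hzT)
    rw [show n⁻¹ * (n * a * n⁻¹) * n⁻¹⁻¹ = a by group] at h4
    have hclosed2 : PosClosed C.G (fun r => T r ∧ S (π r)) := ⟨fun r hr => hr.1.1,
      fun r s q i j hr hs hi hj h => ⟨hTc.2 r s q i j hr.1 hs.1 hi hj h, by
        obtain ⟨l, rfl⟩ := C.G.exists_pw hπW
        refine hSc.2 _ _ _ i j hr.2 hs.2 hi hj ?_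
        rw [C.G.rho_pw l q, C.G.rho_pw l r, C.G.rho_pw l s, h]
        simp only [Pi.add_apply, Pi.smul_apply, add_smul, Finset.smul_sum, Finset.sum_add_distrib,
          smul_smul, smul_eq_mul]⟩⟩
    refine (Subgroup.closure_mono ?_) (C.rootGrp_inter hSc hclosed2 hy h4)
    rintro x ⟨r, t, ⟨hr1, -, hr2⟩, rfl⟩
    refine ⟨r, t, ?_, rfl⟩
    show 1 ≤ fval C.G cm r
    rw [hcm, hc₁]
    simp only [S] at hr1 hr2
    linarith
  obtain ⟨ρ, hρ, cd, hcd, hcdeq⟩ := C.G.exists_dominant cm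
  have hcdG : cd ∈ GoodSet := by
    refine hgood cd hcd ⟨(C.nr ρ : GL D.Idx K)⁻¹ * (u * g),
      mul_mem (inv_mem (C.G.monomial_le_group (C.nr_mem ρ))) (mul_mem (C.G.borel_le_group huB) hg),
      fun d hd => ?_⟩
    have := C.rootGrp_conj (Good.NPerm.inv C.G (C.nr_perm hρ))
      (T := fun r => 1 ≤ fval C.G cd r)
      (fun r hr => by rw [hcdeq, show ρ (ρ⁻¹ r) = r from ρ.apply_symm_apply r]; exact hr) (hmid d hd)
    rw [show (C.nr ρ : GL D.Idx K)⁻¹ * (u * g) * d * ((C.nr ρ : GL D.Idx K)⁻¹ * (u * g))⁻¹ =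
      (C.nr ρ : GL D.Idx K)⁻¹ * (u * (g * d * g⁻¹) * u⁻¹) * (C.nr ρ : GL D.Idx K)⁻¹⁻¹ by group]
    exact this
  have hfix : ∀ r, fval C.G c (π r) = fval C.G c r := by
    have h1 := hbest cd hcdG
    rw [C.G.fnorm_comp hcdeq] at h1
    have h2 := C.G.fnorm_comp hc₁
    have key : ∑ r, (fval C.G c r - fval C.G c₁ r) ^ 2 ≤ 0 := by
      have e1 : ∑ r, (fval C.G c r - fval C.G c₁ r) ^ 2 =
          2 * fnorm C.G c + 2 * fnorm C.G c₁ - 4 * fnorm C.G cm := by
        simp only [fnorm, hcm, Finset.mul_sum, ← Finset.sum_add_distrib, ← Finset.sum_sub_distrib]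
        exact Finset.sum_congr rfl fun r _ => by ring
      rw [e1, h2]
      linarith
    intro r
    have := (Finset.sum_eq_zero_iff_of_nonneg fun r _ => sq_nonneg _).1
      (le_antisymm key (Finset.sum_nonneg fun r _ => sq_nonneg _)) r (Finset.mem_univ r)
    rw [sq_eq_zero_iff, sub_eq_zero, hc₁] at this
    exact this.symm
  refine C.mem_PJ_of_cell (C.mem_WJ_of_fixes hc hJ _ π hπW le_rfl hfix) ?_
  exact ⟨b, hb, n, hn, hπ, u, huB, e⟩

variable [Fintype K]

/-- **Borel–Tits**, for every element mapping the conjugate into the same product of root subgroups. -/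
theorem borel_tits_strong (p : ℕ) [Fact p.Prime] [CharP K p] (U : Subgroup (GL D.Idx K))
    (hUG : U ≤ D.group K) (hU : IsPGroup p U) (hne : U ≠ ⊥) :
    ∃ g ∈ D.group K, ∃ J : Finset (Fin D.rank), J ≠ Finset.univ ∧ ∃ c : Fin D.rank → ℝ,
      (∀ d ∈ U, g * d * g⁻¹ ∈ RootGrp C.G K (fun r => 1 ≤ fval C.G c r)) ∧
      RootGrp C.G K (fun r => 1 ≤ fval C.G c r) ≤ UR C.G J ∧
      ∀ y ∈ D.group K, (∀ d ∈ U, y * (g * d * g⁻¹) * y⁻¹ ∈ RootGrp C.G K (fun r => 1 ≤ fval C.G c r)) →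
        y ∈ C.PJ J :=
  C.borel_tits_of_conj U hne (C.conj_le_posUnipotent p U hUG hU)

/-- **Borel–Tits.** -/
theorem borel_tits (p : ℕ) [Fact p.Prime] [CharP K p] (U : Subgroup (GL D.Idx K))
    (hUG : U ≤ D.group K) (hU : IsPGroup p U) (hne : U ≠ ⊥) :
    ∃ g ∈ D.group K, ∃ J : Finset (Fin D.rank), J ≠ Finset.univ ∧
      (∀ d ∈ U, g * d * g⁻¹ ∈ (UR C.G J : Subgroup (GL D.Idx K))) ∧
      ∀ x ∈ D.group K, (∀ d ∈ U, x * d * x⁻¹ ∈ U) → g * x * g⁻¹ ∈ C.PJ J := by
  obtain ⟨g, hg, J, hJ, c, hUc, hle, hN⟩ := C.borel_tits_strong p U hUG hU hne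
  refine ⟨g, hg, J, hJ, fun d hd => hle (hUc d hd), fun x hx hxU =>
    hN _ (mul_mem (mul_mem hg hx) (inv_mem hg)) fun d hd => ?_⟩
  rw [show g * x * g⁻¹ * (g * d * g⁻¹) * (g * x * g⁻¹)⁻¹ = g * (x * d * x⁻¹) * g⁻¹ by group]
  exact hUc _ (hxU d hd)

end Full

end CfsgLib.Lie.Chev
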