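import Cfsg.Agent.Lib.Lie.Chev.Cent
import Cfsg.Agent.Lib.Lie.SL2Rel

/-!
# `SL(2, K)` and a pair of opposite root subgroups
-/

set_option autoImplicit false

namespace CfsgLib.Lie.Chev

open Cfsg.Lie
open scoped MatrixGroups

variable {D : ChevalleyDatum} {K : Type*} [Field K]

namespace Good

variable (G : Good D)

include G

theorem cart_simp_self (i : Fin D.rank) : cart D i (G.simp' i) = 2 := by
  have h := congrFun (G.rho_w i (G.simp' i)) i
  rw [G.w_simp, G.rho_negr, G.rho_simp] at h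
  simp at h
  linarith

theorem nE_xu (r : Fin D.nroots) : ∀ t u : K, t ≠ 0 →
    G.nE r t * G.xu r u * (G.nE r t)⁻¹ = G.xu (G.negr r) (-(t⁻¹ ^ 2 * u)) := by
  revert r
  refine G.orbit _ (fun i _ t u ht => ?_) fun i r hr t u ht => ?_
  · rw [show t = ((Units.mk0 t ht : Kˣ) : K) from rfl, G.nE_simp]
    set h := G.hd (G.simp' i) (Units.mk0 t ht)
    rw [show h * G.nU i * G.xu (G.simp' i) u * (h * G.nU i)⁻¹ =
      h * (G.nU i * G.xu (G.simp' i) u * (G.nU i)⁻¹) * h⁻¹ by group]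
    rw [G.nU_xu, mul_assoc (G.xu _ _) (G.nU i), mul_inv_cancel, mul_one, G.w_simp, G.eta_simp]
    have hv : h = G.tor fun l => Units.mk0 t ht ^ G.pair (G.simp' i) l := rfl
    rw [hv, G.tor_conj_xu]
    congr 1
    rw [G.rho_negr, ← neg_one_smul ℤ, G.chi_zsmul, G.rho_simp, G.chi_single, G.pair_simp, G.cart_simp_self]
    simp [zpow_two, sq]
  · have e := hr ((G.eta i r : K) * t) ((G.eta i r : K) * u)
    have he2 : (G.eta i r : K) * (G.eta i r : K) = 1 := by
      rcases G.eta_unit i r with e | e <;> rw [e] <;> norm_num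
    have hne : (G.eta i r : K) ≠ 0 := left_ne_zero_of_mul_eq_one he2
    have e2 := e (mul_ne_zero hne ht)
    have hA : G.nU i * G.nE r ((G.eta i r : K) * t) * (G.nU i)⁻¹ = G.nE (G.w i r) t := by
      rw [G.nU_nE, mul_assoc _ (G.nU i), mul_inv_cancel, mul_one, ← mul_assoc, he2, one_mul]
    have hB : ∀ (s : Fin D.nroots) (v : K),
        G.nU i * G.xu s v * (G.nU i)⁻¹ = G.xu (G.w i s) ((G.eta i s : K) * v) := by
      intro s v
      rw [G.nU_xu, mul_assoc _ (G.nU i), mul_inv_cancel, mul_one]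
    have hB' : G.nU i * G.xu r ((G.eta i r : K) * u) * (G.nU i)⁻¹ = G.xu (G.w i r) u := by
      rw [hB, ← mul_assoc, he2, one_mul]
    rw [← hA, ← hB', show ∀ a b n : GL D.Idx K,
      n * a * n⁻¹ * (n * b * n⁻¹) * (n * a * n⁻¹)⁻¹ = n * (a * b * a⁻¹) * n⁻¹ from fun a b n => by group,
      e2, hB, G.w_negr]
    congr 1
    have heta : (G.eta i (G.negr r) : K) = (G.eta i r : K) := by
      have := G.eta_negr i r
      rcases G.eta_unit i r with a | a <;> rcases G.eta_unit i (G.negr r) with b | b <;> simp_all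
    rw [heta]
    field_simp

/-- the family of a pair of opposite roots -/
noncomputable def sl2Fam (r : Fin D.nroots) : CfsgLib.Lie.SL2Rel.Fam K (GL D.Idx K) where
  x := G.xu r
  y := G.xu (G.negr r)
  x_add := G.xu_add r
  y_add := G.xu_add (G.negr r)
  rel := fun t u ht => G.nE_xu r t u ht

theorem sl2Fam_mult (r : Fin D.nroots) : (G.sl2Fam (K := K) r).Mult := by
  intro t s ht hs
  show G.hE r t * G.hE r s = G.hE r (t * s)
  have e : t * s = ((Units.mk0 t ht * Units.mk0 s hs : Kˣ) : K) := rfl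
  rw [e, show G.hE r t = G.hd r (Units.mk0 t ht) from G.hE_eq r (Units.mk0 t ht),
    show G.hE r s = G.hd r (Units.mk0 s hs) from G.hE_eq r (Units.mk0 s hs), G.hE_eq, map_mul]

theorem exists_sl2_hom (r : Fin D.nroots) :
    ∃ φ : Matrix.SpecialLinearGroup (Fin 2) K →* GL D.Idx K,
      φ.range = D.rootSubgroup K r.val ⊔ D.rootSubgroup K (D.neg r.val) ∧
      ∀ (g : Matrix.SpecialLinearGroup (Fin 2) K) (t : K),
        ((g : Matrix (Fin 2) (Fin 2) K) = !![1, t; 0, 1] →
          ((φ g : GL D.Idx K) : Matrix D.Idx D.Idx K) = D.x K r.val t) ∧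
        ((g : Matrix (Fin 2) (Fin 2) K) = !![1, 0; t, 1] →
          ((φ g : GL D.Idx K) : Matrix D.Idx D.Idx K) = D.x K (D.neg r.val) t) := by
  refine ⟨(G.sl2Fam r).hom (G.sl2Fam_mult r), ?_, fun g t => ⟨fun e => ?_, fun e => ?_⟩⟩
  · rw [CfsgLib.Lie.SL2Rel.Fam.hom_range, G.neg_val, G.rootSubgroup_closure, G.rootSubgroup_closure,
      ← Subgroup.closure_union]
    congr 1
    ext x
    simp [sl2Fam, eq_comm]
  · rw [show g = CfsgLib.Lie.SL2Rel.Fam.upper t from Subtype.ext e, CfsgLib.Lie.SL2Rel.Fam.hom_upper,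
      G.x_eq_xu]
    rfl
  · rw [show g = CfsgLib.Lie.SL2Rel.Fam.lower t from Subtype.ext e, CfsgLib.Lie.SL2Rel.Fam.hom_lower,
      G.neg_val, G.x_eq_xu]
    rfl

end Good

end CfsgLib.Lie.Chev
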