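import Cfsg.Agent.Lib.Lie.Chev.Bruhat
import Cfsg.Agent.Lib.Lie.Chev.TorCard

/-!
# Maps of coefficient fields and fixed points of field automorphisms
-/

set_option autoImplicit false

namespace CfsgLib.Lie.Chev

open Cfsg.Lie
open scoped MatrixGroups

variable {D : ChevalleyDatum} {K L : Type*} [Field K] [Field L]

/-- entrywise application of a field homomorphism -/
def fmap (D : ChevalleyDatum) (f : K →+* L) : GL D.Idx K →* GL D.Idx L :=
  Units.map (f.mapMatrix.toMonoidHom)

theorem coe_fmap (f : K →+* L) (g : GL D.Idx K) :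
    (fmap D f g : Matrix D.Idx D.Idx L) = (g : Matrix D.Idx D.Idx K).map f := rfl

theorem fmap_injective (f : K →+* L) : Function.Injective (fmap D f) := fun g g' h =>
  Units.ext (Matrix.map_injective f.injective (congrArg (fun u : GL D.Idx L => (u : Matrix D.Idx D.Idx L)) h))

theorem fmap_fmap {M : Type*} [Field M] (f : K →+* L) (f' : L →+* M) (g : GL D.Idx K) :
    fmap D f' (fmap D f g) = fmap D (f'.comp f) g :=
  Units.ext (by ext i j; rfl)

theorem fmap_id (g : GL D.Idx K) : fmap D (RingHom.id K) g = g := Units.ext (by ext i j; rfl)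

namespace Good

variable (G : Good D)

include G

theorem fmap_xu (f : K →+* L) (r : Fin D.nroots) (t : K) : fmap D f (G.xu r t) = G.xu r (f t) :=
  Units.ext (xg_map f r t)

theorem fmap_tor (f : K →+* L) (c : Fin D.rank → Kˣ) :
    fmap D f (G.tor c) = G.tor (fun i => Units.map f.toMonoidHom (c i)) := by
  apply Units.ext
  rw [coe_fmap, coe_tor, coe_tor, Matrix.diagonal_map (map_zero f)]
  congr 1
  funext b
  simp only [chi, ← map_zpow, ← map_prod]
  rfl

theorem fmap_torθ (f : K →+* L) (c : Fin D.rank → Kˣ) :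
    fmap D f (G.torθ c) = G.torθ (fun i => Units.map f.toMonoidHom (c i)) := by
  simp only [torθ, MonoidHom.comp_apply, MonoidHom.coe_mk, OneHom.coe_mk]
  rw [G.fmap_tor]
  congr 1
  funext l
  simp [map_prod]

theorem fmap_nU (f : K →+* L) (i : Fin D.rank) : fmap D f (G.nU i) = G.nU i := by
  simp [nU, map_mul, G.fmap_xu]

theorem fmap_nw (f : K →+* L) (l : List (Fin D.rank)) : fmap D f (G.nw l) = G.nw l := by
  rw [nw, nw, map_list_prod, List.map_map]
  congr 1
  exact List.map_congr_left fun i _ => G.fmap_nU f i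

theorem fmap_mem_closure (f : K →+* L) (P : Fin D.nroots → Prop) {g : GL D.Idx K}
    (hg : g ∈ Subgroup.closure {g : GL D.Idx K | ∃ r t, P r ∧ g = G.xu r t}) :
    fmap D f g ∈ Subgroup.closure {g : GL D.Idx L | ∃ r t, P r ∧ g = G.xu r t} := by
  have h := Subgroup.mem_map_of_mem (fmap D f) hg
  rw [MonoidHom.map_closure] at h
  refine (Subgroup.closure_mono ?_) h
  rintro _ ⟨_, ⟨r, t, hr, rfl⟩, rfl⟩
  exact ⟨r, f t, hr, G.fmap_xu f r t⟩

theorem fmap_mem_U (f : K →+* L) {g : GL D.Idx K} (hg : g ∈ D.posUnipotent K) :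
    fmap D f g ∈ D.posUnipotent L := by
  rw [G.posUnipotent_eq_closure] at hg ⊢
  exact G.fmap_mem_closure f _ hg

theorem fmap_mem_Uinv (f : K →+* L) (π : Equiv.Perm (Fin D.nroots)) {g : GL D.Idx K}
    (hg : g ∈ (Uinv G π : Subgroup (GL D.Idx K))) :
    fmap D f g ∈ (Uinv G π : Subgroup (GL D.Idx L)) :=
  G.fmap_mem_closure f _ hg

theorem fmap_mem_Uge (f : K →+* L) (m : ℕ) {g : GL D.Idx K} (hg : g ∈ G.Uge (K := K) m) :
    fmap D f g ∈ G.Uge (K := L) m := by
  have h := Subgroup.mem_map_of_mem (fmap D f) hg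
  rw [Uge, MonoidHom.map_closure] at h
  refine (Subgroup.closure_mono ?_) h
  rintro _ ⟨_, ⟨r, t, h1, h2, rfl⟩, rfl⟩
  exact ⟨r, f t, h1, h2, G.fmap_xu f r t⟩

theorem fmap_mem_H (f : K →+* L) {g : GL D.Idx K} (hg : g ∈ D.diagonalSubgroup K) :
    fmap D f g ∈ D.diagonalSubgroup L := by
  rw [G.diagonal_eq_range] at hg ⊢
  obtain ⟨c, rfl⟩ := hg
  exact ⟨_, (G.fmap_torθ f c).symm⟩

theorem fmap_mem_group (f : K →+* L) {g : GL D.Idx K} (hg : g ∈ D.group K) :
    fmap D f g ∈ D.group L := by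
  rw [G.group_eq] at hg ⊢
  have h := Subgroup.mem_map_of_mem (fmap D f) hg
  rw [MonoidHom.map_closure] at h
  refine (Subgroup.closure_mono ?_) h
  rintro _ ⟨_, ⟨r, t, rfl⟩, rfl⟩
  exact ⟨r, f t, G.fmap_xu f r t⟩

/-- isomorphic fields give isomorphic groups -/
theorem nonempty_groupEquiv (e : K ≃+* L) : Nonempty (↥(D.group K) ≃* ↥(D.group L)) := by
  refine ⟨MonoidHom.toMulEquiv
    (((fmap D e.toRingHom).comp (D.group K).subtype).codRestrict _ fun g => G.fmap_mem_group _ g.2)
    (((fmap D e.symm.toRingHom).comp (D.group L).subtype).codRestrict _ fun g => G.fmap_mem_group _ g.2)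
    ?_ ?_⟩
  · ext g i j; simp [coe_fmap]
  · ext g i j; simp [coe_fmap]

theorem xu_injective (r : Fin D.nroots) : Function.Injective (G.xu (K := K) r) := by
  intro a b h
  have : G.xu r (a - b) = 1 := by
    rw [sub_eq_add_neg, G.xu_add, ← G.xu_inv, h, mul_inv_cancel]
  exact sub_eq_zero.1 ((G.xu_eq_one_iff r _).1 this)

/-- the parametrisation of `H` is injective if the cokernel of the Cartan matrix has order prime to
the group of units -/
theorem torθ_injective [Fintype K] (T : KerData D.rank) (hT : T.Ok (cmat D))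
    (hd : (Nat.gcd T.d (Fintype.card K - 1)) ^ T.k = 1) : Function.Injective (G.torθ (K := K)) := by
  classical
  have h := G.card_diagonal (K := K) T hT
  rw [hd, one_mul, G.diagonal_eq_range] at h
  have h2 : Function.Bijective (G.torθ (K := K)).rangeRestrict := by
    refine (Nat.bijective_iff_surjective_and_card _).2 ⟨MonoidHom.rangeRestrict_surjective _, ?_⟩
    rw [h, Nat.card_fun, Nat.card_units, Nat.card_fin, Nat.card_eq_fintype_card]
  exact fun a b e => h2.1 (Subtype.ext e)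

end Good

namespace Full

variable (C : Full D)

include C

theorem fmap_uprod (f : K →+* L) (m : ℕ) (t : Fin D.nroots → K) :
    fmap D f (C.uprod m t) = C.uprod m fun r => f (t r) := by
  rw [uprod, uprod, map_list_prod, List.map_map]
  congr 1
  exact List.map_congr_left fun r _ => C.G.fmap_xu f r (t r)

/-- the fixed points of a field automorphism come from the fixed field -/
theorem fixed_mem_range (σ : L →+* L) (ι : K →+* L) (hι : ∀ x, σ x = x → ∃ y, ι y = x)
    (hinj : Function.Injective (C.G.torθ (K := L))) {g : GL D.Idx L} (hg : g ∈ D.group L)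
    (hfix : fmap D σ g = g) : g ∈ (D.group K).map (fmap D ι) := by
  classical
  obtain ⟨b, hb, n, hn, π, hπ, u, hu, rfl⟩ := C.refined_exists hg
  obtain ⟨h, hh, l, rfl⟩ := C.G.monomial_decomp hn
  obtain ⟨v, hv, d, hd, rfl⟩ := C.G.mem_borel_iff.1 hb
  -- absorb the diagonal part into the left factor
  set w := C.G.nw (K := L) l
  have hB : v * (d * h) ∈ D.borelSubgroup L :=
    mul_mem (Subgroup.mem_sup_left hv) (Subgroup.mem_sup_right (mul_mem hd hh))
  have hw : C.G.NPerm w π := by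
    have h1 := Good.NPerm.mul C.G (C.G.nPerm_H (inv_mem hh)) hπ
    rw [one_mul, ← mul_assoc, inv_mul_cancel, one_mul] at h1
    exact h1
  have e1 : v * d * (h * w) * u = v * (d * h) * w * u := by group
  rw [e1] at hfix ⊢
  have hσB : fmap D σ v * fmap D σ (d * h) ∈ D.borelSubgroup L :=
    mul_mem (Subgroup.mem_sup_left (C.G.fmap_mem_U σ hv))
      (Subgroup.mem_sup_right (C.G.fmap_mem_H σ (mul_mem hd hh)))
  rw [map_mul, map_mul, map_mul, C.G.fmap_nw] at hfix
  obtain ⟨e2, e3⟩ := C.refined_unique hσB hB hw (C.G.fmap_mem_Uinv σ π hu) hu hfix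
  have e4 := C.G.eq_one_of_U_H (u := v⁻¹ * fmap D σ v)
    (h := fmap D σ (d * h) * (d * h)⁻¹)
    (mul_mem (inv_mem hv) (C.G.fmap_mem_U σ hv))
    (mul_mem (C.G.fmap_mem_H σ (mul_mem hd hh)) (inv_mem (mul_mem hd hh))) (by
      rw [mul_assoc, ← mul_assoc (fmap D σ v), e2]; group)
  have fU : ∀ x ∈ D.posUnipotent L, fmap D σ x = x → x ∈ (D.group K).map (fmap D ι) := by
    intro x hx hσx
    rw [C.G.posUnipotent_eq] at hx
    obtain ⟨t, rfl⟩ := C.exists_uprod D.nroots 0 (Nat.zero_add _) x hx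
    rw [C.fmap_uprod] at hσx
    have ht := C.uprod_inj D.nroots 0 (Nat.zero_add _) _ _ hσx
    choose y hy using fun r : {r : Fin D.nroots // D.IsPosRoot r.val} =>
      hι (t r.1) (ht r.1 (Nat.zero_le _) r.2)
    refine ⟨C.uprod 0 fun r => if hr : D.IsPosRoot r.val then y ⟨r, hr⟩ else 0, ?_, ?_⟩
    · refine list_prod_mem fun x hx => ?_
      obtain ⟨r, -, rfl⟩ := List.mem_map.1 hx
      exact C.G.xu_mem r _
    · rw [C.fmap_uprod]
      exact C.uprod_congr fun r _ hr => by rw [dif_pos hr, hy]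
  refine mul_mem (mul_mem (mul_mem (fU v hv (inv_mul_eq_one.1 e4.1).symm) ?_) ?_)
    (fU u (C.G.Uinv_le π hu) e3)
  · have hfx := mul_inv_eq_one.1 e4.2
    obtain ⟨c, hc⟩ : ∃ c, C.G.torθ c = d * h :=
      MonoidHom.mem_range.1 (C.G.diagonal_eq_range (K := L) ▸ mul_mem hd hh)
    rw [← hc, C.G.fmap_torθ] at hfx
    have hcf := hinj hfx
    choose y hy using fun i => hι (c i : L) (congrArg Units.val (congrFun hcf i))
    have hy0 : ∀ i, y i ≠ 0 := fun i h0 => (c i).ne_zero (by rw [← hy i, h0, map_zero])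
    refine ⟨C.G.torθ fun i => Units.mk0 (y i) (hy0 i), ?_, ?_⟩
    · exact C.G.diagonal_le_group
        ((C.G.diagonal_eq_range (K := K)).symm ▸ MonoidHom.mem_range.2 ⟨_, rfl⟩)
    · rw [C.G.fmap_torθ, ← hc]
      congr 1
      funext i
      exact Units.ext (hy i)
  · exact ⟨C.G.nw l, list_prod_mem fun x hx => by
      obtain ⟨i, -, rfl⟩ := List.mem_map.1 hx
      exact mul_mem (mul_mem (C.G.xu_mem _ _) (C.G.xu_mem _ _)) (C.G.xu_mem _ _), C.G.fmap_nw ι l⟩

end Full

end CfsgLib.Lie.Chev
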