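import Cfsg.Agent.Lib.Lie.Chev.Cert
import Cfsg.Prelude.Def_ChevB2

/-!
Re-coded tables for type B2; they are compared with the tables of the datum by `chkRows`.
-/

set_option autoImplicit false
set_option maxRecDepth 100000

namespace CfsgLib.Lie.Chev

/-- the re-coded tables for type B2 -/
def fastB2 : Fast where
  t1 := (.node 4 (.node 2 (.node 1 (.leaf 0x3ff1c0524040000000000000000000020032803) (.leaf 0x1c0803ff18062405000028030000000024042004)) (.node 3 (.leaf 0x2409180703ff000024040000180300001c052805) (.leaf 0x2408000003ff00001c040000000028061806))) (.node 6 (.node 5 (.leaf 0x2409000003ff00001c05000018072807) (.leaf 0x280a00001c09000003ff28061c0424081808)) (.node 7 (.leaf 0x180a00001c08280703ff24051c092009) (.leaf 0x1c09240803ff200a180a))))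
  t2 := (.node 4 (.node 2 (.node 1 (.leaf 0x1c03000000000000000000000000000000000000) (.leaf 0x24061c0400002403000000000000000000000000)) (.node 3 (.leaf 0x1c0700001c0500001c0300000000000000000000) (.leaf 0x1c06000000000000000000000000))) (.node 6 (.node 5 (.leaf 0x1c0700000000000000000000) (.leaf 0x1c0a00001c0800001c0600000000)) (.node 7 (.leaf 0x240a00001c09240700000000) (.leaf 0x1c0a00000000))))
  t3 := (.node 4 (.node 2 (.node 1 (.leaf 0x0) (.leaf 0x0)) (.node 3 (.leaf 0x0) (.leaf 0x0))) (.node 6 (.node 5 (.leaf 0x0) (.leaf 0x0)) (.node 7 (.leaf 0x0) (.leaf 0x0))))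
  cor := (.node 4 (.node 2 (.node 1 (.leaf [(0,-1),(1,-1)]) (.leaf [(0,-1),(1,-2)])) (.node 3 (.leaf [(0,-1),(1,0)]) (.leaf [(0,0),(1,-1)]))) (.node 6 (.node 5 (.leaf [(0,0),(1,1)]) (.leaf [(0,1),(1,0)])) (.node 7 (.leaf [(0,1),(1,2)]) (.leaf [(0,1),(1,1)]))))
  tA := (.node 1 (.leaf 0xa0008000a0006000a000600080006) (.leaf 0x800090007000a0006000900070008))
  rho := (.node 4 (.node 2 (.node 1 (.leaf [-2,-1]) (.leaf [-1,-1])) (.node 3 (.leaf [-1,0]) (.leaf [0,-1]))) (.node 6 (.node 5 (.leaf [0,1]) (.leaf [1,0])) (.node 7 (.leaf [1,1]) (.leaf [2,1]))))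
  negs := (.node 4 (.node 2 (.node 1 (.leaf 7) (.leaf 6)) (.node 3 (.leaf 5) (.leaf 4))) (.node 6 (.node 5 (.leaf 3) (.leaf 2)) (.node 7 (.leaf 1) (.leaf 0))))
  simples := (.node 1 (.leaf 5) (.leaf 4))
  tw := (.node 1 (.leaf 0x4040406040204070400040504010403) (.leaf 0x70405000604030404000104020000))
  parent := (.node 4 (.node 2 (.node 1 (.leaf (2,0,3)) (.leaf (2,1,2))) (.node 3 (.leaf (1,0,5)) (.leaf (1,1,4)))) (.node 6 (.node 5 (.leaf (0,0,0)) (.leaf (0,0,0))) (.node 7 (.leaf (1,1,5)) (.leaf (1,0,4)))))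
  bez := (.node 4 (.node 2 (.node 1 (.leaf [-1,0]) (.leaf [-1,0])) (.node 3 (.leaf [-1,0]) (.leaf [0,-1]))) (.node 6 (.node 5 (.leaf [0,1]) (.leaf [1,0])) (.node 7 (.leaf [1,0]) (.leaf [1,0]))))
  base := 6
  reps := [0,1]

end CfsgLib.Lie.Chev
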