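import Cfsg.Agent.Lib.Lie.Chev.Mk2
import Cfsg.Agent.Lib.Lie.Chev.TblB2

/-!
The verified structure of the datum of type B2.
-/

set_option autoImplicit false
set_option maxRecDepth 100000

namespace CfsgLib.Lie.Chev

open Cfsg.Lie

theorem chkRows_B2 : chkRows chevB2 fastB2 = true := by decide +kernel

theorem chkRoots_B2 : chkRoots chevB2 fastB2 = true := by decide +kernel

theorem chkWeight_B2 : chkWeight chevB2 fastB2 = true := by decide +kernel

theorem chkPow_B2 : chkPow chevB2 fastB2 = true := by decide +kernel

theorem chkN_B2 : chkN chevB2 fastB2 = true := by decide +kernel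

theorem chkEquiv_B2 : chkEquiv chevB2 fastB2 = true := by decide +kernel

theorem chkJac_B2 : chkJac chevB2 fastB2 = true := by decide +kernel

theorem chkOrbit_B2 : chkOrbit chevB2 fastB2 = true := by decide +kernel

theorem chkReflect_B2 : chkReflect chevB2 fastB2 = true := by decide +kernel

theorem checksB2 : Checks chevB2 fastB2 :=
  ⟨chkRows_B2, chkRoots_B2, chkWeight_B2, chkPow_B2, chkN_B2, chkEquiv_B2, chkJac_B2, chkOrbit_B2, chkReflect_B2⟩

/-- the verified structure of type B2 -/
noncomputable def goodB2 : Good chevB2 := checksB2.good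

end CfsgLib.Lie.Chev
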