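import Cfsg.Agent.Lib.Lie.Chev.Mk2
import Cfsg.Agent.Lib.Lie.Chev.TblD4

/-!
The verified structure of the datum of type D4.
-/

set_option autoImplicit false
set_option maxRecDepth 100000

namespace CfsgLib.Lie.Chev

open Cfsg.Lie

theorem chkRows_D4 : chkRows chevD4 fastD4 = true := by decide +kernel

theorem chkRoots_D4 : chkRoots chevD4 fastD4 = true := by decide +kernel

theorem chkWeight_D4 : chkWeight chevD4 fastD4 = true := by decide +kernel

theorem chkPow_D4 : chkPow chevD4 fastD4 = true := by decide +kernel

theorem chkN_D4 : chkN chevD4 fastD4 = true := by decide +kernel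

theorem chkEquiv_D4 : chkEquiv chevD4 fastD4 = true := by decide +kernel

theorem chkJac_D4 : chkJac chevD4 fastD4 = true := by decide +kernel

theorem chkOrbit_D4 : chkOrbit chevD4 fastD4 = true := by decide +kernel

theorem chkReflect_D4 : chkReflect chevD4 fastD4 = true := by decide +kernel

theorem checksD4 : Checks chevD4 fastD4 :=
  ⟨chkRows_D4, chkRoots_D4, chkWeight_D4, chkPow_D4, chkN_D4, chkEquiv_D4, chkJac_D4, chkOrbit_D4, chkReflect_D4⟩

/-- the verified structure of type D4 -/
noncomputable def goodD4 : Good chevD4 := checksD4.good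

end CfsgLib.Lie.Chev
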