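import Cfsg.Agent.Lib.Lie.Chev.Mk2
import Cfsg.Agent.Lib.Lie.Chev.TblE6

/-!
The verified structure of the datum of type E6.
-/

set_option autoImplicit false
set_option maxRecDepth 100000

namespace CfsgLib.Lie.Chev

open Cfsg.Lie

theorem chkRows_E6 : chkRows chevE6 fastE6 = true := by decide +kernel

theorem chkRoots_E6 : chkRoots chevE6 fastE6 = true := by decide +kernel

theorem chkWeight_E6 : chkWeight chevE6 fastE6 = true := by decide +kernel

theorem chkPow_E6 : chkPow chevE6 fastE6 = true := by decide +kernel

theorem chkN_E6 : chkN chevE6 fastE6 = true := by decide +kernel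

theorem chkEquiv_E6 : chkEquiv chevE6 fastE6 = true := by decide +kernel

theorem chkJac_E6 : chkJac chevE6 fastE6 = true := by decide +kernel

theorem chkOrbit_E6 : chkOrbit chevE6 fastE6 = true := by decide +kernel

theorem chkReflect_E6 : chkReflect chevE6 fastE6 = true := by decide +kernel

theorem checksE6 : Checks chevE6 fastE6 :=
  ⟨chkRows_E6, chkRoots_E6, chkWeight_E6, chkPow_E6, chkN_E6, chkEquiv_E6, chkJac_E6, chkOrbit_E6, chkReflect_E6⟩

/-- the verified structure of type E6 -/
noncomputable def goodE6 : Good chevE6 := checksE6.good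

end CfsgLib.Lie.Chev
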