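import Cfsg.Agent.Lib.Lie.Chev.TblE7

/-!
Kernel-checked certificates for type E7, part 0.
-/

set_option autoImplicit false
set_option maxRecDepth 100000

namespace CfsgLib.Lie.Chev

open Cfsg.Lie

theorem chkRows_E7 : chkRows chevE7 fastE7 = true := by decide +kernel

theorem chkRoots_E7 : chkRoots chevE7 fastE7 = true := by decide +kernel

theorem chkWeight_E7 : chkWeight chevE7 fastE7 = true := by decide +kernel

end CfsgLib.Lie.Chev
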