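import Cfsg.Agent.Lib.Lie.Chev.Mk2
import Cfsg.Agent.Lib.Lie.Chev.TblE7
import Cfsg.Agent.Lib.Lie.Chev.ChkE70
import Cfsg.Agent.Lib.Lie.Chev.ChkE71
import Cfsg.Agent.Lib.Lie.Chev.ChkE72

/-!
The verified structure of the datum of type E7.
-/

set_option autoImplicit false
set_option maxRecDepth 100000

namespace CfsgLib.Lie.Chev

open Cfsg.Lie

theorem checksE7 : Checks chevE7 fastE7 :=
  ⟨chkRows_E7, chkRoots_E7, chkWeight_E7, chkPow_E7, chkN_E7, chkEquiv_E7, chkJac_E7, chkOrbit_E7, chkReflect_E7⟩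

/-- the verified structure of type E7 -/
noncomputable def goodE7 : Good chevE7 := checksE7.good

end CfsgLib.Lie.Chev
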