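import Cfsg.Agent.Lib.Lie.Chev.TblE8

/-!
Kernel-checked certificates for type E8, part 4.
-/

set_option autoImplicit false
set_option maxRecDepth 100000

namespace CfsgLib.Lie.Chev

open Cfsg.Lie

theorem chkEquiv_E8 : chkEquiv chevE8 fastE8 = true := by decide +kernel

end CfsgLib.Lie.Chev
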