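import Cfsg.Agent.Lib.Lie.Chev.Mk2
import Cfsg.Agent.Lib.Lie.Chev.TblE8
import Cfsg.Agent.Lib.Lie.Chev.ChkE80
import Cfsg.Agent.Lib.Lie.Chev.ChkE81
import Cfsg.Agent.Lib.Lie.Chev.ChkE82
import Cfsg.Agent.Lib.Lie.Chev.ChkE83
import Cfsg.Agent.Lib.Lie.Chev.ChkE84
import Cfsg.Agent.Lib.Lie.Chev.ChkE85
import Cfsg.Agent.Lib.Lie.Chev.ChkE86

/-!
The verified structure of the datum of type E8.
-/

set_option autoImplicit false
set_option maxRecDepth 100000

namespace CfsgLib.Lie.Chev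

open Cfsg.Lie

theorem checksE8 : Checks chevE8 fastE8 :=
  ⟨chkRows_E8, chkRoots_E8, chkWeight_E8, chkPow_E8, chkN_E8, chkEquiv_E8, chkJac_E8, chkOrbit_E8, chkReflect_E8⟩

/-- the verified structure of type E8 -/
noncomputable def goodE8 : Good chevE8 := checksE8.good

end CfsgLib.Lie.Chev
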