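import Cfsg.Agent.Lib.Lie.Chev.Mk2
import Cfsg.Agent.Lib.Lie.Chev.TblF4

/-!
The verified structure of the datum of type F4.
-/

set_option autoImplicit false
set_option maxRecDepth 100000

namespace CfsgLib.Lie.Chev

open Cfsg.Lie

theorem chkRows_F4 : chkRows chevF4 fastF4 = true := by decide +kernel

theorem chkRoots_F4 : chkRoots chevF4 fastF4 = true := by decide +kernel

theorem chkWeight_F4 : chkWeight chevF4 fastF4 = true := by decide +kernel

theorem chkPow_F4 : chkPow chevF4 fastF4 = true := by decide +kernel

theorem chkN_F4 : chkN chevF4 fastF4 = true := by decide +kernel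

theorem chkEquiv_F4 : chkEquiv chevF4 fastF4 = true := by decide +kernel

theorem chkJac_F4 : chkJac chevF4 fastF4 = true := by decide +kernel

theorem chkOrbit_F4 : chkOrbit chevF4 fastF4 = true := by decide +kernel

theorem chkReflect_F4 : chkReflect chevF4 fastF4 = true := by decide +kernel

theorem checksF4 : Checks chevF4 fastF4 :=
  ⟨chkRows_F4, chkRoots_F4, chkWeight_F4, chkPow_F4, chkN_F4, chkEquiv_F4, chkJac_F4, chkOrbit_F4, chkReflect_F4⟩

/-- the verified structure of type F4 -/
noncomputable def goodF4 : Good chevF4 := checksF4.good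

end CfsgLib.Lie.Chev
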