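import Cfsg.Agent.Lib.Lie.Chev.Cert
import Cfsg.Prelude.Def_ChevG2

/-!
Re-coded tables for type G2; they are compared with the tables of the datum by `chkRows`.
-/

set_option autoImplicit false
set_option maxRecDepth 100000

namespace CfsgLib.Lie.Chev

/-- the re-coded tables for type G2 -/
def fastG2 : Fast where
  t1 := (.node 6 (.node 3 (.node 1 (.leaf 0x3ff1c081c0624050000240400000000000000000000000024032003) (.node 2 (.leaf 0x1c0903ff1c070000240500002403000000000000000000001c042c04) (.leaf 0x1c0b1c0a03ff28071806000000002c042c0300000000000020052405))) (.node 4 (.leaf 0x240c0000280a03ff1408240700001805000014030000000024061c06) (.node 5 (.leaf 0x240c180b140903ff00002406000028051404000000001c072807) (.leaf 0x240d00000000240a000003ff00001c06000000001c03000028081408)))) (.node 9 (.node 7 (.leaf 0x240e00000000240b000003ff00001c07000000001c0418092c09) (.node 8 (.leaf 0x2c0d180c00001c0b000003ff2c0828061c050000240a180a) (.leaf 0x2c0e0000280c00001c0a2c0903ff180700001c051c0b240b)))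 (.node 10 (.leaf 0x140e140d00000000280b180a03ff24072406200c1c0c) (.node 11 (.leaf 0x1c0e00001c0c0000240a03ff2408240d140d) (.leaf 0x1c0d00001c0c240b240903ff1c0e200e)))))
  t2 := (.node 6 (.node 3 (.node 1 (.leaf 0x1c030000000000000000000000000000000000000000000000000000) (.node 2 (.leaf 0x1c04000000000000000000000000000000000000000000000000) (.leaf 0x1c0724061c052c041403000000000000000000000000000000000000))) (.node 4 (.leaf 0x240a000014081c0600001c0500002c03000000000000000000000000) (.node 5 (.leaf 0x1c0b2c0900001c07000024050000140400000000000000000000) (.leaf 0x1c0800000000000000000000000000000000)))) (.node 9 (.node 7 (.leaf 0x1c090000000000000000000000000000) (.node 8 (.leaf 0x140d0000240c00001c0a00002c081c06000000000000) (.leaf 0x2c0e00001c0c00001c0b14090000240700000000))) (.node 10 (.leaf 0x140e2c0d1c0c240b1c0a00000000) (.node 11 (.leaf 0x1c0d000000000000) (.leaf 0x1c0e00000000)))))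
  t3 := (.node 6 (.node 3 (.node 1 (.leaf 0x0) (.node 2 (.leaf 0x0) (.leaf 0x1c042403000000000000000000000000000000000000000000000000))) (.node 4 (.leaf 0x1c080000000000000000240300000000000000000000000000000000) (.node 5 (.leaf 0x240900000000000000001c040000000000000000000000000000) (.leaf 0x0)))) (.node 9 (.node 7 (.leaf 0x0) (.node 8 (.leaf 0x240d00000000000000001c08000000000000) (.leaf 0x1c0e0000000000000000240900000000))) (.node 10 (.leaf 0x1c0e240d00000000) (.node 11 (.leaf 0x0) (.leaf 0x0)))))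
  cor := (.node 6 (.node 3 (.node 1 (.leaf [(0,-1),(1,-2)]) (.node 2 (.leaf [(0,-1),(1,-1)]) (.leaf [(0,-2),(1,-3)]))) (.node 4 (.leaf [(0,-1),(1,-3)]) (.node 5 (.leaf [(0,-1),(1,0)]) (.leaf [(0,0),(1,-1)])))) (.node 9 (.node 7 (.leaf [(0,0),(1,1)]) (.node 8 (.leaf [(0,1),(1,0)]) (.leaf [(0,1),(1,3)]))) (.node 10 (.leaf [(0,2),(1,3)]) (.node 11 (.leaf [(0,1),(1,1)]) (.leaf [(0,1),(1,2)])))))
  tA := (.node 1 (.leaf 0x8000b00090007000a0005000b00060009000700050008) (.leaf 0x90007000800090007000a000600090007000800090007))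
  rho := (.node 6 (.node 3 (.node 1 (.leaf [-3,-2]) (.node 2 (.leaf [-3,-1]) (.leaf [-2,-1]))) (.node 4 (.leaf [-1,-1]) (.node 5 (.leaf [-1,0]) (.leaf [0,-1])))) (.node 9 (.node 7 (.leaf [0,1]) (.node 8 (.leaf [1,0]) (.leaf [1,1]))) (.node 10 (.leaf [2,1]) (.node 11 (.leaf [3,1]) (.leaf [3,2])))))
  negs := (.node 6 (.node 3 (.node 1 (.leaf 11) (.node 2 (.leaf 10) (.leaf 9))) (.node 4 (.leaf 8) (.node 5 (.leaf 7) (.leaf 6)))) (.node 9 (.node 7 (.leaf 5) (.node 8 (.leaf 4) (.leaf 3))) (.node 10 (.leaf 2) (.node 11 (.leaf 1) (.leaf 0)))))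
  simples := (.node 1 (.leaf 7) (.leaf 6))
  tw := (.node 1 (.leaf 0xb0406040800090404000a000104070002040304050000) (.leaf 0x40a000b0009040700080405040600030404000200000401))
  parent := (.node 6 (.node 3 (.node 1 (.leaf (3,1,1)) (.node 2 (.leaf (2,0,5)) (.leaf (3,0,3)))) (.node 4 (.leaf (2,1,4)) (.node 5 (.leaf (1,0,7)) (.leaf (1,1,6))))) (.node 9 (.node 7 (.leaf (0,0,0)) (.node 8 (.leaf (0,0,0)) (.leaf (1,1,7)))) (.node 10 (.leaf (2,0,8)) (.node 11 (.leaf (1,0,6)) (.leaf (2,1,10))))))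
  bez := (.node 6 (.node 3 (.node 1 (.leaf [-1,0]) (.node 2 (.leaf [-1,0]) (.leaf [-5,3]))) (.node 4 (.leaf [-1,0]) (.node 5 (.leaf [-1,0]) (.leaf [0,-1])))) (.node 9 (.node 7 (.leaf [0,1]) (.node 8 (.leaf [1,0]) (.leaf [1,0]))) (.node 10 (.leaf [-4,3]) (.node 11 (.leaf [1,0]) (.leaf [1,0])))))
  base := 8
  reps := [0,1]

end CfsgLib.Lie.Chev
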