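import Cfsg.Agent.Lib.Lie.Chev.Mk2
import Cfsg.Agent.Lib.Lie.Chev.TblG2

/-!
The verified structure of the datum of type G2.
-/

set_option autoImplicit false
set_option maxRecDepth 100000

namespace CfsgLib.Lie.Chev

open Cfsg.Lie

theorem chkRows_G2 : chkRows chevG2 fastG2 = true := by decide +kernel

theorem chkRoots_G2 : chkRoots chevG2 fastG2 = true := by decide +kernel

theorem chkWeight_G2 : chkWeight chevG2 fastG2 = true := by decide +kernel

theorem chkPow_G2 : chkPow chevG2 fastG2 = true := by decide +kernel

theorem chkN_G2 : chkN chevG2 fastG2 = true := by decide +kernel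

theorem chkEquiv_G2 : chkEquiv chevG2 fastG2 = true := by decide +kernel

theorem chkJac_G2 : chkJac chevG2 fastG2 = true := by decide +kernel

theorem chkOrbit_G2 : chkOrbit chevG2 fastG2 = true := by decide +kernel

theorem chkReflect_G2 : chkReflect chevG2 fastG2 = true := by decide +kernel

theorem checksG2 : Checks chevG2 fastG2 :=
  ⟨chkRows_G2, chkRoots_G2, chkWeight_G2, chkPow_G2, chkN_G2, chkEquiv_G2, chkJac_G2, chkOrbit_G2, chkReflect_G2⟩

/-- the verified structure of type G2 -/
noncomputable def goodG2 : Good chevG2 := checksG2.good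

end CfsgLib.Lie.Chev
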