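import Cfsg.Agent.Lib.Lie.Chev.Unip
import Cfsg.Agent.Lib.Lie.Chev.All
import Cfsg.Agent.Lib.Lie.Chev.CommG2
import Cfsg.Agent.Lib.Lie.Chev.CommB2
import Cfsg.Agent.Lib.Lie.Chev.CommD4
import Cfsg.Agent.Lib.Lie.Chev.CommF4
import Cfsg.Agent.Lib.Lie.Chev.CommE6
import Cfsg.Agent.Lib.Lie.Chev.CommE7
import Cfsg.Agent.Lib.Lie.Chev.CommE8

/-!
# All seven tabulated data satisfy the commutator formula
-/

set_option autoImplicit false

namespace CfsgLib.Lie.Chev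

open Cfsg.Lie

theorem nonempty_full {D : ChevalleyDatum}
    (hD : D ∈ [chevG2, chevB2, chevD4, chevF4, chevE6, chevE7, chevE8]) : Nonempty (Full D) := by
  simp only [List.mem_cons, List.not_mem_nil, or_false] at hD
  rcases hD with rfl | rfl | rfl | rfl | rfl | rfl | rfl
  exacts [⟨⟨goodG2, fastG2, rowsOK chkRows_G2, chkComm_G2⟩⟩,
    ⟨⟨goodB2, fastB2, rowsOK chkRows_B2, chkComm_B2⟩⟩,
    ⟨⟨goodD4, fastD4, rowsOK chkRows_D4, chkComm_D4⟩⟩,
    ⟨⟨goodF4, fastF4, rowsOK chkRows_F4, chkComm_F4⟩⟩,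
    ⟨⟨goodE6, fastE6, rowsOK chkRows_E6, chkComm_E6⟩⟩,
    ⟨⟨goodE7, fastE7, rowsOK chkRows_E7, chkComm_E7⟩⟩,
    ⟨⟨goodE8, fastE8, rowsOK chkRows_E8, chkComm_E8⟩⟩]

/-- the verified structure of a tabulated datum, with the commutator formula -/
noncomputable def fullOf {D : ChevalleyDatum}
    (hD : D ∈ [chevG2, chevB2, chevD4, chevF4, chevE6, chevE7, chevE8]) : Full D :=
  (nonempty_full hD).some

end CfsgLib.Lie.Chev
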