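import Cfsg.Agent.Lib.Lie.Chev.PoinCert
import Cfsg.Agent.Lib.Lie.Chev.GoodG2

/-!
The length generating function of the Weyl group of type G2.
-/

set_option autoImplicit false
set_option maxRecDepth 100000
set_option maxHeartbeats 1000000

namespace CfsgLib.Lie.Chev

open Cfsg.Lie

/-- data of step 0 for type G2 -/
def stepG2_0 : Step where
  I := [1]
  J := []
  m := 2
  P := (.node 1 (.leaf 0xb000a0009000800070006000500040003000200010000) (.leaf 0xa000b0009000700080005000600030004000200000001))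
  par := (.node 1 (.leaf (0, 0)) (.leaf (1, 0)))
  nx := (.node 1 (.leaf [(1, 0)]) (.leaf [(0, 0)]))
  N := [0, 1]

theorem chkStepG2_0 : chkStep chevG2 fastG2 stepG2_0 = true := by decide +kernel

theorem poinPolyG2_0 (q : ℤ) :
    (stepG2_0.N.map fun a => q ^ a).sum * (q - 1) * (1) = (q ^ 2 - 1) := by
  simp only [stepG2_0, List.map_cons, List.map_nil, List.sum_cons, List.sum_nil]
  ring

theorem poinStepG2_0 (G : Good chevG2) (q : ℤ) :
    Psum G (idxSet chevG2 [1]) q * (q - 1) ^ 1 = (q ^ 2 - 1) := by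
  have h := G.Psum_of_chk (S := stepG2_0) (G.w_eq_wF checksG2) (G.simples_eq' checksG2)
    chkStepG2_0 q
  rw [show stepG2_0.I = [1] from rfl] at h
  rw [← poinPolyG2_0 q, h]

  rw [show idxSet chevG2 stepG2_0.J = ∅ from by decide +kernel, G.Psum_empty]
  ring

/-- data of step 1 for type G2 -/
def stepG2_1 : Step where
  I := [0, 1]
  J := [1]
  m := 6
  P := (.node 3 (.node 1 (.leaf 0xb000a0009000800070006000500040003000200010000) (.node 2 (.leaf 0xb0006000800090004000a000100070002000300050000) (.leaf 0xa0005000700090003000b000000080002000400060001))) (.node 4 (.leaf 0x60001000400080002000b0000000900030007000a0005) (.node 5 (.leaf 0x50000000300070002000a0001000900040008000b0006) (.leaf 0x1000000020004000300060005000800070009000b000a))))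
  par := (.node 3 (.node 1 (.leaf (0, 0)) (.node 2 (.leaf (0, 0)) (.leaf (1, 1)))) (.node 4 (.leaf (0, 2)) (.node 5 (.leaf (1, 3)) (.leaf (0, 4)))))
  nx := (.node 3 (.node 1 (.leaf [(1, 0), (0, 2)]) (.node 2 (.leaf [(0, 0), (2, 0)]) (.leaf [(3, 0), (1, 0)]))) (.node 4 (.leaf [(2, 0), (4, 0)]) (.node 5 (.leaf [(5, 0), (3, 0)]) (.leaf [(4, 0), (5, 2)]))))
  N := [0, 1, 2, 3, 4, 5]

theorem chkStepG2_1 : chkStep chevG2 fastG2 stepG2_1 = true := by decide +kernel

theorem poinPolyG2_1 (q : ℤ) :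
    (stepG2_1.N.map fun a => q ^ a).sum * (q - 1) * ((q ^ 2 - 1)) = (q ^ 2 - 1) * (q ^ 6 - 1) := by
  simp only [stepG2_1, List.map_cons, List.map_nil, List.sum_cons, List.sum_nil]
  ring

theorem poinStepG2_1 (G : Good chevG2) (q : ℤ) :
    Psum G (idxSet chevG2 [0, 1]) q * (q - 1) ^ 2 = (q ^ 2 - 1) * (q ^ 6 - 1) := by
  have h := G.Psum_of_chk (S := stepG2_1) (G.w_eq_wF checksG2) (G.simples_eq' checksG2)
    chkStepG2_1 q
  rw [show stepG2_1.I = [0, 1] from rfl] at h
  rw [← poinPolyG2_1 q, h]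

  rw [← poinStepG2_0 G q, show stepG2_1.J = [1] from rfl]
  ring

/-- the factorised length generating function of type G2 -/
theorem poinG2 (G : Good chevG2) (q : ℤ) :
    Psum G Finset.univ q * (q - 1) ^ 2 = (q ^ 2 - 1) * (q ^ 6 - 1) := by
  rw [← poinStepG2_1 G q, show idxSet chevG2 [0, 1] = Finset.univ from by decide +kernel]

end CfsgLib.Lie.Chev
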