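import Cfsg.Agent.Lib.Lie.Chev.CoxCert
import Cfsg.Agent.Lib.Lie.Chev.PoinG2

/-!
The Coxeter group of type G2 and its action on the roots.
-/

set_option autoImplicit false
set_option maxRecDepth 100000
set_option maxHeartbeats 1000000

namespace CfsgLib.Lie.Chev

open Cfsg.Lie

theorem rankG2 : 2 = chevG2.rank := by decide +kernel

theorem coxMatG2 : ∀ i j : Fin 2, chkOrd chevG2 fastG2 [i.val, j.val] (CoxeterMatrix.G₂ i j) = true := by decide +kernel

theorem cardWJG2 (G : Good chevG2) : Psum G Finset.univ (1 : ℕ) = 12 := by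
  have h1 := G.Psum_of_chk (S := stepG2_1) (G.w_eq_wF checksG2) (G.simples_eq' checksG2)
    chkStepG2_1 (1 : ℕ)
  rw [show stepG2_1.I = [0, 1] from rfl, show stepG2_1.J = [1] from rfl,
    show (stepG2_1.N.map fun a => (1 : ℕ) ^ a).sum = 6 by simp [stepG2_1]] at h1
  have h0 := G.Psum_of_chk (S := stepG2_0) (G.w_eq_wF checksG2) (G.simples_eq' checksG2)
    chkStepG2_0 (1 : ℕ)
  rw [show stepG2_0.I = [1] from rfl, show stepG2_0.J = [] from rfl,
    show (stepG2_0.N.map fun a => (1 : ℕ) ^ a).sum = 2 by simp [stepG2_0]] at h0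
  rw [show (Finset.univ : Finset (Fin chevG2.rank)) = idxSet chevG2 [0, 1] from by decide +kernel, h1, h0]
  rw [show idxSet chevG2 [] = ∅ from by decide +kernel, G.Psum_empty]
  all_goals norm_num

theorem cardWgG2 (G : Good chevG2) : Nat.card G.Wg = 12 := by
  classical
  rw [← cardWJG2 G, Nat.card_eq_fintype_card, Psum]
  simp [G.WJ_univ, Fintype.card_subtype]

theorem exists_equivG2 (G : Good chevG2) : ∃ ψ : (CoxeterMatrix.G₂).Group ≃* G.Wg, ∀ i : Fin 2,
    (ψ ((CoxeterMatrix.G₂).simple i) : Equiv.Perm (Fin chevG2.nroots)) = G.sP (Fin.cast rankG2 i) :=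
  G.exists_coxeter_equiv checksG2 CoxeterMatrix.G₂ rankG2 coxMatG2

theorem orderCoxG2 (G : Good chevG2) : orderOf (G.pw (List.finRange chevG2.rank)) = 6 :=
  G.orderOf_pw checksG2 _ (by decide +kernel)

theorem flipG2 : chkFlip chevG2 fastG2 = true := by decide +kernel

theorem coxHalfG2 : (allLt chevG2.nroots fun r =>
    Nat.beq (iterF fastG2 ((List.finRange chevG2.rank).map Fin.val) 3 r) (fastG2.negs.get r)) = true := by
  decide +kernel

theorem negPowG2 (G : Good chevG2) : ∀ r, (G.pw (List.finRange chevG2.rank) ^ 3) r = G.negr r := by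
  intro r
  refine Fin.ext ?_
  rw [G.iter_val checksG2, Nat.eq_of_beq_eq_true (allLt_spec coxHalfG2 r.val r.isLt),
    (rowsOK checksG2.rows).negs r.val r.isLt]
  exact (G.negr_val r).symm

theorem genG2 (G : Good chevG2) (H : Subgroup (Equiv.Perm (Fin chevG2.nroots)))
    (hc : G.pw (List.finRange chevG2.rank) ∈ H) (h0 : G.sP ⟨0, by decide +kernel⟩ ∈ H) : G.Wg ≤ H := by
  set a : Fin chevG2.rank := ⟨0, by decide +kernel⟩
  set b : Fin chevG2.rank := ⟨1, by decide +kernel⟩
  rw [show List.finRange chevG2.rank = [a, b] from by decide +kernel, G.pw_cons, G.pw_single] at hc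
  refine (Subgroup.closure_le _).2 ?_
  rintro x ⟨i, rfl⟩
  have hl : i.val < 2 := rankG2.symm ▸ i.isLt
  rcases (show i.val = 0 ∨ i.val = 1 by omega) with e | e
  · rwa [show i = a from Fin.ext e]
  · rw [show i = b from Fin.ext e, show G.sP b = (G.sP a)⁻¹ * (G.sP a * G.sP b) from (inv_mul_cancel_left _ _).symm]
    exact mul_mem (inv_mem h0) hc

end CfsgLib.Lie.Chev
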