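import Cfsg.Agent.Lib.Lie.Chev.Elem
import Cfsg.Prelude.Def_ChevStructure

/-!
# The matrices of the definitions in terms of the general linear group elements
-/

set_option autoImplicit false

namespace CfsgLib.Lie.Chev

open Cfsg.Lie
open scoped MatrixGroups

variable {D : ChevalleyDatum}

namespace Good

variable (G : Good D) {K : Type*} [Field K]

include G

/-- a root index as an element of `Fin` -/
def idx (_ : Good D) {r : ℕ} (hr : r < D.nroots) : Fin D.nroots := ⟨r, hr⟩

theorem x_nat {r : ℕ} (hr : r < D.nroots) (t : K) :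
    D.x K r t = (G.xu (G.idx hr) t : Matrix D.Idx D.Idx K) := G.x_eq_xu ⟨r, hr⟩ t

theorem neg_val (r : Fin D.nroots) : D.neg r.val = (G.negr r).val := (G.negr_val r).symm

theorem nMat_eq (r : Fin D.nroots) (t : K) :
    D.nMat K r.val t = (G.nE r t : Matrix D.Idx D.Idx K) := by
  simp [ChevalleyDatum.nMat, ChevalleyDatum.nWord, ChevalleyDatum.wordMat, G.neg_val, G.x_eq_xu, nE,
    mul_assoc]

theorem hMat_eq (r : Fin D.nroots) (t : K) :
    D.hMat K r.val t = (G.hE r t : Matrix D.Idx D.Idx K) := by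
  simp [ChevalleyDatum.hMat, ChevalleyDatum.hWord, ChevalleyDatum.nWord, ChevalleyDatum.wordMat,
    G.neg_val, G.x_eq_xu, hE, nE, mul_assoc]

theorem hMat_diag (r : Fin D.nroots) {t : K} (ht : t ≠ 0) :
    D.hMat K r.val t = (G.hd r (Units.mk0 t ht) : Matrix D.Idx D.Idx K) := by
  rw [G.hMat_eq, ← G.hE_eq r (Units.mk0 t ht)]
  rfl

theorem nMat_simple (i : Fin D.rank) :
    D.nMat K (D.simple i.val) 1 = ((G.nU i : GL D.Idx K) : Matrix D.Idx D.Idx K) := by
  rw [← G.simp_val, G.nMat_eq, G.nE_simp_one]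

theorem simple_lt {i : ℕ} (hi : i < D.rank) : D.simple i < D.nroots := by
  rw [← G.simp_val ⟨i, hi⟩]; exact Fin.isLt _

theorem reflect_eq (i : Fin D.rank) (s : Fin D.nroots) :
    D.reflectRoot i.val s.val = (G.w i s).val := (G.w_reflect i s).symm

/-- the character of `h_{p_i}(c)` is the Cartan row -/
theorem hd_simp_coe (i : Fin D.rank) (c : Kˣ) :
    (G.hd (G.simp' i) c : Matrix D.Idx D.Idx K) =
      Matrix.diagonal (Sum.elim (fun _ => (1 : K)) fun s => (c : K) ^ cart D i s) := by
  simp only [hd, MonoidHom.comp_apply, MonoidHom.coe_mk, OneHom.coe_mk, coe_tor]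
  congr 1
  funext b
  rcases b with j | s
  · simp [weight, chi]
  · simp only [weight, Sum.elim_inr, chi, G.pair_simp, ← zpow_mul]
    rw [G.cart_eq i s, ← Units.val_zpow_eq_zpow_val, Units.val_inj]
    induction (Finset.univ : Finset (Fin D.rank)) using Finset.induction with
    | empty => simp
    | insert a u ha ih =>
      rw [Finset.prod_insert ha, Finset.sum_insert ha, zpow_add, ih, mul_comm (G.rho s a)]

theorem xu_mem (r : Fin D.nroots) (t : K) : G.xu r t ∈ D.group K :=
  Subgroup.subset_closure ⟨r, t, by rw [← G.x_eq_xu r t, ChevalleyDatum.x, dif_pos r.isLt]⟩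

theorem group_eq : D.group K = Subgroup.closure {g : GL D.Idx K | ∃ r t, g = G.xu r t} := by
  refine le_antisymm ((Subgroup.closure_le _).2 ?_) ((Subgroup.closure_le _).2 ?_)
  · rintro g ⟨r, t, h⟩
    exact Subgroup.subset_closure ⟨r, t, Units.ext (by
      rw [h, ← G.x_eq_xu, ChevalleyDatum.x, dif_pos r.isLt])⟩
  · rintro g ⟨r, t, rfl⟩
    exact G.xu_mem r t

theorem xu_eq_one_iff (r : Fin D.nroots) (t : K) : G.xu r t = 1 ↔ t = 0 := by
  refine ⟨fun h => ?_, fun h => by rw [h, G.xu_zero]⟩
  obtain ⟨c, hc⟩ := G.coroot_gcd r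
  have e : ∀ j : Fin D.rank, t * ((D.coroot.getD r.val #[]).getD j.val 0 : ℤ) = 0 := by
    intro j
    have hm : (G.xu r t : Matrix D.Idx D.Idx K) = (1 : Matrix D.Idx D.Idx K) := by rw [h]; rfl
    have h' := congrFun (congrFun hm (Sum.inl j)) (Sum.inr (G.negr r))
    rw [coe_xu, xg_apply] at h'
    have h2 : ∀ k, 2 ≤ k → coef (act D r.val k (pos D (Sum.inr (G.negr r)))) (pos D (Sum.inl j)) = 0 := by
      intro k hk
      have hv : (G.negr r).val = D.negIdx.getD r.val 0 := G.negr_val r
      simp only [act, pos, hv]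
      rw [if_neg (by omega), Nat.add_sub_cancel_left, if_neg (G.shape.neg_ne r.val r.isLt), if_pos rfl,
        if_neg (by omega)]
      split_ifs
      · have := j.isLt; rw [coef_cons, coef_nil, if_neg (by simp only; omega), add_zero]
      · rfl
    have h1 := G.coroot_entry r j
    simp only [dmat, Matrix.of_apply, if_neg one_ne_zero] at h1
    rw [h1, h2 2 le_rfl, h2 3 (by norm_num)] at h'
    simpa [Matrix.one_apply] using h'
  have hsum : t * ((∑ j, c j * (D.coroot.getD r.val #[]).getD j.val 0 : ℤ) : K) = 0 := by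
    push_cast
    rw [Finset.mul_sum]
    refine Finset.sum_eq_zero fun j _ => ?_
    rw [mul_left_comm, e j, mul_zero]
  rwa [hc, Int.cast_one, mul_one] at hsum

end Good

end CfsgLib.Lie.Chev
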