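import Cfsg.Agent.Lib.Lie.Chev.Unip

/-!
# The diagonal subgroup `H`, the negative unipotent subgroup, triangular matrices
-/

set_option autoImplicit false

namespace CfsgLib.Lie.Chev

open Cfsg.Lie
open scoped MatrixGroups

variable {D : ChevalleyDatum} {K : Type*} [Field K]

namespace Good

variable (G : Good D)

include G

/-- the parametrisation of `H` by `(Kˣ)^rank` -/
noncomputable def torθ : (Fin D.rank → Kˣ) →* GL D.Idx K :=
  G.tor.comp
    { toFun := fun c l => ∏ i, c i ^ cart D i (G.simp' l)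
      map_one' := funext fun l => by simp
      map_mul' := fun a b => funext fun l => by simp [mul_zpow, Finset.prod_mul_distrib] }

theorem hd_eq_torθ (r : Fin D.nroots) (t : Kˣ) :
    G.hd r t = G.torθ (fun j => t ^ (D.coroot.getD r.val #[]).getD j.val 0) := by
  simp only [hd, torθ, MonoidHom.comp_apply, MonoidHom.coe_mk, OneHom.coe_mk]
  congr 1
  funext l
  simp only [pair, ← zpow_mul]
  induction (Finset.univ : Finset (Fin D.rank)) using Finset.induction with
  | empty => simp
  | insert a s ha ih => rw [Finset.prod_insert ha, Finset.sum_insert ha, zpow_add, ih]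

theorem torθ_single (i : Fin D.rank) (t : Kˣ) :
    G.torθ (Pi.mulSingle i t) = G.hd (G.simp' i) t := by
  rw [hd_eq_torθ]
  congr 1
  funext j
  rw [G.coroot_simp]
  by_cases h : j = i
  · subst h; simp
  · simp [h]

theorem torθ_eq_prod (c : Fin D.rank → Kˣ) :
    G.torθ c = ((List.finRange D.rank).map fun i => G.hd (G.simp' i) (c i)).prod := by
  have hl : ∀ l : List (Fin D.rank), l.Nodup →
      (l.map fun i => G.hd (G.simp' i) (c i)).prod = G.torθ (fun j => if j ∈ l then c j else 1) := by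
    intro l
    induction l with
    | nil => intro _; simp [show (fun _ : Fin D.rank => (1 : Kˣ)) = 1 from rfl]
    | cons a l ih =>
      intro hn
      rw [List.nodup_cons] at hn
      rw [List.map_cons, List.prod_cons, ih hn.2, ← G.torθ_single, ← map_mul]
      congr 1
      funext j
      by_cases hja : j = a
      · subst hja; simp [hn.1]
      · simp [hja]
  rw [hl _ (List.nodup_finRange _)]
  simp

theorem hd_mem_H (r : Fin D.nroots) (t : Kˣ) : G.hd r t ∈ D.diagonalSubgroup K :=
  Subgroup.subset_closure ⟨r.val, t, r.isLt, t.ne_zero, by rw [G.hMat_diag r t.ne_zero, Units.mk0_val]⟩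

theorem diagonal_eq_range : D.diagonalSubgroup K = (G.torθ (K := K)).range := by
  refine le_antisymm ((Subgroup.closure_le _).2 ?_) ?_
  · rintro g ⟨r, t, hr, ht, hg⟩
    refine ⟨_, (G.hd_eq_torθ ⟨r, hr⟩ (Units.mk0 t ht)).symm.trans ?_⟩
    exact Units.ext ((G.hMat_diag ⟨r, hr⟩ ht).symm.trans hg.symm)
  · rintro g ⟨c, rfl⟩
    rw [G.torθ_eq_prod]
    refine list_prod_mem fun x hx => ?_
    obtain ⟨i, -, rfl⟩ := List.mem_map.1 hx
    exact G.hd_mem_H _ _

theorem exists_tor {g : GL D.Idx K} (hg : g ∈ D.diagonalSubgroup K) : ∃ c, g = G.tor c := by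
  rw [G.diagonal_eq_range] at hg
  obtain ⟨c, rfl⟩ := hg
  exact ⟨_, rfl⟩

theorem diagonal_comm {a b : GL D.Idx K} (ha : a ∈ D.diagonalSubgroup K)
    (hb : b ∈ D.diagonalSubgroup K) : a * b = b * a := by
  obtain ⟨c, rfl⟩ := G.exists_tor ha
  obtain ⟨c', rfl⟩ := G.exists_tor hb
  rw [← map_mul, ← map_mul, mul_comm]

theorem tor_conj_xu (c : Fin D.rank → Kˣ) (r : Fin D.nroots) (t : K) :
    G.tor c * G.xu r t * (G.tor c)⁻¹ = G.xu r ((G.chi c (G.rho r) : K) * t) := by
  rw [G.tor_xu, mul_assoc, mul_inv_cancel, mul_one]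

theorem H_conj_xu {h : GL D.Idx K} (hh : h ∈ D.diagonalSubgroup K) (r : Fin D.nroots) :
    ∃ a : Kˣ, ∀ t : K, h * G.xu r t * h⁻¹ = G.xu r ((a : K) * t) := by
  obtain ⟨c, rfl⟩ := G.exists_tor hh
  exact ⟨_, fun t => G.tor_conj_xu c r t⟩

/-- `H` normalises every group generated by whole root subgroups -/
theorem H_le_normalizer (P : Fin D.nroots → Prop) :
    D.diagonalSubgroup K ≤ Subgroup.normalizer
      (Subgroup.closure {g : GL D.Idx K | ∃ r t, P r ∧ g = G.xu r t} : Set (GL D.Idx K)) := by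
  intro h hh
  have key : ∀ h ∈ D.diagonalSubgroup K, ∀ v ∈ Subgroup.closure
      {g : GL D.Idx K | ∃ r t, P r ∧ g = G.xu r t}, h * v * h⁻¹ ∈ Subgroup.closure
      {g : GL D.Idx K | ∃ r t, P r ∧ g = G.xu r t} := by
    intro h hh v hv
    induction hv using Subgroup.closure_induction with
    | one => simp
    | mul a b _ _ ha hb =>
      rw [show h * (a * b) * h⁻¹ = (h * a * h⁻¹) * (h * b * h⁻¹) by group]
      exact mul_mem ha hb
    | inv a _ ha =>
      rw [show h * a⁻¹ * h⁻¹ = (h * a * h⁻¹)⁻¹ by group]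
      exact inv_mem ha
    | mem x hx =>
      obtain ⟨r, t, hr, rfl⟩ := hx
      obtain ⟨a, ha⟩ := G.H_conj_xu hh r
      rw [ha]
      exact Subgroup.subset_closure ⟨r, _, hr, rfl⟩
  rw [Subgroup.mem_normalizer_iff]
  intro v
  refine ⟨key h hh v, fun hv => ?_⟩
  have := key h⁻¹ (inv_mem hh) _ hv
  simpa [mul_assoc] using this

theorem posUnipotent_eq_closure : D.posUnipotent K =
    Subgroup.closure {g : GL D.Idx K | ∃ r t, D.IsPosRoot (r : Fin D.nroots).val ∧ g = G.xu r t} := by
  rw [G.posUnipotent_eq, Uge]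
  simp

theorem negUnipotent_eq_closure : D.negUnipotent K =
    Subgroup.closure {g : GL D.Idx K | ∃ r t, D.IsNegRoot (r : Fin D.nroots).val ∧ g = G.xu r t} := by
  rw [ChevalleyDatum.negUnipotent]
  congr 1
  ext g
  constructor
  · rintro ⟨r, t, hr, hg⟩
    exact ⟨⟨r, hr.1⟩, t, hr, Units.ext (hg.trans (G.x_eq_xu ⟨r, hr.1⟩ t))⟩
  · rintro ⟨r, t, hr, rfl⟩
    exact ⟨r.val, t, hr, (G.x_eq_xu r t).symm⟩

theorem xu_mem_U {r : Fin D.nroots} (hr : D.IsPosRoot r.val) (t : K) :
    G.xu r t ∈ D.posUnipotent K :=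
  Subgroup.subset_closure ⟨r.val, t, hr, (G.x_eq_xu r t).symm⟩

theorem xu_mem_V {r : Fin D.nroots} (hr : D.IsNegRoot r.val) (t : K) :
    G.xu r t ∈ D.negUnipotent K :=
  Subgroup.subset_closure ⟨r.val, t, hr, (G.x_eq_xu r t).symm⟩

theorem H_normalizes_U :
    D.diagonalSubgroup K ≤ Subgroup.normalizer (D.posUnipotent K : Set (GL D.Idx K)) := by
  rw [G.posUnipotent_eq_closure]
  exact G.H_le_normalizer _

theorem H_normalizes_V :
    D.diagonalSubgroup K ≤ Subgroup.normalizer (D.negUnipotent K : Set (GL D.Idx K)) := by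
  rw [G.negUnipotent_eq_closure]
  exact G.H_le_normalizer _

/-- off-diagonal entries lower the height by at least one, the diagonal is `1` -/
def Lowers (M : Matrix D.Idx D.Idx K) : Prop :=
  (∀ i, M i i = 1) ∧ ∀ i j, i ≠ j → M i j ≠ 0 → 1 ≤ G.hb j - G.hb i

theorem Lowers.mul {M N : Matrix D.Idx D.Idx K} (hM : G.Lowers M) (hN : G.Lowers N) :
    G.Lowers (M * N) := by
  refine ⟨fun i => ?_, fun i j hij hne => ?_⟩
  · rw [Matrix.mul_apply, Finset.sum_eq_single i]
    · rw [hM.1, hN.1, one_mul]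
    · intro k _ hk
      by_contra hz
      have h1 := hM.2 i k (Ne.symm hk) (left_ne_zero_of_mul hz)
      have h2 := hN.2 k i hk (right_ne_zero_of_mul hz)
      omega
    · simp
  · rw [Matrix.mul_apply] at hne
    obtain ⟨k, -, hk⟩ := Finset.exists_ne_zero_of_sum_ne_zero hne
    by_cases h1 : i = k
    · subst h1; exact hN.2 i j hij (right_ne_zero_of_mul hk)
    · have e1 := hM.2 i k h1 (left_ne_zero_of_mul hk)
      by_cases h2 : k = j
      · subst h2; exact e1
      · have e2 := hN.2 k j h2 (right_ne_zero_of_mul hk)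
        omega

theorem lowers_xg {r : Fin D.nroots} (hr : D.IsNegRoot r.val) (t : K) : G.Lowers (xg K r t) := by
  have hneg := (G.isNegRoot_iff r).1 hr
  have hz : ∀ i j k, 1 ≤ k → k < 4 → G.hb j - G.hb i < 1 →
      coef (act D r.val k (pos D j)) (pos D i) = 0 := by
    intro i j k hk1 hk4 hlt
    by_contra hne
    have hd : dmat D r k i j ≠ 0 := by simpa [dmat, show k ≠ 0 by omega] using hne
    have e := G.weight_eq r k i j hd hk4
    simp only [hb, e, ht_add, ht_smul] at hlt
    have : (1 : ℤ) ≤ k := by exact_mod_cast hk1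
    nlinarith
  refine ⟨fun i => ?_, fun i j hij hne => ?_⟩
  · rw [xg_apply, if_pos rfl, hz i i 1 le_rfl (by norm_num) (by omega),
      hz i i 2 (by norm_num) (by norm_num) (by omega), hz i i 3 (by norm_num) (by norm_num) (by omega)]
    simp
  · by_contra hlt
    rw [not_le] at hlt
    apply hne
    rw [xg_apply, if_neg hij, hz i j 1 le_rfl (by norm_num) (by omega),
      hz i j 2 (by norm_num) (by norm_num) (by omega), hz i j 3 (by norm_num) (by norm_num) (by omega)]
    simp

theorem lowers_V {g : GL D.Idx K} (hg : g ∈ D.negUnipotent K) :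
    G.Lowers (g : Matrix D.Idx D.Idx K) := by
  rw [G.negUnipotent_eq_closure] at hg
  induction hg using Subgroup.closure_induction_left with
  | one => exact ⟨fun i => Matrix.one_apply_eq i, fun _ _ hij hne => absurd (Matrix.one_apply_ne hij) hne⟩
  | mul_left x hx y _ ih =>
    obtain ⟨r, t, hr, rfl⟩ := hx
    exact Lowers.mul G (G.lowers_xg hr t) ih
  | inv_mul_cancel x hx y _ ih =>
    obtain ⟨r, t, hr, rfl⟩ := hx
    rw [G.xu_inv]
    exact Lowers.mul G (G.lowers_xg hr (-t)) ih

theorem eq_one_of_U_H {u h : GL D.Idx K} (hu : u ∈ D.posUnipotent K)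
    (hh : h ∈ D.diagonalSubgroup K) (he : u * h = 1) : u = 1 ∧ h = 1 := by
  obtain ⟨c, rfl⟩ := G.exists_tor hh
  have hR := G.raises_one_of_pos hu
  have hu1 : u = G.tor c⁻¹ := by rw [map_inv]; exact eq_inv_of_mul_eq_one_left he
  have : u = 1 := by
    apply Units.ext
    ext i j
    by_cases hij : i = j
    · subst hij; rw [hR.1, Units.val_one, Matrix.one_apply_eq]
    · rw [Units.val_one, Matrix.one_apply_ne hij, hu1, coe_tor, Matrix.diagonal_apply_ne _ hij]
  subst this
  exact ⟨rfl, by simpa using he⟩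

theorem U_inf_H : D.posUnipotent K ⊓ D.diagonalSubgroup K = ⊥ := by
  rw [eq_bot_iff]
  rintro g ⟨h1, h2⟩
  exact Subgroup.mem_bot.2 (G.eq_one_of_U_H h1 (inv_mem h2) (mul_inv_cancel g)).1

theorem mem_borel_iff {g : GL D.Idx K} :
    g ∈ D.borelSubgroup K ↔ ∃ u ∈ D.posUnipotent K, ∃ h ∈ D.diagonalSubgroup K, g = u * h := by
  refine ⟨fun hg => ?_, ?_⟩
  · have := (Subgroup.coe_mul_of_right_le_normalizer_left _ _ (G.H_normalizes_U (K := K))).symm ▸
      (SetLike.mem_coe.2 hg)
    obtain ⟨u, hu, h, hh, rfl⟩ := Set.mem_mul.1 this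
    exact ⟨u, hu, h, hh, rfl⟩
  · rintro ⟨u, hu, h, hh, rfl⟩
    exact mul_mem (Subgroup.mem_sup_left hu) (Subgroup.mem_sup_right hh)

theorem B_inf_V : D.borelSubgroup K ⊓ D.negUnipotent K = ⊥ := by
  rw [eq_bot_iff]
  rintro g ⟨hb', hv⟩
  obtain ⟨u, hu, h, hh, rfl⟩ := G.mem_borel_iff.1 hb'
  obtain ⟨c, rfl⟩ := G.exists_tor hh
  have hR := G.raises_one_of_pos hu
  have hL := G.lowers_V hv
  refine Subgroup.mem_bot.2 (Units.ext ?_)
  ext i j
  rw [Units.val_one]
  by_cases hij : i = j
  · subst hij; rw [hL.1, Matrix.one_apply_eq]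
  · rw [Matrix.one_apply_ne hij]
    by_contra hne
    have h1 := hL.2 i j hij hne
    rw [Units.val_mul, coe_tor, Matrix.mul_diagonal] at hne
    have h2 := hR.2 i j hij (left_ne_zero_of_mul hne)
    omega

theorem B_inf_VH :
    D.borelSubgroup K ⊓ (D.negUnipotent K ⊔ D.diagonalSubgroup K) = D.diagonalSubgroup K := by
  refine le_antisymm ?_ (le_inf le_sup_right le_sup_right)
  rintro g ⟨hb', hvh⟩
  have := (Subgroup.coe_mul_of_right_le_normalizer_left _ _ (G.H_normalizes_V (K := K))).symm ▸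
    (SetLike.mem_coe.2 hvh)
  obtain ⟨v, hv, h, hh, rfl⟩ := Set.mem_mul.1 this
  have h1 : v ∈ D.borelSubgroup K ⊓ D.negUnipotent K := by
    refine ⟨?_, hv⟩
    have hbh : h ∈ D.borelSubgroup K := Subgroup.mem_sup_right hh
    have := mul_mem (show v * h ∈ D.borelSubgroup K from hb') (inv_mem hbh)
    simpa using this
  rw [G.B_inf_V, Subgroup.mem_bot] at h1
  subst h1
  simpa using hh

/-- distinct roots give distinct root subgroups -/
theorem xu_eq_xu {r s : Fin D.nroots} {t u : K} (h : G.xu r t = G.xu s u) (ht : t ≠ 0) : r = s := by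
  by_contra hne
  obtain ⟨c, hc⟩ := G.coroot_gcd r
  have hs0 : ∀ j : Fin D.rank,
      (G.xu s u : Matrix D.Idx D.Idx K) (Sum.inl j) (Sum.inr (G.negr r)) = 0 := by
    intro j
    have hz : ∀ k, 1 ≤ k → k < 4 →
        coef (act D s.val k (pos D (Sum.inr (G.negr r)))) (pos D (Sum.inl j)) = 0 := by
      intro k hk1 hk4
      by_contra hne'
      have hd : dmat D s k (Sum.inl j) (Sum.inr (G.negr r)) ≠ 0 := by
        simpa [dmat, show k ≠ 0 by omega] using hne'
      have e := G.weight_eq s k _ _ hd hk4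
      simp only [weight, Sum.elim_inl, Sum.elim_inr, G.rho_negr] at e
      have e' : G.rho r = (k : ℤ) • G.rho s := by
        rw [eq_comm, neg_add_eq_zero] at e
        exact e
      obtain ⟨φ, hφ⟩ := G.primitive r
      have h1 : (k : ℤ) * ∑ l, φ l * G.rho s l = 1 := by
        rw [← hφ, e', Finset.mul_sum]
        exact Finset.sum_congr rfl fun l _ => by simp [mul_left_comm]
      rcases Int.eq_one_or_neg_one_of_mul_eq_one h1 with hk | hk
      · rw [hk, one_smul] at e'
        exact hne (G.rho_injective e')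
      · omega
    rw [coe_xu, xg_apply, if_neg (by simp), hz 1 le_rfl (by norm_num),
      hz 2 (by norm_num) (by norm_num), hz 3 (by norm_num) (by norm_num)]
    simp
  have key : ∀ j : Fin D.rank, t * ((D.coroot.getD r.val #[]).getD j.val 0 : ℤ) = 0 := by
    intro j
    have h2 := hs0 j
    rw [← h] at h2
    by_cases hr : D.IsPosRoot r.val
    · rw [← h2]
      simpa using (G.entry_lowest hr t (one_mem (G.Uge (K := K) (r.val + 1))) j).symm
    · rw [← h2, coe_xu, xg_apply, if_neg (by simp)]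
      have h1 := G.coroot_entry r j
      simp only [dmat, Matrix.of_apply, if_neg one_ne_zero] at h1
      have h3 : ∀ k, 2 ≤ k → k < 4 →
          coef (act D r.val k (pos D (Sum.inr (G.negr r)))) (pos D (Sum.inl j)) = 0 := by
        intro k hk hk4
        by_contra hne'
        have hd : dmat D r k (Sum.inl j) (Sum.inr (G.negr r)) ≠ 0 := by
          simpa [dmat, show k ≠ 0 by omega] using hne'
        have e := congrArg G.ht (G.weight_eq r k _ _ hd hk4)
        simp only [weight, Sum.elim_inl, Sum.elim_inr, ht_add, ht_smul, G.rho_negr, ht_neg] at e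
        have h0 : G.ht (0 : Fin D.rank → ℤ) = 0 := by simpa using G.ht_smul 0 0
        rw [h0] at e
        have := G.ht_ne_zero r
        have : ((k : ℤ) - 1) * G.ht (G.rho r) = 0 := by linarith
        rcases mul_eq_zero.1 this with h' | h' <;> omega
      rw [h1, h3 2 le_rfl (by norm_num), h3 3 (by norm_num) (by norm_num)]
      simp
  have hsum : t * ((∑ j, c j * (D.coroot.getD r.val #[]).getD j.val 0 : ℤ) : K) = 0 := by
    push_cast
    rw [Finset.mul_sum]
    exact Finset.sum_eq_zero fun j _ => by rw [mul_left_comm, key j, mul_zero]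
  rw [hc, Int.cast_one, mul_one] at hsum
  exact ht hsum

end Good

end CfsgLib.Lie.Chev
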