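import Cfsg.Agent.Lib.Lie.Chev.Cover

/-!
# Pairs of roots for the central kernel of the Steinberg cover
-/

set_option autoImplicit false
set_option maxRecDepth 100000

namespace CfsgLib.Lie.Chev

open Cfsg.Lie

/-- `e = (a, b, j)`: the commutator of `a`, `b` involves `p_i` once and linearly, and both are
positive for the system moved by `j` -/
def pairChk (D : ChevalleyDatum) (i : ℕ) (e : ℕ × ℕ × ℕ) : Bool :=
  decide (e.1 < D.nroots ∧ e.2.1 < D.nroots ∧ e.2.2 < D.rank ∧
    e.1 ≠ D.simple i ∧ e.1 ≠ D.neg (D.simple i) ∧ e.2.1 ≠ D.simple i ∧ e.2.1 ≠ D.neg (D.simple i) ∧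
    e.2.1 ≠ e.1 ∧ e.2.1 ≠ D.neg e.1 ∧
    D.IsPosRoot (D.reflectRoot e.2.2 e.1) ∧ D.IsPosRoot (D.reflectRoot e.2.2 e.2.1)) &&
  match (D.commTerms e.1 e.2.1).span (fun c => c.1 != D.simple i) with
  | (_, (_, c, m, n) :: post) => (c == 1 || c == -1) && (m == 1 || n == 1) && post.all fun x => x.1 != D.simple i
  | _ => false

theorem Full.hasPair_of_chk {D : ChevalleyDatum} (C : Full D) {i : Fin D.rank} {e : ℕ × ℕ × ℕ}
    (h : pairChk D i.val e = true) : C.HasPair i := by
  obtain ⟨a, b, j⟩ := e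
  simp only [pairChk, Bool.and_eq_true, decide_eq_true_eq] at h
  obtain ⟨⟨ha, hb, hj, ha1, ha2, hb1, hb2, hne, hng, hpa, hpb⟩, hm⟩ := h
  rw [← C.G.simp_val i] at ha1 ha2 hb1 hb2 hm
  rw [C.G.neg_val] at ha2 hb2
  rw [List.span_eq_takeWhile_dropWhile] at hm
  have hoff : ∀ (x : ℕ) (hx : x < D.nroots), x ≠ (C.G.simp' i).val → x ≠ (C.G.negr (C.G.simp' i)).val →
      C.G.Off i ⟨x, hx⟩ := by
    intro x hx h1 h2
    rcases C.G.off_or i ⟨x, hx⟩ with h | h | h
    · exact h
    · exact absurd (congrArg Fin.val h) h1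
    · exact absurd (congrArg Fin.val h) h2
  have hps : ∀ (x : ℕ) (hx : x < D.nroots), D.IsPosRoot (D.reflectRoot j x) →
      C.G.PS [(⟨j, hj⟩ : Fin D.rank)] ⟨x, hx⟩ := by
    intro x hx h
    show D.IsPosRoot (C.G.pw [(⟨j, hj⟩ : Fin D.rank)] ⟨x, hx⟩).val
    rw [C.G.pw_single, C.G.sP_apply, C.G.w_reflect]
    exact h
  refine ⟨⟨a, ha⟩, ⟨b, hb⟩, [⟨j, hj⟩], hoff a ha ha1 ha2, hoff b hb hb1 hb2,
    fun e => hne (congrArg Fin.val e),
    fun e => hng ((congrArg Fin.val e).trans (C.G.neg_val ⟨a, ha⟩).symm), hps a ha hpa, hps b hb hpb, ?_⟩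
  split at hm
  case h_2 => exact absurd hm (by simp)
  case h_1 x pre k c m n post hspan =>
    simp only [Bool.and_eq_true, Bool.or_eq_true, beq_iff_eq, List.all_eq_true, bne_iff_ne] at hm
    obtain ⟨⟨hc, hmn⟩, hpost⟩ := hm
    simp only [Prod.mk.injEq] at hspan
    obtain ⟨h1, h2⟩ := hspan
    have hk : k = (C.G.simp' i).val := by
      have := List.head?_dropWhile_not (fun c : ℕ × ℤ × ℕ × ℕ => c.1 != (C.G.simp' i).val)
        (D.commTerms a b)
      rw [h2] at this
      simpa using this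
    subst hk
    refine ⟨pre, post, c, m, n, ?_, hc, hmn, fun e he => ?_⟩
    · rw [← h1, ← h2, List.takeWhile_append_dropWhile]
    · rcases List.mem_append.1 he with he | he
      · rw [← h1] at he
        simpa using List.mem_takeWhile_imp he
      · exact hpost e he

theorem Full.hasPair_all {D : ChevalleyDatum} (C : Full D) (tab : List (ℕ × ℕ × ℕ))
    (h : ((List.range D.rank).all fun i => pairChk D i (tab.getD i (0, 0, 0))) = true)
    (i : Fin D.rank) : C.HasPair i := by
  rw [List.all_eq_true] at h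
  exact C.hasPair_of_chk (h i.val (List.mem_range.2 i.isLt))

theorem hasPair_tab {D : ChevalleyDatum}
    (hD : D ∈ [chevG2, chevB2, chevD4, chevF4, chevE6, chevE7, chevE8]) (C : Full D)
    (i : Fin D.rank) : C.HasPair i := by
  simp only [List.mem_cons, List.not_mem_nil, or_false] at hD
  rcases hD with rfl | rfl | rfl | rfl | rfl | rfl | rfl
  · exact C.hasPair_all [(5,8,1), (4,10,0)] (by decide +kernel) i
  · exact C.hasPair_all [(3,6,1), (2,7,0)] (by decide +kernel) i
  · exact C.hasPair_all [(9,19,1), (5,19,0), (9,16,1), (9,15,1)] (by decide +kernel) i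
  · exact C.hasPair_all [(20,34,1), (14,34,0), (20,30,1), (22,26,2)] (by decide +kernel) i
  · exact C.hasPair_all [(29,57,2), (32,47,3), (15,57,0), (25,47,1), (32,40,3), (34,38,4)]
      (by decide +kernel) i
  · exact C.hasPair_all [(52,94,2), (56,79,3), (32,94,0), (47,79,1), (56,70,3), (59,67,4), (61,65,5)]
      (by decide +kernel) i
  · exact C.hasPair_all [(104,163,2), (109,142,3), (77,163,0), (98,142,1), (109,131,3), (113,127,4),
      (116,124,5), (118,122,6)] (by decide +kernel) i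

end CfsgLib.Lie.Chev
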