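import Cfsg.Agent.Lib.Lie.Chev.Full
import Cfsg.Agent.Lib.Lie.Chev.Poincare
import Cfsg.Agent.Lib.Lie.Chev.TorCard
import Cfsg.Agent.Lib.Lie.Chev.Unip2

/-!
# The order formula
-/

set_option autoImplicit false

namespace CfsgLib.Lie.Chev

open Cfsg.Lie

namespace Full

variable {D : ChevalleyDatum} (C : Full D) {K : Type*} [Field K]

include C

theorem order_formula [Fintype K] (T : KerData D.rank) (hT : T.Ok (cmat D)) :
    (((Nat.gcd T.d (Fintype.card K - 1)) ^ T.k * Nat.card ↥(D.group K) : ℕ) : ℤ) =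
      (Fintype.card K : ℤ) ^ (D.nroots / 2) *
        (Psum C.G Finset.univ (Fintype.card K : ℤ) * ((Fintype.card K : ℤ) - 1) ^ D.rank) := by
  classical
  have e : (Nat.gcd T.d (Fintype.card K - 1)) ^ T.k * Nat.card ↥(D.group K) =
      Fintype.card K ^ (D.nroots / 2) *
        (Psum C.G Finset.univ (Fintype.card K) * (Fintype.card K - 1) ^ D.rank) := by
    rw [← C.G.card_diagonal T hT, C.card_group_Psum, C.card_borel, C.posUnipotent_card]
    ring
  rw [e, Nat.cast_mul, Nat.cast_mul, Nat.cast_pow, Nat.cast_pow, Nat.cast_sub Fintype.card_pos,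
    Nat.cast_one]
  congr 2
  simp [Psum]

end Full

end CfsgLib.Lie.Chev
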