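import Cfsg.Agent.Lib.Lie.Chev.TorCard
import Cfsg.Prelude.Def_ChevG2
import Cfsg.Prelude.Def_ChevB2
import Cfsg.Prelude.Def_ChevD4
import Cfsg.Prelude.Def_ChevF4
import Cfsg.Prelude.Def_ChevE6
import Cfsg.Prelude.Def_ChevE7
import Cfsg.Prelude.Def_ChevE8

/-!
# The seven cokernel certificates
-/

set_option autoImplicit false
set_option maxRecDepth 100000

namespace CfsgLib.Lie.Chev

open Cfsg.Lie

/-- the certificate for type G2 -/
def kerG2 : KerData chevG2.rank where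
  k := 0
  d := 1
  J := ![]
  V := ![![], ![]]
  M := ![![2, 1], ![3, 2]]
  N := ![]

theorem kerG2_ok : kerG2.Ok (cmat chevG2) := by decide +kernel

/-- the certificate for type F4 -/
def kerF4 : KerData chevF4.rank where
  k := 0
  d := 1
  J := ![]
  V := ![![], ![], ![], ![]]
  M := ![![2, 3, 2, 1], ![3, 6, 4, 2], ![4, 8, 6, 3], ![2, 4, 3, 2]]
  N := ![]

theorem kerF4_ok : kerF4.Ok (cmat chevF4) := by decide +kernel

/-- the certificate for type E8 -/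
def kerE8 : KerData chevE8.rank where
  k := 0
  d := 1
  J := ![]
  V := ![![], ![], ![], ![], ![], ![], ![], ![]]
  M := ![![4, 5, 7, 10, 8, 6, 4, 2], ![5, 8, 10, 15, 12, 9, 6, 3], ![7, 10, 14, 20, 16, 12, 8, 4], ![10, 15, 20, 30, 24, 18, 12, 6], ![8, 12, 16, 24, 20, 15, 10, 5], ![6, 9, 12, 18, 15, 12, 8, 4], ![4, 6, 8, 12, 10, 8, 6, 3], ![2, 3, 4, 6, 5, 4, 3, 2]]
  N := ![]

theorem kerE8_ok : kerE8.Ok (cmat chevE8) := by decide +kernel

/-- the certificate for type E6 -/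
def kerE6 : KerData chevE6.rank where
  k := 1
  d := 3
  J := ![⟨0, by decide +kernel⟩]
  V := ![![1], ![0], ![2], ![0], ![1], ![2]]
  M := ![![0, 0, 0, 0, 0, 0], ![1, 2, 2, 3, 2, 1], ![-1, 0, 0, 0, 0, 0], ![2, 3, 4, 6, 4, 2], ![0, 1, 1, 2, 2, 1], ![-2, -1, -2, -2, -1, 0]]
  N := ![![4, 3, 5, 6, 4, 2]]

theorem kerE6_ok : kerE6.Ok (cmat chevE6) := by decide +kernel

/-- the certificate for type E7 -/
def kerE7 : KerData chevE7.rank where
  k := 1
  d := 2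
  J := ![⟨1, by decide +kernel⟩]
  V := ![![0], ![1], ![0], ![0], ![1], ![0], ![1]]
  M := ![![2, 2, 3, 4, 3, 2, 1], ![0, 0, 0, 0, 0, 0, 0], ![3, 4, 6, 8, 6, 4, 2], ![4, 6, 8, 12, 9, 6, 3], ![1, 1, 2, 3, 3, 2, 1], ![2, 3, 4, 6, 5, 4, 2], ![-1, -2, -2, -3, -2, -1, 0]]
  N := ![![4, 7, 8, 12, 9, 6, 3]]

theorem kerE7_ok : kerE7.Ok (cmat chevE7) := by decide +kernel

/-- the certificate for type B2 -/
def kerB2 : KerData chevB2.rank where
  k := 1
  d := 2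
  J := ![⟨0, by decide +kernel⟩]
  V := ![![1], ![0]]
  M := ![![0, 0], ![1, 1]]
  N := ![![2, 1]]

theorem kerB2_ok : kerB2.Ok (cmat chevB2) := by decide +kernel

/-- the certificate for type D4 -/
def kerD4 : KerData chevD4.rank where
  k := 2
  d := 2
  J := ![⟨0, by decide +kernel⟩, ⟨2, by decide +kernel⟩]
  V := ![![1, 0], ![0, 0], ![0, 1], ![1, 1]]
  M := ![![0, 0, 0, 0], ![1, 2, 1, 1], ![0, 0, 0, 0], ![-1, -1, -1, 0]]
  N := ![![2, 2, 1, 1], ![1, 2, 2, 1]]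

theorem kerD4_ok : kerD4.Ok (cmat chevD4) := by decide +kernel

end CfsgLib.Lie.Chev
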