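import Mathlib
import Cfsg.Prelude.Def_SteinbergCover
import Cfsg.Prelude.Def_ChevB2
import Cfsg.Prelude.Def_ChevG2
import Cfsg.Prelude.Def_ChevF4
import Cfsg.Prelude.Def_ChevD4
import Cfsg.Prelude.Def_ChevE6
import Cfsg.Prelude.Def_ChevE7
import Cfsg.Prelude.Def_ChevE8
import Cfsg.Prelude.Def_SteinbergCover

/-!
# The Steinberg cover of a tabulated datum is perfect
-/

set_option autoImplicit false
set_option maxRecDepth 100000

namespace CfsgLib.Lie.Chev.CoverPerfect

open Cfsg.Lie

variable {D : ChevalleyDatum} {K : Type*} [Field K]

/-- the terms of a commutator that are not yet known to be trivial -/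
def liveTerms (D : ChevalleyDatum) (killed : List ℕ) (r s : ℕ) (lam : Bool) : List (ℕ × ℤ × ℕ × ℕ) :=
  (D.commTerms r s).filter fun c => !(killed.contains c.1) && !(lam && c.2.2.1 == c.2.2.2)

/-- one step of the derivation -/
def StepOK (D : ChevalleyDatum) (killed : List ℕ) (e : ℕ × ℕ × ℕ × Bool) : Bool :=
  decide (e.2.1 < D.nroots ∧ e.2.2.1 < D.nroots ∧ e.2.2.1 ≠ e.2.1 ∧ e.2.2.1 ≠ D.neg e.2.1) &&
  match liveTerms D killed e.2.1 e.2.2.1 e.2.2.2 with
  | [(k', c, i, j)] => k' == e.1 && (c == 1 || c == -1) &&
      (if e.2.2.2 then (i == 2 && j == 1) || (i == 1 && j == 2) else (i == 1 || j == 1))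
  | _ => false

/-- the derivation: every step is valid and in the end all roots are reached -/
def chain (D : ChevalleyDatum) : List (ℕ × ℕ × ℕ × Bool) → List ℕ → Bool
  | [], killed => (List.range D.nroots).all fun k => killed.contains k
  | e :: es, killed => StepOK D killed e && chain D es (e.1 :: killed)

/-- whether the substitution step is used -/
def usesLam (tab : List (ℕ × ℕ × ℕ × Bool)) : Bool := tab.any fun e => e.2.2.2

/-- derivation for `chevB2` -/
def tabB2 : List (ℕ × ℕ × ℕ × Bool) :=
  [(3,0,5,true),(4,0,6,true),(0,1,4,true),(7,3,6,true),(1,0,5,false),(2,0,6,false),(5,1,7,false),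
   (6,2,7,false)]

/-- derivation for `chevG2` -/
def tabG2 : List (ℕ × ℕ × ℕ × Bool) :=
  [(1,0,6,false),(5,0,10,false),(0,1,5,false),(6,1,11,false),(10,5,11,false),(11,6,10,false),
   (4,0,8,true),(7,0,9,true),(3,1,7,true),(8,1,9,true),(2,3,6,true),(9,5,8,true)]

/-- derivation for `chevF4` -/
def tabF4 : List (ℕ × ℕ × ℕ × Bool) :=
  [(1,0,24,false),(2,0,26,false),(4,0,31,false),(5,0,32,false),(15,0,42,false),(16,0,43,false),
   (21,0,45,false),(23,0,46,false),(0,1,23,false),(3,1,28,false),(6,1,32,false),(7,1,35,false),
   (8,1,37,false),(17,1,43,false),(22,1,45,false),(24,1,47,false),(9,2,37,false),(10,2,38,false),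
   (25,2,46,false),(26,2,47,false),(11,3,37,false),(12,3,38,false),(13,3,39,false),
   (14,3,40,false),(18,3,41,false),(19,3,42,false),(20,3,43,false),(27,3,45,false),
   (28,3,46,false),(29,3,47,false),(32,4,39,false),(45,4,44,false),(30,4,46,false),
   (31,4,47,false),(46,5,44,false),(47,6,44,false),(33,7,44,false),(34,7,45,false),
   (35,7,46,false),(36,7,47,false),(37,8,46,false),(38,8,47,false),(39,9,47,false),
   (40,11,47,false),(43,15,39,false),(41,15,46,false),(42,15,47,false),(44,18,47,false)]

/-- derivation for `chevD4` -/
def tabD4 : List (ℕ × ℕ × ℕ × Bool) :=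
  [(1,0,14,false),(2,0,15,false),(3,0,16,false),(4,0,17,false),(6,0,19,false),(7,0,20,false),
   (8,0,21,false),(9,0,22,false),(0,1,9,false),(5,1,17,false),(10,1,20,false),(11,1,21,false),
   (14,1,23,false),(12,2,22,false),(15,2,23,false),(13,3,22,false),(16,3,23,false),
   (17,4,23,false),(18,6,22,false),(19,6,23,false),(20,7,23,false),(21,8,23,false),
   (22,9,23,false),(23,14,22,false)]

/-- derivation for `chevE6` -/
def tabE6 : List (ℕ × ℕ × ℕ × Bool) :=
  [(1,0,46,false),(2,0,47,false),(3,0,48,false),(4,0,49,false),(5,0,50,false),(6,0,51,false),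
   (7,0,52,false),(8,0,53,false),(9,0,54,false),(10,0,55,false),(16,0,61,false),(17,0,62,false),
   (18,0,63,false),(19,0,64,false),(20,0,65,false),(21,0,66,false),(22,0,67,false),
   (23,0,68,false),(24,0,69,false),(25,0,70,false),(0,1,25,false),(11,1,53,false),(12,1,54,false),
   (13,1,55,false),(26,1,64,false),(27,1,65,false),(28,1,66,false),(30,1,67,false),
   (31,1,68,false),(32,1,69,false),(46,1,71,false),(14,2,55,false),(29,2,66,false),
   (33,2,67,false),(34,2,68,false),(39,2,70,false),(47,2,71,false),(35,3,67,false),
   (37,3,69,false),(40,3,70,false),(48,3,71,false),(36,4,68,false),(38,4,69,false),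
   (41,4,70,false),(49,4,71,false),(15,5,55,false),(42,5,69,false),(43,5,70,false),
   (50,5,71,false),(44,6,70,false),(51,6,71,false),(45,7,70,false),(52,7,71,false),
   (53,8,71,false),(54,9,71,false),(55,10,71,false),(56,16,66,false),(57,16,69,false),
   (58,16,70,false),(61,16,71,false),(59,17,70,false),(62,17,71,false),(60,18,70,false),
   (63,18,71,false),(64,19,71,false),(65,20,71,false),(66,21,71,false),(67,22,71,false),
   (68,23,71,false),(69,24,71,false),(70,25,71,false),(71,46,70,false)]

/-- derivation for `chevE7` -/
def tabE7 : List (ℕ × ℕ × ℕ × Bool) :=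
  [(1,0,93,false),(2,0,94,false),(3,0,95,false),(4,0,96,false),(5,0,97,false),(6,0,98,false),
   (7,0,99,false),(8,0,100,false),(9,0,101,false),(10,0,102,false),(11,0,103,false),
   (12,0,104,false),(13,0,105,false),(14,0,106,false),(15,0,107,false),(16,0,108,false),
   (17,0,109,false),(18,0,110,false),(19,0,111,false),(20,0,112,false),(21,0,113,false),
   (22,0,114,false),(23,0,115,false),(24,0,116,false),(25,0,117,false),(26,0,118,false),
   (27,0,119,false),(28,0,120,false),(29,0,121,false),(30,0,122,false),(31,0,123,false),
   (32,0,124,false),(0,1,32,false),(33,1,109,false),(34,1,110,false),(35,1,111,false),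
   (36,1,112,false),(37,1,113,false),(38,1,114,false),(39,1,115,false),(40,1,116,false),
   (41,1,117,false),(42,1,118,false),(48,1,119,false),(49,1,120,false),(50,1,121,false),
   (51,1,122,false),(52,1,123,false),(93,1,125,false),(43,2,115,false),(44,2,116,false),
   (45,2,117,false),(46,2,118,false),(53,2,119,false),(54,2,120,false),(55,2,121,false),
   (56,2,122,false),(73,2,124,false),(94,2,125,false),(47,3,118,false),(57,3,119,false),
   (58,3,120,false),(59,3,121,false),(69,3,123,false),(74,3,124,false),(95,3,125,false),
   (60,4,119,false),(61,4,120,false),(66,4,122,false),(70,4,123,false),(75,4,124,false),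
   (96,4,125,false),(62,5,119,false),(64,5,121,false),(67,5,122,false),(71,5,123,false),
   (76,5,124,false),(97,5,125,false),(63,6,120,false),(65,6,121,false),(68,6,122,false),
   (72,6,123,false),(77,6,124,false),(98,6,125,false),(78,7,122,false),(79,7,123,false),
   (83,7,124,false),(99,7,125,false),(80,8,123,false),(84,8,124,false),(100,8,125,false),
   (81,9,123,false),(85,9,124,false),(101,9,125,false),(82,10,123,false),(86,10,124,false),
   (102,10,125,false),(87,11,124,false),(103,11,125,false),(88,12,124,false),(104,12,125,false),
   (89,13,124,false),(105,13,125,false),(90,14,124,false),(106,14,125,false),(91,15,124,false),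
   (107,15,125,false),(92,16,124,false),(108,16,125,false),(109,17,125,false),(110,18,125,false),
   (111,19,125,false),(112,20,125,false),(113,21,125,false),(114,22,125,false),(115,23,125,false),
   (116,24,125,false),(117,25,125,false),(118,26,125,false),(119,27,125,false),(120,28,125,false),
   (121,29,125,false),(122,30,125,false),(123,31,125,false),(124,32,125,false),(125,93,124,false)]

/-- derivation for `chevE8` -/
def tabE8 : List (ℕ × ℕ × ℕ × Bool) :=
  [(1,0,120,false),(2,0,122,false),(3,0,125,false),(4,0,129,false),(5,0,134,false),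
   (6,0,140,false),(7,0,146,false),(8,0,151,false),(9,0,155,false),(10,0,158,false),
   (11,0,160,false),(12,0,161,false),(14,0,168,false),(15,0,173,false),(16,0,177,false),
   (17,0,180,false),(18,0,182,false),(19,0,183,false),(21,0,187,false),(22,0,190,false),
   (23,0,192,false),(24,0,193,false),(26,0,196,false),(27,0,198,false),(28,0,199,false),
   (30,0,201,false),(31,0,202,false),(33,0,203,false),(36,0,206,false),(37,0,208,false),
   (38,0,209,false),(40,0,211,false),(41,0,212,false),(43,0,213,false),(46,0,215,false),
   (47,0,216,false),(49,0,217,false),(52,0,218,false),(56,0,220,false),(57,0,221,false),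
   (59,0,222,false),(62,0,223,false),(66,0,224,false),(71,0,225,false),(78,0,227,false),
   (79,0,228,false),(81,0,229,false),(84,0,230,false),(88,0,231,false),(93,0,232,false),
   (99,0,233,false),(105,0,234,false),(110,0,235,false),(114,0,236,false),(117,0,237,false),
   (119,0,238,false),(0,1,119,false),(13,1,161,false),(20,1,183,false),(25,1,193,false),
   (29,1,199,false),(32,1,202,false),(34,1,203,false),(39,1,209,false),(42,1,212,false),
   (44,1,213,false),(48,1,216,false),(50,1,217,false),(53,1,218,false),(58,1,221,false),
   (60,1,222,false),(63,1,223,false),(67,1,224,false),(72,1,225,false),(80,1,228,false),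
   (82,1,229,false),(85,1,230,false),(89,1,231,false),(94,1,232,false),(100,1,233,false),
   (106,1,234,false),(111,1,235,false),(115,1,236,false),(118,1,237,false),(120,1,239,false),
   (35,2,203,false),(45,2,213,false),(51,2,217,false),(54,2,218,false),(61,2,222,false),
   (64,2,223,false),(68,2,224,false),(73,2,225,false),(83,2,229,false),(86,2,230,false),
   (90,2,231,false),(95,2,232,false),(101,2,233,false),(107,2,234,false),(112,2,235,false),
   (116,2,236,false),(121,2,238,false),(122,2,239,false),(55,3,218,false),(65,3,223,false),
   (69,3,224,false),(74,3,225,false),(87,3,230,false),(91,3,231,false),(96,3,232,false),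
   (102,3,233,false),(108,3,234,false),(113,3,235,false),(123,3,237,false),(124,3,238,false),
   (125,3,239,false),(70,4,224,false),(75,4,225,false),(92,4,231,false),(97,4,232,false),
   (103,4,233,false),(109,4,234,false),(126,4,236,false),(127,4,237,false),(128,4,238,false),
   (129,4,239,false),(76,5,225,false),(98,5,232,false),(104,5,233,false),(130,5,235,false),
   (131,5,236,false),(132,5,237,false),(133,5,238,false),(134,5,239,false),(77,6,225,false),
   (135,6,234,false),(136,6,235,false),(137,6,236,false),(138,6,237,false),(139,6,238,false),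
   (140,6,239,false),(141,7,234,false),(142,7,235,false),(143,7,236,false),(144,7,237,false),
   (145,7,238,false),(146,7,239,false),(147,8,235,false),(148,8,236,false),(149,8,237,false),
   (150,8,238,false),(151,8,239,false),(152,9,236,false),(153,9,237,false),(154,9,238,false),
   (155,9,239,false),(156,10,237,false),(157,10,238,false),(158,10,239,false),(159,11,238,false),
   (160,11,239,false),(161,12,239,false),(162,14,233,false),(163,14,234,false),(164,14,235,false),
   (165,14,236,false),(166,14,237,false),(167,14,238,false),(168,14,239,false),(169,15,235,false),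
   (170,15,236,false),(171,15,237,false),(172,15,238,false),(173,15,239,false),(174,16,236,false),
   (175,16,237,false),(176,16,238,false),(177,16,239,false),(178,17,237,false),(179,17,238,false),
   (180,17,239,false),(181,18,238,false),(182,18,239,false),(183,19,239,false),(184,21,236,false),
   (185,21,237,false),(186,21,238,false),(187,21,239,false),(188,22,237,false),(189,22,238,false),
   (190,22,239,false),(191,23,238,false),(192,23,239,false),(193,24,239,false),(194,26,237,false),
   (195,26,238,false),(196,26,239,false),(197,27,238,false),(198,27,239,false),(199,28,239,false),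
   (200,30,238,false),(201,30,239,false),(202,31,239,false),(203,33,239,false),(204,36,237,false),
   (205,36,238,false),(206,36,239,false),(207,37,238,false),(208,37,239,false),(209,38,239,false),
   (210,40,238,false),(211,40,239,false),(212,41,239,false),(213,43,239,false),(214,46,238,false),
   (215,46,239,false),(216,47,239,false),(217,49,239,false),(218,52,239,false),(219,56,238,false),
   (220,56,239,false),(221,57,239,false),(222,59,239,false),(223,62,239,false),(224,66,239,false),
   (225,71,239,false),(226,78,238,false),(227,78,239,false),(228,79,239,false),(229,81,239,false),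
   (230,84,239,false),(231,88,239,false),(232,93,239,false),(233,99,239,false),
   (234,105,239,false),(235,110,239,false),(236,114,239,false),(237,117,239,false),
   (238,119,239,false),(239,120,238,false)]

/-- the image of a generator in the abelianization -/
def abGen (D : ChevalleyDatum) (K : Type*) [Field K] (k : ℕ) (x : K) : Abelianization (D.SteinbergCover K) :=
  Abelianization.of (D.scGen K k x)

theorem scGen_add (k : ℕ) (x y : K) : D.scGen K k (x + y) = D.scGen K k x * D.scGen K k y := by
  by_cases h : k < D.nroots
  · have e : PresentedGroup.mk (D.steinbergRelsAB K) (D.stX k x * D.stX k y * (D.stX k (x + y))⁻¹) = 1 :=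
      PresentedGroup.one_of_mem (Or.inl ⟨k, x, y, h, rfl⟩)
    rw [map_mul, map_mul, map_inv, mul_inv_eq_one] at e
    exact e.symm
  · simp [ChevalleyDatum.scGen, ChevalleyDatum.stX, h]

theorem abGen_zero (k : ℕ) : abGen D K k 0 = 1 := by
  have h := congrArg Abelianization.of (scGen_add (D := D) k (0 : K) 0)
  rw [add_zero, map_mul] at h
  exact right_eq_mul.1 h

theorem abGen_terms {r s : ℕ} (hr : r < D.nroots) (hs : s < D.nroots) (h1 : s ≠ r) (h2 : s ≠ D.neg r) (t u : K) :
    ((D.commTerms r s).map fun c => abGen D K c.1 ((c.2.1 : K) * ((-t) ^ c.2.2.1 * u ^ c.2.2.2))).prod = 1 := by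
  have e : PresentedGroup.mk (D.steinbergRelsAB K)
      ((D.stX s u)⁻¹ * (D.stX r t)⁻¹ * D.stX s u * D.stX r t * (D.stWord (D.commWord K r s t u))⁻¹) = 1 :=
    PresentedGroup.one_of_mem (Or.inr ⟨r, s, t, u, hr, hs, h1, h2, rfl⟩)
  have e' := congrArg (Abelianization.of (G := D.SteinbergCover K)) e
  simp only [map_mul, map_inv, map_one] at e'
  rw [mul_comm (Abelianization.of _)⁻¹ (Abelianization.of _)⁻¹, inv_mul_cancel_right] at e'
  simp only [inv_mul_cancel, one_mul, inv_eq_one] at e'
  simp only [ChevalleyDatum.stWord, ChevalleyDatum.commWord, map_list_prod, List.map_map, mul_assoc] at e'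
  exact e'

theorem prod_map_eq {α A : Type*} [CommGroup A] (p : α → Bool) (g : α → A) :
    ∀ l : List α, (∀ x ∈ l, p x = false → g x = 1) → (l.map g).prod = ((l.filter p).map g).prod
  | [], _ => by simp
  | x :: l, h => by
    have ih := prod_map_eq p g l fun y hy => h y (List.mem_cons_of_mem _ hy)
    cases hp : p x with
    | true => simp [hp, ih]
    | false => simp [hp, ih, h x (List.mem_cons_self ..) hp]

theorem step_sound {killed : List ℕ} {e : ℕ × ℕ × ℕ × Bool} (hs : StepOK D killed e = true)
    (hk : ∀ k ∈ killed, ∀ x : K, abGen D K k x = 1)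
    (hK : e.2.2.2 = true → ∃ x : K, x ≠ 0 ∧ x ≠ 1) (x : K) : abGen D K e.1 x = 1 := by
  obtain ⟨k, r, s, lam⟩ := e
  simp only [StepOK, Bool.and_eq_true, decide_eq_true_eq] at hs
  obtain ⟨⟨hr, hsn, h1, h2⟩, hm⟩ := hs
  split at hm
  case h_2 => exact absurd hm (by simp)
  case h_1 k' c i j hl =>
    simp only [Bool.and_eq_true, beq_iff_eq, Bool.or_eq_true] at hm
    obtain ⟨⟨rfl, hc⟩, hij⟩ := hm
    cases lam with
    | false =>
      simp only [Bool.false_eq_true, if_false, Bool.or_eq_true, beq_iff_eq] at hij
      have key : ∀ t u : K, abGen D K k' ((c : K) * ((-t) ^ i * u ^ j)) = 1 := by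
        intro t u
        have h := abGen_terms (D := D) hr hsn h1 h2 t u
        rw [prod_map_eq (fun c => !(killed.contains c.1) && !(false && c.2.2.1 == c.2.2.2))] at h
        · simp only [liveTerms] at hl
          rw [hl] at h
          simpa using h
        · intro a _ ha
          simp at ha
          exact hk _ ha _
      rcases hij with rfl | rfl
      · have h := key (-((c : K) * x)) 1
        rcases hc with rfl | rfl <;> simpa using h
      · have h := key (-1) ((c : K) * x)
        rcases hc with rfl | rfl <;> simpa using h
    | true =>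
      obtain ⟨l, hl0, hl1⟩ := hK rfl
      simp only [if_true, Bool.or_eq_true, Bool.and_eq_true, beq_iff_eq] at hij
      have key : ∀ t u : K, abGen D K k' ((c : K) * ((-(l * t)) ^ i * (u / l) ^ j) - (c : K) * ((-t) ^ i * u ^ j)) = 1 := by
        intro t u
        have hd : ∀ a b : K, abGen D K k' (a - b) = abGen D K k' a / abGen D K k' b := by
          intro a b
          rw [eq_div_iff_mul_eq', abGen, abGen, abGen, ← map_mul, ← scGen_add, sub_add_cancel]
        let g : ℕ × ℤ × ℕ × ℕ → Abelianization (D.SteinbergCover K) := fun a =>
          abGen D K a.1 ((a.2.1 : K) * ((-(l * t)) ^ a.2.2.1 * (u / l) ^ a.2.2.2)) /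
            abGen D K a.1 ((a.2.1 : K) * ((-t) ^ a.2.2.1 * u ^ a.2.2.2))
        have h : ((D.commTerms r s).map g).prod = 1 := by
          have ha := abGen_terms (D := D) hr hsn h1 h2 (l * t) (u / l)
          have hb := abGen_terms (D := D) hr hsn h1 h2 t u
          have e : ((D.commTerms r s).map g).prod = 1 / (1 : Abelianization (D.SteinbergCover K)) := by
            conv_rhs => arg 1; rw [← ha]
            conv_rhs => arg 2; rw [← hb]
            induction D.commTerms r s with
            | nil => simp
            | cons a as ih => simp only [List.map_cons, List.prod_cons, ih, g, mul_div_mul_comm]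
          simpa using e
        rw [prod_map_eq (fun c => !(killed.contains c.1) && !(true && c.2.2.1 == c.2.2.2))] at h
        · simp only [liveTerms] at hl
          rw [hl] at h
          simp only [g, List.map_cons, List.map_nil, List.prod_cons, List.prod_nil, mul_one] at h
          rw [hd]
          exact h
        · intro a _ ha
          simp at ha
          by_cases hm' : a.1 ∈ killed
          · simp [g, hk _ hm']
          · have hij' : a.2.2.1 = a.2.2.2 := ha hm'
            simp only [g, hij', ← mul_pow]
            rw [show -(l * t) * (u / l) = -t * u by field_simp, div_self']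
      have hl1' : l - 1 ≠ 0 := sub_ne_zero.2 hl1
      have hc2 : (c : K) * (c : K) = 1 := by rcases hc with rfl | rfl <;> norm_num
      rcases hij with ⟨rfl, rfl⟩ | ⟨rfl, rfl⟩
      · have h := key 1 ((c : K) * x / (l - 1))
        convert h using 2
        field_simp
        linear_combination (-x) * hc2
      · have h := key ((c : K) * x * l / (l - 1)) 1
        convert h using 2
        field_simp
        linear_combination (-(l - 1) * x) * hc2

theorem chain_sound : ∀ (tab : List (ℕ × ℕ × ℕ × Bool)) (killed : List ℕ), chain D tab killed = true →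
    (usesLam tab = true → ∃ x : K, x ≠ 0 ∧ x ≠ 1) → (∀ k ∈ killed, ∀ x : K, abGen D K k x = 1) →
    ∀ k, k < D.nroots → ∀ x : K, abGen D K k x = 1
  | [], killed, hc, _, hk => by
    intro k hk' x
    simp only [chain, List.all_eq_true] at hc
    exact hk k (by simpa using hc k (List.mem_range.2 hk')) x
  | e :: es, killed, hc, hK, hk => by
    simp only [chain, Bool.and_eq_true] at hc
    refine chain_sound es (e.1 :: killed) hc.2 (fun h => hK ?_) ?_
    · simp only [usesLam, List.any_cons] at h ⊢
      simp [h]
    · intro k hk'
      rcases List.mem_cons.1 hk' with rfl | hk'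
      · exact fun x => step_sound hc.1 hk (fun h => hK (by simp [usesLam, h])) x
      · exact hk k hk'

theorem commutator_eq_top_of_chain {tab : List (ℕ × ℕ × ℕ × Bool)} (h : chain D tab [] = true)
    (hK : usesLam tab = true → ∃ x : K, x ≠ 0 ∧ x ≠ 1) : commutator (D.SteinbergCover K) = ⊤ := by
  rw [← Abelianization.ker_of, eq_top_iff, ← PresentedGroup.closure_range_of, Subgroup.closure_le]
  rintro _ ⟨⟨⟨r, hr⟩, t⟩, rfl⟩
  have h1 := chain_sound tab [] h hK (by simp) r hr t
  simp only [abGen, ChevalleyDatum.scGen, ChevalleyDatum.stX, dif_pos hr] at h1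
  exact h1

/-- the Steinberg cover of a tabulated datum is perfect -/
theorem cover_perfect {K : Type*} [Field K] (D : ChevalleyDatum)
    (hD : D ∈ [chevG2, chevB2, chevD4, chevF4, chevE6, chevE7, chevE8])
    (hK : D ∈ [chevB2, chevG2] → ∃ x : K, x ≠ 0 ∧ x ≠ 1) :
    commutator (D.SteinbergCover K) = ⊤ := by
  have hn : ∀ tab, usesLam tab = false → usesLam tab = true → ∃ x : K, x ≠ 0 ∧ x ≠ 1 := by
    intro tab h h'
    rw [h] at h'
    cases h'
  simp only [List.mem_cons, List.not_mem_nil, or_false] at hD
  rcases hD with rfl | rfl | rfl | rfl | rfl | rfl | rfl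
  · exact commutator_eq_top_of_chain (tab := tabG2) (by decide +kernel)
      fun _ => hK (List.mem_cons_of_mem _ (List.mem_cons_self ..))
  · exact commutator_eq_top_of_chain (tab := tabB2) (by decide +kernel) fun _ => hK (List.mem_cons_self ..)
  · exact commutator_eq_top_of_chain (tab := tabD4) (by decide +kernel) (hn _ (by decide +kernel))
  · exact commutator_eq_top_of_chain (tab := tabF4) (by decide +kernel) (hn _ (by decide +kernel))
  · exact commutator_eq_top_of_chain (tab := tabE6) (by decide +kernel) (hn _ (by decide +kernel))
  · exact commutator_eq_top_of_chain (tab := tabE7) (by decide +kernel) (hn _ (by decide +kernel))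
  · exact commutator_eq_top_of_chain (tab := tabE8) (by decide +kernel) (hn _ (by decide +kernel))

end CfsgLib.Lie.Chev.CoverPerfect
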