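import Cfsg.Agent.Lib.Lie.Chev.FieldMap
import Cfsg.Agent.Lib.Lie.Chev.Unip2

/-!
# The centraliser of the root elements with parameter one, the normaliser of a subfield subgroup
-/

set_option autoImplicit false

namespace CfsgLib.Lie.Chev

open Cfsg.Lie
open scoped MatrixGroups

variable {D : ChevalleyDatum} {K : Type*} [Field K]

/-- the group generated by root elements with parameter fixed by `σ` -/
noncomputable def Lfix (G : Good D) (σ : K →+* K) : Subgroup (GL D.Idx K) :=
  Subgroup.closure {g | ∃ r t, σ t = t ∧ g = G.xu r t}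

namespace Full

variable (C : Full D)

include C

theorem central_eq_one {g : GL D.Idx K} (hg : g ∈ D.group K)
    (hc : ∀ r, g * C.G.xu r 1 = C.G.xu r 1 * g) : g = 1 := by
  classical
  -- `g` lies in the Borel subgroup
  have hB : g ∈ D.borelSubgroup K := by
    obtain ⟨b, hb, n, hn, π, hπ, u, hu, rfl⟩ := C.refined_exists hg
    obtain ⟨v, hv, d, hd, rfl⟩ := C.G.mem_borel_iff.1 hb
    have hu0 : u ∈ C.G.Uge (K := K) 0 := C.G.posUnipotent_eq (K := K) ▸ C.G.Uinv_le π hu
    have hpos : ∀ r : Fin D.nroots, D.IsPosRoot r.val → D.IsPosRoot (π r).val := by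
      intro r hr
      by_contra hneg
      set x := C.G.xu r (1 : K)
      set y := u * x * u⁻¹
      have hxU : x ∈ C.G.Uge (K := K) r.val := C.G.xu_mem_Uge le_rfl hr 1
      have hcomm : x * u * x⁻¹ * u⁻¹ ∈ C.G.Uge (K := K) (r.val + 1) := C.Uge_comm_mem hxU hu0
      have hy : y = x * (x⁻¹ * (x * u * x⁻¹ * u⁻¹)⁻¹ * x) := by simp only [y]; group
      set w := x⁻¹ * (x * u * x⁻¹ * u⁻¹)⁻¹ * x
      have hw : w ∈ C.G.Uge (K := K) (r.val + 1) :=
        (Subgroup.mem_normalizer_iff''.1 (C.Uge_normal (C.G.xu_mem_Uge (Nat.zero_le _) hr 1)) _).1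
          (inv_mem hcomm)
      have hyU : y ∈ D.posUnipotent K :=
        mul_mem (mul_mem (C.G.Uinv_le π hu) (C.G.xu_mem_U hr 1)) (inv_mem (C.G.Uinv_le π hu))
      have hnU : n * y * n⁻¹ ∈ D.posUnipotent K := by
        have e : n * y * n⁻¹ = (v * d)⁻¹ * x * (v * d) := by
          calc n * y * n⁻¹ = (v * d)⁻¹ * ((v * d * n * u) * x) * (v * d * n * u)⁻¹ * (v * d) := by
                simp only [y]; group
            _ = (v * d)⁻¹ * (x * (v * d * n * u)) * (v * d * n * u)⁻¹ * (v * d) := by rw [hc r]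
            _ = _ := by group
        rw [e]
        have := (Subgroup.mem_normalizer_iff''.1 (C.G.H_normalizes_U hd) (v⁻¹ * x * v)).1
          (mul_mem (mul_mem (inv_mem hv) (C.G.xu_mem_U hr 1)) hv)
        simpa [mul_assoc] using this
      -- `y` lies in the kept part
      obtain ⟨a, ha, z, hz, e⟩ := C.exists_keep_mul_inv π hyU
      have hzU : n * z * n⁻¹ ∈ D.posUnipotent K := by
        rw [show n * z * n⁻¹ = (n * a * n⁻¹)⁻¹ * (n * y * n⁻¹) by rw [e]; group]
        exact mul_mem (inv_mem (C.G.conj_Ukeep hπ a ha)) hnU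
      have hz1 : n * z * n⁻¹ = 1 := Subgroup.mem_bot.1 (C.G.U_inf_V_eq (K := K) ▸
        Subgroup.mem_inf.2 ⟨hzU, C.G.conj_Uinv hπ z hz⟩)
      rw [mul_inv_eq_one] at hz1
      have hz2 : z = 1 := mul_left_cancel (hz1.trans (mul_one n).symm)
      rw [hz2, mul_one] at e
      -- its coordinate at `r` is one
      obtain ⟨t, ht⟩ := C.exists_mix (fun s => D.IsPosRoot (π s).val) D.nroots 0 (Nat.zero_add _) y
        (C.G.posUnipotent_eq (K := K) ▸ hyU)
      have hak := C.uprod_mem_closure (fun s => D.IsPosRoot (π s).val)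
        (fun s => if D.IsPosRoot (π s).val then t s else 0) fun s _ h => if_neg h
      have hbk := inv_mem (C.uprod_mem_closure (fun s => ¬ D.IsPosRoot (π s).val)
        (fun s => if D.IsPosRoot (π s).val then 0 else -t s) fun s _ h => if_pos (not_not.1 h))
      have hb1 : (C.uprod 0 fun s => if D.IsPosRoot (π s).val then 0 else -t s)⁻¹ ∈
          (Ukeep C.G π : Subgroup (GL D.Idx K)) := by
        have := mul_mem (inv_mem hak) (e ▸ ha : y ∈ (Ukeep C.G π : Subgroup (GL D.Idx K)))
        rw [ht, ← mul_assoc, inv_mul_cancel, one_mul] at this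
        exact this
      have hb2 := Subgroup.mem_bot.1 (C.G.Ukeep_inf_Uinv hπ ▸ Subgroup.mem_inf.2 ⟨hb1, hbk⟩)
      rw [hb2, mul_one] at ht
      obtain ⟨s, hs⟩ := C.exists_uprod D.nroots 0 (Nat.zero_add _) y
        (C.G.posUnipotent_eq (K := K) ▸ hyU)
      -- compare with the expansion starting at `r`
      have hyr : y ∈ C.G.Uge (K := K) r.val :=
        hy ▸ mul_mem hxU (C.G.Uge_mono (Nat.le_succ _) hw)
      obtain ⟨s', hs'⟩ := C.exists_uprod (D.nroots - r.val) r.val (by have := r.isLt; omega) y hyr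
      have low : ∀ m, m ≤ r.val →
          C.uprod m (fun q => if r.val ≤ q.val then s' q else 0) = C.uprod r.val s' := by
        intro m hm
        induction h : r.val - m generalizing m with
        | zero =>
          obtain rfl : m = r.val := by omega
          exact C.uprod_congr fun q hq _ => if_pos hq
        | succ k ih =>
          have hlt : m < D.nroots := by have := r.isLt; omega
          by_cases hp : D.IsPosRoot m
          · rw [C.uprod_step hlt hp, if_neg (by simp only; omega), C.G.xu_zero, one_mul]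
            exact ih (m + 1) (by omega) (by omega)
          · rw [C.uprod_skip hlt hp]
            exact ih (m + 1) (by omega) (by omega)
      have h0 : C.uprod 0 (fun q => if r.val ≤ q.val then s' q else 0) = y := by
        rw [hs']
        exact low 0 (Nat.zero_le _)
      have hcoord : s' r = 0 := by
        have := C.uprod_inj D.nroots 0 (Nat.zero_add _) _ _ (h0.trans ht) r (Nat.zero_le _) hr
        rwa [if_pos le_rfl, if_neg hneg] at this
      have h1 : C.G.xu r 1 * w = C.G.xu r (s' r) * C.uprod (r.val + 1) s' := by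
        rw [← C.uprod_step r.isLt hr s', ← hs', hy]
      exact one_ne_zero ((C.G.lowest_unique hr hw (C.uprod_mem _ _) h1).1.trans hcoord)
    obtain ⟨l, hl⟩ := C.G.exists_nPerm hn
    obtain rfl : π = C.G.pw l := Good.NPerm.unique C.G hπ hl
    have e := C.G.pw_eq_one_of_pos l.length l rfl fun j => hpos _ (C.G.simp_pos j)
    exact mul_mem (mul_mem hb (Subgroup.mem_sup_right (C.G.mem_H_of_nPerm_one hn (e ▸ hπ))))
      (Subgroup.mem_sup_left (C.G.Uinv_le _ hu))
  -- it commutes with a representative of the longest element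
  obtain ⟨l, hl⟩ := C.G.exists_longest
  have hcn : Commute g (C.G.nw (K := K) l) := by
    refine Commute.list_prod_right _ _ fun x hx => ?_
    obtain ⟨i, -, rfl⟩ := List.mem_map.1 hx
    refine Commute.mul_right (Commute.mul_right (hc _) ?_) (hc _)
    rw [← C.G.xu_inv]
    exact Commute.inv_right (hc _)
  obtain ⟨v, hv, d, hd, e⟩ := C.G.mem_borel_iff.1 hB
  set m := C.G.nw (K := K) l
  have hv' : v ∈ (Uinv C.G (C.G.pw l) : Subgroup (GL D.Idx K)) := by
    rw [C.G.posUnipotent_eq_closure] at hv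
    refine Subgroup.closure_mono ?_ hv
    rintro x ⟨r, t, hr, hx⟩
    exact ⟨r, t, ⟨hr, hl r hr⟩, hx⟩
  have hVH : g ∈ D.negUnipotent K ⊔ D.diagonalSubgroup K := by
    have e2 : g = (m * v * m⁻¹) * (m * d * m⁻¹) := by
      calc g = m * g * m⁻¹ := by rw [← hcn.eq, mul_inv_cancel_right]
        _ = _ := by rw [e]; group
    rw [e2]
    exact mul_mem (Subgroup.mem_sup_left (C.G.conj_Uinv (C.G.nPerm_nw l) v hv'))
      (Subgroup.mem_sup_right ((Subgroup.mem_normalizer_iff.1
        (C.G.monomial_le_normalizer (C.G.nw_mem_monomial l)) d).1 hd))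
  have hH : g ∈ D.diagonalSubgroup K := C.G.B_inf_VH (K := K) ▸ Subgroup.mem_inf.2 ⟨hB, hVH⟩
  obtain ⟨c, rfl⟩ := C.G.exists_tor hH
  have hc1 : c = 1 := by
    funext j
    have h1 := C.G.tor_conj_xu c (C.G.simp' j) 1
    rw [hc, mul_inv_cancel_right, C.G.rho_simp, C.G.chi_single, mul_one] at h1
    exact Units.ext (C.G.xu_injective _ h1).symm
  rw [hc1, map_one]

/-- fixed elements are products of `Lfix` and fixed diagonal elements -/
theorem fixed_decomp (σ : K →+* K) {g : GL D.Idx K} (hg : g ∈ D.group K) (hfix : fmap D σ g = g) :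
    ∃ l ∈ Lfix C.G σ, ∃ h ∈ D.diagonalSubgroup K, fmap D σ h = h ∧ g = l * h := by
  classical
  obtain ⟨b, hb, n, hn, π, hπ, u, hu, rfl⟩ := C.refined_exists hg
  obtain ⟨h, hh, l, rfl⟩ := C.G.monomial_decomp hn
  obtain ⟨v, hv, d, hd, rfl⟩ := C.G.mem_borel_iff.1 hb
  set w := C.G.nw (K := K) l
  set a := d * h
  have haH : a ∈ D.diagonalSubgroup K := mul_mem hd hh
  have hB : v * a ∈ D.borelSubgroup K :=
    mul_mem (Subgroup.mem_sup_left hv) (Subgroup.mem_sup_right haH)
  have hw : C.G.NPerm w π := by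
    have h1 := Good.NPerm.mul C.G (C.G.nPerm_H (inv_mem hh)) hπ
    rw [one_mul, ← mul_assoc, inv_mul_cancel, one_mul] at h1
    exact h1
  have e1 : v * d * (h * w) * u = v * a * w * u := by simp only [a]; group
  rw [e1] at hfix ⊢
  rw [map_mul, map_mul, map_mul, C.G.fmap_nw] at hfix
  obtain ⟨e2, e3⟩ := C.refined_unique
    (mul_mem (Subgroup.mem_sup_left (C.G.fmap_mem_U σ hv))
      (Subgroup.mem_sup_right (C.G.fmap_mem_H σ haH))) hB hw (C.G.fmap_mem_Uinv σ π hu) hu hfix
  obtain ⟨e4, e5⟩ := C.G.eq_one_of_U_H (u := v⁻¹ * fmap D σ v) (h := fmap D σ a * a⁻¹)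
    (mul_mem (inv_mem hv) (C.G.fmap_mem_U σ hv)) (mul_mem (C.G.fmap_mem_H σ haH) (inv_mem haH)) (by
      rw [mul_assoc, ← mul_assoc (fmap D σ v), e2]; group)
  have hσv : fmap D σ v = v := (inv_mul_eq_one.1 e4).symm
  have hσa : fmap D σ a = a := mul_inv_eq_one.1 e5
  have fU : ∀ x ∈ D.posUnipotent K, fmap D σ x = x → x ∈ Lfix C.G σ := by
    intro x hx hσx
    rw [C.G.posUnipotent_eq] at hx
    obtain ⟨t, rfl⟩ := C.exists_uprod D.nroots 0 (Nat.zero_add _) x hx
    rw [C.fmap_uprod] at hσx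
    have ht := C.uprod_inj D.nroots 0 (Nat.zero_add _) _ _ hσx
    refine list_prod_mem fun y hy => ?_
    obtain ⟨r, hr, rfl⟩ := List.mem_map.1 hy
    simp only [List.mem_filter, decide_eq_true_eq] at hr
    exact Subgroup.subset_closure ⟨r, t r, ht r hr.2.1 hr.2.2, rfl⟩
  have hwL : w ∈ Lfix C.G σ := by
    refine list_prod_mem fun y hy => ?_
    obtain ⟨i, -, rfl⟩ := List.mem_map.1 hy
    refine mul_mem (mul_mem ?_ ?_) ?_ <;> refine Subgroup.subset_closure ⟨_, _, ?_, rfl⟩ <;> simp
  -- move the diagonal part to the right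
  have hconj : ∀ x ∈ Lfix C.G σ, a * x * a⁻¹ ∈ Lfix C.G σ := by
    intro x hx
    induction hx using Subgroup.closure_induction with
    | one => simp
    | mul p q _ _ hp hq =>
      rw [show a * (p * q) * a⁻¹ = (a * p * a⁻¹) * (a * q * a⁻¹) by group]
      exact mul_mem hp hq
    | inv p _ hp =>
      rw [show a * p⁻¹ * a⁻¹ = (a * p * a⁻¹)⁻¹ by group]
      exact inv_mem hp
    | mem p hp =>
      obtain ⟨r, t, ht, rfl⟩ := hp
      obtain ⟨c, hc⟩ := C.G.H_conj_xu haH r
      have h1 := congrArg (fmap D σ) (hc t)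
      rw [map_mul, map_mul, map_inv, hσa, C.G.fmap_xu, C.G.fmap_xu, ht, hc] at h1
      rw [hc]
      exact Subgroup.subset_closure ⟨r, _, (C.G.xu_injective r h1).symm, rfl⟩
  refine ⟨v * (a * (w * u) * a⁻¹), mul_mem (fU v hv hσv)
    (hconj _ (mul_mem hwL (fU u (C.G.Uinv_le π hu) e3))), a, haH, hσa, by group⟩

theorem normalizer_of_subfield (σ : K →+* K) (S : Subgroup (GL D.Idx K)) (hS : S ≤ D.group K)
    (hL : Lfix C.G σ ≤ S) (hfix : ∀ g ∈ S, fmap D σ g = g) :
    D.group K ⊓ Subgroup.centralizer (S : Set (GL D.Idx K)) = ⊥ ∧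
    ∀ g ∈ D.group K, (g ∈ Subgroup.normalizer (S : Set (GL D.Idx K)) ↔ fmap D σ g = g) := by
  have hcent : ∀ z ∈ D.group K, (∀ x ∈ S, z * x = x * z) → z = 1 := fun z hz h =>
    C.central_eq_one hz fun r => h _ (hL (Subgroup.subset_closure ⟨r, 1, map_one σ, rfl⟩))
  refine ⟨?_, fun g hg => ⟨fun hn => ?_, fun hgf => ?_⟩⟩
  · rw [eq_bot_iff]
    rintro z ⟨h1, h2⟩
    exact Subgroup.mem_bot.2 (hcent z h1 fun x hx => (h2 x hx).symm)
  · have hz : g⁻¹ * fmap D σ g = 1 := by
      refine hcent _ (mul_mem (inv_mem hg) (C.G.fmap_mem_group σ hg)) fun x hx => ?_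
      have h1 := hfix _ ((Subgroup.mem_normalizer_iff.1 hn x).1 hx)
      rw [map_mul, map_mul, map_inv, hfix x hx] at h1
      calc g⁻¹ * fmap D σ g * x = g⁻¹ * (fmap D σ g * x * (fmap D σ g)⁻¹) * fmap D σ g := by group
        _ = g⁻¹ * (g * x * g⁻¹) * fmap D σ g := by rw [h1]
        _ = _ := by group
    exact (inv_mul_eq_one.1 hz).symm
  · have key : ∀ g ∈ D.group K, fmap D σ g = g → ∀ x ∈ S, g * x * g⁻¹ ∈ S := by
      intro g hg hgf x hx
      obtain ⟨p, hp, h, hh, hσh, rfl⟩ := C.fixed_decomp σ hg hgf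
      obtain ⟨p', hp', h', hh', -, rfl⟩ := C.fixed_decomp σ (hS hx) (hfix x hx)
      have hLconj : ∀ y ∈ Lfix C.G σ, h * y * h⁻¹ ∈ Lfix C.G σ := by
        intro y hy
        induction hy using Subgroup.closure_induction with
        | one => simp
        | mul p q _ _ hp hq =>
          rw [show h * (p * q) * h⁻¹ = (h * p * h⁻¹) * (h * q * h⁻¹) by group]
          exact mul_mem hp hq
        | inv p _ hp =>
          rw [show h * p⁻¹ * h⁻¹ = (h * p * h⁻¹)⁻¹ by group]
          exact inv_mem hp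
        | mem p hp =>
          obtain ⟨r, t, ht, rfl⟩ := hp
          obtain ⟨c, hc⟩ := C.G.H_conj_xu hh r
          have h1 := congrArg (fmap D σ) (hc t)
          rw [map_mul, map_mul, map_inv, hσh, C.G.fmap_xu, C.G.fmap_xu, ht, hc] at h1
          rw [hc]
          exact Subgroup.subset_closure ⟨r, _, (C.G.xu_injective r h1).symm, rfl⟩
      have hh'S : h' ∈ S := by
        have := mul_mem (inv_mem (hL hp')) hx
        simpa using this
      have e : p * h * (p' * h') * (p * h)⁻¹ = p * (h * p' * h⁻¹) * h' * p⁻¹ := by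
        calc p * h * (p' * h') * (p * h)⁻¹ = p * (h * p' * h⁻¹) * (h * h' * h⁻¹) * p⁻¹ := by group
          _ = _ := by rw [C.G.diagonal_comm hh hh', mul_inv_cancel_right]
      rw [e]
      exact mul_mem (mul_mem (mul_mem (hL hp) (hL (hLconj _ hp'))) hh'S) (inv_mem (hL hp))
    rw [Subgroup.mem_normalizer_iff]
    refine fun x => ⟨fun hx => key g hg hgf x hx, fun hx => ?_⟩
    have := key g⁻¹ (inv_mem hg) (by rw [map_inv, hgf]) _ hx
    simpa [mul_assoc] using this

end Full

end CfsgLib.Lie.Chev
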