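import Cfsg.Agent.Lib.Lie.Chev.CoverSymbol
import Cfsg.Agent.Lib.Lie.Chev.FieldCentral
import Cfsg.Agent.Lib.Lie.Chev.TorCard
import Mathlib.GroupTheory.NoncommPiCoprod

/-!
# The Steinberg group: torus, kernel of the map onto the Chevalley group, centre
-/

set_option autoImplicit false

namespace CfsgLib.Lie.Chev

open Cfsg.Lie

variable {D : ChevalleyDatum} {K : Type*} [Field K]

namespace Good

variable (G : Good D)

/-- `h_{p_i}(t)` in the cover -/
def hc (i : Fin D.rank) (t : K) : D.SteinbergCover K := G.nc i t * G.nc i (-1)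

/-- the subgroup generated by the `h_{p_i}(t)` in the cover -/
def Hc : Subgroup (D.SteinbergCover K) := Subgroup.closure {g | ∃ i t, t ≠ 0 ∧ g = G.hc i t}

include G

theorem hc_mem (i : Fin D.rank) {t : K} (ht : t ≠ 0) : G.hc i t ∈ G.Hc (K := K) :=
  Subgroup.subset_closure ⟨i, t, ht, rfl⟩

theorem hc_one (i : Fin D.rank) : G.hc i (1 : K) = 1 := by rw [hc, ← G.nc_inv, mul_inv_cancel]

theorem nc_eq_hc (i : Fin D.rank) (t : K) : G.nc i t = G.hc i t * G.nc i 1 := by
  rw [hc, ← G.nc_inv, inv_mul_cancel_right]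

theorem nc_sq (i : Fin D.rank) : G.nc i (1 : K) * G.nc i 1 = (G.hc i (-1 : K))⁻¹ := by
  rw [hc, _root_.mul_inv_rev, G.nc_inv, neg_neg]

theorem ncr_simp (i : Fin D.rank) (t : K) : G.ncr (G.simp' i) t = G.nc i t := rfl

/-- the word in the `n_{p_i}(1)` in the cover -/
def nwc (l : List (Fin D.rank)) : D.SteinbergCover K := (l.map fun i => G.nc i 1).prod

end Good

namespace Full

variable (C : Full D)

theorem theta_hc (i : Fin D.rank) (t : Kˣ) :
    C.theta (C.G.hc i (t : K)) = C.G.hd (C.G.simp' i) t := by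
  rw [Good.hc, map_mul, C.theta_nc, C.theta_nc, ← C.G.hE_eq]
  rfl

theorem theta_nwc (l : List (Fin D.rank)) : C.theta (C.G.nwc (K := K) l) = C.G.nw l := by
  induction l with
  | nil => simp [Good.nwc, Good.nw_nil]
  | cons i l ih =>
    rw [Good.nwc, List.map_cons, List.prod_cons, map_mul, C.theta_nc, C.G.nE_simp_one,
      show C.theta ((l.map fun i => C.G.nc (K := K) i 1).prod) = C.G.nw l from ih, C.G.nw_cons]

theorem hc_xc (hP : ∀ i, C.HasPair i) (i : Fin D.rank) (t : Kˣ) (s : Fin D.nroots) (u : K) :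
    C.G.hc i (t : K) * C.G.xc s u * (C.G.hc i (t : K))⁻¹ =
      C.G.xc s ((C.G.chi (fun l => t ^ C.G.pair (C.G.simp' i) l) (C.G.rho s) : K) * u) := by
  have hl : C.G.CPerm (C.G.hc i (t : K)) ([i] ++ [i]) :=
    Good.CPerm.mul C.G (C.nc_cperm hP i t.ne_zero) (C.nc_cperm hP i (neg_ne_zero.2 one_ne_zero))
  obtain ⟨a, ha⟩ := hl s
  have hpw : C.G.pw ([i] ++ [i]) s = s := by
    rw [C.G.pw_append, C.G.pw_single, C.G.sP_mul_self]; rfl
  rw [hpw] at ha
  have e := congrArg C.theta (ha 1)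
  rw [map_mul, map_mul, map_inv, C.theta_hc, C.theta_xc, C.theta_xc,
    show C.G.hd (C.G.simp' i) t = C.G.tor fun l => t ^ C.G.pair (C.G.simp' i) l from rfl,
    C.G.tor_conj_xu, mul_one, mul_one] at e
  rw [ha, C.G.xu_injective' _ e]

theorem hc_nc (hP : ∀ i, C.HasPair i) (j : Fin D.rank) (t : Kˣ) (i : Fin D.rank) :
    ∃ a : Kˣ, ∀ u : K,
      C.G.hc j (t : K) * C.G.nc i u * (C.G.hc j (t : K))⁻¹ = C.G.nc i ((a : K) * u) := by
  refine ⟨C.G.chi (fun l => t ^ C.G.pair (C.G.simp' j) l) (C.G.rho (C.G.simp' i)), fun u => ?_⟩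
  set g := C.G.hc j (t : K)
  set a := C.G.chi (fun l => t ^ C.G.pair (C.G.simp' j) l) (C.G.rho (C.G.simp' i))
  have ha : C.G.chi (fun l => t ^ C.G.pair (C.G.simp' j) l) (C.G.rho (C.G.negr (C.G.simp' i))) = a⁻¹ := by
    rw [C.G.rho_negr, ← neg_one_smul ℤ, C.G.chi_zsmul, zpow_neg_one]
  simp only [Good.nc]
  rw [show ∀ x y z : D.SteinbergCover K, g * (x * y * z) * g⁻¹ =
      (g * x * g⁻¹) * (g * y * g⁻¹) * (g * z * g⁻¹) from fun x y z => by group,
    C.hc_xc hP, C.hc_xc hP, ha, Units.val_inv_eq_inv_val, mul_inv, mul_neg]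

theorem nc_conj_hc (hP : ∀ i, C.HasPair i) (i j : Fin D.rank) (t : Kˣ) :
    C.G.nc i 1 * C.G.hc j (t : K) * (C.G.nc i 1)⁻¹ ∈ C.G.Hc (K := K) := by
  obtain ⟨a, ha⟩ := C.hc_nc hP j t i
  have e : C.G.nc i 1 * C.G.hc j (t : K) * (C.G.nc i 1)⁻¹ =
      (C.G.hc i (a : K))⁻¹ * C.G.hc j (t : K) := by
    rw [show (C.G.hc i (a : K))⁻¹ = C.G.nc i 1 * (C.G.nc i (a : K))⁻¹ by
      rw [Good.hc, _root_.mul_inv_rev, C.G.nc_inv i (-1 : K), neg_neg]]
    have h1 := ha 1
    rw [mul_one] at h1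
    rw [← h1]
    group
  rw [e]
  exact mul_mem (inv_mem (C.G.hc_mem i a.ne_zero)) (C.G.hc_mem j t.ne_zero)

theorem nc_normalizes_Hc (hP : ∀ i, C.HasPair i) (i : Fin D.rank) {x : D.SteinbergCover K}
    (hx : x ∈ C.G.Hc (K := K)) :
    C.G.nc i 1 * x * (C.G.nc i 1)⁻¹ ∈ C.G.Hc (K := K) ∧
      (C.G.nc i 1)⁻¹ * x * C.G.nc i 1 ∈ C.G.Hc (K := K) := by
  have h : ∀ y ∈ C.G.Hc (K := K), C.G.nc i 1 * y * (C.G.nc i 1)⁻¹ ∈ C.G.Hc (K := K) := by
    intro y hy
    have hle : C.G.Hc (K := K) ≤ (C.G.Hc).comap (MulAut.conj (C.G.nc i (1 : K))).toMonoidHom := by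
      rw [Good.Hc, Subgroup.closure_le]
      rintro _ ⟨j, t, ht, rfl⟩
      exact C.nc_conj_hc hP i j (Units.mk0 t ht)
    exact hle hy
  refine ⟨h x hx, ?_⟩
  have e : (C.G.nc i 1)⁻¹ * x * C.G.nc i 1 = (C.G.nc i 1 * C.G.nc i 1)⁻¹ *
      (C.G.nc i 1 * x * (C.G.nc i 1)⁻¹) * (C.G.nc i 1 * C.G.nc i 1) := by group
  rw [e]
  have hs : C.G.nc i 1 * C.G.nc i 1 ∈ C.G.Hc (K := K) := by
    rw [C.G.nc_sq]; exact inv_mem (C.G.hc_mem i (neg_ne_zero.2 one_ne_zero))
  exact mul_mem (mul_mem (inv_mem hs) (h x hx)) hs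

theorem nwc_normalizes_Hc (hP : ∀ i, C.HasPair i) : ∀ (l : List (Fin D.rank))
    {x : D.SteinbergCover K}, x ∈ C.G.Hc (K := K) →
    C.G.nwc l * x * (C.G.nwc l)⁻¹ ∈ C.G.Hc (K := K) := by
  intro l
  induction l with
  | nil => intro x hx; simpa [Good.nwc] using hx
  | cons i l ih =>
    intro x hx
    have := (C.nc_normalizes_Hc hP i (ih hx)).1
    simpa [Good.nwc, mul_assoc] using this

theorem nc_ncr (hP : ∀ i, C.HasPair i) (i : Fin D.rank) (s : Fin D.nroots) (c : K) :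
    C.G.nc i 1 * C.G.ncr s c = C.G.ncr (C.G.w i s) ((C.G.eta i s : K) * c) * C.G.nc i 1 := by
  have e : (C.G.eta i (C.G.negr s) : K) * -c⁻¹ = -((C.G.eta i s : K) * c)⁻¹ := by
    have := C.G.eta_negr i s
    rcases C.G.eta_unit i s with u | u <;> rcases C.G.eta_unit i (C.G.negr s) with u' | u' <;>
      simp_all
  rw [← mul_inv_eq_iff_eq_mul, Good.ncr, Good.ncr, ← e, ← C.G.w_negr, ← C.nc_one_xc hP i s c,
    ← C.nc_one_xc hP i (C.G.negr s)]
  group

theorem nwc_conj_ncr (hP : ∀ i, C.HasPair i) : ∀ (l : List (Fin D.rank)) (s : Fin D.nroots) (c : K),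
    (c = 1 ∨ c = -1) → ∃ c' : K, (c' = 1 ∨ c' = -1) ∧
      C.G.nwc l * C.G.ncr s c = C.G.ncr (C.G.pw l s) c' * C.G.nwc l := by
  intro l
  induction l with
  | nil => intro s c hc; exact ⟨c, hc, by simp [Good.nwc, C.G.pw_nil]⟩
  | cons i l ih =>
    intro s c hc
    obtain ⟨c', hc', e⟩ := ih s c hc
    refine ⟨(C.G.eta i (C.G.pw l s) : K) * c', ?_, ?_⟩
    · rcases C.G.eta_unit i (C.G.pw l s) with u | u <;> rw [u] <;> rcases hc' with rfl | rfl <;> simp
    · simp only [Good.nwc, List.map_cons, List.prod_cons, C.G.pw_cons, Equiv.Perm.mul_apply]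
      rw [mul_assoc, show (l.map fun i => C.G.nc (K := K) i 1).prod = C.G.nwc l from rfl, e,
        ← mul_assoc, C.nc_ncr hP, mul_assoc]
      rfl

theorem nwc_mem_Hc (hP : ∀ i, C.HasPair i) : ∀ (n : ℕ) (l : List (Fin D.rank)), l.length = n →
    C.G.pw l = 1 → C.G.nwc (K := K) l ∈ C.G.Hc := by
  intro n
  induction n using Nat.strong_induction_on with
  | _ n ih =>
    intro l hn hl
    rcases List.eq_nil_or_concat l with rfl | ⟨l', j, rfl⟩
    · exact one_mem _
    · rw [List.concat_eq_append] at hn hl ⊢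
      rw [C.G.pw_append, C.G.pw_single] at hl
      have hneg : ¬ D.IsPosRoot (C.G.pw l' (C.G.simp' j)).val := by
        have e : C.G.pw l' (C.G.negr (C.G.simp' j)) = C.G.simp' j := by
          rw [← C.G.w_simp, ← C.G.sP_apply, ← Equiv.Perm.mul_apply, hl]; rfl
        rw [C.G.pw_negr] at e
        rw [← C.G.negr_negr (C.G.pw l' (C.G.simp' j)), e]
        exact C.G.negr_simp_not_pos j
      obtain ⟨l₁, i, l₂, rfl, hperm, he⟩ := C.G.delete_right hneg
      have hlen : (l₁ ++ l₂).length < n := by simp at hn ⊢; omega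
      have hrec := ih _ hlen (l₁ ++ l₂) rfl (hperm.symm.trans hl)
      obtain ⟨c, hc, e⟩ := C.nwc_conj_ncr (K := K) hP l₂ (C.G.simp' j) 1 (Or.inl rfl)
      rw [C.G.ncr_simp, he, C.G.ncr_simp] at e
      have hh : C.G.nc i 1 * C.G.nc i c ∈ C.G.Hc (K := K) := by
        rcases hc with rfl | rfl
        · rw [C.G.nc_sq]; exact inv_mem (C.G.hc_mem i (neg_ne_zero.2 one_ne_zero))
        · rw [← C.G.nc_inv, mul_inv_cancel]; exact one_mem _
      have : C.G.nwc (K := K) (l₁ ++ i :: l₂ ++ [j]) =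
          (C.G.nwc l₁ * (C.G.nc i 1 * C.G.nc i c) * (C.G.nwc l₁)⁻¹) * C.G.nwc (l₁ ++ l₂) := by
        simp only [Good.nwc] at e ⊢
        simp only [List.map_append, List.prod_append, List.map_cons, List.prod_cons, List.map_nil,
          List.prod_nil, mul_one, mul_assoc, e, inv_mul_cancel_left]
      rw [this]
      exact mul_mem (C.nwc_normalizes_Hc hP l₁ hh) hrec

theorem Nc_decomp (hP : ∀ i, C.HasPair i) {n : D.SteinbergCover K} (hn : n ∈ C.G.Nc (K := K)) :
    ∃ h ∈ C.G.Hc (K := K), ∃ l, n = h * C.G.nwc l := by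
  have step : ∀ (i : Fin D.rank) (t : K), t ≠ 0 → ∀ y : D.SteinbergCover K,
      (∃ h ∈ C.G.Hc (K := K), ∃ l, y = h * C.G.nwc l) →
      ∃ h ∈ C.G.Hc (K := K), ∃ l, C.G.nc i t * y = h * C.G.nwc l := by
    rintro i t ht _ ⟨h, hh, l, rfl⟩
    refine ⟨C.G.hc i t * (C.G.nc i 1 * h * (C.G.nc i 1)⁻¹),
      mul_mem (C.G.hc_mem i ht) (C.nc_normalizes_Hc hP i hh).1, i :: l, ?_⟩
    rw [C.G.nc_eq_hc i t]
    simp only [Good.nwc, List.map_cons, List.prod_cons]
    group
  induction hn using Subgroup.closure_induction_left with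
  | one => exact ⟨1, one_mem _, [], by simp [Good.nwc]⟩
  | mul_left x hx y _ ih =>
    obtain ⟨i, t, ht, rfl⟩ := hx
    exact step i t ht y ih
  | inv_mul_cancel x hx y _ ih =>
    obtain ⟨i, t, ht, rfl⟩ := hx
    rw [C.G.nc_inv]
    exact step i (-t) (neg_ne_zero.2 ht) y ih

theorem theta_Hc {h : D.SteinbergCover K} (hh : h ∈ C.G.Hc (K := K)) :
    C.theta h ∈ D.diagonalSubgroup K := by
  have hle : C.G.Hc (K := K) ≤ (D.diagonalSubgroup K).comap (C.theta (K := K)) := by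
    rw [Good.Hc, Subgroup.closure_le]
    rintro _ ⟨i, t, ht, rfl⟩
    show C.theta (C.G.hc i t) ∈ D.diagonalSubgroup K
    rw [show t = ((Units.mk0 t ht : Kˣ) : K) from rfl, C.theta_hc]
    exact C.G.hd_mem_H _ _
  exact hle hh

theorem ker_le_Hc (hP : ∀ i, C.HasPair i) : (C.theta (K := K)).ker ≤ C.G.Hc := by
  intro g hg
  obtain ⟨h, hh, l, e⟩ := C.Nc_decomp hP (C.theta_ker_mem hP hg).2
  have h1 : C.G.nw (K := K) l = (C.theta h)⁻¹ := by
    rw [MonoidHom.mem_ker, e, map_mul, C.theta_nwc] at hg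
    exact eq_inv_of_mul_eq_one_right hg
  have hp : C.G.pw l = 1 := by
    have hn := C.G.nPerm_nw (K := K) l
    rw [h1] at hn
    exact Good.NPerm.unique C.G hn (C.G.nPerm_H (inv_mem (C.theta_Hc hh)))
  rw [e]
  exact mul_mem hh (C.nwc_mem_Hc hP l.length l rfl hp)

/-! ### the Steinberg group -/

/-- the map from the cover to the Steinberg group -/
noncomputable def toSt (_ : Full D) : D.SteinbergCover K →* D.SteinbergGroup K :=
  PresentedGroup.toGroup (f := fun p => (PresentedGroup.of p : D.SteinbergGroup K)) fun w hw => by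
    rw [show FreeGroup.lift (fun p => (PresentedGroup.of p : D.SteinbergGroup K)) =
      PresentedGroup.mk (D.steinbergRels K) from FreeGroup.ext_hom _ _ fun p => by simp [PresentedGroup.of]]
    exact PresentedGroup.one_of_mem (Or.inl hw)

theorem toSt_mk (w : FreeGroup (Fin D.nroots × K)) :
    C.toSt (PresentedGroup.mk (D.steinbergRelsAB K) w) = PresentedGroup.mk (D.steinbergRels K) w := by
  have e : (C.toSt (K := K)).comp (PresentedGroup.mk (D.steinbergRelsAB K)) =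
      PresentedGroup.mk (D.steinbergRels K) := FreeGroup.ext_hom _ _ fun p => by
    show C.toSt (PresentedGroup.of p) = _
    rw [toSt, PresentedGroup.toGroup.of]
    rfl
  exact DFunLike.congr_fun e w

theorem toSt_surjective : Function.Surjective (C.toSt (K := K)) := by
  intro x
  obtain ⟨w, rfl⟩ := PresentedGroup.mk_surjective _ x
  exact ⟨_, C.toSt_mk w⟩

theorem toSt_hc (i : Fin D.rank) (t : K) :
    C.toSt (C.G.hc i t) = PresentedGroup.mk (D.steinbergRels K) (D.stH (D.simple i.val) t) := by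
  rw [← C.toSt_mk]
  congr 1
  have hn : ∀ w : K, C.G.nc i w =
      PresentedGroup.mk (D.steinbergRelsAB K) (D.stWord (D.nWord (D.simple i.val) w)) := by
    intro w
    simp only [ChevalleyDatum.nWord, ChevalleyDatum.stWord, List.map_cons, List.map_nil,
      List.prod_cons, List.prod_nil, mul_one, map_mul]
    rw [← C.G.simp_val i, C.G.neg_val (C.G.simp' i), Good.nc, ← mul_assoc]
    rfl
  rw [Good.hc, hn, hn, ← map_mul, ChevalleyDatum.stH, ChevalleyDatum.hWord]
  congr 1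
  simp [ChevalleyDatum.stWord]

theorem toSt_hc_mul (i : Fin D.rank) {t u : K} (ht : t ≠ 0) (hu : u ≠ 0) :
    C.toSt (C.G.hc i t) * C.toSt (C.G.hc i u) = C.toSt (C.G.hc i (t * u)) := by
  rw [C.toSt_hc, C.toSt_hc, C.toSt_hc]
  have h : PresentedGroup.mk (D.steinbergRels K)
      (D.stH (D.simple i.val) t * D.stH (D.simple i.val) u * (D.stH (D.simple i.val) (t * u))⁻¹) = 1 :=
    PresentedGroup.one_of_mem (Or.inr
      ⟨D.simple i.val, t, u, C.G.simp_val i ▸ (C.G.simp' i).isLt, ht, hu, rfl⟩)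
  rw [map_mul, map_mul, map_inv, mul_inv_eq_one] at h
  exact h

/-- `h_{p_i}` in the Steinberg group -/
noncomputable def hsHom (i : Fin D.rank) : Kˣ →* D.SteinbergGroup K :=
  MonoidHom.mk' (fun t => C.toSt (C.G.hc i (t : K))) fun a b => by
    simp only [Units.val_mul]
    exact (C.toSt_hc_mul i a.ne_zero b.ne_zero).symm

theorem hsHom_comm (hP : ∀ i, C.HasPair i) :
    Pairwise fun i j : Fin D.rank => ∀ x y : Kˣ, Commute (C.hsHom (K := K) i x) (C.hsHom j y) := by
  intro i j _ x y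
  obtain ⟨a, ha⟩ := C.hc_nc hP i x j
  have e : C.G.hc i (x : K) * C.G.hc j (y : K) * (C.G.hc i (x : K))⁻¹ =
      C.G.hc j ((a : K) * y) * (C.G.hc j (a : K))⁻¹ := by
    have h1 := ha y
    have h2 := ha (-1)
    rw [mul_neg, mul_one] at h2
    have h3 : C.G.nc j (-(a : K)) = (C.G.nc j (a : K))⁻¹ := (C.G.nc_inv j _).symm
    rw [h3] at h2
    calc _ = (C.G.hc i (x : K) * C.G.nc j (y : K) * (C.G.hc i (x : K))⁻¹) *
          (C.G.hc i (x : K) * C.G.nc j (-1) * (C.G.hc i (x : K))⁻¹) := by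
          rw [show C.G.hc j (y : K) = C.G.nc j (y : K) * C.G.nc j (-1) from rfl]
          group
      _ = _ := by
          rw [h1, h2, show C.G.hc j ((a : K) * y) = C.G.nc j ((a : K) * y) * C.G.nc j (-1) from rfl,
            show C.G.hc j (a : K) = C.G.nc j (a : K) * C.G.nc j (-1) from rfl]
          group
  have e' := congrArg C.toSt e
  simp only [map_mul, map_inv] at e'
  have h4 : C.toSt (C.G.hc j ((a : K) * y)) * (C.toSt (C.G.hc j (a : K)))⁻¹ = C.toSt (C.G.hc j (y : K)) := by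
    rw [mul_comm (a : K), ← C.toSt_hc_mul j y.ne_zero a.ne_zero, mul_inv_cancel_right]
  exact mul_inv_eq_iff_eq_mul.1 (e'.trans h4)

/-- the torus of the Steinberg group -/
noncomputable def torSt (hP : ∀ i, C.HasPair i) : (Fin D.rank → Kˣ) →* D.SteinbergGroup K :=
  MonoidHom.noncommPiCoprod (fun i => C.hsHom i) (C.hsHom_comm hP)

theorem torSt_single (hP : ∀ i, C.HasPair i) (i : Fin D.rank) (t : Kˣ) :
    C.torSt hP (Pi.mulSingle i t) = C.toSt (C.G.hc i (t : K)) :=
  MonoidHom.noncommPiCoprod_mulSingle (N := fun _ : Fin D.rank => Kˣ) (fun i => C.hsHom i) i t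

/-- the natural map of the Steinberg group -/
noncomputable def thetaSt : D.SteinbergGroup K →* GL D.Idx K :=
  PresentedGroup.toGroup (f := fun p => C.theta (PresentedGroup.of p : D.SteinbergCover K)) (by
    intro w hw
    rw [show FreeGroup.lift (fun p => C.theta (PresentedGroup.of p : D.SteinbergCover K)) =
      (C.theta (K := K)).comp (PresentedGroup.mk (D.steinbergRelsAB K)) from
        FreeGroup.ext_hom _ _ fun p => by simp [PresentedGroup.of], MonoidHom.comp_apply]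
    rcases hw with hw | ⟨r, t, u, hr, ht, hu, rfl⟩
    · exact (congrArg (C.theta (K := K))
        (PresentedGroup.one_of_mem (show w ∈ D.steinbergRelsAB K from hw))).trans (map_one _)
    · have hE : ∀ v : K, C.theta (PresentedGroup.mk (D.steinbergRelsAB K) (D.stH r v)) =
          C.G.hE ⟨r, hr⟩ v := by
        intro v
        have hx : ∀ (s : Fin D.nroots) (a : K),
            C.theta (PresentedGroup.mk (D.steinbergRelsAB K) (D.stX s.val a)) = C.G.xu s a :=
          C.theta_xc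
        have hr' : D.neg r = (C.G.negr ⟨r, hr⟩).val := C.G.neg_val ⟨r, hr⟩
        simp only [ChevalleyDatum.stH, ChevalleyDatum.hWord, ChevalleyDatum.nWord,
          ChevalleyDatum.stWord, List.map_append, List.map_cons, List.map_nil, List.prod_append,
          List.prod_cons, List.prod_nil, mul_one, map_mul, hr', hx _ _,
          show ∀ a : K, C.theta (PresentedGroup.mk (D.steinbergRelsAB K) (D.stX r a)) = C.G.xu ⟨r, hr⟩ a
            from hx ⟨r, hr⟩, Good.hE, Good.nE, mul_assoc]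
      rw [map_mul, map_mul, map_inv, map_mul, map_mul, map_inv, hE, hE, hE, mul_inv_eq_one,
        show t = ((Units.mk0 t ht : Kˣ) : K) from rfl, show u = ((Units.mk0 u hu : Kˣ) : K) from rfl,
        ← Units.val_mul, C.G.hE_eq, C.G.hE_eq, C.G.hE_eq, map_mul])

theorem thetaSt_toSt (g : D.SteinbergCover K) : C.thetaSt (C.toSt g) = C.theta g := by
  have e : (C.thetaSt (K := K)).comp C.toSt = C.theta := PresentedGroup.ext fun p => by
    rw [MonoidHom.comp_apply, toSt, PresentedGroup.toGroup.of, thetaSt, PresentedGroup.toGroup.of]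
  exact DFunLike.congr_fun e g

theorem thetaSt_range : (C.thetaSt (K := K)).range = D.group K := by
  rw [← C.theta_range]
  ext g
  constructor
  · rintro ⟨x, rfl⟩
    obtain ⟨y, rfl⟩ := C.toSt_surjective x
    exact ⟨y, (C.thetaSt_toSt y).symm⟩
  · rintro ⟨y, rfl⟩
    exact ⟨C.toSt y, C.thetaSt_toSt y⟩

theorem thetaSt_stGen (r : Fin D.nroots) (t : K) :
    C.thetaSt (D.stGen K r.val t) = C.G.xu r t := by
  rw [ChevalleyDatum.stGen, ← C.toSt_mk, C.thetaSt_toSt]
  exact C.theta_xc r t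

theorem thetaSt_torSt (hP : ∀ i, C.HasPair i) :
    (C.thetaSt (K := K)).comp (C.torSt hP) = C.G.torθ := by
  refine MonoidHom.ext fun c => ?_
  suffices h : c ∈ ((C.thetaSt (K := K)).comp (C.torSt hP)).eqLocus C.G.torθ from h
  rw [← Finset.univ_prod_mulSingle c]
  refine Subgroup.prod_mem _ fun i _ => ?_
  show ((C.thetaSt (K := K)).comp (C.torSt hP)) _ = _
  rw [MonoidHom.comp_apply, C.torSt_single, C.thetaSt_toSt, C.theta_hc, C.G.torθ_single]

theorem kerSt_eq (hP : ∀ i, C.HasPair i) :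
    (C.thetaSt (K := K)).ker = (C.G.torθ (K := K)).ker.map (C.torSt hP) := by
  refine le_antisymm (fun x hx => ?_) ?_
  · obtain ⟨g, rfl⟩ := C.toSt_surjective x
    rw [MonoidHom.mem_ker, C.thetaSt_toSt] at hx
    have hle : C.G.Hc (K := K) ≤ (C.torSt hP).range.comap C.toSt := by
      rw [Good.Hc, Subgroup.closure_le]
      rintro _ ⟨i, t, ht, rfl⟩
      exact ⟨Pi.mulSingle i (Units.mk0 t ht), C.torSt_single hP i _⟩
    obtain ⟨c, hc⟩ := hle (C.ker_le_Hc hP hx)
    refine ⟨c, ?_, hc⟩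
    rw [SetLike.mem_coe, MonoidHom.mem_ker, ← C.thetaSt_torSt hP, MonoidHom.comp_apply, hc,
      C.thetaSt_toSt, hx]
  · rintro _ ⟨c, hc, rfl⟩
    rw [SetLike.mem_coe, MonoidHom.mem_ker, ← C.thetaSt_torSt hP] at hc
    exact hc

theorem kerSt_eq_center (hP : ∀ i, C.HasPair i) :
    (C.thetaSt (K := K)).ker = Subgroup.center (D.SteinbergGroup K) := by
  refine le_antisymm (fun x hx => ?_) fun x hx => ?_
  · obtain ⟨g, rfl⟩ := C.toSt_surjective x
    rw [MonoidHom.mem_ker, C.thetaSt_toSt] at hx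
    have h1 := C.theta_ker_central hP hx
    refine Subgroup.mem_center_iff.2 fun y => ?_
    obtain ⟨z, rfl⟩ := C.toSt_surjective y
    rw [← map_mul, ← map_mul, Subgroup.mem_center_iff.1 h1 z]
  · rw [MonoidHom.mem_ker]
    refine C.central_eq_one (K := K) (by rw [← C.thetaSt_range]; exact ⟨x, rfl⟩) fun r => ?_
    rw [← C.thetaSt_stGen, ← map_mul, ← map_mul, Subgroup.mem_center_iff.1 hx]

end Full

namespace Good

theorem torθ_ker_eq_bot (G : Good D) (T : KerData D.rank) (hT : T.Ok (cmat D)) (hk : T.k = 0) :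
    (G.torθ (K := K)).ker = ⊥ := by
  classical
  rw [eq_bot_iff]
  intro c hc
  rw [G.torθ_ker] at hc
  rw [Subgroup.mem_bot]
  funext j
  have : IsEmpty (Fin T.k) := by rw [hk]; exact Fin.isEmpty'
  have h2 : ∏ i, c i ^ (if i = j then (1 : ℤ) else 0) = ∏ i, c i ^ (∑ l, T.M j l * cmat D i l) := by
    refine Finset.prod_congr rfl fun i _ => ?_
    rw [← hT.1 j i]
    simp
  simp only [prod_zpow_sum] at h2
  rw [Finset.prod_comm (s := Finset.univ) (t := Finset.univ)] at h2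
  rw [Finset.prod_eq_single j (fun b _ hb => by simp [hb]) (by simp), if_pos rfl, zpow_one] at h2
  rw [h2]
  refine Finset.prod_eq_one fun l _ => ?_
  simp only [mul_comm (T.M j l), zpow_mul, Finset.prod_zpow]
  rw [hc l, one_zpow]

end Good

end CfsgLib.Lie.Chev
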