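import Cfsg.Agent.Lib.Lie.Chev.Perfect
import Cfsg.Agent.Lib.Lie.Chev.Simple
import Cfsg.Agent.Lib.Lie.Chev.FullAll

/-!
# Perfectness and connectedness for the tabulated data
-/

set_option autoImplicit false
set_option maxRecDepth 100000

namespace CfsgLib.Lie.Chev

open Cfsg.Lie

variable {K : Type*} [Field K]

/-- a pair of roots whose commutator is a fundamental root element -/
def PairOne (D : ChevalleyDatum) (r s j : ℕ) : Prop :=
  r < D.nroots ∧ s < D.nroots ∧ s ≠ r ∧ s ≠ D.neg r ∧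
    (D.commTerms r s = [(D.simple j, 1, 1, 1)] ∨ D.commTerms r s = [(D.simple j, -1, 1, 1)])

instance (D : ChevalleyDatum) (r s j : ℕ) : Decidable (PairOne D r s j) := by
  unfold PairOne; infer_instance

theorem Full.inDer_pair {D : ChevalleyDatum} (C : Full D) {r s : ℕ} {j : Fin D.rank}
    (h : PairOne D r s j.val) : InDer C.G K (C.G.simp' j) := by
  obtain ⟨hr, hs, hne, hng, hl⟩ := h
  rw [← C.G.simp_val j] at hl
  have hne' : (⟨s, hs⟩ : Fin D.nroots) ≠ ⟨r, hr⟩ := fun e => hne (congrArg Fin.val e)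
  have hng' : (⟨s, hs⟩ : Fin D.nroots) ≠ C.G.negr ⟨r, hr⟩ := fun e =>
    hng ((congrArg Fin.val e).trans (C.G.neg_val ⟨r, hr⟩).symm)
  rcases hl with hl | hl
  · exact C.inDer_one hne' hng' (Or.inl rfl) hl
  · exact C.inDer_one hne' hng' (Or.inr rfl) hl

/-- if an odd power and the square of `a` are `1` then `a = 1` -/
theorem eq_one_of_two_three {a : K} (h2 : a ^ (2 : ℤ) = 1) (h3 : a ^ (-3 : ℤ) = 1) : a = 1 := by
  have h3' : a ^ (3 : ℤ) = 1 := by rwa [zpow_neg, inv_eq_one] at h3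
  have e : a ^ (3 : ℤ) = a ^ (2 : ℤ) * a := by
    rw [show (3 : ℤ) = ((3 : ℕ) : ℤ) from rfl, show (2 : ℤ) = ((2 : ℕ) : ℤ) from rfl, zpow_natCast, zpow_natCast,
      pow_succ]
  rw [h3', h2, one_mul] at e
  exact e.symm

theorem inDerD4 (C : Full chevD4) : ∀ j, InDer C.G K (C.G.simp' j) := by
  have h : ∀ j : Fin chevD4.rank, ∃ p ∈ [(6, 22), (1, 23), (3, 22), (2, 22)], PairOne chevD4 p.1 p.2 j.val := by decide +kernel
  intro j
  obtain ⟨p, -, hp⟩ := h j
  exact C.inDer_pair hp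

theorem inDerF4 (C : Full chevF4) : ∀ j, InDer C.G K (C.G.simp' j) := by
  have h : ∀ j : Fin chevF4.rank, ∃ p ∈ [(7, 44), (8, 40), (2, 46), (1, 47)], PairOne chevF4 p.1 p.2 j.val := by decide +kernel
  intro j
  obtain ⟨p, -, hp⟩ := h j
  exact C.inDer_pair hp

theorem inDerE6 (C : Full chevE6) : ∀ j, InDer C.G K (C.G.simp' j) := by
  have h : ∀ j : Fin chevE6.rank, ∃ p ∈ [(16, 66), (1, 71), (5, 69), (2, 70), (3, 69), (4, 68)], PairOne chevE6 p.1 p.2 j.val := by decide +kernel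
  intro j
  obtain ⟨p, -, hp⟩ := h j
  exact C.inDer_pair hp

theorem inDerE7 (C : Full chevE7) : ∀ j, InDer C.G K (C.G.simp' j) := by
  have h : ∀ j : Fin chevE7.rank, ∃ p ∈ [(1, 125), (7, 122), (2, 124), (3, 123), (4, 122), (5, 121), (6, 120)], PairOne chevE7 p.1 p.2 j.val := by decide +kernel
  intro j
  obtain ⟨p, -, hp⟩ := h j
  exact C.inDer_pair hp

theorem inDerE8 (C : Full chevE8) : ∀ j, InDer C.G K (C.G.simp' j) := by
  have h : ∀ j : Fin chevE8.rank, ∃ p ∈ [(14, 233), (7, 234), (6, 234), (5, 235), (4, 236), (3, 237), (2, 238), (1, 239)], PairOne chevE8 p.1 p.2 j.val := by decide +kernel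
  intro j
  obtain ⟨p, -, hp⟩ := h j
  exact C.inDer_pair hp

theorem inDerG2 (C : Full chevG2) (hK : ∃ a : K, a ≠ 0 ∧ a ≠ 1) : ∀ j, InDer C.G K (C.G.simp' j) := by
  obtain ⟨a, ha0, ha1⟩ := hK
  have h : ∀ j : Fin chevG2.rank, ∃ i : Fin chevG2.rank, chevG2.cartan i.val (chevG2.simple j.val) = -1 ∨
      (chevG2.cartan i.val (chevG2.simple j.val) = -3 ∧
        ∃ k : Fin chevG2.rank, chevG2.cartan k.val (chevG2.simple j.val) = 2) := by decide +kernel
  intro j
  obtain ⟨i, hi⟩ := h j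
  have hc : ∀ k, cart chevG2 k (C.G.simp' j) = chevG2.cartan k.val (chevG2.simple j.val) := fun k => by
    rw [cart, C.G.simp_val]
  rcases hi with hi | ⟨hi, k, hk⟩
  · exact C.G.inDer_torus i ha0 (by rw [hc, hi, zpow_neg_one]; simpa [inv_eq_one] using ha1)
  · by_cases h3 : a ^ (-3 : ℤ) = 1
    · refine C.G.inDer_torus k ha0 ?_
      rw [hc, hk]
      exact fun h2 => ha1 (eq_one_of_two_three h2 h3)
    · exact C.G.inDer_torus i ha0 (by rwa [hc, hi])

theorem inDerB2 (C : Full chevB2) (hK : ∃ a : K, a ≠ 0 ∧ a ≠ 1) : ∀ j, InDer C.G K (C.G.simp' j) := by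
  obtain ⟨a, ha0, ha1⟩ := hK
  have hr : chevB2.rank = 2 := by decide +kernel
  have hv : chevB2.simple 0 = 5 ∧ chevB2.simple 1 = 4 ∧ chevB2.neg 5 = 2 ∧ chevB2.neg 0 ≠ 6 ∧
      chevB2.cartan 1 5 = -1 ∧ chevB2.commTerms 0 6 = [(2, -1, 1, 1), (4, 1, 1, 2)] ∧
      6 < chevB2.nroots ∧ 0 < chevB2.nroots := by decide +kernel
  obtain ⟨e0, e1, e2, e3, e4, e5, e6, e7⟩ := hv
  let j0 : Fin chevB2.rank := ⟨0, by omega⟩
  let j1 : Fin chevB2.rank := ⟨1, by omega⟩
  have h0 : InDer C.G K (C.G.simp' j0) := by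
    refine C.G.inDer_torus j1 ha0 ?_
    rw [cart, C.G.simp_val]
    show a ^ chevB2.cartan 1 (chevB2.simple 0) ≠ 1
    rw [e0, e4, zpow_neg_one]
    simpa [inv_eq_one] using ha1
  have hk : InDer C.G K (C.G.negr (C.G.simp' j0)) := by
    rw [← C.G.w_simp]; exact C.G.inDer_w j0 h0
  have hkv : (C.G.negr (C.G.simp' j0)).val = 2 := by
    rw [← C.G.neg_val, C.G.simp_val, show chevB2.simple (j0 : ℕ) = 5 from e0, e2]
  have hjv : (C.G.simp' j1).val = 4 := by rw [C.G.simp_val]; exact e1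
  have h1 : InDer C.G K (C.G.simp' j1) := by
    refine C.inDer_two (r := ⟨0, e7⟩) (s := ⟨6, e6⟩) (k := C.G.negr (C.G.simp' j0)) ?_ ?_ (Or.inl rfl)
      (by rw [hkv, hjv]; exact e5) hk
    · intro e; exact absurd (congrArg Fin.val e) (by norm_num)
    · intro e
      have := congrArg Fin.val e
      rw [← C.G.neg_val] at this
      exact e3 this.symm
  intro j
  have := j.isLt
  rcases (show j.val = 0 ∨ j.val = 1 by omega) with e | e
  · rwa [show j = j0 from Fin.ext e]
  · rwa [show j = j1 from Fin.ext e]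

theorem connectedG2 : DiagramConnected chevG2 := by decide +kernel

theorem connectedB2 : DiagramConnected chevB2 := by decide +kernel

theorem connectedD4 : DiagramConnected chevD4 := by decide +kernel

theorem connectedF4 : DiagramConnected chevF4 := by decide +kernel

theorem connectedE6 : DiagramConnected chevE6 := by decide +kernel

theorem connectedE7 : DiagramConnected chevE7 := by decide +kernel

theorem connectedE8 : DiagramConnected chevE8 := by decide +kernel

end CfsgLib.Lie.Chev
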