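import Cfsg.Agent.Lib.Lie.Chev.PoinCert
import Cfsg.Agent.Lib.Lie.Chev.GoodB2

/-!
The length generating function of the Weyl group of type B2.
-/

set_option autoImplicit false
set_option maxRecDepth 100000
set_option maxHeartbeats 1000000

namespace CfsgLib.Lie.Chev

open Cfsg.Lie

/-- data of step 0 for type B2 -/
def stepB2_0 : Step where
  I := [1]
  J := []
  m := 2
  P := (.node 1 (.leaf 0x70006000500040003000200010000) (.leaf 0x70005000600030004000100020000))
  par := (.node 1 (.leaf (0, 0)) (.leaf (1, 0)))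
  nx := (.node 1 (.leaf [(1, 0)]) (.leaf [(0, 0)]))
  N := [0, 1]

theorem chkStepB2_0 : chkStep chevB2 fastB2 stepB2_0 = true := by decide +kernel

theorem poinPolyB2_0 (q : ℤ) :
    (stepB2_0.N.map fun a => q ^ a).sum * (q - 1) * (1) = (q ^ 2 - 1) := by
  simp only [stepB2_0, List.map_cons, List.map_nil, List.sum_cons, List.sum_nil]
  ring

theorem poinStepB2_0 (G : Good chevB2) (q : ℤ) :
    Psum G (idxSet chevB2 [1]) q * (q - 1) ^ 1 = (q ^ 2 - 1) := by
  have h := G.Psum_of_chk (S := stepB2_0) (G.w_eq_wF checksB2) (G.simples_eq' checksB2)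
    chkStepB2_0 q
  rw [show stepB2_0.I = [1] from rfl] at h
  rw [← poinPolyB2_0 q, h]

  rw [show idxSet chevB2 stepB2_0.J = ∅ from by decide +kernel, G.Psum_empty]
  ring

/-- data of step 1 for type B2 -/
def stepB2_1 : Step where
  I := [0, 1]
  J := [1]
  m := 4
  P := (.node 2 (.node 1 (.leaf 0x70006000500040003000200010000) (.leaf 0x40006000200070000000500010003)) (.node 3 (.leaf 0x30005000100070000000600020004) (.leaf 0x2000100040003000600050007)))
  par := (.node 2 (.node 1 (.leaf (0, 0)) (.leaf (0, 0))) (.node 3 (.leaf (1, 1)) (.leaf (0, 2))))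
  nx := (.node 2 (.node 1 (.leaf [(1, 0), (0, 2)]) (.leaf [(0, 0), (2, 0)])) (.node 3 (.leaf [(3, 0), (1, 0)]) (.leaf [(2, 0), (3, 2)])))
  N := [0, 1, 2, 3]

theorem chkStepB2_1 : chkStep chevB2 fastB2 stepB2_1 = true := by decide +kernel

theorem poinPolyB2_1 (q : ℤ) :
    (stepB2_1.N.map fun a => q ^ a).sum * (q - 1) * ((q ^ 2 - 1)) = (q ^ 2 - 1) * (q ^ 4 - 1) := by
  simp only [stepB2_1, List.map_cons, List.map_nil, List.sum_cons, List.sum_nil]
  ring

theorem poinStepB2_1 (G : Good chevB2) (q : ℤ) :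
    Psum G (idxSet chevB2 [0, 1]) q * (q - 1) ^ 2 = (q ^ 2 - 1) * (q ^ 4 - 1) := by
  have h := G.Psum_of_chk (S := stepB2_1) (G.w_eq_wF checksB2) (G.simples_eq' checksB2)
    chkStepB2_1 q
  rw [show stepB2_1.I = [0, 1] from rfl] at h
  rw [← poinPolyB2_1 q, h]

  rw [← poinStepB2_0 G q, show stepB2_1.J = [1] from rfl]
  ring

/-- the factorised length generating function of type B2 -/
theorem poinB2 (G : Good chevB2) (q : ℤ) :
    Psum G Finset.univ q * (q - 1) ^ 2 = (q ^ 2 - 1) * (q ^ 4 - 1) := by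
  rw [← poinStepB2_1 G q, show idxSet chevB2 [0, 1] = Finset.univ from by decide +kernel]

end CfsgLib.Lie.Chev
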