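import Cfsg.Agent.Lib.Lie.Chev.Borel
import Cfsg.Agent.Lib.Lie.BN

/-!
# The refined Bruhat decomposition and the order of a finite Chevalley group
-/

set_option autoImplicit false

namespace CfsgLib.Lie.Chev

open Cfsg.Lie
open scoped MatrixGroups

variable {D : ChevalleyDatum} {K : Type*} [Field K]

/-- the subgroup generated by the positive root elements made negative by `π` -/
noncomputable def Uinv (G : Good D) (π : Equiv.Perm (Fin D.nroots)) : Subgroup (GL D.Idx K) :=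
  Subgroup.closure
    {g | ∃ r t, (D.IsPosRoot (r : Fin D.nroots).val ∧ ¬ D.IsPosRoot (π r).val) ∧ g = G.xu r t}

/-- the subgroup generated by the positive root elements kept positive by `π` -/
noncomputable def Ukeep (G : Good D) (π : Equiv.Perm (Fin D.nroots)) : Subgroup (GL D.Idx K) :=
  Subgroup.closure
    {g | ∃ r t, (D.IsPosRoot (r : Fin D.nroots).val ∧ D.IsPosRoot (π r).val) ∧ g = G.xu r t}

/-- the number of positive roots made negative by `π` -/
def ninv (_ : Good D) (π : Equiv.Perm (Fin D.nroots)) : ℕ :=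
  (Finset.univ.filter fun r : Fin D.nroots => D.IsPosRoot r.val ∧ ¬ D.IsPosRoot (π r).val).card

namespace Good

variable (G : Good D)

include G

theorem Uinv_le (π : Equiv.Perm (Fin D.nroots)) :
    (Uinv G π : Subgroup (GL D.Idx K)) ≤ D.posUnipotent K := by
  rw [Uinv, Subgroup.closure_le]
  rintro g ⟨r, t, ⟨hr, -⟩, rfl⟩
  exact G.xu_mem_U hr t

theorem Ukeep_le (π : Equiv.Perm (Fin D.nroots)) :
    (Ukeep G π : Subgroup (GL D.Idx K)) ≤ D.posUnipotent K := by
  rw [Ukeep, Subgroup.closure_le]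
  rintro g ⟨r, t, ⟨hr, -⟩, rfl⟩
  exact G.xu_mem_U hr t

theorem conj_Uinv {n : GL D.Idx K} {π : Equiv.Perm (Fin D.nroots)} (hn : G.NPerm n π) :
    ∀ v ∈ (Uinv G π : Subgroup (GL D.Idx K)), n * v * n⁻¹ ∈ D.negUnipotent K := by
  intro v hv
  induction hv using Subgroup.closure_induction with
  | one => simp
  | mul a b _ _ ha hb =>
    rw [show n * (a * b) * n⁻¹ = (n * a * n⁻¹) * (n * b * n⁻¹) by group]
    exact mul_mem ha hb
  | inv a _ ha =>
    rw [show n * a⁻¹ * n⁻¹ = (n * a * n⁻¹)⁻¹ by group]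
    exact inv_mem ha
  | mem x hx =>
    obtain ⟨r, t, ⟨-, hr⟩, rfl⟩ := hx
    obtain ⟨c, hc⟩ := hn r
    rw [hc]
    exact G.xu_mem_V ((G.isNegRoot_iff_not_pos _).2 hr) _

theorem conj_Ukeep {n : GL D.Idx K} {π : Equiv.Perm (Fin D.nroots)} (hn : G.NPerm n π) :
    ∀ v ∈ (Ukeep G π : Subgroup (GL D.Idx K)), n * v * n⁻¹ ∈ D.posUnipotent K := by
  intro v hv
  induction hv using Subgroup.closure_induction with
  | one => simp
  | mul a b _ _ ha hb =>
    rw [show n * (a * b) * n⁻¹ = (n * a * n⁻¹) * (n * b * n⁻¹) by group]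
    exact mul_mem ha hb
  | inv a _ ha =>
    rw [show n * a⁻¹ * n⁻¹ = (n * a * n⁻¹)⁻¹ by group]
    exact inv_mem ha
  | mem x hx =>
    obtain ⟨r, t, ⟨-, hr⟩, rfl⟩ := hx
    obtain ⟨c, hc⟩ := hn r
    rw [hc]
    exact G.xu_mem_U hr _

theorem Ukeep_inf_Uinv {n : GL D.Idx K} {π : Equiv.Perm (Fin D.nroots)} (hn : G.NPerm n π) :
    (Ukeep G π : Subgroup (GL D.Idx K)) ⊓ Uinv G π = ⊥ := by
  rw [eq_bot_iff]
  rintro v ⟨h1, h2⟩
  have h3 : n * v * n⁻¹ = 1 :=
    Subgroup.mem_bot.1 (G.U_inf_V_eq (K := K) ▸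
      Subgroup.mem_inf.2 ⟨G.conj_Ukeep hn v h1, G.conj_Uinv hn v h2⟩)
  rw [mul_inv_eq_one] at h3
  exact Subgroup.mem_bot.2 (mul_left_cancel (h3.trans (mul_one n).symm))

theorem Uinv_congr_H {h : GL D.Idx K} (hh : h ∈ D.diagonalSubgroup K) (π : Equiv.Perm (Fin D.nroots))
    {v : GL D.Idx K} (hv : v ∈ (Uinv G π : Subgroup (GL D.Idx K))) :
    h * v * h⁻¹ ∈ (Uinv G π : Subgroup (GL D.Idx K)) :=
  (Subgroup.mem_normalizer_iff.1
    (G.H_le_normalizer (fun r => D.IsPosRoot r.val ∧ ¬ D.IsPosRoot (π r).val) hh) v).1 hv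

end Good

namespace Full

variable (C : Full D)

include C

/-- a product over the roots with `P`, increasing, times one over the others, decreasing -/
theorem exists_mix (P : Fin D.nroots → Prop) [DecidablePred P] :
    ∀ (d m : ℕ), m + d = D.nroots → ∀ g ∈ C.G.Uge (K := K) m,
      ∃ t : Fin D.nroots → K, g = C.uprod m (fun r => if P r then t r else 0) *
        (C.uprod m (fun r => if P r then 0 else -t r))⁻¹ := by
  intro d
  induction d with
  | zero =>
    intro m hm g hg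
    rw [C.G.Uge_top (by omega), Subgroup.mem_bot] at hg
    exact ⟨0, by rw [hg, C.uprod_of_ge (by omega), C.uprod_of_ge (by omega)]; simp⟩
  | succ d ih =>
    intro m hm g hg
    have hlt : m < D.nroots := by omega
    by_cases hp : D.IsPosRoot m
    · set r : Fin D.nroots := ⟨m, hlt⟩ with hr
      obtain ⟨a, v, hv, rfl⟩ := C.Uge_step (r := r) hp hg
      have hupd : ∀ (u : Fin D.nroots → K) (b : K), ∀ s : Fin D.nroots, m + 1 ≤ s.val →
          Function.update u r b s = u s := fun u b s hs =>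
        Function.update_of_ne (fun e => by rw [e, hr] at hs; simp at hs) _ _
      by_cases hP : P r
      · obtain ⟨u, hu⟩ := ih (m + 1) (by omega) v hv
        refine ⟨Function.update u r a, ?_⟩
        rw [C.uprod_step hlt hp, C.uprod_step hlt hp, ← hr]
        simp only [Function.update_self, if_pos hP, C.G.xu_zero, one_mul]
        rw [hu, mul_assoc]
        congr 1
        congr 1
        · exact C.uprod_congr fun s hs _ => by rw [hupd u a s hs]
        · congr 1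
          exact C.uprod_congr fun s hs _ => by rw [hupd u a s hs]
      · have hv' : C.G.xu r a * v * (C.G.xu r a)⁻¹ ∈ C.G.Uge (K := K) (m + 1) :=
          (Subgroup.mem_normalizer_iff.1
            (C.Uge_normal (C.G.xu_mem_Uge (Nat.zero_le _) hp a)) v).1 hv
        obtain ⟨u, hu⟩ := ih (m + 1) (by omega) _ hv'
        refine ⟨Function.update u r a, ?_⟩
        rw [C.uprod_step hlt hp, C.uprod_step hlt hp, ← hr]
        simp only [Function.update_self, if_neg hP, C.G.xu_zero, one_mul]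
        rw [show C.G.xu r a * v = C.G.xu r a * v * (C.G.xu r a)⁻¹ * C.G.xu r a by group, hu,
          mul_inv_rev, C.G.xu_inv r (-a), neg_neg, mul_assoc]
        congr 1
        · exact C.uprod_congr fun s hs _ => by rw [hupd u a s hs]
        · congr 2
          exact C.uprod_congr fun s hs _ => by rw [hupd u a s hs]
    · rw [C.Uge_skip hp] at hg
      obtain ⟨u, hu⟩ := ih (m + 1) (by omega) g hg
      exact ⟨u, by rw [C.uprod_skip hlt hp, C.uprod_skip hlt hp, hu]⟩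

theorem uprod_mem_closure (S : Fin D.nroots → Prop) (t : Fin D.nroots → K)
    (ht : ∀ r : Fin D.nroots, D.IsPosRoot r.val → ¬ S r → t r = 0) :
    C.uprod 0 t ∈
      Subgroup.closure {g : GL D.Idx K | ∃ r a, (D.IsPosRoot (r : Fin D.nroots).val ∧ S r) ∧ g = C.G.xu r a} := by
  refine list_prod_mem fun x hx => ?_
  obtain ⟨r, hr, rfl⟩ := List.mem_map.1 hx
  simp only [List.mem_filter, decide_eq_true_eq] at hr
  by_cases hS : S r
  · exact Subgroup.subset_closure ⟨r, t r, ⟨hr.2.2, hS⟩, rfl⟩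
  · rw [ht r hr.2.2 hS, C.G.xu_zero]; exact one_mem _

theorem exists_keep_mul_inv (π : Equiv.Perm (Fin D.nroots)) {g : GL D.Idx K}
    (hg : g ∈ D.posUnipotent K) :
    ∃ a ∈ (Ukeep C.G π : Subgroup (GL D.Idx K)), ∃ b ∈ (Uinv C.G π : Subgroup (GL D.Idx K)),
      g = a * b := by
  classical
  rw [C.G.posUnipotent_eq] at hg
  obtain ⟨t, rfl⟩ := C.exists_mix (fun r => D.IsPosRoot (π r).val) D.nroots 0 (Nat.zero_add _) g hg
  refine ⟨_, C.uprod_mem_closure (fun r => D.IsPosRoot (π r).val) _ fun r _ h => if_neg h,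
    _, inv_mem (C.uprod_mem_closure (fun r => ¬ D.IsPosRoot (π r).val) _ fun r _ h => ?_), rfl⟩
  exact if_pos (not_not.1 h)

theorem Uinv_param {n : GL D.Idx K} {π : Equiv.Perm (Fin D.nroots)} (hn : C.G.NPerm n π)
    {b : GL D.Idx K} (hb : b ∈ (Uinv C.G π : Subgroup (GL D.Idx K))) :
    ∃ t : Fin D.nroots → K,
      b = (C.uprod 0 fun r => if D.IsPosRoot (π r).val then 0 else -t r)⁻¹ := by
  have hg : b ∈ C.G.Uge (K := K) 0 := C.G.posUnipotent_eq (K := K) ▸ C.G.Uinv_le π hb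
  classical
  obtain ⟨t, ht⟩ := C.exists_mix (fun r => D.IsPosRoot (π r).val) D.nroots 0 (Nat.zero_add _) b hg
  refine ⟨t, ?_⟩
  have ha := C.uprod_mem_closure (fun r => D.IsPosRoot (π r).val)
    (fun r => if D.IsPosRoot (π r).val then t r else 0) fun r _ h => if_neg h
  have hb2 := inv_mem (C.uprod_mem_closure (fun r => ¬ D.IsPosRoot (π r).val)
    (fun r => if D.IsPosRoot (π r).val then 0 else -t r) fun r _ h => if_pos (not_not.1 h))
  have h1 : C.uprod 0 (fun r => if D.IsPosRoot (π r).val then t r else 0) ∈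
      (Uinv C.G π : Subgroup (GL D.Idx K)) := by
    have := mul_mem hb (inv_mem hb2)
    rw [ht, mul_assoc, mul_inv_cancel, mul_one] at this
    exact this
  have h2 : C.uprod 0 (fun r => if D.IsPosRoot (π r).val then t r else 0) = 1 :=
    Subgroup.mem_bot.1 (C.G.Ukeep_inf_Uinv hn ▸ Subgroup.mem_inf.2 ⟨ha, h1⟩)
  rw [h2, one_mul] at ht
  exact ht

theorem card_Uinv [Fintype K] {n : GL D.Idx K} {π : Equiv.Perm (Fin D.nroots)} (hn : C.G.NPerm n π) :
    Nat.card (Uinv C.G π : Subgroup (GL D.Idx K)) = Fintype.card K ^ ninv C.G π := by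
  classical
  let S := {r : Fin D.nroots // D.IsPosRoot r.val ∧ ¬ D.IsPosRoot (π r).val}
  let ext : (S → K) → Fin D.nroots → K :=
    fun t r => if h : D.IsPosRoot r.val ∧ ¬ D.IsPosRoot (π r).val then -t ⟨r, h⟩ else 0
  let Φ : (S → K) → (Uinv C.G π : Subgroup (GL D.Idx K)) := fun t =>
    ⟨(C.uprod 0 (ext t))⁻¹, inv_mem (C.uprod_mem_closure _ _ fun r hr h => dif_neg fun e => h e.2)⟩
  have hΦ : Function.Bijective Φ := by
    constructor
    · intro t t' h
      funext r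
      have h' : C.uprod 0 (ext t) = C.uprod 0 (ext t') := inv_injective (congrArg Subtype.val h)
      have := C.uprod_inj D.nroots 0 (Nat.zero_add _) _ _ h' r.1 (Nat.zero_le _) r.2.1
      simpa [ext, r.2.1, r.2.2] using this
    · rintro ⟨b, hb⟩
      obtain ⟨t, rfl⟩ := C.Uinv_param hn hb
      refine ⟨fun r => t r.1, Subtype.ext ?_⟩
      refine congrArg (·⁻¹) (C.uprod_congr fun r _ hr => ?_)
      by_cases h : D.IsPosRoot (π r).val <;> simp [ext, hr, h]
  rw [← Nat.card_eq_of_bijective Φ hΦ, Nat.card_eq_fintype_card, Fintype.card_fun, ninv,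
    Fintype.card_subtype]

theorem eqv_mem_H {n n' : GL D.Idx K} (hn : n ∈ D.monomialSubgroup K) (hn' : n' ∈ D.monomialSubgroup K)
    {b b' u u' : GL D.Idx K} (hb : b ∈ D.borelSubgroup K) (hb' : b' ∈ D.borelSubgroup K)
    (hu : u ∈ D.borelSubgroup K) (hu' : u' ∈ D.borelSubgroup K) (h : b * n * u = b' * n' * u') :
    n⁻¹ * n' ∈ D.diagonalSubgroup K := by
  let P := C.bnPair (K := K)
  let m : ↥(D.group K) := ⟨n, C.G.monomial_le_group hn⟩
  let m' : ↥(D.group K) := ⟨n', C.G.monomial_le_group hn'⟩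
  have hx : (⟨b * n * u, mul_mem (mul_mem (C.G.borel_le_group hb) m.2) (C.G.borel_le_group hu)⟩ :
      ↥(D.group K)) ∈ BN.cell P m :=
    (BN.mem_cell P).2 ⟨⟨b, C.G.borel_le_group hb⟩, hb, ⟨u, C.G.borel_le_group hu⟩, hu, rfl⟩
  have hx' : (⟨b * n * u, mul_mem (mul_mem (C.G.borel_le_group hb) m.2) (C.G.borel_le_group hu)⟩ :
      ↥(D.group K)) ∈ BN.cell P m' :=
    (BN.mem_cell P).2 ⟨⟨b', C.G.borel_le_group hb'⟩, hb', ⟨u', C.G.borel_le_group hu'⟩, hu',
      Subtype.ext h⟩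
  have h1 := BN.eqv_of_mem_cell P (n := m) (n' := m') hn hn' hx hx'
  rw [← C.G.B_inf_N]
  exact Subgroup.mem_inf.2 ⟨h1, mul_mem (inv_mem hn) hn'⟩

theorem refined_exists {g : GL D.Idx K} (hg : g ∈ D.group K) :
    ∃ b ∈ D.borelSubgroup K, ∃ n ∈ D.monomialSubgroup K, ∃ π, C.G.NPerm n π ∧
      ∃ u ∈ (Uinv C.G π : Subgroup (GL D.Idx K)), g = b * n * u := by
  obtain ⟨n, hn, h⟩ := BN.exists_cell (C.bnPair (K := K)) ⟨g, hg⟩
  obtain ⟨b, hb, c, hc, e⟩ := (BN.mem_cell _).1 h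
  obtain ⟨u, hu, d, hd', ec⟩ := C.G.mem_borel_iff.1 (show (c : GL D.Idx K) ∈ D.borelSubgroup K from hc)
  obtain ⟨l, hl⟩ := C.G.exists_nPerm (show (n : GL D.Idx K) ∈ D.monomialSubgroup K from hn)
  -- move `d` to the left of `u`
  have hu2 : d⁻¹ * u * d ∈ D.posUnipotent K :=
    (Subgroup.mem_normalizer_iff''.1 (C.G.H_normalizes_U hd') u).1 hu
  obtain ⟨a, ha, v, hv, e2⟩ := C.exists_keep_mul_inv (C.G.pw l) hu2
  have hnd : (n : GL D.Idx K) * d * (n : GL D.Idx K)⁻¹ ∈ D.diagonalSubgroup K :=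
    (Subgroup.mem_normalizer_iff.1 (C.G.monomial_le_normalizer hn) d).1 hd'
  refine ⟨(b : GL D.Idx K) * ((n : GL D.Idx K) * d * (n : GL D.Idx K)⁻¹) *
      ((n : GL D.Idx K) * a * (n : GL D.Idx K)⁻¹),
    mul_mem (mul_mem hb (Subgroup.mem_sup_right hnd)) (Subgroup.mem_sup_left (C.G.conj_Ukeep hl a ha)),
    n, hn, C.G.pw l, hl, v, hv, ?_⟩
  have e' := congrArg Subtype.val e
  simp only [Subgroup.coe_mul] at e'
  rw [ec, show u * d = d * (d⁻¹ * u * d) by group, e2] at e'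
  rw [e']
  group

theorem refined_unique {b b' n u u' : GL D.Idx K} (hb : b ∈ D.borelSubgroup K)
    (hb' : b' ∈ D.borelSubgroup K) {π : Equiv.Perm (Fin D.nroots)} (hn : C.G.NPerm n π)
    (hu : u ∈ (Uinv C.G π : Subgroup (GL D.Idx K))) (hu' : u' ∈ (Uinv C.G π : Subgroup (GL D.Idx K)))
    (h : b * n * u = b' * n * u') : b = b' ∧ u = u' := by
  have h1 : n * (u * u'⁻¹) * n⁻¹ = b⁻¹ * b' := by
    calc n * (u * u'⁻¹) * n⁻¹ = b⁻¹ * (b * n * u) * u'⁻¹ * n⁻¹ := by group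
      _ = b⁻¹ * b' := by rw [h]; group
  have h2 : n * (u * u'⁻¹) * n⁻¹ = 1 :=
    Subgroup.mem_bot.1 (C.G.B_inf_V (K := K) ▸ Subgroup.mem_inf.2
      ⟨h1 ▸ mul_mem (inv_mem hb) hb', C.G.conj_Uinv hn _ (mul_mem hu (inv_mem hu'))⟩)
  refine ⟨inv_mul_eq_one.1 (h1.symm.trans h2), ?_⟩
  rw [mul_inv_eq_one] at h2
  exact mul_inv_eq_one.1 (mul_left_cancel (h2.trans (mul_one n).symm))

/-- the order of a finite Chevalley group, as a sum over the Weyl group -/
theorem card_group [Fintype K] [DecidablePred (· ∈ C.G.Wg)] :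
    Nat.card ↥(D.group K) = Nat.card ↥(D.borelSubgroup K) *
      ∑ π ∈ (Finset.univ.filter (· ∈ C.G.Wg)), Fintype.card K ^ ninv C.G π := by
  classical
  haveI : Finite (GL D.Idx K) := inferInstance
  let W := {π : Equiv.Perm (Fin D.nroots) // π ∈ C.G.Wg}
  let nr : W → GL D.Idx K := fun w => C.G.nw (C.G.exists_pw w.2).choose
  have hnr : ∀ w : W, C.G.NPerm (nr w) w.1 := fun w => by
    have := C.G.nPerm_nw (K := K) (C.G.exists_pw w.2).choose
    rwa [(C.G.exists_pw w.2).choose_spec] at this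
  have hnrN : ∀ w : W, nr w ∈ D.monomialSubgroup K := fun w => C.G.nw_mem_monomial _
  let Φ : ↥(D.borelSubgroup K) × (Σ w : W, (Uinv C.G w.1 : Subgroup (GL D.Idx K))) → ↥(D.group K) :=
    fun x => ⟨(x.1 : GL D.Idx K) * nr x.2.1 * (x.2.2 : GL D.Idx K),
      mul_mem (mul_mem (C.G.borel_le_group x.1.2) (C.G.monomial_le_group (hnrN _)))
        (C.G.posUnipotent_le_group (C.G.Uinv_le _ x.2.2.2))⟩
  have hΦ : Function.Bijective Φ := by
    constructor
    · rintro ⟨b, w, u⟩ ⟨b', w', u'⟩ h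
      have h' := congrArg Subtype.val h
      simp only [Φ] at h'
      have e := C.eqv_mem_H (hnrN w) (hnrN w') b.2 b'.2
        (Subgroup.mem_sup_left (C.G.Uinv_le _ u.2)) (Subgroup.mem_sup_left (C.G.Uinv_le _ u'.2)) h'
      have e2 := Good.NPerm.unique C.G (C.G.nPerm_H e)
        (Good.NPerm.mul C.G (Good.NPerm.inv C.G (hnr w)) (hnr w'))
      rw [eq_comm, inv_mul_eq_one] at e2
      have : w = w' := Subtype.ext e2
      subst this
      obtain ⟨e3, e4⟩ := C.refined_unique b.2 b'.2 (hnr w) u.2 u'.2 h'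
      have e3' : b = b' := Subtype.ext e3
      have e4' : u = u' := Subtype.ext e4
      rw [e3', e4']
    · rintro ⟨g, hg⟩
      obtain ⟨b, hb, n, hn, π, hπ, u, hu, rfl⟩ := C.refined_exists hg
      obtain ⟨l, hl⟩ := C.G.exists_nPerm hn
      have hπW : π ∈ C.G.Wg := Good.NPerm.unique C.G hl hπ ▸ C.G.pw_mem l
      let w : W := ⟨π, hπW⟩
      have hh : (nr w)⁻¹ * n ∈ D.diagonalSubgroup K := by
        refine C.G.mem_H_of_nPerm_one (mul_mem (inv_mem (hnrN w)) hn) ?_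
        have := Good.NPerm.mul C.G (Good.NPerm.inv C.G (hnr w)) hπ
        rwa [show w.1⁻¹ * π = 1 from inv_mul_cancel π] at this
      have hc : n * (nr w)⁻¹ ∈ D.diagonalSubgroup K := by
        have := (Subgroup.mem_normalizer_iff.1 (C.G.monomial_le_normalizer (hnrN w)) _).1 hh
        simpa [mul_assoc] using this
      exact ⟨⟨⟨b * (n * (nr w)⁻¹), mul_mem hb (Subgroup.mem_sup_right hc)⟩, w, ⟨u, hu⟩⟩,
        Subtype.ext (by simp [Φ, mul_assoc, w])⟩
  rw [← Nat.card_eq_of_bijective Φ hΦ, Nat.card_prod, Nat.card_sigma]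
  congr 1
  rw [Finset.sum_congr rfl fun w _ => C.card_Uinv (hnr w), Finset.sum_subtype
    (Finset.univ.filter (· ∈ C.G.Wg)) (p := (· ∈ C.G.Wg)) (by simp)
    fun π => Fintype.card K ^ ninv C.G π]

theorem card_borel [Fintype K] :
    Nat.card ↥(D.borelSubgroup K) =
      Nat.card ↥(D.posUnipotent K) * Nat.card ↥(D.diagonalSubgroup K) := by
  rw [← Nat.card_prod]
  symm
  refine Nat.card_eq_of_bijective (fun x => ⟨(x.1 : GL D.Idx K) * x.2,
    mul_mem (Subgroup.mem_sup_left x.1.2) (Subgroup.mem_sup_right x.2.2)⟩) ⟨?_, ?_⟩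
  · rintro ⟨u, h⟩ ⟨u', h'⟩ e
    have e' : (u : GL D.Idx K) * h = (u' : GL D.Idx K) * h' := congrArg Subtype.val e
    obtain ⟨e1, e2⟩ := C.G.eq_one_of_U_H (mul_mem (inv_mem u'.2) u.2) (mul_mem h.2 (inv_mem h'.2))
      (by
        calc (u' : GL D.Idx K)⁻¹ * u * (h * (h' : GL D.Idx K)⁻¹)
            = (u' : GL D.Idx K)⁻¹ * ((u : GL D.Idx K) * h) * (h' : GL D.Idx K)⁻¹ := by group
          _ = 1 := by rw [e']; group)
    exact Prod.ext (Subtype.ext (inv_mul_eq_one.1 e1).symm) (Subtype.ext (mul_inv_eq_one.1 e2))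
  · rintro ⟨g, hg⟩
    obtain ⟨u, hu, h, hh, rfl⟩ := C.G.mem_borel_iff.1 hg
    exact ⟨(⟨u, hu⟩, ⟨h, hh⟩), rfl⟩

end Full

end CfsgLib.Lie.Chev
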