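import Cfsg.Agent.Lib.Lie.Chev.FullAll
import Cfsg.Agent.Lib.Lie.Chev.Bruhat
import Cfsg.Agent.Lib.Lie.BN
import Cfsg.Prelude.Def_ChevAutomorphisms

/-!
# Characters of the root lattice and their diagonal matrices
-/

set_option autoImplicit false
set_option maxRecDepth 100000

namespace CfsgLib.Lie.Chev

open Cfsg.Lie
open scoped MatrixGroups

variable {D : ChevalleyDatum}

/-- every positive root is fundamental or arises by adding a fundamental root to a positive root -/
def chkDecomp (D : ChevalleyDatum) : Bool :=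
  (List.range D.nroots).all fun r => !(decide (D.IsPosRoot r)) ||
    (List.range D.rank).any fun i => D.simple i == r ||
      (D.chain.getD (D.simple i) #[]).toList.any fun e =>
        (match e.2.toList with | [] => false | x :: _ => x.1 == r) &&
          (D.chainRoot (D.simple i) e.1 1 == some r && decide (D.IsPosRoot e.1))

theorem chkDecomp_all
    (hD : D ∈ [chevG2, chevB2, chevD4, chevF4, chevE6, chevE7, chevE8]) : chkDecomp D = true := by
  simp only [List.mem_cons, List.not_mem_nil, or_false] at hD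
  rcases hD with rfl | rfl | rfl | rfl | rfl | rfl | rfl <;> decide +kernel

namespace Full

variable {K : Type*} [Field K] (C : Full D)

include C

/-- a character of the root lattice is given by its values on the fundamental roots -/
theorem exists_chi (hdec : chkDecomp D = true) {χ : ℕ → Kˣ} (hχ : D.IsRootCharacter χ) :
    ∃ c : Fin D.rank → Kˣ, ∀ r : Fin D.nroots, χ r.val = C.G.chi c (C.G.rho r) := by
  let c : Fin D.rank → Kˣ := fun j => χ (D.simple j.val)
  have hpos : ∀ n : ℕ, ∀ r : Fin D.nroots, r.val = n → D.IsPosRoot r.val →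
      χ r.val = C.G.chi c (C.G.rho r) := by
    intro n
    induction n using Nat.strong_induction_on with
    | _ n ih =>
      intro r hr hp
      have h := List.all_eq_true.1 hdec r.val (List.mem_range.2 r.isLt)
      simp only [hp, decide_true, Bool.not_true, Bool.false_or, List.any_eq_true, Bool.or_eq_true,
        Bool.and_eq_true, beq_iff_eq, decide_eq_true_eq, List.mem_range] at h
      obtain ⟨i, hi, h | ⟨e, -, -, he, hs⟩⟩ := h
      · have e1 : r = C.G.simp' ⟨i, hi⟩ := Fin.ext (by rw [C.G.simp_val]; exact h.symm)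
        rw [e1, C.G.rho_simp, C.G.chi_single, C.G.simp_val]
      · obtain ⟨hsn, hsp⟩ : e.1 < D.nroots ∧ D.IsPosRoot e.1 := ⟨hs.1, hs⟩
        have e1 := C.G.simp_val ⟨i, hi⟩
        have hx : D.chainRoot (C.G.simp' ⟨i, hi⟩).val (⟨e.1, hsn⟩ : Fin D.nroots).val 1 = some r.val := by
          rw [e1]; exact he
        obtain ⟨_, hrho⟩ := C.chainRoot_spec le_rfl hx
        have hrho' : C.G.rho r = C.G.rho ⟨e.1, hsn⟩ + Pi.single (⟨i, hi⟩ : Fin D.rank) 1 := by
          rw [hrho, C.G.rho_simp, Nat.cast_one, one_smul]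
        have hlt : e.1 < n := by
          rw [← hr]
          have := C.G.index_lt_of_ht_lt (r := ⟨e.1, hsn⟩) (s := r) (by
            rw [hrho', C.G.ht_add]
            linarith [C.G.ht_single_pos ⟨i, hi⟩])
          exact this
        rw [hχ.2 _ _ _ (C.G.simple_lt hi) hsn he, hrho', C.G.chi_add, C.G.chi_single,
          ← ih e.1 hlt ⟨e.1, hsn⟩ rfl hsp, mul_comm]
  refine ⟨c, fun r => ?_⟩
  by_cases hp : D.IsPosRoot r.val
  · exact hpos _ r rfl hp
  · have h1 := hpos _ (C.G.negr r) rfl ((C.G.negr_pos_iff r).2 hp)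
    rw [C.G.negr_val, hχ.1 _ r.isLt, C.G.rho_negr, ← neg_one_smul ℤ (C.G.rho r), C.G.chi_zsmul,
      zpow_neg_one, inv_inj] at h1
    exact h1

theorem charDiag_eq {χ : ℕ → Kˣ} {c : Fin D.rank → Kˣ}
    (h : ∀ r : Fin D.nroots, χ r.val = C.G.chi c (C.G.rho r)) :
    D.charDiag K χ = ((C.G.tor c : GL D.Idx K) : Matrix D.Idx D.Idx K) := by
  rw [C.G.coe_tor, ChevalleyDatum.charDiag]
  congr 1
  funext b
  cases b with
  | inl i => simp [weight, C.G.chi_zero]
  | inr r => simp [weight, h]

theorem charDiag_inv_eq {χ : ℕ → Kˣ} {c : Fin D.rank → Kˣ}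
    (h : ∀ r : Fin D.nroots, χ r.val = C.G.chi c (C.G.rho r)) :
    D.charDiag K (fun s => (χ s)⁻¹) = (((C.G.tor c)⁻¹ : GL D.Idx K) : Matrix D.Idx D.Idx K) := by
  rw [← map_inv]
  refine C.charDiag_eq fun r => ?_
  have h1 : C.G.chi c (C.G.rho r) * C.G.chi c⁻¹ (C.G.rho r) = 1 := by
    rw [← C.G.chi_mul, mul_inv_cancel]
    simp [Good.chi]
  rw [h, eq_inv_of_mul_eq_one_right h1]

/-- a diagonal element of the group normalising every root subgroup lies in `H` -/
theorem tor_mem_H {c : Fin D.rank → Kˣ} (hg : C.G.tor c ∈ D.group K) :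
    C.G.tor c ∈ D.diagonalSubgroup K := by
  have hU : ∀ c : Fin D.rank → Kˣ, ∀ x ∈ D.borelSubgroup K,
      C.G.tor c * x * (C.G.tor c)⁻¹ ∈ D.borelSubgroup K := by
    intro c x hx
    obtain ⟨u, hu, h, hh, rfl⟩ := C.G.mem_borel_iff.1 hx
    obtain ⟨c', rfl⟩ := C.G.exists_tor hh
    rw [show C.G.tor c * (u * C.G.tor c') * (C.G.tor c)⁻¹ =
      (C.G.tor c * u * (C.G.tor c)⁻¹) * (C.G.tor c * C.G.tor c' * (C.G.tor c)⁻¹) by group]
    refine mul_mem (Subgroup.mem_sup_left ?_) (Subgroup.mem_sup_right ?_)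
    · rw [C.G.posUnipotent_eq_closure] at hu ⊢
      clear hx hh
      induction hu using Subgroup.closure_induction with
      | mem y hy =>
        obtain ⟨r, t, hr, rfl⟩ := hy
        rw [C.G.tor_conj_xu]
        exact Subgroup.subset_closure ⟨r, _, hr, rfl⟩
      | one => simp
      | mul a b _ _ ha hb =>
        rw [show C.G.tor c * (a * b) * (C.G.tor c)⁻¹ =
          (C.G.tor c * a * (C.G.tor c)⁻¹) * (C.G.tor c * b * (C.G.tor c)⁻¹) by group]
        exact mul_mem ha hb
      | inv a _ ha =>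
        rw [show C.G.tor c * a⁻¹ * (C.G.tor c)⁻¹ = (C.G.tor c * a * (C.G.tor c)⁻¹)⁻¹ by group]
        exact inv_mem ha
    · rwa [← map_mul, mul_comm c, map_mul, mul_inv_cancel_right]
  have hB : C.G.tor c ∈ D.borelSubgroup K := by
    have h := BN.mem_of_conj_parabolic (C.bnPair (K := K)) (J := ∅) (K := ∅) ⟨C.G.tor c, hg⟩
      fun x hx => by
        simp only [Cfsg.BNPair.parabolic, Subgroup.closure_empty, sup_bot_eq] at hx ⊢
        exact hU c x hx
    simp only [Cfsg.BNPair.parabolic, Subgroup.closure_empty, sup_bot_eq] at h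
    exact h
  obtain ⟨u, hu, h, hh, e⟩ := C.G.mem_borel_iff.1 hB
  obtain ⟨c', rfl⟩ := C.G.exists_tor hh
  have e' : u = C.G.tor (c * c'⁻¹) := by rw [map_mul, map_inv, e, mul_inv_cancel_right]
  have hR := C.G.raises_one_of_pos hu
  have hu1 : u = 1 := by
    apply Units.ext
    ext i j
    by_cases hij : i = j
    · subst hij; rw [hR.1, Units.val_one, Matrix.one_apply_eq]
    · rw [Units.val_one, Matrix.one_apply_ne hij, e', C.G.coe_tor, Matrix.diagonal_apply_ne _ hij]
  rw [e, hu1, one_mul]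
  exact hh

end Full

end CfsgLib.Lie.Chev
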