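import Cfsg.Agent.Lib.Lie.Chev.Api

/-!
# Generation by the root elements of the fundamental roots and their negatives
-/

set_option autoImplicit false

namespace CfsgLib.Lie.Chev

open Cfsg.Lie
open scoped MatrixGroups

variable {D : ChevalleyDatum}

namespace Good

variable (G : Good D) {K : Type*} [Field K]

include G

/-- the root elements of the fundamental roots and their negatives -/
def simpleGens : Set (GL D.Idx K) :=
  {g | ∃ i t, g = G.xu (G.simp' i) t ∨ g = G.xu (G.negr (G.simp' i)) t}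

theorem group_eq_simple : D.group K = Subgroup.closure (G.simpleGens (K := K)) := by
  refine le_antisymm ?_ ((Subgroup.closure_le _).2 ?_)
  · rw [G.group_eq, Subgroup.closure_le]
    rintro g ⟨r, t, rfl⟩
    revert t
    revert r
    refine G.orbit _ (fun i _ t => Subgroup.subset_closure ⟨i, t, Or.inl rfl⟩) fun i r hr t => ?_
    have hn : G.nU (K := K) i ∈ Subgroup.closure (G.simpleGens (K := K)) := by
      refine mul_mem (mul_mem ?_ ?_) ?_
      · exact Subgroup.subset_closure ⟨i, 1, Or.inl rfl⟩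
      · exact Subgroup.subset_closure ⟨i, -1, Or.inr rfl⟩
      · exact Subgroup.subset_closure ⟨i, 1, Or.inl rfl⟩
    have h := G.nU_xu i r ((G.eta i r : K) * t)
    have e : (G.eta i r : K) * ((G.eta i r : K) * t) = t := by
      rcases G.eta_unit i r with e | e <;> rw [e] <;> simp
    rw [e] at h
    rw [SetLike.mem_coe, ← mul_inv_cancel_right (G.xu (G.w i r) t) (G.nU i), ← h]
    exact mul_mem (mul_mem hn (hr _)) (inv_mem hn)
  · rintro g ⟨i, t, rfl | rfl⟩ <;> exact G.xu_mem _ _

/-- a homomorphism on the group is determined by the fundamental root elements and their negatives -/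
theorem hom_ext_simple {M : Type*} [Monoid M] {φ ψ : ↥(D.group K) →* M}
    (h1 : ∀ i t, φ ⟨G.xu (G.simp' i) t, G.xu_mem _ t⟩ = ψ ⟨G.xu (G.simp' i) t, G.xu_mem _ t⟩)
    (h2 : ∀ i t, φ ⟨G.xu (G.negr (G.simp' i)) t, G.xu_mem _ t⟩ =
      ψ ⟨G.xu (G.negr (G.simp' i)) t, G.xu_mem _ t⟩) : φ = ψ := by
  refine MonoidHom.ext fun g => ?_
  have hle : D.group K ≤ (MonoidHom.eqLocus φ ψ).map (D.group K).subtype := by
    refine le_of_eq_of_le G.group_eq_simple ((Subgroup.closure_le _).2 ?_)
    rintro x ⟨i, t, rfl | rfl⟩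
    · exact ⟨⟨_, G.xu_mem _ t⟩, h1 i t, rfl⟩
    · exact ⟨⟨_, G.xu_mem _ t⟩, h2 i t, rfl⟩
  obtain ⟨y, hy, e⟩ := hle g.2
  exact (Subtype.ext e : y = g) ▸ hy

end Good

end CfsgLib.Lie.Chev
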