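import Cfsg.Agent.Lib.Lie.Chev.AutRoot
import Cfsg.Agent.Lib.Lie.Chev.CharDiag
import Cfsg.Agent.Lib.Lie.Chev.Gen
import Cfsg.Agent.Lib.Lie.Chev.FieldMap
import Cfsg.Prelude.Def_ChevAutomorphisms
import Mathlib.FieldTheory.Finite.Basic

/-!
# Normal form of an automorphism of a finite Chevalley group
-/

set_option autoImplicit false

namespace CfsgLib.Lie.Chev

open Cfsg.Lie
open scoped MatrixGroups

variable {D : ChevalleyDatum} {K : Type*} [Field K]

namespace Good

variable (G : Good D)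

include G

theorem tor_conj_mem (c : Fin D.rank → Kˣ) {g : GL D.Idx K} (hg : g ∈ D.group K) :
    G.tor c * g * (G.tor c)⁻¹ ∈ D.group K := by
  rw [G.group_eq] at hg
  induction hg using Subgroup.closure_induction with
  | mem x hx =>
    obtain ⟨r, t, rfl⟩ := hx
    rw [G.tor_conj_xu]
    exact G.xu_mem _ _
  | one => simp
  | mul a b _ _ ha hb =>
    rw [show G.tor c * (a * b) * (G.tor c)⁻¹ =
      (G.tor c * a * (G.tor c)⁻¹) * (G.tor c * b * (G.tor c)⁻¹) by group]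
    exact mul_mem ha hb
  | inv a _ ha =>
    rw [show G.tor c * a⁻¹ * (G.tor c)⁻¹ = (G.tor c * a * (G.tor c)⁻¹)⁻¹ by group]
    exact inv_mem ha

end Good

namespace Full

variable (C : Full D)

/-- conjugation by a diagonal matrix as an automorphism -/
noncomputable def torAut (c : Fin D.rank → Kˣ) : MulAut ↥(D.group K) where
  toFun g := ⟨C.G.tor c * g * (C.G.tor c)⁻¹, C.G.tor_conj_mem c g.2⟩
  invFun g := ⟨(C.G.tor c)⁻¹ * g * C.G.tor c, by
    have := C.G.tor_conj_mem c⁻¹ g.2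
    rwa [map_inv, inv_inv] at this⟩
  left_inv g := Subtype.ext (by simp [mul_assoc])
  right_inv g := Subtype.ext (by simp [mul_assoc])
  map_mul' g h := Subtype.ext (by simp [mul_assoc])

theorem torAut_aX (c : Fin D.rank → Kˣ) (r : Fin D.nroots) (t : K) :
    C.torAut c (C.aX r t) = C.aX r ((C.G.chi c (C.G.rho r) : K) * t) :=
  Subtype.ext (C.G.tor_conj_xu c r t)

theorem torAut_simp (c : Fin D.rank → Kˣ) (i : Fin D.rank) (t : K) :
    C.torAut c (C.aX (C.G.simp' i) t) = C.aX (C.G.simp' i) ((c i : K) * t) := by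
  rw [C.torAut_aX, C.G.rho_simp, C.G.chi_single]

theorem torAut_negr (c : Fin D.rank → Kˣ) (i : Fin D.rank) (t : K) :
    C.torAut c (C.aX (C.G.negr (C.G.simp' i)) t) =
      C.aX (C.G.negr (C.G.simp' i)) (((c i)⁻¹ : Kˣ) * t) := by
  rw [C.torAut_aX, C.G.rho_negr, C.G.rho_simp, ← neg_one_smul ℤ, C.G.chi_zsmul, C.G.chi_single,
    zpow_neg_one]

/-- the value at a root index of the character with given values on the fundamental roots -/
noncomputable def chiNat (c : Fin D.rank → Kˣ) (r : ℕ) : Kˣ :=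
  if h : r < D.nroots then C.G.chi c (C.G.rho ⟨r, h⟩) else 1

theorem chiNat_fin (c : Fin D.rank → Kˣ) (r : Fin D.nroots) :
    C.chiNat c r.val = C.G.chi c (C.G.rho r) := dif_pos r.isLt

theorem isRootCharacter_chiNat (c : Fin D.rank → Kˣ) : D.IsRootCharacter (C.chiNat c) := by
  refine ⟨fun r hr => ?_, fun r s k hr hs hk => ?_⟩
  · rw [C.G.neg_val ⟨r, hr⟩, C.chiNat_fin, C.chiNat_fin c ⟨r, hr⟩, C.G.rho_negr, ← neg_one_smul ℤ,
      C.G.chi_zsmul, zpow_neg_one]
  · obtain ⟨h, e⟩ := C.chainRoot_spec (r := ⟨r, hr⟩) (s := ⟨s, hs⟩) le_rfl hk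
    rw [Nat.cast_one, one_smul] at e
    rw [C.chiNat_fin c ⟨k, h⟩, C.chiNat_fin c ⟨r, hr⟩, C.chiNat_fin c ⟨s, hs⟩, e, C.G.chi_add, mul_comm]

theorem isDiagonalAut_torAut (c : Fin D.rank → Kˣ) : D.IsDiagonalAut (C.torAut c) := by
  refine ⟨C.chiNat c, C.isRootCharacter_chiNat c, fun g => ?_⟩
  rw [C.charDiag_eq (C.chiNat_fin c), C.charDiag_inv_eq (C.chiNat_fin c), ← Units.val_mul,
    ← Units.val_mul]
  rfl

/-- a homomorphism on the group is determined by the fundamental root subgroups and their negatives -/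
theorem aut_ext {φ ψ : MulAut ↥(D.group K)}
    (h1 : ∀ i t, φ (C.aX (C.G.simp' i) t) = ψ (C.aX (C.G.simp' i) t))
    (h2 : ∀ i t, φ (C.aX (C.G.negr (C.G.simp' i)) t) = ψ (C.aX (C.G.negr (C.G.simp' i)) t)) :
    φ = ψ :=
  MulEquiv.ext fun y => by
    have h := C.G.hom_ext_simple (φ := φ.toMonoidHom) (ψ := ψ.toMonoidHom) h1 h2
    exact DFunLike.congr_fun h y

/-- `φ` maps the fundamental root subgroups and their negatives by a permutation and field automorphisms -/
def IsStd (φ : MulAut ↥(D.group K)) (π : Equiv.Perm (Fin D.rank)) (σ : Fin D.rank → K ≃+* K) :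
    Prop :=
  ∀ i (t : K), φ (C.aX (C.G.simp' i) t) = C.aX (C.G.simp' (π i)) (σ i t) ∧
    φ (C.aX (C.G.negr (C.G.simp' i)) t) = C.aX (C.G.negr (C.G.simp' (π i))) (σ i t)

theorem exists_opposite [Finite K] (θ : MulAut ↥(D.group K)) : ∃ x : ↥(D.group K),
    (C.aU K).map (θ.trans (MulAut.conj x)).toMonoidHom = C.aU K ∧
      (C.aV K).map (θ.trans (MulAut.conj x)).toMonoidHom = C.aV K := by
  classical
  have := Fintype.ofFinite K
  obtain ⟨p, _⟩ := CharP.exists K
  haveI : Fact p.Prime := ⟨CharP.char_is_prime K p⟩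
  obtain ⟨P, hP⟩ := C.exists_sylow (F := K) p
  have hP' : (P : Subgroup ↥(D.group K)) = C.aU K := hP
  obtain ⟨x₁, hx₁⟩ := MulAction.exists_smul_eq ↥(D.group K) (P.mapSurjective (f := θ.toMonoidHom) θ.surjective) P
  set θ₁ : MulAut ↥(D.group K) := θ.trans (MulAut.conj x₁)
  have hU₁ : (C.aU K).map θ₁.toMonoidHom = C.aU K := by
    have h := congrArg (fun Q : Sylow p ↥(D.group K) => (Q : Subgroup ↥(D.group K))) hx₁
    simp only [Sylow.coe_subgroup_smul, Sylow.coe_mapSurjective, hP', Subgroup.pointwise_smul_def] at h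
    conv_rhs => rw [← h]
    show _ = ((P : Subgroup ↥(D.group K)).map θ.toMonoidHom).map _
    rw [hP']
    exact (Subgroup.map_map (C.aU K) (MulAut.conj x₁).toMonoidHom θ.toMonoidHom).symm
  set g := θ₁ (C.m0 K)
  have hV₁ : (C.aV K).map θ₁.toMonoidHom = (C.aU K).map (MulAut.conj g).toMonoidHom := by
    conv_rhs => rw [← hU₁]
    rw [← C.map_aU, Subgroup.map_map, Subgroup.map_map]
    congr 1
    ext y
    simp [g]
  have hdisj : (C.aU K).map (MulAut.conj g).toMonoidHom ⊓ C.aU K = ⊥ := by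
    rw [← hV₁]
    conv_lhs => rw [← hU₁]
    rw [← Subgroup.map_inf _ _ _ θ₁.injective, inf_comm, eq_bot_iff]
    rintro _ ⟨y, ⟨hy1, hy2⟩, rfl⟩
    have : y = 1 := Subgroup.mem_bot.1 (C.aB_inf_aV (K := K) ▸ ⟨C.aU_le_aB hy1, hy2⟩)
    simp [this]
  obtain ⟨u, hu, hue⟩ := C.exists_conj_V hdisj
  refine ⟨u⁻¹ * x₁, ?_, ?_⟩
  · have e : θ.trans (MulAut.conj (u⁻¹ * x₁)) = θ₁.trans (MulAut.conj u⁻¹) := by
      ext y; simp [θ₁, mul_assoc]
    rw [e]
    ext y
    constructor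
    · rintro ⟨z, hz, rfl⟩
      have : θ₁ z ∈ C.aU K := hU₁ ▸ ⟨z, hz, rfl⟩
      simpa using mul_mem (mul_mem (inv_mem hu) this) hu
    · intro hy
      have : u * y * u⁻¹ ∈ C.aU K := mul_mem (mul_mem hu hy) (inv_mem hu)
      rw [← hU₁] at this
      obtain ⟨z, hz, hzy⟩ := this
      refine ⟨z, hz, ?_⟩
      simp only [MulEquiv.coe_toMonoidHom] at hzy ⊢
      simp [hzy, mul_assoc]
  · have e : θ.trans (MulAut.conj (u⁻¹ * x₁)) = θ₁.trans (MulAut.conj u⁻¹) := by
      ext y; simp [θ₁, mul_assoc]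
    rw [e, show (θ₁.trans (MulAut.conj u⁻¹)).toMonoidHom =
      (MulAut.conj u⁻¹).toMonoidHom.comp θ₁.toMonoidHom from rfl, ← Subgroup.map_map, hV₁, hue,
      Subgroup.map_map]
    convert Subgroup.map_id _
    ext y; simp [mul_assoc]

/-- every automorphism is, up to an inner and a diagonal one, standard -/
theorem exists_std [Finite K] (θ : MulAut ↥(D.group K)) :
    ∃ (x : ↥(D.group K)) (c : Fin D.rank → Kˣ) (φ : MulAut ↥(D.group K))
      (π : Equiv.Perm (Fin D.rank)) (σ : Fin D.rank → K ≃+* K),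
      C.IsStd φ π σ ∧ θ = φ.trans ((C.torAut c).trans (MulAut.conj x)) := by
  classical
  obtain ⟨x, hU, hV⟩ := C.exists_opposite θ
  set ψ := θ.trans (MulAut.conj x)
  obtain ⟨π, hπ⟩ := C.exists_simp_perm ψ hU hV
  have hf : ∀ i (t : K), ∃ u, ψ (C.aX (C.G.simp' i) t) = C.aX (C.G.simp' (π i)) u := by
    intro i t
    have h : ψ (C.aX (C.G.simp' i) t) ∈ C.aXs (K := K) (C.G.simp' (π i)) := by
      rw [← (hπ i).1]; exact ⟨_, ⟨t, rfl⟩, rfl⟩
    obtain ⟨u, hu⟩ := h
    exact ⟨u, hu.symm⟩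
  have hg : ∀ i (t : K), ∃ u,
      ψ (C.aX (C.G.negr (C.G.simp' i)) t) = C.aX (C.G.negr (C.G.simp' (π i))) u := by
    intro i t
    have h : ψ (C.aX (C.G.negr (C.G.simp' i)) t) ∈
        C.aXs (K := K) (C.G.negr (C.G.simp' (π i))) := by
      rw [← (hπ i).2]; exact ⟨_, ⟨t, rfl⟩, rfl⟩
    obtain ⟨u, hu⟩ := h
    exact ⟨u, hu.symm⟩
  choose f hf using hf
  choose g hg using hg
  have hadd : ∀ i t u, f i (t + u) = f i t + f i u := fun i t u => C.aX_inj (by
    rw [← hf, C.aX_add, map_mul, hf, hf, ← C.aX_add])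
  have hinj : ∀ i, Function.Injective (f i) := fun i t u h => C.aX_inj (ψ.injective (by
    rw [hf, hf, h]))
  have hginj : ∀ i, Function.Injective (g i) := fun i t u h => C.aX_inj (ψ.injective (by
    rw [hg, hg, h]))
  have hgadd : ∀ i t u, g i (t + u) = g i t + g i u := fun i t u => C.aX_inj (by
    rw [← hg, C.aX_add, map_mul, hg, hg, ← C.aX_add])
  have hzero : ∀ i, f i 0 = 0 := fun i => by simpa using hadd i 0 0
  have hgzero : ∀ i, g i 0 = 0 := fun i => by simpa using hgadd i 0 0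
  have hfne : ∀ i t, t ≠ 0 → f i t ≠ 0 := fun i t ht h => ht (hinj i (h.trans (hzero i).symm))
  have hgne : ∀ i t, t ≠ 0 → g i t ≠ 0 := fun i t ht h => ht (hginj i (h.trans (hgzero i).symm))
  have hfg : ∀ i (t : K), t ≠ 0 → f i t * g i (-t⁻¹) = -1 := by
    intro i t ht
    have e : C.G.nE (C.G.simp' i) t * C.G.xu (C.G.simp' i) 1 * (C.G.nE (C.G.simp' i) t)⁻¹ =
        C.G.xu (C.G.negr (C.G.simp' i)) (-(t⁻¹ ^ 2 * 1)) := C.G.nE_xu _ t 1 ht
    have e' : (C.aX (C.G.simp' i) t * C.aX (C.G.negr (C.G.simp' i)) (-t⁻¹) * C.aX (C.G.simp' i) t) *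
        C.aX (C.G.simp' i) 1 *
        (C.aX (C.G.simp' i) t * C.aX (C.G.negr (C.G.simp' i)) (-t⁻¹) * C.aX (C.G.simp' i) t)⁻¹ =
        C.aX (C.G.negr (C.G.simp' i)) (-(t⁻¹ ^ 2 * 1)) := Subtype.ext e
    have e'' := congrArg ψ e'
    simp only [map_mul, map_inv, hf, hg] at e''
    exact C.mul_eq_neg_one (π i) (hgne i _ (neg_ne_zero.2 (inv_ne_zero ht)))
      (hfne i 1 one_ne_zero) (congrArg Subtype.val e'')
  set a : Fin D.rank → K := fun i => f i 1
  have ha : ∀ i, a i ≠ 0 := fun i => hfne i 1 one_ne_zero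
  set c : Fin D.rank → Kˣ := fun j => Units.mk0 (a (π.symm j)) (ha _)
  set φ : MulAut ↥(D.group K) := ψ.trans (C.torAut c).symm
  have hφ1 : ∀ i t, φ (C.aX (C.G.simp' i) t) = C.aX (C.G.simp' (π i)) (f i t / a i) := by
    intro i t
    show (C.torAut c).symm (ψ _) = _
    rw [MulEquiv.symm_apply_eq, hf, C.torAut_simp]
    simp [c, mul_div_cancel₀ _ (ha i)]
  have hφ2 : ∀ i t, φ (C.aX (C.G.negr (C.G.simp' i)) t) =
      C.aX (C.G.negr (C.G.simp' (π i))) (g i t * a i) := by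
    intro i t
    show (C.torAut c).symm (ψ _) = _
    rw [MulEquiv.symm_apply_eq, hg, C.torAut_negr]
    simp only [c, Equiv.symm_apply_apply, Units.val_inv_eq_inv_val, Units.val_mk0]
    congr 1
    field_simp [ha i]
  set s : Fin D.rank → K → K := fun i t => f i t / a i
  have s_add : ∀ i t u, s i (t + u) = s i t + s i u := fun i t u => by simp [s, hadd, add_div]
  have s_one : ∀ i, s i 1 = 1 := fun i => div_self (ha i)
  have s_sq : ∀ i t u, s i (t ^ 2 * u) = s i t ^ 2 * s i u := by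
    intro i t u
    rcases eq_or_ne t 0 with rfl | ht
    · simp [s, hzero]
    have hn : ∀ (t : K), t ≠ 0 →
        φ ⟨C.G.nE (C.G.simp' i) t, C.G.nE_mem_group _ _⟩ =
          ⟨C.G.nE (C.G.simp' (π i)) (s i t), C.G.nE_mem_group _ _⟩ := by
      intro t ht
      have e : (⟨C.G.nE (C.G.simp' i) t, C.G.nE_mem_group _ _⟩ : ↥(D.group K)) =
          C.aX (C.G.simp' i) t * C.aX (C.G.negr (C.G.simp' i)) (-t⁻¹) * C.aX (C.G.simp' i) t := rfl
      rw [e, map_mul, map_mul, hφ1, hφ2]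
      refine Subtype.ext ?_
      show C.G.xu _ _ * C.G.xu _ _ * C.G.xu _ _ = C.G.nE _ _
      rw [Good.nE]
      congr 3
      have h1 := hfg i t ht
      simp only [s, inv_div, neg_div']
      rw [eq_div_iff (hfne i t ht)]
      linear_combination (a i) * h1
    have hh : φ ⟨C.G.hd (C.G.simp' i) (Units.mk0 t ht), C.G.diagonal_le_group (C.G.hd_mem_H _ _)⟩ =
        ⟨C.G.hd (C.G.simp' (π i)) (Units.mk0 (s i t) (div_ne_zero (hfne i t ht) (ha i))),
          C.G.diagonal_le_group (C.G.hd_mem_H _ _)⟩ := by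
      have e : (⟨C.G.hd (C.G.simp' i) (Units.mk0 t ht), C.G.diagonal_le_group (C.G.hd_mem_H _ _)⟩ :
          ↥(D.group K)) = ⟨C.G.nE (C.G.simp' i) t, C.G.nE_mem_group _ _⟩ *
            ⟨C.G.nE (C.G.simp' i) 1, C.G.nE_mem_group _ _⟩⁻¹ := Subtype.ext (by
        show C.G.hd _ _ = C.G.nE _ t * (C.G.nE _ 1)⁻¹
        rw [C.G.nE_inv, ← C.G.hE_eq]
        rfl)
      rw [e, map_mul, map_inv, hn t ht, hn 1 one_ne_zero]
      refine Subtype.ext ?_
      show C.G.nE _ _ * (C.G.nE _ (s i 1))⁻¹ = C.G.hd _ _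
      rw [s_one, C.G.nE_inv, ← C.G.hE_eq]
      rfl
    have e : (⟨C.G.hd (C.G.simp' i) (Units.mk0 t ht), C.G.diagonal_le_group (C.G.hd_mem_H _ _)⟩ :
          ↥(D.group K)) * C.aX (C.G.simp' i) u *
        (⟨C.G.hd (C.G.simp' i) (Units.mk0 t ht), C.G.diagonal_le_group (C.G.hd_mem_H _ _)⟩)⁻¹ =
        C.aX (C.G.simp' i) (t ^ 2 * u) := Subtype.ext (C.G.hd_self_conj _ _ _)
    have e' := congrArg φ e
    rw [map_mul, map_mul, map_inv, hh, hφ1, hφ1] at e'
    have e'' := congrArg Subtype.val e'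
    rw [Subgroup.coe_mul, Subgroup.coe_mul, Subgroup.coe_inv] at e''
    simp only [aX] at e''
    rw [C.G.hd_self_conj] at e''
    exact (C.G.xu_injective' _ e'').symm
  have s_mul : ∀ i t u, s i (t * u) = s i t * s i u := by
    intro i t u
    have h1 := s_sq i (t + 1) u
    have h2 := s_sq i t u
    rw [show (t + 1) ^ 2 * u = t ^ 2 * u + (t * u + t * u) + u by ring, s_add, s_add, s_add, h2,
      s_add, s_one] at h1
    by_cases h20 : (2 : K) = 0
    · have : CharP K 2 := CharTwo.of_one_ne_zero_of_two_eq_zero one_ne_zero h20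
      obtain ⟨r, rfl⟩ := (bijective_frobenius K 2).2 t
      rw [frobenius_def, s_sq]
      have h3 := s_sq i r 1
      rw [mul_one, s_one, mul_one] at h3
      rw [h3]
    · have : (2 : K) * (s i (t * u) - s i t * s i u) = 0 := by linear_combination h1
      exact sub_eq_zero.1 ((mul_eq_zero.1 this).resolve_left h20)
  let S : Fin D.rank → K →+* K := fun i =>
    { toFun := s i
      map_one' := s_one i
      map_mul' := s_mul i
      map_zero' := by simp [s, hzero]
      map_add' := s_add i }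
  refine ⟨x⁻¹, c, φ, π,
    fun i => RingEquiv.ofBijective (S i) (Finite.injective_iff_bijective.1 (S i).injective),
    fun i t => ⟨hφ1 i t, ?_⟩, ?_⟩
  · rw [hφ2]
    congr 1
    show g i t * a i = S i t
    rcases eq_or_ne t 0 with rfl | ht
    · simp [hgzero]
    · have h1 := hfg i (-t⁻¹) (neg_ne_zero.2 (inv_ne_zero ht))
      rw [inv_neg, inv_inv, neg_neg] at h1
      have h2 : S i (-t⁻¹) = f i (-t⁻¹) / a i := rfl
      rw [map_neg, map_inv₀] at h2
      have h3 : f i (-t⁻¹) = -(a i * (S i t)⁻¹) := by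
        rw [eq_div_iff (ha i)] at h2; linear_combination -h2
      have h4 : S i t ≠ 0 := (map_ne_zero (S i)).2 ht
      rw [h3] at h1
      field_simp at h1
      linear_combination -h1
  · ext y
    simp [φ, ψ, mul_assoc]

end Full

end CfsgLib.Lie.Chev
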