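import Cfsg.Agent.Lib.Lie.Chev.AutBase

/-!
# Simple root subgroups recognised from a pair of opposite unipotent subgroups
-/

set_option autoImplicit false

namespace CfsgLib.Lie.Chev

open Cfsg.Lie
open scoped MatrixGroups

variable {D : ChevalleyDatum} {K : Type*} [Field K]

namespace Good

variable (G : Good D)

include G

/-- the identity behind the Bruhat decomposition of a negative root element -/
theorem negr_eq_xnx (r : Fin D.nroots) {s : K} (hs : s ≠ 0) :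
    G.xu (G.negr r) s = G.xu r s⁻¹ * G.nE r (-s⁻¹) * G.xu r s⁻¹ := by
  rw [nE, inv_neg, inv_inv, neg_neg, ← mul_assoc, ← mul_assoc, ← G.xu_add, add_neg_cancel, G.xu_zero,
    one_mul, mul_assoc, ← G.xu_add, neg_add_cancel, G.xu_zero, mul_one]

theorem negr_conj_pos (r : Fin D.nroots) {b : K} (hb : b ≠ 0) (u : K) :
    G.xu (G.negr r) b * G.xu r u * (G.xu (G.negr r) b)⁻¹ =
      G.xu r b⁻¹ * G.xu (G.negr r) (-(b ^ 2 * u)) * (G.xu r b⁻¹)⁻¹ := by
  have h := G.nE_xu r (-b⁻¹) u (neg_ne_zero.2 (inv_ne_zero hb))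
  rw [inv_neg, inv_inv, neg_sq] at h
  rw [← h, G.negr_eq_xnx r hb]
  have hc : G.xu r b⁻¹ * G.xu r u * (G.xu r b⁻¹)⁻¹ = G.xu r u := by
    rw [G.xu_inv, ← G.xu_add, ← G.xu_add]; congr 1; ring
  calc G.xu r b⁻¹ * G.nE r (-b⁻¹) * G.xu r b⁻¹ * G.xu r u *
        (G.xu r b⁻¹ * G.nE r (-b⁻¹) * G.xu r b⁻¹)⁻¹
      = G.xu r b⁻¹ * G.nE r (-b⁻¹) * (G.xu r b⁻¹ * G.xu r u * (G.xu r b⁻¹)⁻¹) *
          (G.nE r (-b⁻¹))⁻¹ * (G.xu r b⁻¹)⁻¹ := by group
    _ = _ := by rw [hc]; group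

theorem sP_self_not_pos (i : Fin D.rank) (t : K) :
    G.xu (G.simp' i) t ∈ (Uinv G (G.sP i) : Subgroup (GL D.Idx K)) :=
  Subgroup.subset_closure ⟨G.simp' i, t, ⟨G.simp_pos i, by
    rw [sP_apply, G.w_simp]; exact G.negr_simp_not_pos i⟩, rfl⟩

end Good

namespace Full

variable (C : Full D)

/-- `a b = -1` when `x(a) y(b) x(a)` conjugates a positive root element into the negative root group -/
theorem mul_eq_neg_one (i : Fin D.rank) {a b u z : K} (hb : b ≠ 0) (hu : u ≠ 0)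
    (h : (C.G.xu (C.G.simp' i) a * C.G.xu (C.G.negr (C.G.simp' i)) b * C.G.xu (C.G.simp' i) a) *
      C.G.xu (C.G.simp' i) u *
      (C.G.xu (C.G.simp' i) a * C.G.xu (C.G.negr (C.G.simp' i)) b * C.G.xu (C.G.simp' i) a)⁻¹ =
        C.G.xu (C.G.negr (C.G.simp' i)) z) : a * b = -1 := by
  set p := C.G.simp' i
  obtain ⟨w, hwdef⟩ : ∃ w, w = -(b ^ 2 * u) := ⟨_, rfl⟩
  have hw : w ≠ 0 := hwdef ▸ neg_ne_zero.2 (mul_ne_zero (pow_ne_zero _ hb) hu)
  set c := a + b⁻¹
  have key : C.G.xu p c * C.G.xu (C.G.negr p) w * C.G.xu p (-c) = C.G.xu (C.G.negr p) z := by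
    rw [← h]
    have hc : C.G.xu p a * C.G.xu p u * (C.G.xu p a)⁻¹ = C.G.xu p u := by
      rw [C.G.xu_inv, ← C.G.xu_add, ← C.G.xu_add]; congr 1; ring
    rw [show C.G.xu p a * C.G.xu (C.G.negr p) b * C.G.xu p a * C.G.xu p u *
        (C.G.xu p a * C.G.xu (C.G.negr p) b * C.G.xu p a)⁻¹ = C.G.xu p a * (C.G.xu (C.G.negr p) b *
          (C.G.xu p a * C.G.xu p u * (C.G.xu p a)⁻¹) * (C.G.xu (C.G.negr p) b)⁻¹) * (C.G.xu p a)⁻¹
        by group, hc, C.G.negr_conj_pos p hb u, ← hwdef, ← C.G.xu_inv p c, C.G.xu_add p a b⁻¹]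
    group
  have hz : z ≠ 0 := by
    rintro rfl
    rw [C.G.xu_zero, C.G.xu_inv p c |>.symm, mul_inv_eq_one, mul_eq_left, C.G.xu_eq_one_iff] at key
    exact hw key
  rw [C.G.negr_eq_xnx p hw, C.G.negr_eq_xnx p hz, ← inv_neg, ← inv_neg,
    show (-w)⁻¹ = ((Units.mk0 (-w)⁻¹ (by simp [hw]) : Kˣ) : K) from rfl,
    show (-z)⁻¹ = ((Units.mk0 (-z)⁻¹ (by simp [hz]) : Kˣ) : K) from rfl, C.G.nE_simp, C.G.nE_simp] at key
  set e := Units.mk0 (-w)⁻¹ (by simp [hw])
  set e' := Units.mk0 (-z)⁻¹ (by simp [hz])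
  have key' : (C.G.xu p (c + w⁻¹) * C.G.hd p e) * C.G.nU i * C.G.xu p (w⁻¹ + -c) =
      (C.G.xu p z⁻¹ * C.G.hd p e') * C.G.nU i * C.G.xu p z⁻¹ := by
    rw [C.G.xu_add p c, C.G.xu_add p w⁻¹ (-c)]
    simp only [mul_assoc] at key ⊢
    exact key
  have hB : ∀ (s : K) (d : Kˣ), C.G.xu p s * C.G.hd p d ∈ D.borelSubgroup K := fun s d =>
    mul_mem (Subgroup.mem_sup_left (C.G.xu_mem_U (C.G.simp_pos i) s))
      (Subgroup.mem_sup_right (C.G.hd_mem_H _ _))
  obtain ⟨e1, e2⟩ := C.refined_unique (hB _ _) (hB _ _) (C.G.nPerm_nU i) (C.G.sP_self_not_pos i _)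
    (C.G.sP_self_not_pos i _) key'
  have e2' := C.G.xu_injective' p e2
  have e3 := C.G.eq_one_of_U_H (u := C.G.xu p (-z⁻¹ + (c + w⁻¹)))
    (h := C.G.hd p e * (C.G.hd p e')⁻¹) (C.G.xu_mem_U (C.G.simp_pos i) _)
    (mul_mem (C.G.hd_mem_H _ _) (inv_mem (C.G.hd_mem_H _ _))) (by
      rw [C.G.xu_add, ← C.G.xu_inv, mul_assoc, ← mul_assoc (C.G.xu p (c + w⁻¹)), e1]
      group)
  have hc0 : c = 0 := by
    have e4 := e3.1
    rw [C.G.xu_eq_one_iff] at e4
    have h2c : c + c = 0 := by linear_combination e4 - e2'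
    by_cases h2 : (2 : K) = 0
    · -- in characteristic two the torus element determines the parameter
      have hh : C.G.hd p e = C.G.hd p e' := mul_inv_eq_one.1 e3.2
      have := C.G.hd_self_conj p e 1
      rw [hh, C.G.hd_self_conj p e' 1] at this
      have hsq := C.G.xu_injective' p this
      simp only [mul_one] at hsq
      have h5 : ((e : K) - e') ^ 2 = 0 := by linear_combination hsq.symm + ((e' : K) ^ 2 - e * e') * h2
      have h6 : (-w)⁻¹ = (-z)⁻¹ := sub_eq_zero.1 (sq_eq_zero_iff.1 h5)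
      rw [inv_neg, inv_neg, neg_inj] at h6
      linear_combination e4 - h6
    · exact (mul_eq_zero.1 (by linear_combination h2c : (2 : K) * c = 0)).resolve_left h2
  have : a = -b⁻¹ := eq_neg_of_add_eq_zero_left hc0
  rw [this, neg_mul, inv_mul_cancel₀ hb]

theorem not_commute_simp (i : Fin D.rank) :
    ¬ Commute (C.aX (K := K) (C.G.simp' i) 1) (C.aX (C.G.negr (C.G.simp' i)) 1) := by
  intro hcom
  have h : C.G.xu (C.G.negr (C.G.simp' i)) (1 : K) * C.G.xu (C.G.simp' i) 1 *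
      (C.G.xu (C.G.negr (C.G.simp' i)) 1)⁻¹ = C.G.xu (C.G.simp' i) 1 :=
    mul_inv_eq_iff_eq_mul.2 (congrArg Subtype.val hcom.eq.symm)
  rw [C.G.negr_conj_pos _ one_ne_zero, inv_one, mul_inv_eq_iff_eq_mul, mul_right_inj] at h
  have h2 : C.G.xu (C.G.negr (C.G.simp' i)) (-((1 : K) ^ 2 * 1)) ∈
      D.borelSubgroup K ⊓ D.negUnipotent K :=
    ⟨h ▸ Subgroup.mem_sup_left (C.G.xu_mem_U (C.G.simp_pos i) _),
      C.G.xu_mem_V ((C.G.isNegRoot_iff_not_pos _).2 (C.G.negr_simp_not_pos i)) _⟩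
  rw [C.G.B_inf_V, Subgroup.mem_bot, C.G.xu_eq_one_iff] at h2
  simp at h2

theorem commute_simp {i j : Fin D.rank} (hij : i ≠ j) (t u : K) :
    Commute (C.aX (C.G.simp' i) t) (C.aX (C.G.negr (C.G.simp' j)) u) := by
  have h1 : C.G.negr (C.G.simp' j) ≠ C.G.simp' i := fun h =>
    C.G.negr_simp_not_pos j (h ▸ C.G.simp_pos i)
  have h2 : C.G.negr (C.G.simp' j) ≠ C.G.negr (C.G.simp' i) := fun h => hij.symm (C.G.simp_injective
    ((C.G.negr_negr _).symm.trans ((congrArg C.G.negr h).trans (C.G.negr_negr _))))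
  obtain ⟨l, hl, he⟩ := C.conj_xu (C.G.simp' i) (C.G.negr (C.G.simp' j)) h1 h2 t u
  have hnil : l = [] := List.eq_nil_iff_forall_not_mem.2 fun p hp => by
    obtain ⟨a, b, ha, hb, e⟩ := hl p hp
    rw [C.G.rho_negr, C.G.rho_simp, C.G.rho_simp] at e
    have ei := congrFun e i
    have ej := congrFun e j
    simp only [Pi.add_apply, Pi.smul_apply, Pi.neg_apply, Pi.single_eq_same,
      Pi.single_eq_of_ne hij, Pi.single_eq_of_ne hij.symm, smul_eq_mul] at ei ej
    rcases C.G.rho_sign p.1 with h | h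
    · have := h j; omega
    · have := h i; omega
  subst hnil
  simp only [List.map_nil, List.prod_nil, mul_one] at he
  refine Subtype.ext ?_
  show C.G.xu _ t * C.G.xu _ u = C.G.xu _ u * C.G.xu _ t
  calc C.G.xu _ t * C.G.xu _ u
      = C.G.xu (C.G.simp' i) t * ((C.G.xu (C.G.simp' i) t)⁻¹ * C.G.xu (C.G.negr (C.G.simp' j)) u *
          C.G.xu (C.G.simp' i) t) := by rw [he]
    _ = _ := by group

/-! ### minimal parabolic subgroups -/

theorem aP_ge (i : Fin D.rank) : C.aB K ≤ C.aP i := le_sup_left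

theorem sG_mem_aP (i : Fin D.rank) : C.sG (K := K) i ∈ C.aP i :=
  (le_sup_right : Subgroup.closure {C.sG i} ≤ C.aP i) (Subgroup.subset_closure rfl)

theorem aP_ne (i : Fin D.rank) : C.aP (K := K) i ≠ C.aB K := fun h =>
  BN.not_mem_B (C.bnPair (K := K)) ⟨i, rfl⟩ (h.le (C.sG_mem_aP i))

theorem aP_injective : Function.Injective (C.aP (K := K)) := fun i j h =>
  C.sG_injective (BN.mem_of_parabolic (C.bnPair (K := K))
    (Set.singleton_subset_iff.2 ⟨j, rfl⟩) ⟨i, rfl⟩ (h.le (C.sG_mem_aP i)))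

theorem aP_minimal {i : Fin D.rank} {M : Subgroup ↥(D.group K)} (h1 : C.aB K ≤ M) (h2 : M ≤ C.aP i)
    (h3 : M ≠ C.aB K) : M = C.aP i := by
  refine le_antisymm h2 ?_
  rw [BN.eq_parabolic_of_le (C.bnPair (K := K)) M h1]
  by_cases hi : C.sG i ∈ M
  · exact BN.parabolic_mono _ (Set.singleton_subset_iff.2 ⟨⟨i, rfl⟩, hi⟩)
  · refine absurd ?_ h3
    rw [BN.eq_parabolic_of_le (C.bnPair (K := K)) M h1]
    have : (C.bnPair (K := K)).S ∩ (M : Set _) = ∅ := by
      ext x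
      simp only [Set.mem_inter_iff, Set.mem_empty_iff_false, iff_false, not_and]
      rintro ⟨j, rfl⟩ hj
      exact hi ((C.sG_injective.eq_iff.1 (BN.mem_of_parabolic (C.bnPair (K := K))
        (Set.singleton_subset_iff.2 ⟨i, rfl⟩) ⟨j, rfl⟩ (h2 hj) : C.sG j = C.sG i)) ▸ hj)
    rw [this, Cfsg.BNPair.parabolic, Subgroup.closure_empty, sup_bot_eq]
    rfl

/-- an automorphism fixing `B` permutes the minimal parabolic subgroups -/
theorem exists_aP_perm (θ : MulAut ↥(D.group K))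
    (hθ : (C.aB K).map θ.toMonoidHom = C.aB K) :
    ∃ π : Equiv.Perm (Fin D.rank), ∀ i, (C.aP i).map θ.toMonoidHom = C.aP (K := K) (π i) := by
  have hsymm : (C.aB K).map θ.symm.toMonoidHom = C.aB K := by
    conv_lhs => rw [← hθ]
    rw [Subgroup.map_map]
    convert Subgroup.map_id _
    ext x; simp
  have h : ∀ i, ∃ j, (C.aP i).map θ.toMonoidHom = C.aP (K := K) j := by
    intro i
    set M := (C.aP i).map θ.toMonoidHom
    have hBM : C.aB K ≤ M := hθ ▸ Subgroup.map_mono (C.aP_ge i)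
    have hne : M ≠ C.aB K := fun h => C.aP_ne i
      (Subgroup.map_injective θ.injective (h.trans hθ.symm))
    obtain ⟨x, hxS, hxM⟩ : ∃ x ∈ (C.bnPair (K := K)).S, x ∈ M := by
      by_contra hno
      simp only [not_exists, not_and] at hno
      refine hne ?_
      rw [BN.eq_parabolic_of_le (C.bnPair (K := K)) M hBM]
      have : (C.bnPair (K := K)).S ∩ (M : Set _) = ∅ := by
        ext x
        simp only [Set.mem_inter_iff, Set.mem_empty_iff_false, iff_false, not_and]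
        exact fun hx => hno x hx
      rw [this, Cfsg.BNPair.parabolic, Subgroup.closure_empty, sup_bot_eq]
      rfl
    obtain ⟨j, rfl⟩ := hxS
    have hle : C.aP j ≤ M :=
      sup_le hBM ((Subgroup.closure_le _).2 (Set.singleton_subset_iff.2 hxM))
    refine ⟨j, le_antisymm ?_ hle⟩
    have h1 : (C.aP j).map θ.symm.toMonoidHom = C.aP i := by
      refine C.aP_minimal (by rw [← hsymm]; exact Subgroup.map_mono (C.aP_ge j)) ?_ fun h => C.aP_ne (K := K) j ?_
      · refine (Subgroup.map_mono hle).trans ?_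
        rw [Subgroup.map_map]
        rintro _ ⟨y, hy, rfl⟩
        simpa using hy
      · exact Subgroup.map_injective θ.symm.injective (h.trans hsymm.symm)
    show (C.aP i).map θ.toMonoidHom ≤ _
    rw [← h1, Subgroup.map_map]
    rintro _ ⟨y, hy, rfl⟩
    simpa using hy
  choose f hf using h
  have hinj : Function.Injective f := fun i j hij => C.aP_injective
    (Subgroup.map_injective θ.injective ((hf i).trans ((congrArg C.aP hij).trans (hf j).symm)))
  exact ⟨Equiv.ofBijective f (Finite.injective_iff_bijective.1 hinj), hf⟩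

/-! ### `P_i ∩ V` -/

theorem aP_form {i : Fin D.rank} {g : ↥(D.group K)} (hg : g ∈ C.aP i) :
    g ∈ C.aB K ∨ ∃ b ∈ C.aB K, ∃ t : K, g = b * C.sG i * C.aX (C.G.simp' i) t := by
  obtain ⟨n, hn, hc⟩ := BN.parabolic_subset (C.bnPair (K := K))
    (J := {C.sG i}) (Set.singleton_subset_iff.2 ⟨i, rfl⟩) hg
  have hsq : C.sG (K := K) i * C.sG i ∈ C.aB K := (C.bnPair (K := K)).sq_mem _ ⟨i, rfl⟩
  have hn' : n ∈ C.aB K ∨ n * (C.sG i)⁻¹ ∈ C.aB K := by
    obtain ⟨k, rfl⟩ := Subgroup.mem_closure_singleton.1 hn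
    rcases Int.even_or_odd' k with ⟨m, rfl | rfl⟩
    · left
      rw [zpow_mul, zpow_two]
      exact zpow_mem hsq m
    · right
      rw [zpow_add, zpow_one, mul_inv_cancel_right, zpow_mul, zpow_two]
      exact zpow_mem hsq m
  obtain ⟨b, hb, c, hcB, rfl⟩ := (BN.mem_cell _).1 hc
  rw [C.bnPair_B] at hb hcB
  rcases hn' with h | h
  · exact Or.inl (mul_mem (mul_mem hb h) hcB)
  · right
    obtain ⟨u, hu, d, hd', rfl⟩ := C.mem_aB_iff.1 hcB
    have hu2 : ((d⁻¹ * u * d : ↥(D.group K)) : GL D.Idx K) ∈ D.posUnipotent K :=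
      (Subgroup.mem_normalizer_iff''.1 (C.aH_normalizes_aU hd') u).1 hu
    obtain ⟨v, hv, t, hvt⟩ := C.exists_Uex_mul i hu2
    have hsd : C.sG i * d * (C.sG i)⁻¹ ∈ C.aB K :=
      Subgroup.mem_sup_right ((Subgroup.mem_normalizer_iff.1
        (C.G.monomial_le_normalizer (C.G.nU_mem_monomial i)) _).1 hd')
    have hvG : v ∈ D.group K := C.G.posUnipotent_le_group (C.G.Uex_le i hv)
    have hsv : C.sG i * ⟨v, hvG⟩ * (C.sG i)⁻¹ ∈ C.aB K :=
      Subgroup.mem_sup_left (C.G.Uex_le i (C.G.nU_conj_Uex i v hv))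
    refine ⟨b * (n * (C.sG i)⁻¹) * (C.sG i * d * (C.sG i)⁻¹) * (C.sG i * ⟨v, hvG⟩ * (C.sG i)⁻¹),
      mul_mem (mul_mem (mul_mem hb h) hsd) hsv, t, ?_⟩
    have e : u * d = d * (⟨v, hvG⟩ * C.aX (C.G.simp' i) t) := by
      rw [show (⟨v, hvG⟩ * C.aX (C.G.simp' i) t : ↥(D.group K)) = d⁻¹ * u * d from Subtype.ext hvt.symm]
      group
    rw [e]
    group

theorem aX_negr_mem_aP (i : Fin D.rank) (t : K) : C.aX (C.G.negr (C.G.simp' i)) t ∈ C.aP i := by
  rcases eq_or_ne t 0 with rfl | ht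
  · rw [C.aX_zero]; exact one_mem _
  · have hx : ∀ s : K, C.aX (C.G.simp' i) s ∈ C.aP (K := K) i := fun s =>
      C.aP_ge i (C.aU_le_aB (C.aX_mem_aU (C.G.simp_pos i) s))
    have hh : ∀ e : Kˣ, (⟨C.G.hd (C.G.simp' i) e, C.G.diagonal_le_group (C.G.hd_mem_H _ _)⟩ :
        ↥(D.group K)) ∈ C.aP i := fun e => C.aP_ge i (Subgroup.mem_sup_right (C.G.hd_mem_H _ _))
    have := mul_mem (mul_mem (hx t⁻¹) (mul_mem (hh (Units.mk0 (-t⁻¹) (by simp [ht]))) (C.sG_mem_aP i)))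
      (hx t⁻¹)
    convert this using 1
    refine Subtype.ext ?_
    simp only [Subgroup.coe_mul, aX, sG, C.G.negr_eq_xnx _ ht, ← C.G.nE_simp, Units.val_mk0]

theorem aP_inf_aV (i : Fin D.rank) :
    C.aP i ⊓ C.aV K = C.aXs (C.G.negr (C.G.simp' i)) := by
  refine le_antisymm ?_ ?_
  · rintro g ⟨hgP, hgV⟩
    rcases C.aP_form hgP with hB | ⟨b, hb, t, rfl⟩
    · have : g = 1 := Subgroup.mem_bot.1 (C.aB_inf_aV (K := K) ▸ ⟨hB, hgV⟩)
      rw [this]; exact one_mem _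
    rcases eq_or_ne t 0 with rfl | ht
    · exfalso
      rw [C.aX_zero, mul_one] at hgV
      set y := C.aX (K := K) (C.G.negr (C.G.simp' i)) 1
      have hy : y ∈ C.aV K := C.aX_mem_aV (C.G.negr_simp_not_pos i) 1
      obtain ⟨c, hc⟩ := C.conj_aX (n := C.sG i) (C.G.nPerm_nU (K := K) i) (C.G.negr (C.G.simp' i))
      have hpos : D.IsPosRoot (C.G.sP i (C.G.negr (C.G.simp' i))).val := by
        rw [Good.sP_apply, C.G.w_negr, C.G.w_simp, C.G.negr_negr]; exact C.G.simp_pos i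
      have h1 : (b * C.sG i * y) * (b * C.sG i)⁻¹ ∈ C.aB K ⊓ C.aV K := by
        refine ⟨?_, Subgroup.mul_mem _ (Subgroup.mul_mem _ hgV hy) (Subgroup.inv_mem _ hgV)⟩
        rw [show b * C.sG i * y * (b * C.sG i)⁻¹ = b * (C.sG i * y * (C.sG i)⁻¹) * b⁻¹ by group, hc]
        exact Subgroup.mul_mem _ (Subgroup.mul_mem _ hb (C.aU_le_aB (C.aX_mem_aU hpos _)))
          (Subgroup.inv_mem _ hb)
      rw [C.aB_inf_aV, Subgroup.mem_bot, mul_inv_eq_one, mul_eq_left, ← C.aX_zero (K := K) (C.G.negr (C.G.simp' i))] at h1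
      exact one_ne_zero (C.aX_inj h1)
    · set y := C.aX (C.G.negr (C.G.simp' i)) t⁻¹
      have hy : y ∈ C.aV K := C.aX_mem_aV (C.G.negr_simp_not_pos i) _
      have e : C.sG i * C.aX (C.G.simp' i) t * y⁻¹ ∈ C.aB K := by
        refine (?_ : ((C.sG i * C.aX (C.G.simp' i) t * y⁻¹ : ↥(D.group K)) : GL D.Idx K) ∈
          D.borelSubgroup K)
        simp only [Subgroup.coe_mul, Subgroup.coe_inv, y, aX, sG]
        rw [C.G.negr_eq_xnx _ (inv_ne_zero ht), inv_inv,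
          show (-t : K) = ((Units.mk0 (-t) (neg_ne_zero.2 ht) : Kˣ) : K) from rfl, C.G.nE_simp]
        set d := C.G.hd (C.G.simp' i) (Units.mk0 (-t) (neg_ne_zero.2 ht))
        rw [show C.G.nU i * C.G.xu (C.G.simp' i) t * (C.G.xu (C.G.simp' i) t * (d * C.G.nU i) *
          C.G.xu (C.G.simp' i) t)⁻¹ = d⁻¹ * (C.G.xu (C.G.simp' i) t)⁻¹ by group]
        exact mul_mem (Subgroup.mem_sup_right (inv_mem (C.G.hd_mem_H _ _)))
          (inv_mem (Subgroup.mem_sup_left (C.G.xu_mem_U (C.G.simp_pos i) t)))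
      have h1 : b * C.sG i * C.aX (C.G.simp' i) t * y⁻¹ ∈ C.aB K ⊓ C.aV K := by
        refine ⟨?_, Subgroup.mul_mem _ hgV (Subgroup.inv_mem _ hy)⟩
        have := mul_mem hb e
        simpa [mul_assoc] using this
      rw [C.aB_inf_aV, Subgroup.mem_bot, mul_inv_eq_one] at h1
      exact ⟨t⁻¹, h1.symm⟩
  · rintro _ ⟨t, rfl⟩
    exact ⟨C.aX_negr_mem_aP i t, C.aX_mem_aV (C.G.negr_simp_not_pos i) t⟩

/-- the longest element sends the negative of a fundamental root to a fundamental root -/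
theorem w0_negr_simp (j : Fin D.rank) : ∃ i, C.w0 (C.G.negr (C.G.simp' j)) = C.G.simp' i := by
  classical
  have hr : D.IsPosRoot (C.w0 (C.G.negr (C.G.simp' j))).val := C.w0_neg (C.G.negr_simp_not_pos j)
  set v := C.w0 * C.G.sP j * C.w0⁻¹
  have hv : v ∈ C.G.Wg :=
    mul_mem (mul_mem C.w0_mem (Subgroup.subset_closure ⟨j, rfl⟩)) (inv_mem C.w0_mem)
  have honly : ∀ s : Fin D.nroots, D.IsPosRoot s.val → ¬ D.IsPosRoot (v s).val →
      s = C.w0 (C.G.negr (C.G.simp' j)) := by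
    intro s hs hn
    simp only [v, Equiv.Perm.mul_apply, C.w0_pos_iff, not_not] at hn
    set q := C.w0⁻¹ s
    have hq : ¬ D.IsPosRoot q.val := fun h => (C.w0_inv_pos_iff s).1 h hs
    have hq' := (C.G.negr_pos_iff q).2 hq
    by_cases he : C.G.negr q = C.G.simp' j
    · rw [← he, C.G.negr_negr]
      exact (C.w0.apply_symm_apply s).symm
    · exfalso
      have := C.G.w_pos hq' he
      rw [C.G.w_negr, C.G.negr_pos_iff] at this
      exact this hn
  have hne : v ≠ 1 := by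
    intro h
    apply C.G.sP_ne_one j
    have h' : C.w0 * C.G.sP j * C.w0⁻¹ = 1 := h
    simpa using h'
  obtain ⟨l, hl⟩ := C.G.exists_pw hv
  obtain ⟨i, hi⟩ : ∃ i, ¬ D.IsPosRoot (v (C.G.simp' i)).val := by
    by_contra hno
    simp only [not_exists, not_not] at hno
    exact hne (hl ▸ C.G.pw_eq_one_of_pos l.length l rfl (hl.symm ▸ hno))
  exact ⟨i, (honly _ (C.G.simp_pos i) hi).symm⟩

theorem exists_tau : ∃ τ : Equiv.Perm (Fin D.rank),
    ∀ j, C.w0 (C.G.negr (C.G.simp' j)) = C.G.simp' (τ j) := by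
  choose f hf using C.w0_negr_simp
  have hinj : Function.Injective f := fun i j h => C.G.simp_injective (by
    have := C.w0.injective ((hf i).trans ((congrArg C.G.simp' h).trans (hf j).symm))
    exact (C.G.negr_negr _).symm.trans ((congrArg C.G.negr this).trans (C.G.negr_negr _)))
  exact ⟨Equiv.ofBijective f (Finite.injective_iff_bijective.1 hinj), hf⟩

/-- an automorphism fixing `U` and `V` permutes the root subgroups of the fundamental roots and
their negatives by one permutation -/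
theorem exists_simp_perm (θ : MulAut ↥(D.group K))
    (hU : (C.aU K).map θ.toMonoidHom = C.aU K) (hV : (C.aV K).map θ.toMonoidHom = C.aV K) :
    ∃ π : Equiv.Perm (Fin D.rank), ∀ i,
      (C.aXs (C.G.simp' i)).map θ.toMonoidHom = C.aXs (K := K) (C.G.simp' (π i)) ∧
      (C.aXs (C.G.negr (C.G.simp' i))).map θ.toMonoidHom =
        C.aXs (K := K) (C.G.negr (C.G.simp' (π i))) := by
  have key : ∀ θ : MulAut ↥(D.group K), (C.aU K).map θ.toMonoidHom = C.aU K →
      (C.aV K).map θ.toMonoidHom = C.aV K → ∃ π : Equiv.Perm (Fin D.rank), ∀ i,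
      (C.aXs (C.G.negr (C.G.simp' i))).map θ.toMonoidHom =
        C.aXs (K := K) (C.G.negr (C.G.simp' (π i))) := by
    intro θ hU hV
    have hB : (C.aB K).map θ.toMonoidHom = C.aB K := by
      rw [← C.normalizer_aU, Subgroup.map_equiv_normalizer_eq]
      rw [hU]
    obtain ⟨π, hπ⟩ := C.exists_aP_perm θ hB
    refine ⟨π, fun i => ?_⟩
    rw [← C.aP_inf_aV, ← C.aP_inf_aV, Subgroup.map_inf _ _ _ θ.injective, hπ, hV]
  obtain ⟨π, hπ⟩ := key θ hU hV
  set m := MulAut.conj (C.m0 K)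
  have hm1 : ∀ X Y : Subgroup ↥(D.group K), X.map m.toMonoidHom = Y →
      Y.map m.symm.toMonoidHom = X := by
    rintro X _ rfl
    rw [Subgroup.map_map]
    convert Subgroup.map_id _
    ext x; simp
  have hθ' : ∀ X Y : Subgroup ↥(D.group K), X.map θ.toMonoidHom = Y →
      (X.map m.symm.toMonoidHom).map ((m.trans θ).trans m.symm).toMonoidHom =
        Y.map m.symm.toMonoidHom := by
    rintro X _ rfl
    rw [Subgroup.map_map, Subgroup.map_map]
    congr 1
    ext x; simp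
  obtain ⟨ρ, hρ⟩ := key ((m.trans θ).trans m.symm)
    (by have := hθ' _ _ hV; rwa [hm1 _ _ C.map_aU] at this)
    (by have := hθ' _ _ hU; rwa [hm1 _ _ C.map_aV] at this)
  obtain ⟨τ, hτ⟩ := C.exists_tau
  have hpos : ∀ j, (C.aXs (C.G.negr (C.G.simp' j))).map m.toMonoidHom =
      C.aXs (K := K) (C.G.simp' (τ j)) := fun j => by
    rw [← hτ]; exact C.map_aXs C.m0_perm _
  refine ⟨π, fun i => ⟨?_, hπ i⟩⟩
  obtain ⟨j, rfl⟩ := τ.surjective i
  have h1 : (C.aXs (C.G.simp' (τ j))).map θ.toMonoidHom = C.aXs (C.G.simp' (τ (ρ j))) := by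
    rw [← hpos, ← hpos, ← hρ, Subgroup.map_map, Subgroup.map_map]
    congr 1
    ext x; simp
  rw [h1]
  congr 2
  by_contra hne
  refine C.not_commute_simp (K := K) (τ j) ?_
  have ha : θ (C.aX (C.G.simp' (τ j)) 1) ∈ C.aXs (K := K) (C.G.simp' (τ (ρ j))) := by
    rw [← h1]; exact ⟨_, ⟨1, rfl⟩, rfl⟩
  have hb : θ (C.aX (C.G.negr (C.G.simp' (τ j))) 1) ∈
      C.aXs (K := K) (C.G.negr (C.G.simp' (π (τ j)))) := by
    rw [← hπ]; exact ⟨_, ⟨1, rfl⟩, rfl⟩
  obtain ⟨t, ht⟩ := ha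
  obtain ⟨u, hu⟩ := hb
  have hc := C.commute_simp (K := K) hne t u
  rw [ht, hu] at hc
  exact θ.injective (by simpa using hc.eq)

end Full

end CfsgLib.Lie.Chev
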