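import Cfsg.Agent.Lib.Lie.Chev.PerfectData
import Cfsg.Prelude.Def_ChevAutomorphisms

/-!
# Certificates on the diagrams used for automorphisms
-/

set_option autoImplicit false

namespace CfsgLib.Lie.Chev

open Cfsg.Lie

/-- the order of the product of the reflections in two fundamental roots from their bond number -/
def mBond (b : ℤ) : ℕ := if b = 0 then 2 else if b = 1 then 3 else if b = 2 then 4 else 6

/-- `(w_i w_j)^k` on a root index -/
def prodRefl (D : ChevalleyDatum) (i j : ℕ) (k s : ℕ) : ℕ :=
  (fun x => D.reflectRoot i (D.reflectRoot j x))^[k] s

/-- the bond numbers are at most three and determine the orders of products of two reflections -/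
def chkBond (D : ChevalleyDatum) : Bool :=
  (List.range D.rank).all fun i => (List.range D.rank).all fun j => (i == j) ||
    ((D.bonds i j == 0 || D.bonds i j == 1 || D.bonds i j == 2 || D.bonds i j == 3) &&
      (List.range D.rank).all (fun a => prodRefl D i j (mBond (D.bonds i j)) (D.simple a) == D.simple a) &&
      (List.range (mBond (D.bonds i j))).all fun k => (k == 0) ||
        (List.range D.rank).any fun a => prodRefl D i j k (D.simple a) != D.simple a)

/-- root lengths along the bonds of the diagram -/
def chkLen (D : ChevalleyDatum) : Bool :=
  (List.range D.rank).all fun i => (List.range D.rank).all fun j => (i == j) ||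
    (if D.bonds i j == 0 then D.cartan i (D.simple j) == 0 || D.cartan j (D.simple i) == 0
     else if D.bonds i j == 1 then
      D.cartan i (D.simple j) == -1 && D.isLong (D.simple i) == D.isLong (D.simple j)
     else (D.isLong (D.simple i) != D.isLong (D.simple j)) &&
      D.cartan i (D.simple j) == (if D.isLong (D.simple j) then -D.bonds i j else -1))

theorem chkBond_all {D : ChevalleyDatum}
    (hD : D ∈ [chevG2, chevB2, chevD4, chevF4, chevE6, chevE7, chevE8]) : chkBond D = true := by
  simp only [List.mem_cons, List.not_mem_nil, or_false] at hD
  rcases hD with rfl | rfl | rfl | rfl | rfl | rfl | rfl <;> decide +kernel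

theorem chkLen_all {D : ChevalleyDatum}
    (hD : D ∈ [chevG2, chevB2, chevD4, chevF4, chevE6, chevE7, chevE8]) : chkLen D = true := by
  simp only [List.mem_cons, List.not_mem_nil, or_false] at hD
  rcases hD with rfl | rfl | rfl | rfl | rfl | rfl | rfl <;> decide +kernel

theorem connected_all {D : ChevalleyDatum}
    (hD : D ∈ [chevG2, chevB2, chevD4, chevF4, chevE6, chevE7, chevE8]) : DiagramConnected D := by
  simp only [List.mem_cons, List.not_mem_nil, or_false] at hD
  rcases hD with rfl | rfl | rfl | rfl | rfl | rfl | rfl
  exacts [connectedG2, connectedB2, connectedD4, connectedF4, connectedE6, connectedE7, connectedE8]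

end CfsgLib.Lie.Chev
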