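import Cfsg.Agent.Lib.Lie.Chev.AutNorm
import Cfsg.Agent.Lib.Lie.Chev.AutData
import Mathlib.FieldTheory.Perfect

/-!
# A standard automorphism is a graph automorphism after a field automorphism
-/

set_option autoImplicit false

namespace CfsgLib.Lie.Chev

open Cfsg.Lie
open scoped MatrixGroups

variable {D : ChevalleyDatum} {K : Type*} [Field K]

namespace Full

variable (C : Full D)

/-- entrywise application of a field automorphism as an automorphism of the group -/
noncomputable def fieldAut (σ : K ≃+* K) : MulAut ↥(D.group K) where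
  toFun g := ⟨fmap D (σ.toRingHom : K →+* K) g.1, C.G.fmap_mem_group _ g.2⟩
  invFun g := ⟨fmap D (σ.symm.toRingHom : K →+* K) g.1, C.G.fmap_mem_group _ g.2⟩
  left_inv g := Subtype.ext (by
    show fmap D _ (fmap D _ (g : GL D.Idx K)) = (g : GL D.Idx K)
    rw [fmap_fmap]; simp [fmap_id])
  right_inv g := Subtype.ext (by
    show fmap D _ (fmap D _ (g : GL D.Idx K)) = (g : GL D.Idx K)
    rw [fmap_fmap]; simp [fmap_id])
  map_mul' g h := Subtype.ext (map_mul (fmap D σ.toRingHom) (g : GL D.Idx K) h)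

theorem fieldAut_aX (σ : K ≃+* K) (r : Fin D.nroots) (t : K) :
    C.fieldAut σ (C.aX r t) = C.aX r (σ t) :=
  Subtype.ext (C.G.fmap_xu σ.toRingHom r t)

theorem eq_aX_of_val {g : ↥(D.group K)} {r : Fin D.nroots} {t : K}
    (h : ((g : GL D.Idx K) : Matrix D.Idx D.Idx K) = D.x K r.val t) : g = C.aX r t :=
  Subtype.ext (Units.ext (h.trans (C.G.x_eq_xu r t)))

theorem aX_val (r : Fin D.nroots) (t : K) :
    ((C.aX r t : GL D.Idx K) : Matrix D.Idx D.Idx K) = D.x K r.val t := (C.G.x_eq_xu r t).symm

theorem isFieldAut_fieldAut (σ : K ≃+* K) : D.IsFieldAut (C.fieldAut σ) := by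
  refine ⟨σ, fun g r t hr hg => ?_⟩
  rw [C.eq_aX_of_val (r := ⟨r, hr⟩) hg, C.fieldAut_aX]
  exact C.aX_val ⟨r, hr⟩ (σ t)

variable {C}
variable {φ : MulAut ↥(D.group K)} {π : Equiv.Perm (Fin D.rank)} {σ : Fin D.rank → K ≃+* K}

theorem IsStd.symm (h : C.IsStd φ π σ) : C.IsStd φ.symm π.symm fun i => (σ (π.symm i)).symm := by
  intro i t
  have h1 := h (π.symm i) ((σ (π.symm i)).symm t)
  rw [Equiv.apply_symm_apply, RingEquiv.apply_symm_apply] at h1
  exact ⟨φ.symm_apply_eq.2 h1.1.symm, φ.symm_apply_eq.2 h1.2.symm⟩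

theorem IsStd.map_sG (h : C.IsStd φ π σ) (i : Fin D.rank) : φ (C.sG i) = C.sG (π i) := by
  have e : C.sG (K := K) i = C.aX (C.G.simp' i) 1 * C.aX (C.G.negr (C.G.simp' i)) (-1) *
      C.aX (C.G.simp' i) 1 := rfl
  have e' : C.sG (K := K) (π i) = C.aX (C.G.simp' (π i)) 1 * C.aX (C.G.negr (C.G.simp' (π i))) (-1) *
      C.aX (C.G.simp' (π i)) 1 := rfl
  rw [e, e', map_mul, map_mul, (h i 1).1, (h i (-1)).2, map_one, map_neg, map_one]

variable (C) in
/-- `h_{p_i}(u)` as an element of the group -/
noncomputable def aHd (i : Fin D.rank) (u : Kˣ) : ↥(D.group K) :=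
  ⟨C.G.hd (C.G.simp' i) u, C.G.diagonal_le_group (C.G.hd_mem_H _ _)⟩

variable (C) in
theorem aHd_eq (i : Fin D.rank) (u : Kˣ) : C.aHd i u =
    (C.aX (C.G.simp' i) (u : K) * C.aX (C.G.negr (C.G.simp' i)) (-(u : K)⁻¹) *
      C.aX (C.G.simp' i) (u : K)) *
    (C.aX (C.G.simp' i) (-1) * C.aX (C.G.negr (C.G.simp' i)) (-(-1)⁻¹) *
      C.aX (C.G.simp' i) (-1)) :=
  Subtype.ext (C.G.hE_eq _ u).symm

theorem IsStd.map_aHd (h : C.IsStd φ π σ) (i : Fin D.rank) (u : Kˣ) :
    φ (C.aHd i u) = C.aHd (π i) (Units.map (σ i).toRingHom u) := by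
  rw [C.aHd_eq, C.aHd_eq]
  simp only [map_mul, (h i _).1, (h i _).2, map_neg, map_inv₀, map_one]
  rfl

theorem IsStd.map_aH (h : C.IsStd φ π σ) {g : ↥(D.group K)} (hg : g ∈ C.aH K) : φ g ∈ C.aH K := by
  have hg' : (g : GL D.Idx K) ∈ D.diagonalSubgroup K := hg
  rw [C.G.diagonal_eq_range] at hg'
  obtain ⟨c, hc⟩ := hg'
  rw [C.G.torθ_eq_prod] at hc
  have e : g = ((List.finRange D.rank).map fun i => C.aHd i (c i)).prod := Subtype.ext (by
    rw [Subgroup.val_list_prod, List.map_map, ← hc]; rfl)
  rw [e, map_list_prod, List.map_map]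
  refine list_prod_mem fun x hx => ?_
  obtain ⟨i, -, rfl⟩ := List.mem_map.1 hx
  rw [Function.comp_apply, h.map_aHd]
  exact C.G.hd_mem_H _ _

variable (C) in
theorem nPerm_pow {g : GL D.Idx K} {τ : Equiv.Perm (Fin D.nroots)} (hg : C.G.NPerm g τ) :
    ∀ k : ℕ, C.G.NPerm (g ^ k) (τ ^ k) := by
  intro k
  induction k with
  | zero => simpa using Good.NPerm.one C.G (K := K)
  | succ k ih => rw [pow_succ, pow_succ]; exact Good.NPerm.mul C.G ih hg

theorem IsStd.pow_eq_one (h : C.IsStd φ π σ) {i j : Fin D.rank} {k : ℕ}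
    (hk : (C.G.sP i * C.G.sP j) ^ k = 1) : (C.G.sP (π i) * C.G.sP (π j)) ^ k = 1 := by
  have hn : ∀ a b : Fin D.rank, C.G.NPerm (((C.sG a * C.sG b) ^ k : ↥(D.group K)) : GL D.Idx K)
      ((C.G.sP a * C.G.sP b) ^ k) := fun a b => by
    rw [SubmonoidClass.coe_pow]
    exact C.nPerm_pow (Good.NPerm.mul C.G (C.G.nPerm_nU a) (C.G.nPerm_nU b)) k
  have hN : (C.sG i * C.sG j) ^ k ∈ (C.bnPair (K := K)).N :=
    Subgroup.pow_mem _ (Subgroup.mul_mem _ ((C.bnPair (K := K)).subset ⟨i, rfl⟩)
      ((C.bnPair (K := K)).subset ⟨j, rfl⟩)) k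
  have h1 := h.map_aH (C.mem_aH_of_perm_one hN (hk ▸ hn i j))
  rw [map_pow, map_mul, h.map_sG, h.map_sG] at h1
  exact Good.NPerm.unique C.G (hn (π i) (π j)) (C.G.nPerm_H h1)

theorem IsStd.orderOf_eq (h : C.IsStd φ π σ) (i j : Fin D.rank) :
    orderOf (C.G.sP (π i) * C.G.sP (π j)) = orderOf (C.G.sP i * C.G.sP j) := by
  refine Nat.dvd_antisymm (orderOf_dvd_of_pow_eq_one (h.pow_eq_one (pow_orderOf_eq_one _)))
    (orderOf_dvd_of_pow_eq_one ?_)
  have := h.symm.pow_eq_one (pow_orderOf_eq_one (C.G.sP (π i) * C.G.sP (π j)))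
  rwa [Equiv.symm_apply_apply, Equiv.symm_apply_apply] at this

variable (C) in
theorem orderOf_sP (hchk : chkBond D = true) {i j : Fin D.rank} (hij : i ≠ j) :
    orderOf (C.G.sP i * C.G.sP j) = mBond (D.bonds i.val j.val) ∧
      (D.bonds i.val j.val = 0 ∨ D.bonds i.val j.val = 1 ∨ D.bonds i.val j.val = 2 ∨
        D.bonds i.val j.val = 3) := by
  have h := List.all_eq_true.1 (List.all_eq_true.1 hchk i.val (List.mem_range.2 i.isLt)) j.val
    (List.mem_range.2 j.isLt)
  simp only [Bool.or_eq_true, beq_iff_eq, Fin.val_inj, hij, false_or, Bool.and_eq_true,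
    List.all_eq_true, List.any_eq_true, List.mem_range, bne_iff_ne] at h
  obtain ⟨⟨hb, hfix⟩, hmove⟩ := h
  have hval : ∀ (k : ℕ) (s : Fin D.nroots),
      (((C.G.sP i * C.G.sP j) ^ k) s).val = prodRefl D i.val j.val k s.val := by
    intro k
    induction k with
    | zero => intro s; simp [prodRefl]
    | succ k ih =>
      intro s
      rw [pow_succ', Equiv.Perm.mul_apply, prodRefl, Function.iterate_succ', Function.comp_apply,
        ← prodRefl, ← ih, C.G.reflect_eq, C.G.reflect_eq]
      rfl
  have hm : 0 < mBond (D.bonds i.val j.val) := by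
    unfold mBond; split_ifs <;> norm_num
  refine ⟨?_, ?_⟩
  · refine (orderOf_eq_iff hm).2 ⟨?_, fun k hk hk0 he => ?_⟩
    · obtain ⟨l, hl⟩ := C.G.exists_pw (v := (C.G.sP i * C.G.sP j) ^ mBond (D.bonds i.val j.val))
        (Subgroup.pow_mem _ (Subgroup.mul_mem _ (Subgroup.subset_closure (Set.mem_range_self i))
          (Subgroup.subset_closure (Set.mem_range_self j))) _)
      rw [← hl]
      refine C.G.pw_eq_one_of_pos l.length l rfl fun a => ?_
      rw [hl, hval, C.G.simp_val, hfix a.val a.isLt, ← C.G.simp_val]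
      exact C.G.simp_pos a
    · rcases hmove k hk with h0 | ⟨a, ha, hne⟩
      · omega
      · apply hne
        rw [← C.G.simp_val ⟨a, ha⟩, ← hval, he]
        rfl
  · tauto

theorem IsStd.isDiagramSymmetry (h : C.IsStd φ π σ) (hchk : chkBond D = true) :
    D.IsDiagramSymmetry π := by
  intro i j hij
  have e := h.orderOf_eq i j
  obtain ⟨e1, h1⟩ := C.orderOf_sP hchk hij
  obtain ⟨e2, h2⟩ := C.orderOf_sP hchk fun he => hij (π.injective he)
  rw [e1, e2] at e
  rcases h1 with h1 | h1 | h1 | h1 <;> rcases h2 with h2 | h2 | h2 | h2 <;> rw [h1, h2] at e ⊢ <;>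
    simp [mBond] at e

theorem IsStd.rel (h : C.IsStd φ π σ) (i j : Fin D.rank) (u : Kˣ) :
    σ j ((u : K) ^ cart D i (C.G.simp' j)) = σ i (u : K) ^ cart D (π i) (C.G.simp' (π j)) := by
  have e : C.aHd i u * C.aX (C.G.simp' j) 1 * (C.aHd i u)⁻¹ =
      C.aX (C.G.simp' j) (((u ^ cart D i (C.G.simp' j) : Kˣ) : K) * 1) :=
    Subtype.ext (C.G.hd_simp_conj i u (C.G.simp' j) 1)
  have e' := congrArg φ e
  rw [map_mul, map_mul, map_inv, h.map_aHd, (h j 1).1, (h j _).1] at e'
  have e'' := congrArg Subtype.val e'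
  rw [Subgroup.coe_mul, Subgroup.coe_mul, Subgroup.coe_inv] at e''
  simp only [aX, aHd] at e''
  rw [C.G.hd_simp_conj] at e''
  have := C.G.xu_injective' _ e''
  simpa using this.symm

/-- the exponent of a graph automorphism at a node -/
theorem IsStd.exists_sigma [Finite K] (h : C.IsStd φ π σ) (hbond : chkBond D = true)
    (hlen : chkLen D = true) (hconn : DiagramConnected D) :
    ∃ τ : K ≃+* K, ∀ i (t : K), σ i t = τ t ^ D.graphExp (ringChar K) i.val (π i).val := by
  classical
  have hsym := h.isDiagramSymmetry hbond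
  set p := ringChar K
  haveI : Fact p.Prime := ⟨CharP.char_is_prime K p⟩
  set E : Fin D.rank → ℕ := fun i => D.graphExp p i.val (π i).val
  have hE : ∀ i, E i = 1 ∨ E i = p := fun i => by
    simp only [E, ChevalleyDatum.graphExp]; split_ifs <;> simp
  have key : ∀ i j : Fin D.rank, cmat D i j ≠ 0 → cmat D j i ≠ 0 →
      ∀ τ : K ≃+* K, (∀ t, σ i t = τ t ^ E i) → ∀ t, σ j t = τ t ^ E j := by
    intro i j h1 h2 τ hτ
    rcases eq_or_ne i j with rfl | hij
    · exact hτ
    have hπ : π i ≠ π j := fun he => hij (π.injective he)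
    have hd1 := List.all_eq_true.1 (List.all_eq_true.1 hlen i.val (List.mem_range.2 i.isLt)) j.val
      (List.mem_range.2 j.isLt)
    have hd2 := List.all_eq_true.1 (List.all_eq_true.1 hlen j.val (List.mem_range.2 j.isLt)) i.val
      (List.mem_range.2 i.isLt)
    have hd3 := List.all_eq_true.1 (List.all_eq_true.1 hlen (π i).val (List.mem_range.2 (π i).isLt))
      (π j).val (List.mem_range.2 (π j).isLt)
    have hd4 := List.all_eq_true.1 (List.all_eq_true.1 hlen (π j).val (List.mem_range.2 (π j).isLt))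
      (π i).val (List.mem_range.2 (π i).isLt)
    have hbs : D.bonds j.val i.val = D.bonds i.val j.val := mul_comm _ _
    have hbs' : D.bonds (π j).val (π i).val = D.bonds i.val j.val := by
      rw [← hsym i j hij]; exact mul_comm _ _
    have hne0 : D.bonds i.val j.val ≠ 0 := mul_ne_zero h1 h2
    simp only [Bool.or_eq_true, beq_iff_eq, Fin.val_inj, hij, hij.symm, hπ, hπ.symm, false_or, hbs,
      hbs', hsym i j hij, hne0, ↓reduceIte] at hd1 hd2 hd3 hd4
    have hcart : ∀ a b : Fin D.rank, cart D a (C.G.simp' b) = D.cartan a.val (D.simple b.val) :=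
      fun a b => by rw [cart, C.G.simp_val]
    have hinvinj : ∀ (a b : K ≃+* K) (n : ℕ),
        (∀ u : Kˣ, a ((u : K) ^ (-1 : ℤ)) = b (u : K) ^ (-(n : ℤ))) → n ≠ 0 →
          ∀ t, a t = b t ^ n := by
      intro a b n hab hn t
      rcases eq_or_ne t 0 with rfl | ht
      · simp [hn]
      · have := hab (Units.mk0 t ht)
        rw [zpow_neg_one, map_inv₀, Units.val_mk0, zpow_neg, inv_inj, zpow_natCast] at this
        exact this
    by_cases hb1 : D.bonds i.val j.val = 1
    · simp only [hb1, ↓reduceIte, Bool.and_eq_true, beq_iff_eq] at hd1 hd2 hd3 hd4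
      have hEE : E j = E i := by
        simp only [E, ChevalleyDatum.graphExp, hd1.2, hd3.2]
      have hσ : ∀ t, σ j t = σ i t := fun t => by
        have := hinvinj (σ j) (σ i) 1 (fun u => by
          have r := h.rel i j u
          rw [hcart, hcart, hd1.1, hd3.1] at r
          exact r) one_ne_zero t
        simpa using this
      intro t
      rw [hσ, hτ, hEE]
    · simp only [hb1, ↓reduceIte, Bool.and_eq_true, bne_iff_ne, beq_iff_eq] at hd1 hd2 hd3 hd4
      obtain ⟨-, hb⟩ := C.orderOf_sP hbond hij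
      obtain ⟨m, hm, hm2⟩ : ∃ m : ℕ, D.bonds i.val j.val = (m : ℤ) ∧ (m = 2 ∨ m = 3) := by
        rcases hb with hb | hb | hb | hb
        · exact absurd hb hne0
        · exact absurd hb hb1
        · exact ⟨2, hb, Or.inl rfl⟩
        · exact ⟨3, hb, Or.inr rfl⟩
      -- an exchange of lengths forces the characteristic
      have hswap : ∀ a b : Fin D.rank,
          (∀ u : Kˣ, σ a ((u : K) ^ (-1 : ℤ)) = σ b (u : K) ^ (-(m : ℤ))) →
            ∀ t, σ a t = σ b t ^ p := by
        intro a b hab
        have hpow := hinvinj (σ a) (σ b) m hab (by rcases hm2 with rfl | rfl <;> norm_num)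
        have hadd : ∀ x : K, (x + 1) ^ m = x ^ m + 1 := fun x => by
          obtain ⟨y, rfl⟩ := (σ b).surjective x
          rw [← map_one (σ b), ← map_add, ← hpow, ← hpow, map_add, map_one, map_one]
        intro t
        rw [hpow]
        rcases hm2 with rfl | rfl
        · have h20 : (2 : K) = 0 := by linear_combination hadd 1
          have : p = 2 := by
            rcases (Nat.dvd_prime Nat.prime_two).1 ((ringChar.spec K 2).1 (by exact_mod_cast h20)) with h | h
            · exact absurd h (CharP.char_is_prime K p).one_lt.ne'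
            · exact h
          rw [this]
        · have h6 : (2 : K) * 3 = 0 := by linear_combination hadd 1
          rcases mul_eq_zero.1 h6 with h20 | h30
          · have : p = 2 := by
              rcases (Nat.dvd_prime Nat.prime_two).1 ((ringChar.spec K 2).1 (by exact_mod_cast h20)) with h | h
              · exact absurd h (CharP.char_is_prime K p).one_lt.ne'
              · exact h
            rw [this]
            have hx := hadd (σ b t)
            have hx2 : σ b t ^ 2 + σ b t = 0 := by
              linear_combination hx - (σ b t ^ 2 + σ b t) * h20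
            linear_combination (σ b t - 2) * hx2 + σ b t * h20
          · have : p = 3 := by
              rcases (Nat.dvd_prime Nat.prime_three).1 ((ringChar.spec K 3).1 (by exact_mod_cast h30)) with h | h
              · exact absurd h (CharP.char_is_prime K p).one_lt.ne'
              · exact h
            rw [this]
      have r1 := h.rel i j
      have r2 := h.rel j i
      simp only [hcart, hd1.2, hd2.2, hd3.2, hd4.2, hm] at r1 r2
      by_cases hLj : D.isLong (D.simple j.val) = true
      · have hLi : D.isLong (D.simple i.val) = false := by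
          have := hd1.1; simp only [hLj, ne_eq, Bool.not_eq_true] at this; simpa using this
        simp only [hLj, hLi, ↓reduceIte, Bool.false_eq_true] at r1 r2
        by_cases hLpj : D.isLong (D.simple (π j).val) = true
        · have hLpi : D.isLong (D.simple (π i).val) = false := by
            have := hd3.1; simp only [hLpj, ne_eq] at this; simpa using this
          have e1 : E i = 1 := by simp [E, ChevalleyDatum.graphExp, hLpi]
          have e2 : E j = 1 := by simp [E, ChevalleyDatum.graphExp, hLj]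
          simp only [hLpi, Bool.false_eq_true, ↓reduceIte] at r2
          have hσ : ∀ t, σ i t = σ j t := fun t => by
            simpa using hinvinj (σ i) (σ j) 1 r2 one_ne_zero t
          intro t
          rw [← hσ, hτ, e1, e2]
        · have hLpi : D.isLong (D.simple (π i).val) = true := by
            have := hd3.1; simp only [Bool.eq_false_iff.2 hLpj, ne_eq] at this; simpa using this
          have e1 : E i = p := by simp [E, ChevalleyDatum.graphExp, hLpi, hLi]
          have e2 : E j = 1 := by simp [E, ChevalleyDatum.graphExp, hLj]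
          simp only [hLpi, ↓reduceIte] at r2
          intro t
          have hσ := hswap i j r2 t
          rw [hτ, e1] at hσ
          have := frobenius_inj K p (show frobenius K p (τ t) = frobenius K p (σ j t) from hσ)
          rw [← this, e2, pow_one]
      · have hLi : D.isLong (D.simple i.val) = true := by
          have := hd1.1; simp only [Bool.eq_false_iff.2 hLj, ne_eq] at this; simpa using this
        simp only [Bool.eq_false_iff.2 hLj, hLi, ↓reduceIte, Bool.false_eq_true] at r1 r2
        by_cases hLpi : D.isLong (D.simple (π i).val) = true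
        · have hLpj : D.isLong (D.simple (π j).val) = false := by
            have := hd3.1; simp only [hLpi, ne_eq] at this; simpa using this
          have e1 : E i = 1 := by simp [E, ChevalleyDatum.graphExp, hLi]
          have e2 : E j = 1 := by simp [E, ChevalleyDatum.graphExp, hLpj]
          simp only [hLpj, Bool.false_eq_true, ↓reduceIte] at r1
          have hσ : ∀ t, σ j t = σ i t := fun t => by
            simpa using hinvinj (σ j) (σ i) 1 r1 one_ne_zero t
          intro t
          rw [hσ, hτ, e1, e2]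
        · have hLpj : D.isLong (D.simple (π j).val) = true := by
            have := hd3.1; simp only [Bool.eq_false_iff.2 hLpi, ne_eq] at this; simpa using this
          have e1 : E i = 1 := by simp [E, ChevalleyDatum.graphExp, hLi]
          have e2 : E j = p := by simp [E, ChevalleyDatum.graphExp, hLpj, Bool.eq_false_iff.2 hLj]
          simp only [hLpj, ↓reduceIte] at r1
          intro t
          rw [hswap j i r1 t, hτ, e1, pow_one, e2]
  by_cases hr : D.rank = 0
  · exact ⟨RingEquiv.refl K, fun i => absurd i.isLt (by omega)⟩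
  set i₀ : Fin D.rank := ⟨0, Nat.pos_of_ne_zero hr⟩
  obtain ⟨τ, hτ⟩ : ∃ τ : K ≃+* K, ∀ t, σ i₀ t = τ t ^ E i₀ := by
    rcases hE i₀ with e | e <;> rw [e]
    · exact ⟨σ i₀, fun t => (pow_one _).symm⟩
    · refine ⟨(σ i₀).trans (frobeniusEquiv K p).symm, fun t => ?_⟩
      rw [RingEquiv.trans_apply, ← frobenius_def, frobenius_apply_frobeniusEquiv_symm]
  refine ⟨τ, fun i => ?_⟩
  by_contra hi
  set J := Finset.univ.filter fun i : Fin D.rank => ∀ t, σ i t = τ t ^ E i
  have hJ : J ∈ (Finset.univ : Finset (Fin D.rank)).powerset :=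
    Finset.mem_powerset.2 (Finset.subset_univ _)
  obtain ⟨a, ha, b, hb, h1, h2⟩ := hconn J hJ ⟨i₀, Finset.mem_filter.2 ⟨Finset.mem_univ _, hτ⟩⟩
    fun he => hi (Finset.mem_filter.1 (he ▸ Finset.mem_univ i)).2
  exact hb (Finset.mem_filter.2 ⟨Finset.mem_univ _, key a b h1 h2 τ (Finset.mem_filter.1 ha).2⟩)

variable (C) in
/-- the decomposition into inner, diagonal, graph and field automorphisms -/
theorem exists_decomp [Finite K] (hD : D ∈ [chevG2, chevB2, chevD4, chevF4, chevE6, chevE7, chevE8])
    (θ : MulAut ↥(D.group K)) :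
    ∃ (x : ↥(D.group K)) (c : Fin D.rank → Kˣ) (g : MulAut ↥(D.group K)) (τ : K ≃+* K),
      D.IsGraphAut g ∧ ∀ y, θ y = x * C.torAut c (g (C.fieldAut τ y)) * x⁻¹ := by
  obtain ⟨x, c, φ, π, σ, hφ, rfl⟩ := C.exists_std θ
  obtain ⟨τ, hτ⟩ := hφ.exists_sigma (chkBond_all hD) (chkLen_all hD) (connected_all hD)
  refine ⟨x, c, (C.fieldAut τ).symm.trans φ, τ,
    ⟨π, hφ.isDiagramSymmetry (chkBond_all hD), ?_⟩, fun y => by simp⟩
  intro g i t
  have hs : ∀ r : Fin D.nroots, (C.fieldAut τ).symm (C.aX r t) = C.aX r (τ.symm t) := fun r =>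
    (C.fieldAut τ).symm_apply_eq.2 (by rw [C.fieldAut_aX, RingEquiv.apply_symm_apply])
  constructor
  · intro hg
    rw [← C.G.simp_val] at hg
    rw [C.eq_aX_of_val hg, MulEquiv.trans_apply, hs, (hφ i _).1, hτ, RingEquiv.apply_symm_apply,
      ← C.G.simp_val]
    exact C.aX_val _ _
  · intro hg
    rw [← C.G.simp_val, C.G.neg_val] at hg
    rw [C.eq_aX_of_val hg, MulEquiv.trans_apply, hs, (hφ i _).2, hτ, RingEquiv.apply_symm_apply,
      ← C.G.simp_val, C.G.neg_val]
    exact C.aX_val _ _

end Full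

end CfsgLib.Lie.Chev
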