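import Cfsg.Agent.Lib.Lie.Chev.Full

/-!
# The unipotent subgroup `U`: filtration, ordered products, uniqueness

`Uge m` is generated by the root elements of the positive roots with index at least `m`. As the
roots are ordered compatibly with addition, `X_m` normalises `Uge (m + 1)`, which gives the ordered
products; the coefficient of the lowest root is read off from the matrix entry `(h_j, e_{-m})`,
which gives uniqueness.
-/

set_option autoImplicit false

namespace CfsgLib.Lie.Chev

open Cfsg.Lie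
open scoped MatrixGroups

variable {D : ChevalleyDatum}

namespace Good

variable (G : Good D)

/-- the height of a basis vector -/
def hb (b : D.Idx) : ℤ := G.ht (weight D G.rho b)

theorem hb_inl (j : Fin D.rank) : G.hb (Sum.inl j) = 0 := by
  simp [hb, weight, ht]

theorem hb_inr (s : Fin D.nroots) : G.hb (Sum.inr s) = G.ht (G.rho s) := rfl

/-- all off-diagonal entries raise the height by at least `h`, the diagonal is `1` -/
def Raises {K : Type*} [Field K] (h : ℤ) (M : Matrix D.Idx D.Idx K) : Prop :=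
  (∀ i, M i i = 1) ∧ ∀ i j, i ≠ j → M i j ≠ 0 → h ≤ G.hb i - G.hb j

theorem raises_one {K : Type*} [Field K] (h : ℤ) : G.Raises h (1 : Matrix D.Idx D.Idx K) :=
  ⟨fun i => Matrix.one_apply_eq i, fun _ _ hij hne => absurd (Matrix.one_apply_ne hij) hne⟩

theorem Raises.mul {K : Type*} [Field K] {h : ℤ} (hh : 0 < h) {M N : Matrix D.Idx D.Idx K}
    (hM : G.Raises h M) (hN : G.Raises h N) : G.Raises h (M * N) := by
  refine ⟨fun i => ?_, fun i j hij hne => ?_⟩
  · rw [Matrix.mul_apply, Finset.sum_eq_single i]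
    · rw [hM.1, hN.1, one_mul]
    · intro k _ hk
      by_contra hz
      have h1 := hM.2 i k (Ne.symm hk) (left_ne_zero_of_mul hz)
      have h2 := hN.2 k i hk (right_ne_zero_of_mul hz)
      omega
    · simp
  · rw [Matrix.mul_apply] at hne
    obtain ⟨k, -, hk⟩ := Finset.exists_ne_zero_of_sum_ne_zero hne
    by_cases h1 : i = k
    · subst h1; exact hN.2 i j hij (right_ne_zero_of_mul hk)
    · have e1 := hM.2 i k h1 (left_ne_zero_of_mul hk)
      by_cases h2 : k = j
      · subst h2; exact e1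
      · have e2 := hN.2 k j h2 (right_ne_zero_of_mul hk)
        omega

theorem raises_xg {K : Type*} [Field K] {h : ℤ} (hh : 0 < h) {r : Fin D.nroots}
    (hr : h ≤ G.ht (G.rho r)) (t : K) : G.Raises h (xg K r t) := by
  have key : ∀ i j, ∀ k, 1 ≤ k → k < 4 → dmat D r k i j ≠ 0 → h ≤ G.hb i - G.hb j := by
    intro i j k hk1 hk4 hne
    have e := G.weight_eq r k i j hne hk4
    simp only [hb, e, ht_add, ht_smul]
    have : (1 : ℤ) ≤ k := by exact_mod_cast hk1
    nlinarith
  have hcoef : ∀ i j k, 1 ≤ k → k < 4 →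
      coef (act D r.val k (pos D j)) (pos D i) = dmat D r k i j := by
    intro i j k hk1 _
    simp [dmat, show k ≠ 0 by omega]
  refine ⟨fun i => ?_, fun i j hij hne => ?_⟩
  · have hz : ∀ k, 1 ≤ k → k < 4 → coef (act D r.val k (pos D i)) (pos D i) = 0 := fun k hk1 hk4 => by
      by_contra hne
      rw [hcoef i i k hk1 hk4] at hne
      have := key i i k hk1 hk4 hne
      omega
    rw [xg_apply, if_pos rfl, hz 1 le_rfl (by norm_num), hz 2 (by norm_num) (by norm_num),
      hz 3 (by norm_num) (by norm_num)]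
    simp
  · by_contra hlt
    apply hne
    have hz : ∀ k, 1 ≤ k → k < 4 → coef (act D r.val k (pos D j)) (pos D i) = 0 := fun k hk1 hk4 => by
      by_contra hne
      rw [hcoef i j k hk1 hk4] at hne
      exact hlt (key i j k hk1 hk4 hne)
    rw [xg_apply, if_neg hij, hz 1 le_rfl (by norm_num), hz 2 (by norm_num) (by norm_num),
      hz 3 (by norm_num) (by norm_num)]
    simp

variable {K : Type*} [Field K]

/-- the subgroup generated by the positive root elements of index at least `m` -/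
noncomputable def Uge (m : ℕ) : Subgroup (GL D.Idx K) :=
  Subgroup.closure {g | ∃ (r : Fin D.nroots) (t : K), m ≤ r.val ∧ D.IsPosRoot r.val ∧ g = G.xu r t}

theorem xu_mem_Uge {m : ℕ} {r : Fin D.nroots} (hm : m ≤ r.val) (hr : D.IsPosRoot r.val) (t : K) :
    G.xu r t ∈ G.Uge (K := K) m :=
  Subgroup.subset_closure ⟨r, t, hm, hr, rfl⟩

theorem Uge_mono {m m' : ℕ} (h : m ≤ m') : G.Uge (K := K) m' ≤ G.Uge m :=
  (Subgroup.closure_le _).2 fun g ⟨r, t, h1, h2, h3⟩ => h3 ▸ G.xu_mem_Uge (h.trans h1) h2 t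

theorem Uge_top {m : ℕ} (h : D.nroots ≤ m) : G.Uge (K := K) m = ⊥ := by
  rw [eq_bot_iff, Uge, Subgroup.closure_le]
  rintro g ⟨r, t, h1, -, -⟩
  have := r.isLt; omega

theorem posUnipotent_eq : D.posUnipotent K = G.Uge 0 := by
  refine le_antisymm ((Subgroup.closure_le _).2 ?_) ((Subgroup.closure_le _).2 ?_)
  · rintro g ⟨r, t, hr, hg⟩
    have : g = G.xu ⟨r, hr.1⟩ t := Units.ext (hg.trans (G.x_eq_xu ⟨r, hr.1⟩ t))
    exact this ▸ G.xu_mem_Uge (Nat.zero_le _) hr t
  · rintro g ⟨r, t, -, hr, rfl⟩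
    exact Subgroup.subset_closure ⟨r.val, t, hr, (G.x_eq_xu r t).symm⟩

theorem raises_Uge {m : ℕ} {h : ℤ} (hh : 0 < h)
    (hm : ∀ r : Fin D.nroots, m ≤ r.val → D.IsPosRoot r.val → h ≤ G.ht (G.rho r)) {g : GL D.Idx K}
    (hg : g ∈ G.Uge (K := K) m) : G.Raises h (g : Matrix D.Idx D.Idx K) := by
  induction hg using Subgroup.closure_induction_left with
  | one => exact G.raises_one h
  | mul_left x hx y _ ih =>
    obtain ⟨r, t, h1, h2, rfl⟩ := hx
    exact Raises.mul G hh (G.raises_xg hh (hm r h1 h2) t) ih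
  | inv_mul_cancel x hx y _ ih =>
    obtain ⟨r, t, h1, h2, rfl⟩ := hx
    rw [G.xu_inv]
    exact Raises.mul G hh (G.raises_xg hh (hm r h1 h2) (-t)) ih

theorem raises_one_of_pos {g : GL D.Idx K} (hg : g ∈ D.posUnipotent K) :
    G.Raises 1 (g : Matrix D.Idx D.Idx K) := by
  rw [G.posUnipotent_eq] at hg
  refine G.raises_Uge zero_lt_one (fun r _ hr => ?_) hg
  have := (G.isPosRoot_iff r).1 hr
  omega

theorem eq_of_le_ht {r s : Fin D.nroots} (h : r.val < s.val) : G.ht (G.rho r) < G.ht (G.rho s) :=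
  G.ht_lt h

theorem index_lt_of_ht_lt {r s : Fin D.nroots} (h : G.ht (G.rho r) < G.ht (G.rho s)) :
    r.val < s.val := by
  rcases lt_trichotomy r.val s.val with l | l | l
  · exact l
  · rw [Fin.ext l] at h; exact absurd h (lt_irrefl _)
  · exact absurd (G.ht_lt l) (by omega)

/-- the lowest coefficient is visible in the entries `(h_j, e_{-m})` -/
theorem entry_lowest {r : Fin D.nroots} (hr : D.IsPosRoot r.val) (t : K) {v : GL D.Idx K}
    (hv : v ∈ G.Uge (K := K) (r.val + 1)) (j : Fin D.rank) :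
    ((G.xu r t * v : GL D.Idx K) : Matrix D.Idx D.Idx K) (Sum.inl j) (Sum.inr (G.negr r)) =
      t * ((D.coroot.getD r.val #[]).getD j.val 0 : ℤ) := by
  have hpos := (G.isPosRoot_iff r).1 hr
  have hV := G.raises_Uge (h := G.ht (G.rho r) + 1) (by omega) (fun s hs _ => by
    have := G.ht_lt (r := r) (s := s) (by exact Fin.lt_def.2 (by omega))
    omega) hv
  rw [Units.val_mul, Matrix.mul_apply, Finset.sum_eq_single (Sum.inr (G.negr r))]
  · rw [hV.1, mul_one, coe_xu, xg_apply, if_neg (by simp)]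
    have h1 := G.coroot_entry r j
    simp only [dmat, Matrix.of_apply, if_neg one_ne_zero] at h1
    have h2 : ∀ k, 2 ≤ k → k < 4 →
        coef (act D r.val k (pos D (Sum.inr (G.negr r)))) (pos D (Sum.inl j)) = 0 := by
      intro k hk hk4
      by_contra hne
      have hd : dmat D r k (Sum.inl j) (Sum.inr (G.negr r)) ≠ 0 := by
        simpa [dmat, show k ≠ 0 by omega] using hne
      have e := congrArg G.ht (G.weight_eq r k _ _ hd hk4)
      simp only [weight, Sum.elim_inl, Sum.elim_inr, ht_add, ht_smul, G.rho_negr, ht_neg] at e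
      have : (2 : ℤ) ≤ k := by exact_mod_cast hk
      have h0 : G.ht (0 : Fin D.rank → ℤ) = 0 := by simp [ht]
      rw [h0] at e
      nlinarith
    rw [h1, h2 2 le_rfl (by norm_num), h2 3 (by norm_num) (by norm_num)]
    simp
  · intro c _ hc
    by_contra hne
    have e1 := hV.2 c (Sum.inr (G.negr r)) hc (right_ne_zero_of_mul hne)
    rw [hb_inr, G.rho_negr, ht_neg] at e1
    have hx := (G.raises_xg (K := K) hpos le_rfl t)
    by_cases hcj : Sum.inl j = c
    · subst hcj; rw [hb_inl] at e1; omega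
    · have e2 := hx.2 (Sum.inl j) c hcj (left_ne_zero_of_mul hne)
      rw [hb_inl] at e2
      omega
  · simp

theorem lowest_unique {r : Fin D.nroots} (hr : D.IsPosRoot r.val) {t t' : K} {v v' : GL D.Idx K}
    (hv : v ∈ G.Uge (K := K) (r.val + 1)) (hv' : v' ∈ G.Uge (K := K) (r.val + 1))
    (h : G.xu r t * v = G.xu r t' * v') : t = t' ∧ v = v' := by
  have key : ∀ j : Fin D.rank, (t - t') * ((D.coroot.getD r.val #[]).getD j.val 0 : ℤ) = 0 := by
    intro j
    rw [sub_mul, ← G.entry_lowest hr t hv j, ← G.entry_lowest hr t' hv' j, h, sub_self]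
  obtain ⟨c, hc⟩ := G.coroot_gcd r
  have hsum : (t - t') * ((∑ j, c j * (D.coroot.getD r.val #[]).getD j.val 0 : ℤ) : K) = 0 := by
    push_cast
    rw [Finset.mul_sum]
    exact Finset.sum_eq_zero fun j _ => by rw [mul_left_comm, key j, mul_zero]
  rw [hc, Int.cast_one, mul_one, sub_eq_zero] at hsum
  subst hsum
  exact ⟨rfl, mul_left_cancel h⟩

end Good

namespace Full

variable (C : Full D) {K : Type*} [Field K]

include C

theorem rho_combo_index {r s q : Fin D.nroots} (hr : D.IsPosRoot r.val) (hs : D.IsPosRoot s.val)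
    {i j : ℕ} (hi : 1 ≤ i) (hj : 1 ≤ j)
    (hq : C.G.rho q = (i : ℤ) • C.G.rho r + (j : ℤ) • C.G.rho s) :
    D.IsPosRoot q.val ∧ r.val < q.val ∧ s.val < q.val := by
  have h1 := (C.G.isPosRoot_iff r).1 hr
  have h2 := (C.G.isPosRoot_iff s).1 hs
  have e : C.G.ht (C.G.rho q) = i * C.G.ht (C.G.rho r) + j * C.G.ht (C.G.rho s) := by
    rw [hq, Good.ht_add, Good.ht_smul, Good.ht_smul]
  have hi' : (1 : ℤ) ≤ i := by exact_mod_cast hi
  have hj' : (1 : ℤ) ≤ j := by exact_mod_cast hj
  exact ⟨(C.G.isPosRoot_iff q).2 (by nlinarith), C.G.index_lt_of_ht_lt (by nlinarith),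
    C.G.index_lt_of_ht_lt (by nlinarith)⟩

theorem pos_ne_negr {r s : Fin D.nroots} (hr : D.IsPosRoot r.val) (hs : D.IsPosRoot s.val) :
    s ≠ C.G.negr r := fun e => by
  rw [e, C.G.negr_pos_iff] at hs; exact hs hr

/-- the commutator of two positive root elements lies above both roots -/
theorem comm_mem {r s : Fin D.nroots} (hr : D.IsPosRoot r.val) (hs : D.IsPosRoot s.val) (t u : K) :
    (C.G.xu s u)⁻¹ * ((C.G.xu r t)⁻¹ * C.G.xu s u * C.G.xu r t) ∈
      C.G.Uge (K := K) (max r.val s.val + 1) := by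
  by_cases hsr : s = r
  · subst hsr
    rw [C.G.xu_inv, C.G.xu_inv, ← C.G.xu_add, ← C.G.xu_add, ← C.G.xu_add]
    rw [show -u + (-t + u + t) = 0 by ring, C.G.xu_zero]
    exact one_mem _
  · obtain ⟨l, hl, e⟩ := C.conj_xu r s hsr (C.pos_ne_negr hr hs) t u
    rw [e, ← mul_assoc, inv_mul_cancel, one_mul]
    refine list_prod_mem fun x hx => ?_
    obtain ⟨p, hp, rfl⟩ := List.mem_map.1 hx
    obtain ⟨i, j, hi, hj, hq⟩ := hl p hp
    obtain ⟨h1, h2, h3⟩ := C.rho_combo_index hr hs hi hj hq
    exact C.G.xu_mem_Uge (by omega) h1 _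

/-- positive root elements normalise the filtration -/
theorem Uge_normal {m : ℕ} {g : GL D.Idx K} (hg : g ∈ C.G.Uge (K := K) 0) :
    g ∈ Subgroup.normalizer (C.G.Uge (K := K) m : Set (GL D.Idx K)) := by
  induction hg using Subgroup.closure_induction with
  | one => exact one_mem _
  | mul a b _ _ ha hb => exact mul_mem ha hb
  | inv a _ ha => exact inv_mem ha
  | mem x hx =>
    obtain ⟨r, t, -, hr, rfl⟩ := hx
    have key : ∀ t : K, ∀ v ∈ C.G.Uge (K := K) m, C.G.xu r t * v * (C.G.xu r t)⁻¹ ∈ C.G.Uge m := by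
      intro t v hv
      induction hv using Subgroup.closure_induction with
      | one => simp
      | mul a b _ _ ha hb =>
        have : C.G.xu r t * (a * b) * (C.G.xu r t)⁻¹ =
          (C.G.xu r t * a * (C.G.xu r t)⁻¹) * (C.G.xu r t * b * (C.G.xu r t)⁻¹) := by group
        rw [this]; exact mul_mem ha hb
      | inv a _ ha =>
        have : C.G.xu r t * a⁻¹ * (C.G.xu r t)⁻¹ = (C.G.xu r t * a * (C.G.xu r t)⁻¹)⁻¹ := by group
        rw [this]; exact inv_mem ha
      | mem y hy =>
        obtain ⟨s, u, hms, hs, rfl⟩ := hy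
        have h := C.comm_mem hr hs (-t) u
        rw [C.G.xu_inv r (-t), neg_neg, ← C.G.xu_inv r t] at h
        have := mul_mem (C.G.xu_mem_Uge hms hs u) (C.G.Uge_mono (K := K) (by omega) h)
        rwa [mul_inv_cancel_left] at this
    rw [Subgroup.mem_normalizer_iff]
    intro v
    refine ⟨key t v, fun hv => ?_⟩
    have := key (-t) _ hv
    rw [← C.G.xu_inv] at this
    simpa [mul_assoc] using this

/-- an element of `Uge m` is `x_m(t)` times an element of `Uge (m + 1)` -/
theorem Uge_step {r : Fin D.nroots} (hr : D.IsPosRoot r.val) {g : GL D.Idx K}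
    (hg : g ∈ C.G.Uge (K := K) r.val) :
    ∃ t : K, ∃ v ∈ C.G.Uge (K := K) (r.val + 1), g = C.G.xu r t * v := by
  induction hg using Subgroup.closure_induction_left with
  | one => exact ⟨0, 1, one_mem _, by rw [C.G.xu_zero, mul_one]⟩
  | mul_left x hx y _ ih =>
    obtain ⟨t, v, hv, rfl⟩ := ih
    obtain ⟨s, u, hs1, hs2, rfl⟩ := hx
    by_cases hsr : s = r
    · subst hsr; exact ⟨u + t, v, hv, by rw [C.G.xu_add, mul_assoc]⟩
    · have hs' : r.val + 1 ≤ s.val := by
        rcases Nat.lt_or_eq_of_le hs1 with h | h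
        · omega
        · exact absurd (Fin.ext h.symm) hsr
      refine ⟨t, ((C.G.xu r t)⁻¹ * C.G.xu s u * C.G.xu r t) * v, mul_mem ?_ hv, by group⟩
      have h := Subgroup.mem_normalizer_iff.1
        (inv_mem (C.Uge_normal (m := r.val + 1) (C.G.xu_mem_Uge (Nat.zero_le _) hr t)))
        (C.G.xu s u)
      have := h.1 (C.G.xu_mem_Uge hs' hs2 u)
      simpa using this
  | inv_mul_cancel x hx y _ ih =>
    obtain ⟨t, v, hv, rfl⟩ := ih
    obtain ⟨s, u, hs1, hs2, rfl⟩ := hx
    by_cases hsr : s = r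
    · subst hsr; exact ⟨-u + t, v, hv, by rw [C.G.xu_inv, C.G.xu_add, mul_assoc]⟩
    · have hs' : r.val + 1 ≤ s.val := by
        rcases Nat.lt_or_eq_of_le hs1 with h | h
        · omega
        · exact absurd (Fin.ext h.symm) hsr
      refine ⟨t, ((C.G.xu r t)⁻¹ * (C.G.xu s u)⁻¹ * C.G.xu r t) * v, mul_mem ?_ hv, by group⟩
      have h := Subgroup.mem_normalizer_iff.1
        (inv_mem (C.Uge_normal (m := r.val + 1) (C.G.xu_mem_Uge (Nat.zero_le _) hr t)))
        (C.G.xu s u)⁻¹
      have := h.1 (inv_mem (C.G.xu_mem_Uge hs' hs2 u))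
      simpa using this

theorem Uge_skip {m : ℕ} (hm : ¬ D.IsPosRoot m) : C.G.Uge (K := K) m = C.G.Uge (m + 1) := by
  refine le_antisymm ((Subgroup.closure_le _).2 ?_) (C.G.Uge_mono (Nat.le_succ m))
  rintro g ⟨r, t, h1, h2, rfl⟩
  rcases Nat.lt_or_eq_of_le h1 with h | h
  · exact C.G.xu_mem_Uge h h2 t
  · exact absurd (h ▸ h2) hm

/-- the product over the positive roots with index at least `m`, in increasing order -/
noncomputable def uprod (m : ℕ) (t : Fin D.nroots → K) : GL D.Idx K :=
  ((List.finRange D.nroots).filter fun r => decide (m ≤ r.val ∧ D.IsPosRoot r.val)).map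
    (fun r => C.G.xu r (t r)) |>.prod

theorem filter_step {m : ℕ} (hm : m < D.nroots) :
    ((List.finRange D.nroots).filter fun r => decide (m ≤ r.val ∧ D.IsPosRoot r.val)) =
      (if D.IsPosRoot m then [(⟨m, hm⟩ : Fin D.nroots)] else []) ++
      ((List.finRange D.nroots).filter fun r => decide (m + 1 ≤ r.val ∧ D.IsPosRoot r.val)) := by
  apply List.Pairwise.eq_of_mem_iff (r := (· < ·))
  · exact (List.pairwise_lt_finRange _).filter _
  · rw [List.pairwise_append]
    refine ⟨by split_ifs <;> simp, (List.pairwise_lt_finRange _).filter _, ?_⟩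
    intro a ha b hb
    simp only [List.mem_filter, decide_eq_true_eq] at hb
    split_ifs at ha <;> simp at ha
    subst ha
    exact Fin.lt_def.2 (by simp only; omega)
  · intro a
    simp only [List.mem_filter, List.mem_finRange, true_and, decide_eq_true_eq, List.mem_append]
    constructor
    · rintro ⟨h1, h2⟩
      rcases Nat.lt_or_eq_of_le h1 with h | h
      · exact Or.inr ⟨h, h2⟩
      · left
        rw [if_pos (h ▸ h2)]
        exact List.mem_singleton.2 (Fin.ext h.symm)
    · rintro (h | ⟨h1, h2⟩)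
      · split_ifs at h with hp <;> simp at h
        subst h
        exact ⟨le_rfl, hp⟩
      · exact ⟨by omega, h2⟩

theorem uprod_of_ge {m : ℕ} (hm : D.nroots ≤ m) (t : Fin D.nroots → K) : C.uprod m t = 1 := by
  rw [uprod, List.filter_eq_nil_iff.2]
  · rfl
  · intro r _
    have := r.isLt
    simp only [decide_eq_true_eq]
    omega

theorem uprod_step {m : ℕ} (hm : m < D.nroots) (hp : D.IsPosRoot m) (t : Fin D.nroots → K) :
    C.uprod m t = C.G.xu ⟨m, hm⟩ (t ⟨m, hm⟩) * C.uprod (m + 1) t := by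
  rw [uprod, C.filter_step hm, if_pos hp]
  rfl

theorem uprod_skip {m : ℕ} (hm : m < D.nroots) (hp : ¬ D.IsPosRoot m) (t : Fin D.nroots → K) :
    C.uprod m t = C.uprod (m + 1) t := by
  rw [uprod, C.filter_step hm, if_neg hp]
  rfl

theorem uprod_congr {m : ℕ} {t t' : Fin D.nroots → K}
    (h : ∀ r : Fin D.nroots, m ≤ r.val → D.IsPosRoot r.val → t r = t' r) :
    C.uprod m t = C.uprod m t' := by
  simp only [uprod]
  congr 1
  refine List.map_congr_left fun r hr => ?_
  simp only [List.mem_filter, decide_eq_true_eq] at hr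
  rw [h r hr.2.1 hr.2.2]

theorem uprod_mem (m : ℕ) (t : Fin D.nroots → K) : C.uprod m t ∈ C.G.Uge (K := K) m := by
  refine list_prod_mem fun x hx => ?_
  obtain ⟨r, hr, rfl⟩ := List.mem_map.1 hx
  simp only [List.mem_filter, decide_eq_true_eq] at hr
  exact C.G.xu_mem_Uge hr.2.1 hr.2.2 _

theorem exists_uprod : ∀ (d m : ℕ), m + d = D.nroots → ∀ g ∈ C.G.Uge (K := K) m,
    ∃ t : Fin D.nroots → K, g = C.uprod m t := by
  intro d
  induction d with
  | zero =>
    intro m hm g hg
    refine ⟨0, ?_⟩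
    rw [C.G.Uge_top (by omega)] at hg
    rw [Subgroup.mem_bot.1 hg, C.uprod_of_ge (by omega)]
  | succ d ih =>
    intro m hm g hg
    by_cases hp : D.IsPosRoot m
    · obtain ⟨t, v, hv, rfl⟩ := C.Uge_step (r := ⟨m, by omega⟩) hp hg
      obtain ⟨u, hu⟩ := ih (m + 1) (by omega) v hv
      refine ⟨Function.update u ⟨m, by omega⟩ t, ?_⟩
      rw [C.uprod_step (by omega) hp, Function.update_self, hu]
      congr 1
      refine C.uprod_congr fun r hr _ => ?_
      rw [Function.update_of_ne]
      intro e; subst e; simp at hr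
    · rw [C.Uge_skip hp] at hg
      obtain ⟨u, hu⟩ := ih (m + 1) (by omega) g hg
      exact ⟨u, by rw [C.uprod_skip (by omega) hp, hu]⟩

theorem uprod_inj : ∀ (d m : ℕ), m + d = D.nroots → ∀ t t' : Fin D.nroots → K,
    C.uprod m t = C.uprod m t' → ∀ r : Fin D.nroots, m ≤ r.val → D.IsPosRoot r.val → t r = t' r := by
  intro d
  induction d with
  | zero => intro m hm t t' _ r hr; have := r.isLt; omega
  | succ d ih =>
    intro m hm t t' h r hr hp
    by_cases hpm : D.IsPosRoot m
    · rw [C.uprod_step (by omega) hpm, C.uprod_step (by omega) hpm] at h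
      obtain ⟨e1, e2⟩ := C.G.lowest_unique (r := ⟨m, by omega⟩) hpm (C.uprod_mem _ t) (C.uprod_mem _ t') h
      rcases Nat.lt_or_eq_of_le hr with hl | hl
      · exact ih (m + 1) (by omega) t t' e2 r hl hp
      · rw [show r = ⟨m, by omega⟩ from Fin.ext hl.symm]; exact e1
    · rw [C.uprod_skip (by omega) hpm, C.uprod_skip (by omega) hpm] at h
      refine ih (m + 1) (by omega) t t' h r ?_ hp
      rcases Nat.lt_or_eq_of_le hr with hl | hl
      · exact hl
      · exact absurd (hl ▸ hp) hpm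

theorem wordMat_uprod (t : ℕ → K) :
    D.wordMat K (D.posRoots.map fun r => (r, t r)) =
      (C.uprod 0 (fun r => t r.val) : Matrix D.Idx D.Idx K) := by
  have e : D.posRoots = ((List.finRange D.nroots).filter
      fun r => decide (0 ≤ r.val ∧ D.IsPosRoot r.val)).map Fin.val := by
    rw [ChevalleyDatum.posRoots, ← List.map_coe_finRange_eq_range, List.filter_map]
    congr 1
    refine List.filter_congr fun r _ => ?_
    simp
  rw [e, ChevalleyDatum.wordMat, uprod, ← Units.coeHom_apply, map_list_prod, List.map_map,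
    List.map_map, List.map_map]
  congr 1
  exact List.map_congr_left fun r _ => C.G.x_eq_xu r (t r.val)

end Full

end CfsgLib.Lie.Chev
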