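import Cfsg.Agent.Lib.Lie.Chev.ParabLevi
import Cfsg.Agent.Lib.Lie.Chev.Poincare

/-!
# Minimal coset and double coset representatives in the Weyl group

These are phrased in terms of the action on the fundamental roots.
-/

set_option autoImplicit false

namespace CfsgLib.Lie.Chev

open Cfsg.Lie

variable {D : ChevalleyDatum}

/-- all fundamental roots of `J` stay positive -/
def Up (G : Good D) (J : Finset (Fin D.rank)) (w : Equiv.Perm (Fin D.nroots)) : Prop :=
  ∀ j ∈ J, D.IsPosRoot (w (G.simp' j)).val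

/-- all fundamental roots of `J` become negative -/
def Down (G : Good D) (J : Finset (Fin D.rank)) (w : Equiv.Perm (Fin D.nroots)) : Prop :=
  ∀ j ∈ J, ¬ D.IsPosRoot (w (G.simp' j)).val

namespace Good

variable (G : Good D)

include G

theorem WJ_le (J : Finset (Fin D.rank)) : WJ G J ≤ G.Wg :=
  G.WJ_univ ▸ Subgroup.closure_mono (Set.image_mono (Finset.coe_subset.2 (Finset.subset_univ J)))

theorem WJ_mono {J L : Finset (Fin D.rank)} (h : L ⊆ J) : WJ G L ≤ WJ G J :=
  Subgroup.closure_mono (Set.image_mono (Finset.coe_subset.2 h))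

theorem negr_WJ {w : Equiv.Perm (Fin D.nroots)} (hw : w ∈ G.Wg) (r : Fin D.nroots) :
    w (G.negr r) = G.negr (w r) := by
  obtain ⟨l, rfl⟩ := G.exists_pw hw
  exact G.pw_negr l r

theorem inJ_image {J : Finset (Fin D.rank)} {a : Equiv.Perm (Fin D.nroots)} (ha : a ∈ WJ G J)
    {r : Fin D.nroots} (hr : InJ G J r) : InJ G J (a r) := by
  obtain ⟨l, hl, rfl⟩ := G.exists_pwJ ha
  intro m hm
  rw [G.rho_pw_outside J l hl r m hm, hr m hm]

theorem outside_image {J : Finset (Fin D.rank)} {a : Equiv.Perm (Fin D.nroots)} (ha : a ∈ WJ G J)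
    {r : Fin D.nroots} (hr : ¬ InJ G J r) :
    ¬ InJ G J (a r) ∧ (D.IsPosRoot (a r).val ↔ D.IsPosRoot r.val) := by
  obtain ⟨l, hl, rfl⟩ := G.exists_pwJ ha
  obtain ⟨m, hm, hm0⟩ : ∃ m, m ∉ J ∧ G.rho r m ≠ 0 := by
    by_contra h
    push Not at h
    exact hr h
  have e := G.rho_pw_outside J l hl r m hm
  refine ⟨fun h => hm0 (e ▸ h m hm), ?_⟩
  constructor
  · intro h
    have h1 := G.rho_nonneg h m
    rw [e] at h1
    exact G.isPosRoot_of_coord (lt_of_le_of_ne h1 (Ne.symm hm0))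
  · intro h
    have h1 := lt_of_le_of_ne (G.rho_nonneg h m) (Ne.symm hm0)
    rw [← e] at h1
    exact G.isPosRoot_of_coord h1

theorem up_sign {J : Finset (Fin D.rank)} {w : Equiv.Perm (Fin D.nroots)} (hw : w ∈ G.Wg)
    (hu : Up G J w) {r : Fin D.nroots} (hr : InJ G J r) :
    D.IsPosRoot (w r).val ↔ D.IsPosRoot r.val := by
  obtain ⟨l, rfl⟩ := G.exists_pw hw
  exact G.keep_signJ hu hr

theorem down_sign {J : Finset (Fin D.rank)} {w : Equiv.Perm (Fin D.nroots)} (hw : w ∈ G.Wg)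
    (hd : Down G J w) {r : Fin D.nroots} (hr : InJ G J r) :
    D.IsPosRoot (w r).val ↔ ¬ D.IsPosRoot r.val := by
  obtain ⟨l, rfl⟩ := G.exists_pw hw
  have key : ∀ s : Fin D.nroots, InJ G J s → D.IsPosRoot s.val →
      ¬ D.IsPosRoot (G.pw l s).val := by
    intro s hs hp hc
    rw [G.isPosRoot_iff, G.rho_pw] at hc
    have hsum : G.ht (∑ j, G.rho s j • G.rho (G.pw l (G.simp' j))) =
        ∑ j, G.rho s j * G.ht (G.rho (G.pw l (G.simp' j))) := by
      induction (Finset.univ : Finset (Fin D.rank)) using Finset.induction with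
      | empty => simpa using G.ht_smul 0 0
      | insert a t ha ih => rw [Finset.sum_insert ha, Finset.sum_insert ha, G.ht_add, ih, G.ht_smul]
    rw [hsum] at hc
    refine absurd hc (not_lt.2 (Finset.sum_nonpos fun j _ => ?_))
    by_cases hj : j ∈ J
    · refine mul_nonpos_of_nonneg_of_nonpos (G.rho_nonneg hp j) ?_
      have := hd j hj
      rw [G.isPosRoot_iff] at this
      omega
    · rw [hs j hj, zero_mul]
  refine ⟨fun h hr' => key r hr hr' h, fun h => ?_⟩
  have := key (G.negr r) (fun m hm => by rw [G.rho_negr, Pi.neg_apply, hr m hm, neg_zero])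
    ((G.negr_pos_iff r).2 h)
  rw [G.pw_negr, G.negr_pos_iff, not_not] at this
  exact this

theorem inJ_simp_self {J : Finset (Fin D.rank)} {j : Fin D.rank} (hj : j ∈ J) :
    InJ G J (G.simp' j) := fun m hm => by
  rw [G.rho_simp, Pi.single_eq_of_ne (show m ≠ j from fun e => hm (e ▸ hj))]

theorem ninv_mul_sP {w : Equiv.Perm (Fin D.nroots)} (hw : w ∈ G.Wg) {k : Fin D.rank}
    (hk : D.IsPosRoot (w (G.simp' k)).val) : ninv G w < ninv G (w * G.sP k) := by
  classical
  obtain ⟨l, rfl⟩ := G.exists_pw hw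
  rw [← G.pw_single k, G.ninv_mul (J := {k}) (lu := l) (lv := [k])
    (fun j hj => by rw [Finset.mem_singleton] at hj; exact hj ▸ hk) (by simp), G.pw_single]
  refine Nat.lt_add_of_pos_right (Finset.card_pos.2 ⟨G.simp' k, ?_⟩)
  refine Finset.mem_filter.2 ⟨Finset.mem_univ _, G.simp_pos k, ?_⟩
  rw [sP_apply, G.w_simp]
  exact G.negr_simp_not_pos k

theorem ninv_mul_sP_lt {w : Equiv.Perm (Fin D.nroots)} (hw : w ∈ G.Wg) {k : Fin D.rank}
    (hk : ¬ D.IsPosRoot (w (G.simp' k)).val) : ninv G (w * G.sP k) < ninv G w := by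
  have h := G.ninv_mul_sP (w := w * G.sP k) (k := k)
    (mul_mem hw (G.WJ_le _ (G.sP_mem_WJ (Finset.mem_singleton_self k)))) (by
      rw [Equiv.Perm.mul_apply, sP_apply, G.w_simp, G.negr_WJ hw, G.negr_pos_iff]
      exact hk)
  rwa [mul_assoc, G.sP_mul_self, mul_one] at h

theorem up_mul_ninv {J : Finset (Fin D.rank)} {w a : Equiv.Perm (Fin D.nroots)} (hw : w ∈ G.Wg)
    (hu : Up G J w) (ha : a ∈ WJ G J) : ninv G (w * a) = ninv G w + ninv G a := by
  obtain ⟨l, rfl⟩ := G.exists_pw hw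
  obtain ⟨la, hla, rfl⟩ := G.exists_pwJ ha
  exact G.ninv_mul hu hla

theorem eq_one_of_up_mul {J : Finset (Fin D.rank)} {w a : Equiv.Perm (Fin D.nroots)} (hw : w ∈ G.Wg)
    (hu : Up G J w) (ha : a ∈ WJ G J) (hu' : Up G J (w * a)) : a = 1 := by
  obtain ⟨la, hla, rfl⟩ := G.exists_pwJ ha
  refine G.pw_eq_one_of_posJ J la.length la rfl hla fun j hj => ?_
  exact (G.up_sign hw hu (G.inJ_image ha (G.inJ_simp_self hj))).1 (hu' j hj)

theorem exists_up_decomp (J : Finset (Fin D.rank)) {v : Equiv.Perm (Fin D.nroots)} (hv : v ∈ G.Wg) :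
    ∃ w a, v = w * a ∧ a ∈ WJ G J ∧ w ∈ G.Wg ∧ Up G J w := by
  classical
  have hne : (Finset.univ.filter fun a => a ∈ WJ G J).Nonempty := ⟨1, by simp⟩
  obtain ⟨a, ha, hmin⟩ := Finset.exists_min_image _ (fun a => ninv G (v * a)) hne
  rw [Finset.mem_filter] at ha
  refine ⟨v * a, a⁻¹, by rw [mul_inv_cancel_right], inv_mem ha.2, mul_mem hv (G.WJ_le J ha.2),
    fun j hj => ?_⟩
  by_contra hc
  have h1 := G.ninv_mul_sP_lt (mul_mem hv (G.WJ_le J ha.2)) hc
  have h2 := hmin (a * G.sP j) (Finset.mem_filter.2 ⟨Finset.mem_univ _, mul_mem ha.2 (G.sP_mem_WJ hj)⟩)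
  rw [← mul_assoc] at h2
  omega

theorem exists_down (J : Finset (Fin D.rank)) : ∃ w, w ∈ WJ G J ∧ Down G J w := by
  classical
  have hne : (Finset.univ.filter fun a => a ∈ WJ G J).Nonempty := ⟨1, by simp⟩
  obtain ⟨a, ha, hmax⟩ := Finset.exists_max_image _ (fun a => ninv G a) hne
  rw [Finset.mem_filter] at ha
  refine ⟨a, ha.2, fun j hj hp => ?_⟩
  have h1 := G.ninv_mul_sP (G.WJ_le J ha.2) hp
  have h2 := hmax (a * G.sP j) (Finset.mem_filter.2 ⟨Finset.mem_univ _, mul_mem ha.2 (G.sP_mem_WJ hj)⟩)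
  omega

/-- the longest element of a parabolic subgroup -/
noncomputable def wtop (J : Finset (Fin D.rank)) : Equiv.Perm (Fin D.nroots) :=
  (G.exists_down J).choose

theorem wtop_mem (J : Finset (Fin D.rank)) : G.wtop J ∈ WJ G J := (G.exists_down J).choose_spec.1

theorem wtop_down (J : Finset (Fin D.rank)) : Down G J (G.wtop J) := (G.exists_down J).choose_spec.2

theorem down_unique {J : Finset (Fin D.rank)} {w w' : Equiv.Perm (Fin D.nroots)} (hw : w ∈ WJ G J)
    (hw' : w' ∈ WJ G J) (hd : Down G J w) (hd' : Down G J w') : w = w' := by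
  have ha : w⁻¹ * w' ∈ WJ G J := mul_mem (inv_mem hw) hw'
  obtain ⟨la, hla, e⟩ := G.exists_pwJ ha
  have h : G.pw la = 1 := by
    refine G.pw_eq_one_of_posJ J la.length la rfl hla fun j hj => ?_
    rw [e]
    by_contra hc
    refine hd' j hj ?_
    have h1 := (G.down_sign (G.WJ_le J hw) hd
      (G.inJ_image ha (G.inJ_simp_self hj))).2 hc
    rwa [Equiv.Perm.mul_apply, show w (w⁻¹ (w' (G.simp' j))) = w' (G.simp' j) from
      w.apply_symm_apply _] at h1
  rw [e, inv_mul_eq_one] at h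
  exact h

theorem up_univ_eq_one {w : Equiv.Perm (Fin D.nroots)} (hw : w ∈ G.Wg)
    (hu : Up G Finset.univ w) : w = 1 := by
  obtain ⟨l, rfl⟩ := G.exists_pw hw
  exact G.pw_eq_one_of_pos l.length l rfl fun j => hu j (Finset.mem_univ j)

theorem inJ_univ (r : Fin D.nroots) : InJ G Finset.univ r := fun m hm => absurd (Finset.mem_univ m) hm

theorem wtop_univ_inv : Down G Finset.univ (G.wtop Finset.univ)⁻¹ := by
  intro j _ hp
  have hw := G.WJ_le _ (G.wtop_mem Finset.univ)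
  have h := G.down_sign hw (G.wtop_down Finset.univ)
    (G.inJ_univ ((G.wtop Finset.univ)⁻¹ (G.simp' j)))
  rw [show (G.wtop Finset.univ) ((G.wtop Finset.univ)⁻¹ (G.simp' j)) = G.simp' j from
    Equiv.apply_symm_apply _ _] at h
  exact h.1 (G.simp_pos j) hp

/-- `ninv` of the longest element of a parabolic subgroup counts its positive roots -/
theorem ninv_wtop_univ : ninv G (G.wtop Finset.univ) =
    Fintype.card {r : Fin D.nroots // D.IsPosRoot r.val} := by
  classical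
  rw [ninv, Fintype.card_subtype]
  congr 1
  refine Finset.filter_congr fun r _ => ⟨And.left, fun h => ⟨h, fun h' => ?_⟩⟩
  exact (G.down_sign (G.WJ_le _ (G.wtop_mem _)) (G.wtop_down _) (G.inJ_univ r)).1 h' h

theorem down_iff {J : Finset (Fin D.rank)} {x : Equiv.Perm (Fin D.nroots)} (hx : x ∈ G.Wg) :
    Down G J x ↔ Up G J (x * (G.wtop J)⁻¹) := by
  have hi : (G.wtop J)⁻¹ ∈ WJ G J := inv_mem (G.wtop_mem J)
  have hneg : ∀ j ∈ J, ¬ D.IsPosRoot ((G.wtop J)⁻¹ (G.simp' j)).val := by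
    intro j hj hp
    have h := G.down_sign (G.WJ_le J (G.wtop_mem J)) (G.wtop_down J)
      (G.inJ_image hi (G.inJ_simp_self hj))
    rw [show G.wtop J ((G.wtop J)⁻¹ (G.simp' j)) = G.simp' j from Equiv.apply_symm_apply _ _] at h
    exact h.1 (G.simp_pos j) hp
  constructor
  · intro hd j hj
    rw [Equiv.Perm.mul_apply]
    exact (G.down_sign hx hd (G.inJ_image hi (G.inJ_simp_self hj))).2 (hneg j hj)
  · intro hu j hj hp
    have h := G.up_sign (mul_mem hx (G.WJ_le J hi)) hu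
      (G.inJ_image (G.wtop_mem J) (G.inJ_simp_self hj))
    rw [Equiv.Perm.mul_apply, show (G.wtop J)⁻¹ (G.wtop J (G.simp' j)) = G.simp' j from
      Equiv.symm_apply_apply _ _] at h
    exact G.wtop_down J j hj (h.1 hp)

/-- a root of the parabolic subsystem is conjugate to a fundamental root -/
theorem exists_inJ_orbit (J : Finset (Fin D.rank)) {r : Fin D.nroots} (hr : InJ G J r) :
    ∃ c ∈ WJ G J, ∃ j ∈ J, r = c (G.simp' j) := by
  have key : ∀ r : Fin D.nroots, InJ G J r → D.IsPosRoot r.val →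
      ∃ c ∈ WJ G J, ∃ j ∈ J, r = c (G.simp' j) := by
    intro r hr hp
    have h1 := G.down_sign (G.WJ_le J (G.wtop_mem J)) (G.wtop_down J) hr
    obtain ⟨l, hl, e⟩ := G.exists_pwJ (G.wtop_mem J)
    obtain ⟨l₁, i, l₂, hl', e2⟩ := G.exists_delete l r hp (e ▸ fun h => h1.1 h hp)
    have hi : i ∈ J := hl i (by simp [hl'])
    have hl₂ : G.pw l₂ ∈ WJ G J := by
      refine list_prod_mem fun x hx => ?_
      obtain ⟨y, hy, rfl⟩ := List.mem_map.1 hx
      exact G.sP_mem_WJ (hl y (by simp [hl', hy]))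
    exact ⟨(G.pw l₂)⁻¹, inv_mem hl₂, i, hi, by rw [← e2]; exact (Equiv.symm_apply_apply _ _).symm⟩
  by_cases hp : D.IsPosRoot r.val
  · exact key r hr hp
  · obtain ⟨c, hc, j, hj, e⟩ := key (G.negr r)
      (fun m hm => by rw [G.rho_negr, Pi.neg_apply, hr m hm, neg_zero]) ((G.negr_pos_iff r).2 hp)
    refine ⟨c * G.sP j, mul_mem hc (G.sP_mem_WJ hj), j, hj, ?_⟩
    rw [Equiv.Perm.mul_apply, sP_apply, G.w_simp, G.negr_WJ (G.WJ_le J hc), ← e, G.negr_negr]

end Good

end CfsgLib.Lie.Chev
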