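import Cfsg.Agent.Lib.Lie.Chev.ParabLevi
import Cfsg.Agent.Lib.Lie.Chev.StWeyl
import Cfsg.Agent.Lib.Lie.Chev.StCells

/-!
# The centralizer of the unipotent radical in a standard parabolic subgroup

For a proper set `J` of fundamental roots the centralizer of `U_J` in `P_J` lies in `U_J`, over
every field.  The proof works with the ordering functional of the roots: a cell `B n_w B` with an
element centralizing `U_J` has `w = 1`, then the torus part is trivial, then the Levi part of the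
unipotent element vanishes.
-/

set_option autoImplicit false
set_option maxRecDepth 100000

namespace CfsgLib.Lie.Chev

open Cfsg.Lie
open scoped MatrixGroups

variable {D : ChevalleyDatum} {K : Type*} [Field K]

/-- every positive root off a node is joined by a unit structure constant to a root through it -/
def chkPairOut (D : ChevalleyDatum) : Bool :=
  (List.range D.nroots).all fun a => !decide (D.IsPosRoot a) || (List.range D.rank).all fun m =>
    !decide (crc D a m = 0) || (List.range D.nroots).any fun r =>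
      decide (crc D r m ≠ 0) && (decide (D.IsPosRoot r) &&
        ((D.chainRoot a r 1).isSome && (D.chainM a r 1).natAbs == 1))

theorem chkPairOut_all
    (hD : D ∈ [chevG2, chevB2, chevD4, chevF4, chevE6, chevE7, chevE8]) : chkPairOut D = true := by
  simp only [List.mem_cons, List.not_mem_nil, or_false] at hD
  rcases hD with rfl | rfl | rfl | rfl | rfl | rfl | rfl <;> decide +kernel

/-- the weight of a root outside the set -/
def outR (G : Good D) (J : Finset (Fin D.rank)) (r : Fin D.nroots) : ℤ := ∑ m ∈ Jᶜ, G.rho r m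

/-- the subgroup generated by the root subgroups of the roots with a property -/
noncomputable def ClP (G : Good D) (P : Fin D.nroots → Prop) : Subgroup (GL D.Idx K) :=
  Subgroup.closure {g | ∃ r t, P r ∧ g = G.xu r t}

/-- the roots above `q` in one of the two gradings -/
def Above (G : Good D) (J : Finset (Fin D.rank)) (q s : Fin D.nroots) : Prop :=
  D.IsPosRoot s.val ∧ ¬ InJ G J s ∧ (outR G J q < outR G J s ∨ q.val < s.val)

/-- matrices raising one of the two gradings more than `q` does -/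
def RaiseAbove (G : Good D) (J : Finset (Fin D.rank)) (q : Fin D.nroots)
    (M : Matrix D.Idx D.Idx K) : Prop :=
  (∀ a, M a a = 1) ∧ ∀ a b, a ≠ b → M a b ≠ 0 → 1 ≤ outW G J a - outW G J b ∧
    1 ≤ G.hb a - G.hb b ∧
    (outR G J q < outW G J a - outW G J b ∨ G.ht (G.rho q) < G.hb a - G.hb b)

namespace Good

variable (G : Good D) {J : Finset (Fin D.rank)} {q : Fin D.nroots}

include G

theorem xu_mem_ClP {P : Fin D.nroots → Prop} {r : Fin D.nroots} (hr : P r) (t : K) :
    G.xu r t ∈ ClP G P :=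
  Subgroup.subset_closure ⟨r, t, hr, rfl⟩

theorem ClP_mono {P Q : Fin D.nroots → Prop} (h : ∀ r, P r → Q r) :
    (ClP G P : Subgroup (GL D.Idx K)) ≤ ClP G Q :=
  Subgroup.closure_mono fun _ ⟨r, t, hr, e⟩ => ⟨r, t, h r hr, e⟩

theorem outR_pos {r : Fin D.nroots} (hr : D.IsPosRoot r.val) (hJ : ¬ InJ G J r) :
    1 ≤ outR G J r :=
  G.outW_pos hr hJ

theorem outR_nonneg {r : Fin D.nroots} (hr : D.IsPosRoot r.val) : 0 ≤ outR G J r :=
  Finset.sum_nonneg fun _ _ => G.rho_nonneg hr _

theorem outR_zero {r : Fin D.nroots} (hr : InJ G J r) : outR G J r = 0 :=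
  Finset.sum_eq_zero fun m hm => hr m (Finset.mem_compl.1 hm)

theorem not_inJ_of_outR {r : Fin D.nroots} (h : 0 < outR G J r) : ¬ InJ G J r :=
  fun hr => by rw [G.outR_zero hr] at h; exact lt_irrefl _ h

theorem raiseAbove_mul {M N : Matrix D.Idx D.Idx K} (hM : RaiseAbove G J q M)
    (hN : RaiseAbove G J q N) : RaiseAbove G J q (M * N) := by
  refine ⟨fun a => ?_, fun a b hab hne => ?_⟩
  · rw [Matrix.mul_apply, Finset.sum_eq_single a]
    · rw [hM.1, hN.1, one_mul]
    · intro c _ hc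
      by_contra hz
      have h1 := hM.2 a c (Ne.symm hc) (left_ne_zero_of_mul hz)
      have h2 := hN.2 c a hc (right_ne_zero_of_mul hz)
      omega
    · simp
  · rw [Matrix.mul_apply] at hne
    obtain ⟨c, -, hc⟩ := Finset.exists_ne_zero_of_sum_ne_zero hne
    by_cases h1 : a = c
    · subst h1; exact hN.2 a b hab (right_ne_zero_of_mul hc)
    · have e1 := hM.2 a c h1 (left_ne_zero_of_mul hc)
      by_cases h2 : c = b
      · subst h2; exact e1
      · have e2 := hN.2 c b h2 (right_ne_zero_of_mul hc)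
        omega

theorem raiseAbove_xu {s : Fin D.nroots} (hs : Above G J q s) (t : K) :
    RaiseAbove G J q (G.xu s t : Matrix D.Idx D.Idx K) := by
  obtain ⟨hpos, hsJ, hab⟩ := hs
  have h1 := G.outR_pos hpos hsJ
  have h2 := (G.isPosRoot_iff s).1 hpos
  have key : ∀ a b k, 1 ≤ k → k < 4 →
      coef (act D s.val k (pos D b)) (pos D a) ≠ 0 →
      1 ≤ outW G J a - outW G J b ∧ 1 ≤ G.hb a - G.hb b ∧
        (outR G J q < outW G J a - outW G J b ∨ G.ht (G.rho q) < G.hb a - G.hb b) := by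
    intro a b k hk1 hk4 hne
    have hd : dmat D s k a b ≠ 0 := by simpa [dmat, show k ≠ 0 by omega] using hne
    have e := G.weight_eq s k a b hd hk4
    have hk : (1 : ℤ) ≤ k := by exact_mod_cast hk1
    have eo : outW G J a - outW G J b = (k : ℤ) * outR G J s := by
      simp only [outW, outR, e, Pi.add_apply, Pi.smul_apply, smul_eq_mul, Finset.sum_add_distrib,
        ← Finset.mul_sum]
      ring
    have eh : G.hb a - G.hb b = (k : ℤ) * G.ht (G.rho s) := by
      simp only [hb, e, ht_add, ht_smul]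
      ring
    rw [eo, eh]
    refine ⟨by nlinarith, by nlinarith, hab.imp (fun h => by nlinarith) fun h => ?_⟩
    have := G.ht_lt (Fin.lt_def.2 h)
    nlinarith
  have hz : ∀ a k, 1 ≤ k → k < 4 → coef (act D s.val k (pos D a)) (pos D a) = 0 :=
    fun a k hk hk4 => by
      by_contra hne
      have := key a a k hk hk4 hne
      omega
  refine ⟨fun a => ?_, fun a b hne' hne => ?_⟩
  · rw [coe_xu, xg_apply, if_pos rfl, hz a 1 le_rfl (by norm_num), hz a 2 (by norm_num) (by norm_num),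
      hz a 3 (by norm_num) (by norm_num)]
    simp
  · by_contra hn
    apply hne
    have hz' : ∀ k, 1 ≤ k → k < 4 → coef (act D s.val k (pos D b)) (pos D a) = 0 := fun k hk hk4 => by
      by_contra h
      exact hn (key a b k hk hk4 h)
    rw [coe_xu, xg_apply, if_neg hne', hz' 1 le_rfl (by norm_num), hz' 2 (by norm_num) (by norm_num),
      hz' 3 (by norm_num) (by norm_num)]
    simp

theorem raiseAbove_ClP {g : GL D.Idx K} (hg : g ∈ ClP G (Above G J q)) :
    RaiseAbove G J q (g : Matrix D.Idx D.Idx K) := by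
  induction hg using Subgroup.closure_induction'' with
  | one => exact ⟨fun a => Matrix.one_apply_eq a, fun _ _ h hne => absurd (Matrix.one_apply_ne h) hne⟩
  | mul x y _ _ hx hy => rw [Units.val_mul]; exact G.raiseAbove_mul hx hy
  | mem x hx => obtain ⟨r, t, h, rfl⟩ := hx; exact G.raiseAbove_xu h t
  | inv_mem x hx => obtain ⟨r, t, h, rfl⟩ := hx; rw [G.xu_inv]; exact G.raiseAbove_xu h _

/-- `x_q(t)` is visible modulo the roots above `q` -/
theorem eq_zero_of_mem_above (hq : D.IsPosRoot q.val) {t : K}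
    (h : G.xu q t ∈ (ClP G (Above G J q) : Subgroup (GL D.Idx K))) : t = 0 := by
  have hR := G.raiseAbove_ClP h
  have key : ∀ j : Fin D.rank, t * ((D.coroot.getD q.val #[]).getD j.val 0 : ℤ) = 0 := by
    intro j
    have he := G.entry_lowest hq t (one_mem (G.Uge (K := K) (q.val + 1))) j
    rw [mul_one] at he
    rw [← he]
    by_contra hne
    have h3 := (hR.2 (Sum.inl j) (Sum.inr (G.negr q)) (by simp) hne).2.2
    rw [hb_inl, hb_inr, G.rho_negr, ht_neg] at h3
    have ho : outW G J (Sum.inl j) - outW G J (Sum.inr (G.negr q)) = outR G J q := by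
      simp [outW, outR, weight, G.rho_negr]
    rw [ho] at h3
    omega
  obtain ⟨c, hc⟩ := G.coroot_gcd q
  have hsum : t * ((∑ j, c j * (D.coroot.getD q.val #[]).getD j.val 0 : ℤ) : K) = 0 := by
    push_cast
    rw [Finset.mul_sum]
    exact Finset.sum_eq_zero fun j _ => by rw [mul_left_comm, key j, mul_zero]
  rwa [hc, Int.cast_one, mul_one] at hsum

end Good

namespace Full

variable (C : Full D) {J : Finset (Fin D.rank)}

include C

theorem combo_out {r s p : Fin D.nroots} {i j : ℕ}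
    (h : C.G.rho p = (i : ℤ) • C.G.rho r + (j : ℤ) • C.G.rho s) :
    outR C.G J p = i * outR C.G J r + j * outR C.G J s := by
  simp only [outR, h, Pi.add_apply, Pi.smul_apply, smul_eq_mul, Finset.sum_add_distrib, Finset.mul_sum]

/-- a positive root element normalises groups generated by roots closed upwards -/
theorem xu_normalizes_ClP {P : Fin D.nroots → Prop} {s : Fin D.nroots} (hs : D.IsPosRoot s.val)
    (hP : ∀ b, P b → D.IsPosRoot b.val)
    (hup : ∀ b, P b → ∀ p (i j : ℕ), 1 ≤ i → 1 ≤ j →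
      C.G.rho p = (i : ℤ) • C.G.rho s + (j : ℤ) • C.G.rho b → P p)
    (t : K) {v : GL D.Idx K} (hv : v ∈ ClP C.G P) :
    C.G.xu s t * v * (C.G.xu s t)⁻¹ ∈ ClP C.G P := by
  induction hv using Subgroup.closure_induction with
  | one => simp
  | mul a b _ _ ha hb =>
    rw [show C.G.xu s t * (a * b) * (C.G.xu s t)⁻¹ =
      (C.G.xu s t * a * (C.G.xu s t)⁻¹) * (C.G.xu s t * b * (C.G.xu s t)⁻¹) by group]
    exact mul_mem ha hb
  | inv a _ ha =>
    rw [show C.G.xu s t * a⁻¹ * (C.G.xu s t)⁻¹ = (C.G.xu s t * a * (C.G.xu s t)⁻¹)⁻¹ by group]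
    exact inv_mem ha
  | mem y hy =>
    obtain ⟨b, u, hb, rfl⟩ := hy
    by_cases hbs : b = s
    · subst hbs
      rw [C.G.xu_inv, ← C.G.xu_add, ← C.G.xu_add]
      exact C.G.xu_mem_ClP hb _
    · obtain ⟨l, hl, e⟩ := C.conj_xu s b hbs (C.pos_ne_negr hs (hP b hb)) (-t) u
      rw [← C.G.xu_inv, inv_inv] at e
      rw [e]
      refine mul_mem (C.G.xu_mem_ClP hb _) (list_prod_mem fun x hx => ?_)
      obtain ⟨p, hp, rfl⟩ := List.mem_map.1 hx
      obtain ⟨i, j, hi, hj, hq⟩ := hl p hp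
      exact C.G.xu_mem_ClP (hup b hb p.1 i j hi hj hq) _

theorem U_normalizes_ClP {P : Fin D.nroots → Prop} (hP : ∀ b, P b → D.IsPosRoot b.val)
    (hup : ∀ s, D.IsPosRoot s.val → ∀ b, P b → ∀ p (i j : ℕ), 1 ≤ i → 1 ≤ j →
      C.G.rho p = (i : ℤ) • C.G.rho s + (j : ℤ) • C.G.rho b → P p)
    {g : GL D.Idx K} (hg : g ∈ D.posUnipotent K) {v : GL D.Idx K} (hv : v ∈ ClP C.G P) :
    g * v * g⁻¹ ∈ ClP C.G P := by
  rw [C.G.posUnipotent_eq_closure] at hg
  induction hg using Subgroup.closure_induction'' generalizing v with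
  | one => simpa using hv
  | mul x y _ _ hx hy =>
    rw [show x * y * v * (x * y)⁻¹ = x * (y * v * y⁻¹) * x⁻¹ by group]
    exact hx (hy hv)
  | mem x hx =>
    obtain ⟨s, t, hs, rfl⟩ := hx
    exact C.xu_normalizes_ClP hs hP (hup s hs) t hv
  | inv_mem x hx =>
    obtain ⟨s, t, hs, rfl⟩ := hx
    rw [C.G.xu_inv]
    exact C.xu_normalizes_ClP hs hP (hup s hs) _ hv

theorem U_normalizes_above {q : Fin D.nroots} {g : GL D.Idx K} (hg : g ∈ D.posUnipotent K)
    {v : GL D.Idx K} (hv : v ∈ ClP C.G (Above C.G J q)) :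
    g * v * g⁻¹ ∈ ClP C.G (Above C.G J q) := by
  refine C.U_normalizes_ClP (fun b hb => hb.1) (fun s hs b hb p i j hi hj e => ?_) hg hv
  obtain ⟨hp, -, h3⟩ := C.rho_combo_index hs hb.1 hi hj e
  have ho := C.combo_out (J := J) e
  have h4 := C.G.outR_nonneg (J := J) hs
  have h5 := C.G.outR_pos hb.1 hb.2.1
  have h6 : (1 : ℤ) ≤ j := by exact_mod_cast hj
  have h7 : (0 : ℤ) ≤ i := Int.natCast_nonneg i
  refine ⟨hp, C.G.not_inJ_of_outR (by nlinarith), hb.2.2.imp (fun h => by nlinarith) fun h => by omega⟩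

/-- conjugates of `x_r(u)` modulo a subgroup above -/
theorem conj_modM {P : Fin D.nroots → Prop} {r : Fin D.nroots}
    (hP : ∀ b, P b → D.IsPosRoot b.val)
    (hcl : ∀ s, D.IsPosRoot s.val → ∀ b, P b → ∀ p (i j : ℕ), 1 ≤ i → 1 ≤ j →
      C.G.rho p = (i : ℤ) • C.G.rho s + (j : ℤ) • C.G.rho b → P p)
    (hr : D.IsPosRoot r.val) {S : Fin D.nroots → Prop}
    (hS : ∀ s, S s → D.IsPosRoot s.val)
    (hup : ∀ s, S s → s ≠ r → ∀ p (i j : ℕ), 1 ≤ i → 1 ≤ j →
      C.G.rho p = (i : ℤ) • C.G.rho s + (j : ℤ) • C.G.rho r → P p)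
    (u : K) {g : GL D.Idx K} (hg : g ∈ ClP C.G S) :
    (C.G.xu r u)⁻¹ * (g * C.G.xu r u * g⁻¹) ∈ ClP C.G P := by
  have hle : (ClP C.G S : Subgroup (GL D.Idx K)) ≤ D.posUnipotent K := by
    rw [ClP, Subgroup.closure_le]
    rintro x ⟨s, t, hs, rfl⟩
    exact C.G.xu_mem_U (hS s hs) t
  induction hg using Subgroup.closure_induction with
  | one => simp
  | mul a b ha _ iha ihb =>
    rw [show (C.G.xu r u)⁻¹ * (a * b * C.G.xu r u * (a * b)⁻¹) =
      ((C.G.xu r u)⁻¹ * (a * C.G.xu r u * a⁻¹)) *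
        (a * ((C.G.xu r u)⁻¹ * (b * C.G.xu r u * b⁻¹)) * a⁻¹) by group]
    exact mul_mem iha (C.U_normalizes_ClP hP hcl (hle ha) ihb)
  | inv a ha iha =>
    rw [show (C.G.xu r u)⁻¹ * (a⁻¹ * C.G.xu r u * (a⁻¹)⁻¹) =
      (a⁻¹ * ((C.G.xu r u)⁻¹ * (a * C.G.xu r u * a⁻¹)) * (a⁻¹)⁻¹)⁻¹ by group]
    exact inv_mem (C.U_normalizes_ClP hP hcl (inv_mem (hle ha)) iha)
  | mem y hy =>
    obtain ⟨s, t, hs, rfl⟩ := hy
    by_cases hsr : s = r
    · subst hsr
      rw [C.G.xu_inv, C.G.xu_inv, ← C.G.xu_add, ← C.G.xu_add, ← C.G.xu_add,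
        show -u + (t + u + -t) = 0 by ring, C.G.xu_zero]
      exact one_mem _
    · obtain ⟨l, hl, e⟩ := C.conj_xu s r (Ne.symm hsr) (C.pos_ne_negr (hS s hs) hr) (-t) u
      rw [← C.G.xu_inv, inv_inv] at e
      rw [e, inv_mul_cancel_left]
      refine list_prod_mem fun x hx => ?_
      obtain ⟨p, hp, rfl⟩ := List.mem_map.1 hx
      obtain ⟨i, j, hi, hj, hq⟩ := hl p hp
      exact C.G.xu_mem_ClP (hup s hs hsr p.1 i j hi hj hq) _

/-- the leading term of a commutator with a unit structure constant -/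
theorem exists_lead {a r : Fin D.nroots} (ha : D.IsPosRoot a.val) (hr : D.IsPosRoot r.val)
    (h1 : (D.chainRoot a.val r.val 1).isSome = true) (h2 : (D.chainM a.val r.val 1).natAbs = 1) :
    ∃ q : Fin D.nroots, C.G.rho q = C.G.rho a + C.G.rho r ∧ ∃ M : ℤ, (M = 1 ∨ M = -1) ∧
      ∀ t u : K, ∃ l : List (Fin D.nroots × K),
        (∀ p ∈ l, ∃ i j : ℕ, 1 ≤ i ∧ 1 ≤ j ∧ ¬ (i = 1 ∧ j = 1) ∧
          C.G.rho p.1 = (i : ℤ) • C.G.rho a + (j : ℤ) • C.G.rho r) ∧
        C.G.xu a t * C.G.xu r u * (C.G.xu a t)⁻¹ =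
          C.G.xu r u * (C.G.xu q ((M : K) * t * u) * (l.map fun p => C.G.xu p.1 p.2).prod) := by
  classical
  obtain ⟨x, hx⟩ := Option.isSome_iff_exists.1 h1
  obtain ⟨hx', ex⟩ := C.chainRoot_spec le_rfl hx
  have hra : r ≠ a := by
    rintro rfl
    have h := chainEntry_special C.keys r.isLt (Or.inl rfl : r.val = r.val ∨ _)
    simp [ChevalleyDatum.chainRoot, h] at hx
  refine ⟨⟨x, hx'⟩, ex.trans (by push_cast; module), D.chainM a.val r.val 1, Int.natAbs_eq_iff.1 h2, ?_⟩
  intro t u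
  obtain ⟨rest, hcomm, hrest⟩ : ∃ rest : List (ℕ × ℤ × ℕ × ℕ),
      D.commTerms a.val r.val = (x, D.chainM a.val r.val 1, 1, 1) :: rest ∧
      ∀ c ∈ rest, ¬ (c.2.2.1 = 1 ∧ c.2.2.2 = 1) := by
    simp only [ChevalleyDatum.commTerms]
    refine ⟨_, List.filterMap_cons_some (by rw [hx]; rfl), fun c hc => ?_⟩
    simp only [List.mem_filterMap] at hc
    obtain ⟨d, hd, e⟩ := hc
    obtain ⟨k, -, rfl⟩ := Option.map_eq_some_iff.1 e
    simp only [List.mem_cons, List.not_mem_nil, or_false] at hd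
    rcases hd with rfl | rfl | rfl | rfl | rfl | rfl <;> simp
  have hw : ∀ c ∈ rest, c ∈ D.commTerms a.val r.val := fun c hc => by rw [hcomm]; exact List.mem_cons_of_mem _ hc
  refine ⟨rest.pmap (fun c hc => ((⟨c.1, hc⟩ : Fin D.nroots), (c.2.1 : K) * (- -t) ^ c.2.2.1 * u ^ c.2.2.2))
    (fun c hc => (C.commTerms_weight (hw c hc)).2.2.1), ?_, ?_⟩
  · intro p hp
    obtain ⟨c, hc, rfl⟩ := List.mem_pmap.1 hp
    obtain ⟨h3, h4, h5, h6⟩ := C.commTerms_weight (hw c hc)
    exact ⟨_, _, h3, h4, hrest c hc, h6⟩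
  · have h := C.commAt a r hra (C.pos_ne_negr ha hr) (-t) u
    unfold CommAt cwR at h
    rw [hcomm, List.map_cons, wordR_cons] at h
    have e : C.G.xu r u * C.G.xu a (-t) = C.G.xu a (-t) * (C.G.xu r u *
        (C.G.xu ⟨x, hx'⟩ ((D.chainM a.val r.val 1 : K) * t * u) *
        ((rest.pmap (fun c hc => ((⟨c.1, hc⟩ : Fin D.nroots), (c.2.1 : K) * (- -t) ^ c.2.2.1 * u ^ c.2.2.2))
          (fun c hc => (C.commTerms_weight (hw c hc)).2.2.1)).map fun p => C.G.xu p.1 p.2).prod)) := by
      apply Units.ext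
      simp only [Units.val_mul, Good.coe_xu, h, ← mul_assoc]
      congr 1
      · congr 1
        simp only [xN, dif_pos hx', neg_neg, pow_one]
      · rw [← Units.coeHom_apply, map_list_prod, wordR, List.map_map, List.map_map, List.map_pmap]
        congr 1
        refine List.ext_getElem (by simp) fun i h1 h2 => ?_
        simp only [List.getElem_map, List.getElem_pmap, Function.comp_apply, Units.coeHom_apply,
          Good.coe_xu, xN]
        rw [dif_pos]
        exact (C.commTerms_weight (hw _ (List.getElem_mem _))).2.2.1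
    rw [C.G.xu_inv, mul_assoc, e, ← mul_assoc, ← C.G.xu_add, add_neg_cancel, C.G.xu_zero, one_mul]

section cent

variable (hchk : chkSupp D = true) (hpair : chkPairOut D = true)

include hchk hpair

theorem exists_out_partner {a : Fin D.nroots} (ha : D.IsPosRoot a.val) (haJ : InJ C.G J a)
    (hJ : J ≠ Finset.univ) :
    ∃ r : Fin D.nroots, D.IsPosRoot r.val ∧ ¬ InJ C.G J r ∧
      (D.chainRoot a.val r.val 1).isSome = true ∧ (D.chainM a.val r.val 1).natAbs = 1 := by
  obtain ⟨m, hm⟩ : ∃ m, m ∉ J := by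
    by_contra h
    push Not at h
    exact hJ (Finset.eq_univ_of_forall h)
  have h := List.all_eq_true.1 hpair a.val (List.mem_range.2 a.isLt)
  simp only [ha, decide_true, Bool.not_true, Bool.false_or, List.all_eq_true, List.mem_range,
    Bool.or_eq_true, Bool.not_eq_true', decide_eq_false_iff_not, List.any_eq_true,
    Bool.and_eq_true, decide_eq_true_eq, beq_iff_eq] at h
  rcases h m.val m.isLt with h1 | ⟨r, hr, h1, h2, h3, h4⟩
  · exact absurd ((C.crc_pos hchk _ a rfl ha m).2 (haJ m hm)) h1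
  · exact ⟨⟨r, hr⟩, h2, fun hrJ => h1 ((C.crc_pos hchk _ ⟨r, hr⟩ rfl h2 m).2 (hrJ m hm)), h3, h4⟩

/-- `x_a(t)` moves a suitable element of the radical unless `t = 0` -/
theorem eq_zero_of_lead {a : Fin D.nroots} (ha : D.IsPosRoot a.val) (haJ : InJ C.G J a)
    (hJ : J ≠ Finset.univ) {t : K}
    (h : ∀ r : Fin D.nroots, D.IsPosRoot r.val → ¬ InJ C.G J r → ∀ q : Fin D.nroots,
      C.G.rho q = C.G.rho a + C.G.rho r →
      (C.G.xu r 1)⁻¹ * (C.G.xu a t * C.G.xu r 1 * (C.G.xu a t)⁻¹) ∈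
        (ClP C.G (Above C.G J q) : Subgroup (GL D.Idx K))) : t = 0 := by
  obtain ⟨r, hr, hrJ, h1, h2⟩ := C.exists_out_partner hchk hpair ha haJ hJ
  obtain ⟨q, hq, M, hM, hlead⟩ := C.exists_lead (K := K) ha hr h1 h2
  obtain ⟨l, hl, e⟩ := hlead t 1
  have h3 := h r hr hrJ q hq
  rw [e, inv_mul_cancel_left, mul_one] at h3
  have hout : outR C.G J q = outR C.G J r := by
    have := C.combo_out (J := J) (i := 1) (j := 1) (r := a) (s := r) (p := q) (by simpa using hq)
    rw [this, C.G.outR_zero haJ]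
    simp
  have hqp : D.IsPosRoot q.val :=
    (C.rho_combo_index (i := 1) (j := 1) ha hr le_rfl le_rfl (by simpa using hq)).1
  have h4 : (l.map fun p => C.G.xu p.1 p.2).prod ∈
      (ClP C.G (Above C.G J q) : Subgroup (GL D.Idx K)) := by
    refine list_prod_mem fun x hx => ?_
    obtain ⟨p, hp, rfl⟩ := List.mem_map.1 hx
    obtain ⟨i, j, hi, hj, hij, hp'⟩ := hl p hp
    have hpp := (C.rho_combo_index ha hr hi hj hp').1
    have ho := C.combo_out (J := J) hp'
    rw [C.G.outR_zero haJ, mul_zero, zero_add] at ho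
    have hr1 := C.G.outR_pos hr hrJ
    have hj' : (1 : ℤ) ≤ j := by exact_mod_cast hj
    refine C.G.xu_mem_ClP ⟨hpp, C.G.not_inJ_of_outR (by nlinarith), ?_⟩ _
    rcases Nat.lt_or_ge 1 j with hj2 | hj2
    · left
      have : (2 : ℤ) ≤ j := by exact_mod_cast hj2
      nlinarith
    · right
      refine C.G.index_lt_of_ht_lt ?_
      rw [hp', hq, Good.ht_add, Good.ht_add, Good.ht_smul, Good.ht_smul]
      have h5 := (C.G.isPosRoot_iff a).1 ha
      have hj1 : j = 1 := by omega
      have h6 : (2 : ℤ) ≤ i := by exact_mod_cast (show 2 ≤ i by omega)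
      subst hj1
      push_cast
      nlinarith
  have h5 := C.G.eq_zero_of_mem_above (J := J) hqp
    ((Subgroup.mul_mem_cancel_right _ h4).1 h3)
  rcases hM with rfl | rfl <;> simpa using h5

theorem U_cent_le {g : GL D.Idx K} (hJ : J ≠ Finset.univ) (hg : g ∈ D.posUnipotent K)
    (hc : ∀ r : Fin D.nroots, D.IsPosRoot r.val → ¬ InJ C.G J r → C.G.xu r 1 * g = g * C.G.xu r 1) :
    g ∈ (UR C.G J : Subgroup (GL D.Idx K)) := by
  let S : ℕ → Fin D.nroots → Prop := fun m b => D.IsPosRoot b.val ∧ (m ≤ b.val ∨ ¬ InJ C.G J b)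
  have key : ∀ m, g ∈ (ClP C.G (S m) : Subgroup (GL D.Idx K)) := by
    intro m
    induction m with
    | zero =>
      rw [C.G.posUnipotent_eq_closure] at hg
      refine Subgroup.closure_mono ?_ hg
      rintro x ⟨r, t, hr, e⟩
      exact ⟨r, t, ⟨hr, Or.inl (Nat.zero_le _)⟩, e⟩
    | succ m ih =>
      by_cases hm : ∃ b : Fin D.nroots, b.val = m ∧ D.IsPosRoot b.val ∧ InJ C.G J b
      swap
      · refine C.G.ClP_mono (fun b hb => ⟨hb.1, ?_⟩) ih
        rcases hb.2 with h | h
        · by_cases hbJ : InJ C.G J b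
          · left
            rcases Nat.lt_or_eq_of_le h with h | h
            · exact h
            · exact absurd ⟨b, h.symm, hb.1, hbJ⟩ hm
          · exact Or.inr hbJ
        · exact Or.inr h
      obtain ⟨a, rfl, ha, haJ⟩ := hm
      have hup : ∀ b, S (a.val + 1) b → ∀ p (i j : ℕ), 1 ≤ i → 1 ≤ j →
          C.G.rho p = (i : ℤ) • C.G.rho a + (j : ℤ) • C.G.rho b → S (a.val + 1) p := by
        intro b hb p i j hi hj e
        obtain ⟨hp, h2, -⟩ := C.rho_combo_index ha hb.1 hi hj e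
        exact ⟨hp, Or.inl h2⟩
      -- `g = x_a(t) v`
      have hdec : ∀ x ∈ (ClP C.G (S a.val) : Subgroup (GL D.Idx K)),
          ∃ t : K, ∃ v ∈ (ClP C.G (S (a.val + 1)) : Subgroup (GL D.Idx K)), x = C.G.xu a t * v := by
        intro x hx
        induction hx using Subgroup.closure_induction_left with
        | one => exact ⟨0, 1, one_mem _, by rw [C.G.xu_zero, mul_one]⟩
        | mul_left y hy z _ ihz =>
          obtain ⟨t, v, hv, rfl⟩ := ihz
          obtain ⟨b, u, hb, rfl⟩ := hy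
          by_cases hba : b = a
          · subst hba; exact ⟨u + t, v, hv, by rw [C.G.xu_add, mul_assoc]⟩
          · have hb' : S (a.val + 1) b := ⟨hb.1, hb.2.imp (fun h =>
              lt_of_le_of_ne h fun e => hba (Fin.ext e.symm)) id⟩
            refine ⟨t, (C.G.xu a t)⁻¹ * C.G.xu b u * C.G.xu a t * v, mul_mem ?_ hv, by group⟩
            have := C.xu_normalizes_ClP ha (fun b hb => hb.1) hup (-t) (C.G.xu_mem_ClP hb' u)
            rwa [← C.G.xu_inv, inv_inv] at this
        | inv_mul_cancel y hy z _ ihz =>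
          obtain ⟨t, v, hv, rfl⟩ := ihz
          obtain ⟨b, u, hb, rfl⟩ := hy
          by_cases hba : b = a
          · subst hba; exact ⟨-u + t, v, hv, by rw [C.G.xu_inv, C.G.xu_add, mul_assoc]⟩
          · have hb' : S (a.val + 1) b := ⟨hb.1, hb.2.imp (fun h =>
              lt_of_le_of_ne h fun e => hba (Fin.ext e.symm)) id⟩
            refine ⟨t, (C.G.xu a t)⁻¹ * (C.G.xu b u)⁻¹ * C.G.xu a t * v, mul_mem ?_ hv, by group⟩
            have := C.xu_normalizes_ClP ha (fun b hb => hb.1) hup (-t)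
              (inv_mem (C.G.xu_mem_ClP hb' u))
            rwa [← C.G.xu_inv a t, inv_inv] at this
      obtain ⟨t, v, hv, hgv⟩ := hdec g ih
      suffices ht : t = 0 by rw [hgv, ht, C.G.xu_zero, one_mul]; exact hv
      refine C.eq_zero_of_lead hchk hpair ha haJ hJ fun r hr hrJ q hq => ?_
      have hcl : ∀ s, D.IsPosRoot (s : Fin D.nroots).val → ∀ b, Above C.G J q b → ∀ p (i j : ℕ), 1 ≤ i → 1 ≤ j →
          C.G.rho p = (i : ℤ) • C.G.rho s + (j : ℤ) • C.G.rho b → Above C.G J q p := by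
        intro s hs b hb p i j hi hj e
        obtain ⟨hp, -, h3⟩ := C.rho_combo_index hs hb.1 hi hj e
        have ho := C.combo_out (J := J) e
        have h4 := C.G.outR_nonneg (J := J) hs
        have h5 := C.G.outR_pos hb.1 hb.2.1
        have h6 : (1 : ℤ) ≤ j := by exact_mod_cast hj
        have h7 : (0 : ℤ) ≤ i := Int.natCast_nonneg i
        refine ⟨hp, C.G.not_inJ_of_outR (by nlinarith), hb.2.2.imp (fun h => by nlinarith) fun h => by omega⟩
      -- `v` fixes `x_r(1)` modulo the roots above `q`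
      have hv' : (C.G.xu r 1)⁻¹ * (v * C.G.xu r 1 * v⁻¹) ∈
          (ClP C.G (Above C.G J q) : Subgroup (GL D.Idx K)) := by
        refine C.conj_modM (fun b hb => hb.1) hcl hr (fun s hs => hs.1) (fun s hs hsr p i j hi hj e => ?_) 1 hv
        obtain ⟨hp, -, -⟩ := C.rho_combo_index hs.1 hr hi hj e
        have ho := C.combo_out (J := J) e
        have hoq : outR C.G J q = outR C.G J r := by
          have := C.combo_out (J := J) (i := 1) (j := 1) (r := a) (s := r) (p := q) (by simpa using hq)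
          rw [this, C.G.outR_zero haJ]
          simp
        have hs0 := C.G.outR_nonneg (J := J) hs.1
        have hr1 := C.G.outR_pos hr hrJ
        have hi' : (1 : ℤ) ≤ i := by exact_mod_cast hi
        have hj' : (1 : ℤ) ≤ j := by exact_mod_cast hj
        refine ⟨hp, C.G.not_inJ_of_outR (by nlinarith), ?_⟩
        by_cases hlevel : outR C.G J q < outR C.G J p
        · exact Or.inl hlevel
        right
        have hs1 : InJ C.G J s := by
          by_contra hsJ
          have := C.G.outR_pos hs.1 hsJ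
          nlinarith
        have h2 : a.val + 1 ≤ s.val := hs.2.resolve_right fun h => h hs1
        have h3 := C.G.ht_lt (Fin.lt_def.2 (show a.val < s.val by omega))
        refine C.G.index_lt_of_ht_lt ?_
        rw [e, hq, Good.ht_add, Good.ht_add, Good.ht_smul, Good.ht_smul]
        have h4 := (C.G.isPosRoot_iff r).1 hr
        have h5 := (C.G.isPosRoot_iff s).1 hs.1
        nlinarith
      have hfix : g * C.G.xu r 1 * g⁻¹ = C.G.xu r 1 := by
        rw [← hc r hr hrJ, mul_assoc, mul_inv_cancel, mul_one]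
      set m := (C.G.xu r 1)⁻¹ * (v * C.G.xu r 1 * v⁻¹) with hmdef
      have h2 : (C.G.xu r 1)⁻¹ * (C.G.xu a t * C.G.xu r 1 * (C.G.xu a t)⁻¹) =
          (C.G.xu a t * m * (C.G.xu a t)⁻¹)⁻¹ := by
        rw [hgv] at hfix
        have h3 : C.G.xu a t * C.G.xu r 1 * (C.G.xu a t)⁻¹ * (C.G.xu a t * m * (C.G.xu a t)⁻¹) =
            C.G.xu r 1 := by
          rw [hmdef]
          calc _ = C.G.xu a t * v * C.G.xu r 1 * (C.G.xu a t * v)⁻¹ := by group
            _ = _ := hfix
        rw [eq_inv_iff_mul_eq_one, mul_assoc, h3, inv_mul_cancel]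
      rw [h2]
      exact inv_mem (C.U_normalizes_above (C.G.xu_mem_U ha t) hv')
  refine (Subgroup.closure_le _).2 ?_ (key D.nroots)
  rintro x ⟨b, u, hb, rfl⟩
  refine Subgroup.subset_closure ⟨b, u, ⟨hb.1, hb.2.resolve_left ?_⟩, rfl⟩
  have := b.isLt
  omega

/-- the conjugate of `x_r(t)` by an element of the Borel subgroup, to first order -/
theorem borel_conj_lead {b : GL D.Idx K} (hb : b ∈ D.borelSubgroup K) {r : Fin D.nroots}
    (hr : D.IsPosRoot r.val) (hrJ : ¬ InJ C.G J r) :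
    ∃ c : Kˣ, ∀ t : K, ∃ v ∈ (ClP C.G fun s => D.IsPosRoot s.val ∧ ¬ InJ C.G J s ∧ r.val < s.val :
        Subgroup (GL D.Idx K)),
      b * C.G.xu r t * b⁻¹ = C.G.xu r ((c : K) * t) * v := by
  obtain ⟨u, hu, h, hh, rfl⟩ := C.G.mem_borel_iff.1 hb
  obtain ⟨c, hc⟩ := C.G.H_conj_xu hh r
  refine ⟨c, fun t => ⟨(C.G.xu r ((c : K) * t))⁻¹ * (u * C.G.xu r ((c : K) * t) * u⁻¹), ?_, ?_⟩⟩
  · have hu' : u ∈ (ClP C.G fun s => D.IsPosRoot s.val : Subgroup (GL D.Idx K)) := by
      rw [C.G.posUnipotent_eq_closure] at hu; exact hu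
    refine C.conj_modM (fun b hb => hb.1) ?_ hr (fun _ hs => hs) ?_ _ hu'
    · intro s hs b hb p i j hi hj e
      obtain ⟨hp, -, h3⟩ := C.rho_combo_index hs hb.1 hi hj e
      have ho := C.combo_out (J := J) e
      have h4 := C.G.outR_nonneg (J := J) hs
      have h5 := C.G.outR_pos hb.1 hb.2.1
      have h6 : (1 : ℤ) ≤ j := by exact_mod_cast hj
      have h7 : (0 : ℤ) ≤ i := Int.natCast_nonneg i
      exact ⟨hp, C.G.not_inJ_of_outR (by nlinarith), lt_trans hb.2.2 h3⟩
    · intro s hs _ p i j hi hj e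
      obtain ⟨hp, -, h3⟩ := C.rho_combo_index hs hr hi hj e
      have ho := C.combo_out (J := J) e
      have h4 := C.G.outR_nonneg (J := J) hs
      have h5 := C.G.outR_pos hr hrJ
      have h6 : (1 : ℤ) ≤ j := by exact_mod_cast hj
      have h7 : (0 : ℤ) ≤ i := Int.natCast_nonneg i
      exact ⟨hp, C.G.not_inJ_of_outR (by nlinarith), h3⟩
  · rw [mul_inv_cancel_left, ← hc t]
    group

/-- an element of the parabolic subgroup centralizing the radical lies in the Borel subgroup -/
theorem cent_mem_borel {g : GL D.Idx K} (hJ : J ≠ Finset.univ) (hg : g ∈ C.PJ J)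
    (hc : ∀ r : Fin D.nroots, D.IsPosRoot r.val → ¬ InJ C.G J r → C.G.xu r 1 * g = g * C.G.xu r 1) :
    g ∈ D.borelSubgroup K := by
  have h1 : C.InCell (1 : GL D.Idx K) 1 :=
    ⟨1, one_mem _, 1, one_mem _, Good.NPerm.one C.G, 1, one_mem _, by group⟩
  obtain ⟨w, hw, hcell⟩ := C.inCell_mul_PJ hg h1
  rw [one_mul, one_mul] at hcell
  obtain ⟨b, hb, n, hn, hnw, c, hcb, rfl⟩ := hcell
  have key : ∀ k : ℕ, ∀ r : Fin D.nroots, D.nroots ≤ r.val + k → D.IsPosRoot r.val → ¬ InJ C.G J r →
      w r = r := by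
    intro k
    induction k with
    | zero => intro r h _ _; have := r.isLt; omega
    | succ k ih =>
      intro r hk hr hrJ
      obtain ⟨hsJ, hs⟩ := C.G.outside_image hw hrJ
      have hsp := hs.2 hr
      rcases lt_trichotomy (w r).val r.val with hlt | heq | hgt
      · exfalso
        set s := w r with hsdef
        obtain ⟨a, ha⟩ := C.borel_conj_lead hchk hpair hcb hr hrJ
        obtain ⟨v, hv, e1⟩ := ha 1
        obtain ⟨d, hd⟩ := hnw r
        obtain ⟨f, hf⟩ := C.borel_conj_lead (J := J) hchk hpair hb hsp hsJ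
        obtain ⟨v', hv', e2⟩ := hf ((d : K) * ((a : K) * 1))
        have hv2 : n * v * n⁻¹ ∈ C.G.Uge (K := K) (s.val + 1) := by
          clear e1
          induction hv using Subgroup.closure_induction with
          | one => simp
          | mul x y _ _ hx hy =>
            rw [show n * (x * y) * n⁻¹ = (n * x * n⁻¹) * (n * y * n⁻¹) by group]; exact mul_mem hx hy
          | inv x _ hx =>
            rw [show n * x⁻¹ * n⁻¹ = (n * x * n⁻¹)⁻¹ by group]; exact inv_mem hx
          | mem x hx =>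
            obtain ⟨p, u, ⟨hp, hpJ, hpr⟩, rfl⟩ := hx
            obtain ⟨e, he⟩ := hnw p
            rw [he u, ih p (by omega) hp hpJ]
            exact C.G.xu_mem_Uge (by omega) hp _
        have hv3 : b * (n * v * n⁻¹) * b⁻¹ ∈ C.G.Uge (K := K) (s.val + 1) := by
          obtain ⟨u, hu, h, hh, rfl⟩ := C.G.mem_borel_iff.1 hb
          have h2 : h * (n * v * n⁻¹) * h⁻¹ ∈ C.G.Uge (K := K) (s.val + 1) := by
            have := (Subgroup.mem_normalizer_iff.1
              (C.G.H_le_normalizer (fun q => s.val + 1 ≤ q.val ∧ D.IsPosRoot q.val) hh) (n * v * n⁻¹))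
            have e : (Subgroup.closure {g : GL D.Idx K | ∃ q t, (s.val + 1 ≤ q.val ∧ D.IsPosRoot q.val) ∧
                g = C.G.xu q t}) = C.G.Uge (K := K) (s.val + 1) := by
              rw [Good.Uge]
              congr 1
              ext g
              simp only [Set.mem_setOf_eq, and_assoc]
            rw [e] at this
            exact this.1 hv2
          rw [C.G.posUnipotent_eq] at hu
          rw [show u * h * (n * v * n⁻¹) * (u * h)⁻¹ = u * (h * (n * v * n⁻¹) * h⁻¹) * u⁻¹ by group]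
          exact (Subgroup.mem_normalizer_iff.1 (C.Uge_normal hu) _).1 h2
        have hfix : b * n * c * C.G.xu r 1 * (b * n * c)⁻¹ = C.G.xu r 1 := by
          rw [← hc r hr hrJ, mul_assoc, mul_inv_cancel, mul_one]
        have e3 : C.G.xu r 1 = C.G.xu s ((f : K) * ((d : K) * ((a : K) * 1))) *
            (v' * (b * (n * v * n⁻¹) * b⁻¹)) := by
          rw [← mul_assoc, ← e2, ← hd, ← hfix]
          calc b * n * c * C.G.xu r 1 * (b * n * c)⁻¹ = b * (n * (c * C.G.xu r 1 * c⁻¹) * n⁻¹) * b⁻¹ := by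
                group
            _ = _ := by rw [e1]; group
        have hv'U : v' ∈ C.G.Uge (K := K) (s.val + 1) := by
          refine (Subgroup.closure_le _).2 ?_ hv'
          rintro x ⟨p, u, ⟨hp, -, hps⟩, rfl⟩
          exact C.G.xu_mem_Uge (by omega) hp u
        have h0 : C.G.xu s ((f : K) * ((d : K) * ((a : K) * 1))) *
            (v' * (b * (n * v * n⁻¹) * b⁻¹)) = C.G.xu s 0 * C.G.xu r 1 := by
          rw [C.G.xu_zero, one_mul, ← e3]
        have := (C.G.lowest_unique hsp (mul_mem hv'U hv3)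
          (C.G.xu_mem_Uge (by omega) hr 1) h0).1
        simp at this
      · exact Fin.ext heq
      · exact (w.injective (ih (w r) (by omega) hsp hsJ) : w r = r)
  have hWg := C.G.WJ_le J hw
  have hfix : ∀ j, w (C.G.simp' j) = C.G.simp' j := by
    intro j
    by_cases hj : j ∈ J
    swap
    · refine key D.nroots _ (by omega) (C.G.simp_pos j) fun h => ?_
      have := h j hj
      rw [C.G.rho_simp, Pi.single_eq_same] at this
      exact one_ne_zero this
    obtain ⟨r, hr, hrJ, h1, -⟩ :=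
      C.exists_out_partner hchk hpair (C.G.simp_pos j) (C.G.inJ_simp_self hj) hJ
    obtain ⟨x, hx⟩ := Option.isSome_iff_exists.1 h1
    obtain ⟨hx', ex⟩ := C.chainRoot_spec le_rfl hx
    have ex' : C.G.rho ⟨x, hx'⟩ = C.G.rho r + C.G.rho (C.G.simp' j) := by simpa using ex
    have hqp := (C.rho_combo_index (i := 1) (j := 1) hr (C.G.simp_pos j) le_rfl le_rfl
      (by simpa using ex')).1
    have hqJ : ¬ InJ C.G J ⟨x, hx'⟩ := fun h => hrJ fun m hm => by
      have h2 := h m hm
      rw [ex', Pi.add_apply, C.G.inJ_simp_self hj m hm, add_zero] at h2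
      exact h2
    have e1 := key D.nroots r (by omega) hr hrJ
    have e2 := key D.nroots ⟨x, hx'⟩ (by omega) hqp hqJ
    obtain ⟨l, rfl⟩ := C.G.exists_pw hWg
    apply C.G.rho_injective
    have h3 : C.G.rho (C.G.pw l ⟨x, hx'⟩) =
        C.G.rho (C.G.pw l r) + C.G.rho (C.G.pw l (C.G.simp' j)) := by
      rw [C.G.rho_pw l ⟨x, hx'⟩, C.G.rho_pw l r, ex']
      simp only [Pi.add_apply, add_smul, Finset.sum_add_distrib]
      rw [← C.G.rho_pw l (C.G.simp' j)]
    rw [e1, e2, ex'] at h3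
    exact (add_left_cancel h3).symm
  have hw1 : w = 1 := C.G.up_univ_eq_one hWg fun j _ => by rw [hfix j]; exact C.G.simp_pos j
  subst hw1
  have h2 := C.mem_PJ_of_cell (J := ∅) (p := b * n * c) (one_mem _)
    ⟨b, hb, n, hn, hnw, c, hcb, rfl⟩
  rwa [C.PJ_empty] at h2

/-- An element of `P_J` commuting with the root elements `x_r(1)` of `U_J` lies in `U_J`. -/
theorem PJ_cent_one_le (hJ : J ≠ Finset.univ) {g : GL D.Idx K} (hg : g ∈ C.PJ J)
    (hc : ∀ r : Fin D.nroots, D.IsPosRoot r.val → ¬ InJ C.G J r → C.G.xu r 1 * g = g * C.G.xu r 1) :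
    g ∈ (UR C.G J : Subgroup (GL D.Idx K)) := by
  have hB := C.cent_mem_borel hchk hpair hJ hg hc
  obtain ⟨u, hu, h, hh, rfl⟩ := C.G.mem_borel_iff.1 hB
  have hout : ∀ r : Fin D.nroots, D.IsPosRoot r.val → ¬ InJ C.G J r → ∀ t,
      h * C.G.xu r t * h⁻¹ = C.G.xu r t := by
    intro r hr hrJ t
    obtain ⟨a, ha⟩ := C.G.H_conj_xu hh r
    suffices ha1 : (a : K) = 1 by rw [ha, ha1, one_mul]
    have hu' := C.borel_conj_lead (J := J) hchk hpair (Subgroup.mem_sup_left hu) hr hrJ
    obtain ⟨c, hc'⟩ := hu'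
    obtain ⟨v, hv, e⟩ := hc' ((a : K) * 1)
    -- the unipotent factor does not change the leading coefficient
    have hU : (C.G.xu r ((a : K) * 1))⁻¹ * (u * C.G.xu r ((a : K) * 1) * u⁻¹) ∈
        C.G.Uge (K := K) (r.val + 1) := by
      have hu0 := hu
      rw [C.G.posUnipotent_eq] at hu0
      have h4 := C.xu_comm_mem hr (-((a : K) * 1)) hu0
      rw [C.G.xu_inv r (-((a : K) * 1)), neg_neg, ← C.G.xu_inv] at h4
      simpa [mul_assoc] using h4
    have hfix : u * (h * C.G.xu r 1 * h⁻¹) * u⁻¹ = C.G.xu r 1 := by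
      calc u * (h * C.G.xu r 1 * h⁻¹) * u⁻¹ = u * h * C.G.xu r 1 * (u * h)⁻¹ := by group
        _ = _ := by rw [← hc r hr hrJ, mul_assoc, mul_inv_cancel, mul_one]
    rw [ha] at hfix
    have h0 : C.G.xu r ((a : K) * 1) * ((C.G.xu r ((a : K) * 1))⁻¹ * (u * C.G.xu r ((a : K) * 1) * u⁻¹)) =
        C.G.xu r 1 * 1 := by
      rw [mul_inv_cancel_left, hfix, mul_one]
    simpa using (C.G.lowest_unique hr hU (one_mem _) h0).1
  have hh1 : h = 1 := by
    obtain ⟨c, rfl⟩ := C.G.exists_tor hh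
    have hsimp : ∀ j : Fin D.rank, c j = 1 := by
      intro j
      have e := fun t => C.G.tor_conj_xu c (C.G.simp' j) t
      rw [C.G.rho_simp, C.G.chi_single] at e
      by_cases hj : j ∈ J
      swap
      · have h2 := e 1
        rw [hout _ (C.G.simp_pos j) (fun h => by
          have := h j hj
          rw [C.G.rho_simp, Pi.single_eq_same] at this
          exact one_ne_zero this) 1, mul_one] at h2
        exact Units.ext (C.G.lowest_unique (C.G.simp_pos j) (one_mem _) (one_mem _)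
          (by rw [mul_one, mul_one]; exact h2)).1.symm
      have ha := C.G.simp_pos j
      have haJ := C.G.inJ_simp_self hj
      refine Units.ext (sub_eq_zero.1 (C.eq_zero_of_lead hchk hpair ha haJ hJ
        (t := (c j : K) - 1) fun r hr hrJ q _ => ?_))
      set x := C.G.xu (K := K) (C.G.simp' j) 1
      have hmem : x * C.G.xu r 1 * x⁻¹ ∈ (UR C.G J : Subgroup (GL D.Idx K)) :=
        C.into_xu ha 1 _ (Subgroup.subset_closure ⟨r, 1, ⟨hr, hrJ⟩, rfl⟩)
      have hfix : C.G.tor c * (x * C.G.xu r 1 * x⁻¹) * (C.G.tor c)⁻¹ = x * C.G.xu r 1 * x⁻¹ := by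
        generalize hy : x * C.G.xu r 1 * x⁻¹ = y at hmem
        clear hy
        induction hmem using Subgroup.closure_induction with
        | one => simp
        | mul p q _ _ hp hq =>
          rw [show C.G.tor c * (p * q) * (C.G.tor c)⁻¹ =
            (C.G.tor c * p * (C.G.tor c)⁻¹) * (C.G.tor c * q * (C.G.tor c)⁻¹) by group, hp, hq]
        | inv p _ hp =>
          rw [show C.G.tor c * p⁻¹ * (C.G.tor c)⁻¹ = (C.G.tor c * p * (C.G.tor c)⁻¹)⁻¹ by group, hp]
        | mem p hp =>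
          obtain ⟨s, t, hs, rfl⟩ := hp
          exact hout s hs.1 hs.2 t
      have e2 : C.G.xu (C.G.simp' j) (c j : K) * C.G.xu r 1 * (C.G.xu (C.G.simp' j) (c j : K))⁻¹ =
          x * C.G.xu r 1 * x⁻¹ := by
        rw [← hfix]
        calc C.G.xu (C.G.simp' j) (c j : K) * C.G.xu r 1 * (C.G.xu (C.G.simp' j) (c j : K))⁻¹
            = (C.G.tor c * x * (C.G.tor c)⁻¹) * (C.G.tor c * C.G.xu r 1 * (C.G.tor c)⁻¹) *
              (C.G.tor c * x * (C.G.tor c)⁻¹)⁻¹ := by
              rw [hout r hr hrJ 1, e 1, mul_one]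
          _ = _ := by group
      have e3 : C.G.xu (C.G.simp' j) ((c j : K) - 1) * C.G.xu r 1 *
          (C.G.xu (C.G.simp' j) ((c j : K) - 1))⁻¹ = C.G.xu r 1 := by
        rw [sub_eq_neg_add, C.G.xu_add, ← C.G.xu_inv]
        calc x⁻¹ * C.G.xu (C.G.simp' j) (c j : K) * C.G.xu r 1 *
              (x⁻¹ * C.G.xu (C.G.simp' j) (c j : K))⁻¹
            = x⁻¹ * (C.G.xu (C.G.simp' j) (c j : K) * C.G.xu r 1 *
              (C.G.xu (C.G.simp' j) (c j : K))⁻¹) * x := by group
          _ = _ := by rw [e2]; group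
      rw [e3, inv_mul_cancel]
      exact one_mem _
    apply Units.ext
    rw [C.G.coe_tor, Units.val_one]
    have hc1 : c = 1 := funext hsimp
    subst hc1
    ext a b
    by_cases hab : a = b
    · subst hab; simp [Good.chi]
    · simp [hab]
  subst hh1
  rw [mul_one] at hc ⊢
  exact C.U_cent_le hchk hpair hJ hu hc

/-- The centralizer of `U_J` in `P_J` lies in `U_J`. -/
theorem PJ_cent_le (hJ : J ≠ Finset.univ) :
    C.PJ (K := K) J ⊓ Subgroup.centralizer ((UR C.G J : Subgroup (GL D.Idx K)) : Set (GL D.Idx K)) ≤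
      UR C.G J := fun _ ⟨hg, hc⟩ => C.PJ_cent_one_le hchk hpair hJ hg fun r hr hrJ =>
  Subgroup.mem_centralizer_iff.1 hc _ (Subgroup.subset_closure ⟨r, 1, ⟨hr, hrJ⟩, rfl⟩)

end cent

end Full

end CfsgLib.Lie.Chev
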