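import Cfsg.Agent.Lib.Lie.Chev.Parab

/-!
# The Levi decomposition of standard parabolic subgroups
-/

set_option autoImplicit false

namespace CfsgLib.Lie.Chev

open Cfsg.Lie
open scoped MatrixGroups

variable {D : ChevalleyDatum} {K : Type*} [Field K]

/-- the unipotent radical -/
noncomputable def UR (G : Good D) (J : Finset (Fin D.rank)) : Subgroup (GL D.Idx K) :=
  Subgroup.closure {g | ∃ r t, (D.IsPosRoot (r : Fin D.nroots).val ∧ ¬ InJ G J r) ∧ g = G.xu r t}

/-- the weight outside the set -/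
def outW (G : Good D) (J : Finset (Fin D.rank)) (b : D.Idx) : ℤ :=
  ∑ m ∈ Jᶜ, weight D G.rho b m

/-- off-diagonal entries increase the weight outside the set -/
def StrictJ (G : Good D) (J : Finset (Fin D.rank)) (M : Matrix D.Idx D.Idx K) : Prop :=
  (∀ a, M a a = 1) ∧ ∀ a b, a ≠ b → M a b ≠ 0 → outW G J b < outW G J a

namespace Good

variable (G : Good D) {J : Finset (Fin D.rank)}

include G

theorem strictJ_mul {M N : Matrix D.Idx D.Idx K} (hM : StrictJ G J M) (hN : StrictJ G J N) :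
    StrictJ G J (M * N) := by
  refine ⟨fun a => ?_, fun a b hab hne => ?_⟩
  · rw [Matrix.mul_apply, Finset.sum_eq_single a]
    · rw [hM.1, hN.1, one_mul]
    · intro c _ hc
      by_contra hz
      have h1 := hM.2 a c (Ne.symm hc) (left_ne_zero_of_mul hz)
      have h2 := hN.2 c a hc (right_ne_zero_of_mul hz)
      omega
    · simp
  · rw [Matrix.mul_apply] at hne
    obtain ⟨c, -, hc⟩ := Finset.exists_ne_zero_of_sum_ne_zero hne
    by_cases h1 : a = c
    · subst h1; exact hN.2 a b hab (right_ne_zero_of_mul hc)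
    · have e1 := hM.2 a c h1 (left_ne_zero_of_mul hc)
      by_cases h2 : c = b
      · subst h2; exact e1
      · have e2 := hN.2 c b h2 (right_ne_zero_of_mul hc)
        omega

theorem outW_pos {r : Fin D.nroots} (hr : D.IsPosRoot r.val) (hJ : ¬ InJ G J r) :
    0 < ∑ m ∈ Jᶜ, G.rho r m := by
  simp only [InJ, not_forall] at hJ
  obtain ⟨m, hm, h0⟩ := hJ
  exact Finset.sum_pos' (fun j _ => G.rho_nonneg hr j)
    ⟨m, Finset.mem_compl.2 hm, lt_of_le_of_ne (G.rho_nonneg hr m) (Ne.symm h0)⟩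

theorem strictJ_xu {r : Fin D.nroots} (hr : D.IsPosRoot r.val) (hJ : ¬ InJ G J r) (t : K) :
    StrictJ G J (G.xu r t : Matrix D.Idx D.Idx K) := by
  have hz : ∀ a b k, 1 ≤ k → k < 4 → outW G J a ≤ outW G J b →
      coef (act D r.val k (pos D b)) (pos D a) = 0 := by
    intro a b k hk1 hk4 hle
    by_contra hne
    have hd : dmat D r k a b ≠ 0 := by simpa [dmat, show k ≠ 0 by omega] using hne
    have e := G.weight_eq r k a b hd hk4
    simp only [outW, e, Pi.add_apply, Pi.smul_apply, smul_eq_mul, Finset.sum_add_distrib,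
      ← Finset.mul_sum] at hle
    have h1 := G.outW_pos hr hJ
    have h2 : (1 : ℤ) ≤ k := by exact_mod_cast hk1
    nlinarith
  refine ⟨fun a => ?_, fun a b hab hne => ?_⟩
  · rw [coe_xu, xg_apply, if_pos rfl, hz a a 1 le_rfl (by norm_num) le_rfl,
      hz a a 2 (by norm_num) (by norm_num) le_rfl, hz a a 3 (by norm_num) (by norm_num) le_rfl]
    simp
  · by_contra hlt
    rw [not_lt] at hlt
    apply hne
    rw [coe_xu, xg_apply, if_neg hab, hz a b 1 le_rfl (by norm_num) hlt,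
      hz a b 2 (by norm_num) (by norm_num) hlt, hz a b 3 (by norm_num) (by norm_num) hlt]
    simp

theorem strictJ_UR {g : GL D.Idx K} (hg : g ∈ (UR G J : Subgroup (GL D.Idx K))) :
    StrictJ G J (g : Matrix D.Idx D.Idx K) := by
  induction hg using Subgroup.closure_induction'' with
  | one => exact ⟨fun a => Matrix.one_apply_eq a, fun _ _ h hne => absurd (Matrix.one_apply_ne h) hne⟩
  | mul x y _ _ hx hy => rw [Units.val_mul]; exact G.strictJ_mul hx hy
  | mem x hx => obtain ⟨r, t, ⟨h1, h2⟩, rfl⟩ := hx; exact G.strictJ_xu h1 h2 t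
  | inv_mem x hx => obtain ⟨r, t, ⟨h1, h2⟩, rfl⟩ := hx; rw [G.xu_inv]; exact G.strictJ_xu h1 h2 _

theorem eq_one_of_UR_graded {g : GL D.Idx K} (hg : g ∈ (UR G J : Subgroup (GL D.Idx K)))
    (hgr : GradedJ G J (g : Matrix D.Idx D.Idx K)) : g = 1 := by
  have hs := G.strictJ_UR hg
  apply Units.ext
  ext a b
  rw [Units.val_one]
  by_cases h : a = b
  · subst h; rw [hs.1, Matrix.one_apply_eq]
  · rw [Matrix.one_apply_ne h]
    by_contra hne
    have h1 := hs.2 a b h hne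
    have h2 : outW G J a = outW G J b :=
      Finset.sum_congr rfl fun m hm => hgr a b hne m (Finset.mem_compl.1 hm)
    omega

theorem UR_le_U : (UR G J : Subgroup (GL D.Idx K)) ≤ D.posUnipotent K := by
  rw [UR, Subgroup.closure_le]
  rintro g ⟨r, t, hr, rfl⟩
  exact G.xu_mem_U hr.1 t

end Good

namespace Full

variable (C : Full D) {J : Finset (Fin D.rank)}

include C

/-- conjugation maps the radical into itself -/
def Into (_C : Full D) (J : Finset (Fin D.rank)) (x : GL D.Idx K) : Prop :=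
  ∀ v ∈ (UR _C.G J : Subgroup (GL D.Idx K)), x * v * x⁻¹ ∈ (UR _C.G J : Subgroup (GL D.Idx K))

theorem into_of_gens {x : GL D.Idx K}
    (h : ∀ r t, D.IsPosRoot (r : Fin D.nroots).val → ¬ InJ C.G J r →
      x * C.G.xu r t * x⁻¹ ∈ (UR C.G J : Subgroup (GL D.Idx K))) : C.Into J x := by
  intro v hv
  induction hv using Subgroup.closure_induction with
  | mem y hy => obtain ⟨r, t, hr, rfl⟩ := hy; exact h r t hr.1 hr.2
  | one => simp
  | mul a b _ _ ha hb =>
    rw [show x * (a * b) * x⁻¹ = (x * a * x⁻¹) * (x * b * x⁻¹) by group]; exact mul_mem ha hb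
  | inv a _ ha => rw [show x * a⁻¹ * x⁻¹ = (x * a * x⁻¹)⁻¹ by group]; exact inv_mem ha

theorem into_mul {x y : GL D.Idx K} (hx : C.Into J x) (hy : C.Into J y) : C.Into J (x * y) := by
  intro v hv
  rw [show x * y * v * (x * y)⁻¹ = x * (y * v * y⁻¹) * x⁻¹ by group]
  exact hx _ (hy v hv)

theorem mem_normalizer_of_into {x : GL D.Idx K} (hx : C.Into J x) (hx' : C.Into J x⁻¹) :
    x ∈ Subgroup.normalizer ((UR C.G J : Subgroup (GL D.Idx K)) : Set (GL D.Idx K)) := by
  rw [Subgroup.mem_normalizer_iff]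
  exact fun v => ⟨hx v, fun h => by simpa [mul_assoc] using hx' _ h⟩

theorem into_xu {r : Fin D.nroots} (hr : D.IsPosRoot r.val) (t : K) : C.Into J (C.G.xu r t) := by
  refine C.into_of_gens fun s u hs hsJ => ?_
  by_cases hsr : s = r
  · subst hsr
    rw [C.G.xu_inv, ← C.G.xu_add, ← C.G.xu_add]
    exact Subgroup.subset_closure ⟨s, _, ⟨hs, hsJ⟩, rfl⟩
  · obtain ⟨l, hl, e⟩ := C.conj_xu r s hsr (C.pos_ne_negr hr hs) (-t) u
    rw [← C.G.xu_inv, inv_inv] at e
    rw [e]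
    refine mul_mem (Subgroup.subset_closure ⟨s, u, ⟨hs, hsJ⟩, rfl⟩) (list_prod_mem fun x hx => ?_)
    obtain ⟨p, hp, rfl⟩ := List.mem_map.1 hx
    obtain ⟨i, j, hi, hj, hq⟩ := hl p hp
    refine Subgroup.subset_closure ⟨p.1, p.2, ⟨(C.rho_combo_index hr hs hi hj hq).1, fun h => hsJ ?_⟩, rfl⟩
    intro m hm
    have h1 := h m hm
    rw [hq, Pi.add_apply, Pi.smul_apply, Pi.smul_apply, smul_eq_mul, smul_eq_mul] at h1
    have h2 := C.G.rho_nonneg hr m
    have h3 := C.G.rho_nonneg hs m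
    nlinarith

theorem into_H {h : GL D.Idx K} (hh : h ∈ D.diagonalSubgroup K) : C.Into J h := by
  refine C.into_of_gens fun s u hs hsJ => ?_
  obtain ⟨a, ha⟩ := C.G.H_conj_xu hh s
  rw [ha]
  exact Subgroup.subset_closure ⟨s, _, ⟨hs, hsJ⟩, rfl⟩

theorem into_nU {i : Fin D.rank} (hi : i ∈ J) : C.Into J (C.G.nU i : GL D.Idx K) := by
  refine C.into_of_gens fun s u hs hsJ => ?_
  rw [C.G.nU_xu, mul_inv_cancel_right]
  refine Subgroup.subset_closure ⟨_, _, ⟨?_, fun h => hsJ ?_⟩, rfl⟩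
  · exact C.G.w_pos hs fun e => hsJ (e ▸ C.G.inJ_simp hi)
  · intro m hm
    have h1 := h m hm
    rw [C.G.rho_w, Pi.sub_apply, Pi.smul_apply,
      Pi.single_eq_of_ne (fun e : m = i => hm (e ▸ hi)), smul_zero, sub_zero] at h1
    exact h1

theorem into_nU_inv {i : Fin D.rank} (hi : i ∈ J) : C.Into J ((C.G.nU i : GL D.Idx K))⁻¹ := by
  have e : (C.G.nU i : GL D.Idx K)⁻¹ = C.G.nU i * (C.G.nU i * C.G.nU i)⁻¹ := by group
  rw [e]
  exact C.into_mul (C.into_nU hi) (C.into_H (inv_mem (C.G.nU_sq i)))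

/-- the parabolic subgroup -/
noncomputable def PJ (J : Finset (Fin D.rank)) : Subgroup (GL D.Idx K) :=
  D.borelSubgroup K ⊔ Subgroup.closure (C.G.nU '' (J : Set (Fin D.rank)))

theorem PJ_le_normalizer : C.PJ (K := K) J ≤
    Subgroup.normalizer ((UR C.G J : Subgroup (GL D.Idx K)) : Set (GL D.Idx K)) := by
  refine sup_le (sup_le ?_ fun h hh => C.mem_normalizer_of_into (C.into_H hh) (C.into_H (inv_mem hh))) ?_
  · rw [C.G.posUnipotent_eq_closure, Subgroup.closure_le]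
    rintro g ⟨r, t, hr, rfl⟩
    refine C.mem_normalizer_of_into (C.into_xu hr t) ?_
    rw [C.G.xu_inv]
    exact C.into_xu hr _
  · rw [Subgroup.closure_le]
    rintro g ⟨i, hi, rfl⟩
    exact C.mem_normalizer_of_into (C.into_nU hi) (C.into_nU_inv hi)

theorem PJ_le_group : C.PJ (K := K) J ≤ D.group K :=
  sup_le C.G.borel_le_group ((Subgroup.closure_le _).2 (by
    rintro g ⟨i, -, rfl⟩
    exact C.G.nU_mem_group i))

section levi

variable (hchk : chkSupp D = true)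

include hchk

theorem LJ_le_PJ : (LJ C.G J : Subgroup (GL D.Idx K)) ≤ C.PJ J := by
  rw [LJ, Subgroup.closure_le]
  rintro g ⟨r, t, hr, rfl⟩
  exact C.xu_mem_of_inJ (M := C.PJ J) hchk (fun i _ t => Subgroup.mem_sup_left
      (Subgroup.mem_sup_left (C.G.xu_mem_U (C.G.simp_pos i) t)))
    (fun i hi => Subgroup.mem_sup_right (Subgroup.subset_closure (Set.mem_image_of_mem _ hi))) hr t

theorem PJ_eq_closure : C.PJ (K := K) J = D.diagonalSubgroup K ⊔
    Subgroup.closure {g | ∃ r t, (D.IsPosRoot (r : Fin D.nroots).val ∨ InJ C.G J r) ∧ g = C.G.xu r t} := by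
  refine le_antisymm (sup_le (sup_le ?_ le_sup_left) ?_) (sup_le
    (le_sup_of_le_left le_sup_right) ?_)
  · rw [C.G.posUnipotent_eq_closure]
    refine le_sup_of_le_right (Subgroup.closure_mono ?_)
    rintro g ⟨r, t, hr, rfl⟩
    exact ⟨r, t, Or.inl hr, rfl⟩
  · rw [Subgroup.closure_le]
    rintro g ⟨i, hi, rfl⟩
    refine Subgroup.mem_sup_right ?_
    have h := C.G.nw_mem_LJ (K := K) (J := J) (l := [i]) (by simpa using hi)
    rw [Good.nw, List.map_singleton, List.prod_singleton] at h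
    refine Subgroup.closure_mono ?_ h
    rintro x ⟨r, t, hr, rfl⟩
    exact ⟨r, t, Or.inr hr, rfl⟩
  · rw [Subgroup.closure_le]
    rintro g ⟨r, t, hr | hr, rfl⟩
    · exact Subgroup.mem_sup_left (Subgroup.mem_sup_left (C.G.xu_mem_U hr t))
    · exact C.LJ_le_PJ hchk (Subgroup.subset_closure ⟨r, t, hr, rfl⟩)

theorem UR_sup_levi : (UR C.G J : Subgroup (GL D.Idx K)) ⊔ (D.diagonalSubgroup K ⊔ LJ C.G J) =
    C.PJ J := by
  refine le_antisymm (sup_le ?_ (sup_le (le_sup_of_le_left le_sup_right) (C.LJ_le_PJ hchk))) ?_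
  · exact (C.G.UR_le_U).trans (le_sup_of_le_left le_sup_left)
  · rw [C.PJ_eq_closure hchk]
    refine sup_le (le_sup_of_le_right le_sup_left) ?_
    rw [Subgroup.closure_le]
    rintro g ⟨r, t, hr, rfl⟩
    by_cases hJ : InJ C.G J r
    · exact Subgroup.mem_sup_right (Subgroup.mem_sup_right (Subgroup.subset_closure ⟨r, t, hJ, rfl⟩))
    · exact Subgroup.mem_sup_left
        (Subgroup.subset_closure ⟨r, t, ⟨hr.resolve_right hJ, hJ⟩, rfl⟩)

theorem UR_inf_levi : (UR C.G J : Subgroup (GL D.Idx K)) ⊓ (D.diagonalSubgroup K ⊔ LJ C.G J) = ⊥ := by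
  rw [eq_bot_iff]
  rintro g ⟨hu, hl⟩
  refine Subgroup.mem_bot.2 (C.G.eq_one_of_UR_graded hu ?_)
  rw [SetLike.mem_coe, Subgroup.sup_eq_closure] at hl
  clear hu
  induction hl using Subgroup.closure_induction'' with
  | one => exact C.G.gradedJ_one
  | mul x y _ _ hx hy => rw [Units.val_mul]; exact C.G.gradedJ_mul hx hy
  | mem x hx =>
    rcases hx with hx | hx
    exacts [C.G.gradedJ_H hx, C.G.gradedJ_LJ hx]
  | inv_mem x hx =>
    rcases hx with hx | hx
    exacts [C.G.gradedJ_H (inv_mem hx), C.G.gradedJ_LJ (inv_mem hx)]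

end levi

/-- a permutation preserving the roots of the radical lies in the parabolic Weyl group -/
theorem pw_mem_of_preserve : ∀ (k : ℕ) (l : List (Fin D.rank)), l.length = k →
    (∀ r : Fin D.nroots, D.IsPosRoot r.val → ¬ InJ C.G J r →
      D.IsPosRoot (C.G.pw l r).val ∧ ¬ InJ C.G J (C.G.pw l r)) →
    ∃ l' : List (Fin D.rank), (∀ i ∈ l', i ∈ J) ∧ C.G.pw l' = C.G.pw l := by
  intro k
  induction k using Nat.strong_induction_on with
  | _ k ih =>
    intro l hk hl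
    by_cases h : ∀ j, D.IsPosRoot (C.G.pw l (C.G.simp' j)).val
    · exact ⟨[], by simp, by rw [C.G.pw_eq_one_of_pos _ l rfl h, C.G.pw_nil]⟩
    · simp only [not_forall] at h
      obtain ⟨j, hj⟩ := h
      have hjJ : j ∈ J := by
        by_contra hjJ
        refine hj (hl _ (C.G.simp_pos j) fun hin => hjJ ?_).1
        by_contra h'
        have := hin j h'
        rw [C.G.rho_simp, Pi.single_eq_same] at this
        exact one_ne_zero this
      obtain ⟨l₁, i, l₂, rfl, hperm, -⟩ := C.G.delete_right hj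
      obtain ⟨l', hl', e⟩ := ih (l₁ ++ l₂).length (by simp at hk ⊢; omega) (l₁ ++ l₂) rfl fun r hr hrJ => by
        rw [← hperm, Equiv.Perm.mul_apply, C.G.sP_apply]
        refine hl _ (C.G.w_pos hr fun e => hrJ (e ▸ C.G.inJ_simp hjJ)) fun h' => hrJ fun m hm => ?_
        have h1 := h' m hm
        rw [C.G.rho_w, Pi.sub_apply, Pi.smul_apply,
          Pi.single_eq_of_ne (fun e : m = j => hm (e ▸ hjJ)), smul_zero, sub_zero] at h1
        exact h1
      refine ⟨l' ++ [j], fun x hx => ?_, ?_⟩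
      · rcases List.mem_append.1 hx with h' | h'
        · exact hl' x h'
        · rw [List.mem_singleton] at h'; exact h' ▸ hjJ
      · rw [C.G.pw_append, C.G.pw_single, e, ← hperm, mul_assoc, C.G.sP_mul_self, mul_one]

theorem normalizer_UR (hchk : chkSupp D = true) :
    Subgroup.normalizer ((UR C.G J : Subgroup (GL D.Idx K)) : Set (GL D.Idx K)) ⊓ D.group K = C.PJ J := by
  refine le_antisymm ?_ (le_inf C.PJ_le_normalizer C.PJ_le_group)
  rintro g ⟨hg, hgG⟩
  obtain ⟨b, hb, n, hn, π, hπ, u, hu, rfl⟩ := C.refined_exists hgG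
  have hbP : b ∈ C.PJ (K := K) J := Subgroup.mem_sup_left hb
  have huP : u ∈ C.PJ (K := K) J :=
    Subgroup.mem_sup_left (Subgroup.mem_sup_left (C.G.Uinv_le π hu))
  have hnN : n ∈ Subgroup.normalizer ((UR C.G J : Subgroup (GL D.Idx K)) : Set (GL D.Idx K)) := by
    rw [show n = b⁻¹ * (b * n * u) * u⁻¹ by group]
    exact mul_mem (mul_mem (inv_mem (C.PJ_le_normalizer hbP)) hg) (inv_mem (C.PJ_le_normalizer huP))
  obtain ⟨l, hl⟩ := C.G.exists_nPerm hn
  obtain rfl := Good.NPerm.unique C.G hπ hl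
  have hpres : ∀ r : Fin D.nroots, D.IsPosRoot r.val → ¬ InJ C.G J r →
      D.IsPosRoot (C.G.pw l r).val ∧ ¬ InJ C.G J (C.G.pw l r) := by
    intro r hr hrJ
    obtain ⟨c, hc⟩ := hl r
    have h1 := (Subgroup.mem_normalizer_iff.1 hnN (C.G.xu r 1)).1
      (Subgroup.subset_closure ⟨r, 1, ⟨hr, hrJ⟩, rfl⟩)
    rw [hc, mul_one] at h1
    refine ⟨?_, fun hin => ?_⟩
    · by_contra hneg
      have h2 : C.G.xu (C.G.pw l r) (c : K) ∈ D.posUnipotent K ⊓ D.negUnipotent K :=
        Subgroup.mem_inf.2 ⟨C.G.UR_le_U h1, C.G.xu_mem_V ((C.G.isNegRoot_iff_not_pos _).2 hneg) _⟩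
      rw [C.G.U_inf_V_eq, Subgroup.mem_bot, C.G.xu_eq_one_iff] at h2
      exact c.ne_zero h2
    · have h2 := C.G.eq_one_of_UR_graded h1 (C.G.gradedJ_xu hin _)
      rw [C.G.xu_eq_one_iff] at h2
      exact c.ne_zero h2
  obtain ⟨l', hl', e⟩ := C.pw_mem_of_preserve _ l rfl hpres
  have hH : n * (C.G.nw l')⁻¹ ∈ D.diagonalSubgroup K := by
    refine C.G.mem_H_of_nPerm_one (mul_mem hn (inv_mem (C.G.nw_mem_monomial l'))) ?_
    have := Good.NPerm.mul C.G hl (Good.NPerm.inv C.G (C.G.nPerm_nw (K := K) l'))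
    rwa [e, mul_inv_cancel] at this
  have hnP : n ∈ C.PJ (K := K) J := by
    rw [show n = n * (C.G.nw l')⁻¹ * C.G.nw l' by group]
    refine mul_mem (Subgroup.mem_sup_left (Subgroup.mem_sup_right hH)) (Subgroup.mem_sup_right ?_)
    exact list_prod_mem fun x hx => by
      obtain ⟨i, hi, rfl⟩ := List.mem_map.1 hx
      exact Subgroup.subset_closure ⟨i, hl' i hi, rfl⟩
  exact mul_mem (mul_mem hbP hnP) huP

/-! ### the subgroups of the statements -/

theorem parabolic_eq (J : Set ℕ) : D.parabolicSubgroup K J = C.PJ (nodesIn D J) := by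
  rw [ChevalleyDatum.parabolicSubgroup, PJ]
  congr 2
  ext g
  constructor
  · rintro ⟨j, hj, hjr, hg⟩
    exact ⟨⟨j, hjr⟩, mem_nodesIn.2 hj, (Units.ext (hg.trans (C.G.nMat_simple ⟨j, hjr⟩))).symm⟩
  · rintro ⟨i, hi, rfl⟩
    exact ⟨i.val, mem_nodesIn.1 hi, i.isLt, (C.G.nMat_simple i).symm⟩

theorem radical_eq (hchk : chkSupp D = true) (J : Set ℕ) :
    D.unipotentRadical K J = UR C.G (nodesIn D J) := by
  rw [ChevalleyDatum.unipotentRadical, UR]
  congr 1
  ext g
  constructor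
  · rintro ⟨r, t, hr, hJ, hg⟩
    exact ⟨⟨r, hr.1⟩, t, ⟨hr, fun h => hJ ((C.inRootSub_iff hchk J ⟨r, hr.1⟩).2 h)⟩,
      Units.ext (hg.trans (C.G.x_eq_xu ⟨r, hr.1⟩ t))⟩
  · rintro ⟨r, t, ⟨hr, hJ⟩, rfl⟩
    exact ⟨r.val, t, hr, fun h => hJ ((C.inRootSub_iff hchk J r).1 h), (C.G.x_eq_xu r t).symm⟩

theorem levi_eq (hchk : chkSupp D = true) (J : Set ℕ) :
    D.leviSubgroup K J = D.diagonalSubgroup K ⊔ LJ C.G (nodesIn D J) := by
  rw [ChevalleyDatum.leviSubgroup, LJ]
  congr 2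
  ext g
  constructor
  · rintro ⟨r, t, hJ, hg⟩
    exact ⟨⟨r, hJ.1⟩, t, (C.inRootSub_iff hchk J ⟨r, hJ.1⟩).1 hJ,
      Units.ext (hg.trans (C.G.x_eq_xu ⟨r, hJ.1⟩ t))⟩
  · rintro ⟨r, t, hJ, rfl⟩
    exact ⟨r.val, t, (C.inRootSub_iff hchk J r).2 hJ, (C.G.x_eq_xu r t).symm⟩

theorem closure_eq (hchk : chkSupp D = true) (J : Set ℕ) :
    Subgroup.closure {g : GL D.Idx K | ∃ (r : ℕ) (t : K), (D.IsPosRoot r ∨ D.InRootSub J r) ∧
      (g : Matrix D.Idx D.Idx K) = D.x K r t} = Subgroup.closure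
      {g | ∃ r t, (D.IsPosRoot (r : Fin D.nroots).val ∨ InJ C.G (nodesIn D J) r) ∧ g = C.G.xu r t} := by
  congr 1
  ext g
  constructor
  · rintro ⟨r, t, h, hg⟩
    have hr : r < D.nroots := h.elim (fun h => h.1) (fun h => h.1)
    exact ⟨⟨r, hr⟩, t, h.imp_right fun h => (C.inRootSub_iff hchk J ⟨r, hr⟩).1 h,
      Units.ext (hg.trans (C.G.x_eq_xu ⟨r, hr⟩ t))⟩
  · rintro ⟨r, t, h, rfl⟩
    exact ⟨r.val, t, h.imp_right fun h => (C.inRootSub_iff hchk J r).2 h, (C.G.x_eq_xu r t).symm⟩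

end Full

end CfsgLib.Lie.Chev
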