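import Cfsg.Agent.Lib.Lie.Chev.CoxCert
import Cfsg.Agent.Lib.Lie.Chev.PoinF4

/-!
The Coxeter group of type F4 and its action on the roots.
-/

set_option autoImplicit false
set_option maxRecDepth 100000
set_option maxHeartbeats 1000000

namespace CfsgLib.Lie.Chev

open Cfsg.Lie

theorem rankF4 : 4 = chevF4.rank := by decide +kernel

theorem coxMatF4 : ∀ i j : Fin 4, chkOrd chevF4 fastF4 [i.val, j.val] (CoxeterMatrix.F₄ i j) = true := by decide +kernel

theorem cardWJF4 (G : Good chevF4) : Psum G Finset.univ (1 : ℕ) = 1152 := by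
  have h3 := G.Psum_of_chk (S := stepF4_3) (G.w_eq_wF checksF4) (G.simples_eq' checksF4)
    chkStepF4_3 (1 : ℕ)
  rw [show stepF4_3.I = [0, 1, 2, 3] from rfl, show stepF4_3.J = [1, 2, 3] from rfl,
    show (stepF4_3.N.map fun a => (1 : ℕ) ^ a).sum = 24 by simp [stepF4_3]] at h3
  have h2 := G.Psum_of_chk (S := stepF4_2) (G.w_eq_wF checksF4) (G.simples_eq' checksF4)
    chkStepF4_2 (1 : ℕ)
  rw [show stepF4_2.I = [1, 2, 3] from rfl, show stepF4_2.J = [1, 2] from rfl,
    show (stepF4_2.N.map fun a => (1 : ℕ) ^ a).sum = 6 by simp [stepF4_2]] at h2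
  have h1 := G.Psum_of_chk (S := stepF4_1) (G.w_eq_wF checksF4) (G.simples_eq' checksF4)
    chkStepF4_1 (1 : ℕ)
  rw [show stepF4_1.I = [1, 2] from rfl, show stepF4_1.J = [2] from rfl,
    show (stepF4_1.N.map fun a => (1 : ℕ) ^ a).sum = 4 by simp [stepF4_1]] at h1
  have h0 := G.Psum_of_chk (S := stepF4_0) (G.w_eq_wF checksF4) (G.simples_eq' checksF4)
    chkStepF4_0 (1 : ℕ)
  rw [show stepF4_0.I = [2] from rfl, show stepF4_0.J = [] from rfl,
    show (stepF4_0.N.map fun a => (1 : ℕ) ^ a).sum = 2 by simp [stepF4_0]] at h0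
  rw [show (Finset.univ : Finset (Fin chevF4.rank)) = idxSet chevF4 [0, 1, 2, 3] from by decide +kernel, h3, h2, h1, h0]
  rw [show idxSet chevF4 [] = ∅ from by decide +kernel, G.Psum_empty]
  all_goals norm_num

theorem cardWgF4 (G : Good chevF4) : Nat.card G.Wg = 1152 := by
  classical
  rw [← cardWJF4 G, Nat.card_eq_fintype_card, Psum]
  simp [G.WJ_univ, Fintype.card_subtype]

theorem exists_equivF4 (G : Good chevF4) : ∃ ψ : (CoxeterMatrix.F₄).Group ≃* G.Wg, ∀ i : Fin 4,
    (ψ ((CoxeterMatrix.F₄).simple i) : Equiv.Perm (Fin chevF4.nroots)) = G.sP (Fin.cast rankF4 i) :=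
  G.exists_coxeter_equiv checksF4 CoxeterMatrix.F₄ rankF4 coxMatF4

theorem orderCoxF4 (G : Good chevF4) : orderOf (G.pw (List.finRange chevF4.rank)) = 12 :=
  G.orderOf_pw checksF4 _ (by decide +kernel)

theorem flipF4 : chkFlip chevF4 fastF4 = true := by decide +kernel

theorem coxHalfF4 : (allLt chevF4.nroots fun r =>
    Nat.beq (iterF fastF4 ((List.finRange chevF4.rank).map Fin.val) 6 r) (fastF4.negs.get r)) = true := by
  decide +kernel

theorem negPowF4 (G : Good chevF4) : ∀ r, (G.pw (List.finRange chevF4.rank) ^ 6) r = G.negr r := by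
  intro r
  refine Fin.ext ?_
  rw [G.iter_val checksF4, Nat.eq_of_beq_eq_true (allLt_spec coxHalfF4 r.val r.isLt),
    (rowsOK checksF4.rows).negs r.val r.isLt]
  exact (G.negr_val r).symm

/-- straight line programme -/
def slpPF4 : Tree ℕ := (.node 2 (.node 1 (.leaf 0x2f002e002d00280020001f001e002c002700260025001d001c001b000e002b002a0029002400230022001a00190018001700160015000d000c000b0006000500040021001400130012000a00090008000300110010000f0007000200010000) (.leaf 0x2f002d002e002c002a002b002900280026002700250024002200230021001f0020001e001d001b001c00180016001a0015001900170013001400120011000f0010000e000c000d000b000a0008000900070006000400050003000100020000)) (.node 3 (.leaf 0x2f002e002b002c002d002a0029002700280024002300260025002100220020001a0019001d001c0014001f001e0018001700110010001b0013001200160015000f000d000e000a0009000c000b000700080006000500020003000400010000) (.leaf 0x2e002f002d002c002b0029002a002800270025002600230024002200210020001e001f001c001d001b0019001a001700180015001600140012001300100011000f000e000d000b000c0009000a000800070005000600040003000200000001)))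

/-- its operations -/
def slpOpF4 : Tree (Bool × ℕ × ℕ) := (.node 2 (.node 1 (.leaf (false, 0, 0)) (.leaf (false, 0, 0))) (.node 3 (.leaf (true, 0, 0)) (.leaf (true, 1, 1))))

theorem genF4 (G : Good chevF4) (H : Subgroup (Equiv.Perm (Fin chevF4.nroots)))
    (hc : G.pw (List.finRange chevF4.rank) ∈ H)
    (h0 : G.sP ⟨0, by decide +kernel⟩ ∈ H)
    (h1 : G.sP ⟨2, by decide +kernel⟩ ∈ H) : G.Wg ≤ H := by
  have hb : ([(0, 0), (1, 2)] : List (ℕ × ℕ)).all (fun p =>
      allLt chevF4.nroots fun r => Nat.beq (wF fastF4 p.2 r) (digit (slpPF4.get p.1) r)) = true := by decide +kernel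
  rw [List.all_eq_true] at hb
  have hstep : (allLt 4 fun k => cond (Nat.blt k 2) true (chkGenStep chevF4 fastF4
      ((List.finRange chevF4.rank).map Fin.val) slpPF4 slpOpF4 k)) = true := by decide +kernel
  have hsimp : ∀ i : Fin chevF4.rank, ([0, 2, 1, 3].getD i.val 0 < 4 ∧
      allLt chevF4.nroots (fun r => Nat.beq (wF fastF4 i.val r) (digit (slpPF4.get ([0, 2, 1, 3].getD i.val 0)) r)) = true) := by
    decide +kernel
  have key := G.sP_mem_of_slp checksF4 H hc 4 2 slpPF4 slpOpF4 (fun k hk => ?_) hstep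
  · refine (Subgroup.closure_le _).2 ?_
    rintro x ⟨i, rfl⟩
    obtain ⟨π, hπ, hπr⟩ := key _ (hsimp i).1
    suffices e : G.sP i = π by rw [e]; exact hπ
    refine Equiv.ext fun r => Fin.ext ?_
    rw [hπr, Good.sP_apply, G.w_eq_wF checksF4]
    exact Nat.eq_of_beq_eq_true (allLt_spec (hsimp i).2 r.val r.isLt)
  · interval_cases k
    · refine ⟨_, h0, fun r => ?_⟩
      rw [Good.sP_apply, G.w_eq_wF checksF4]
      exact Nat.eq_of_beq_eq_true (allLt_spec (hb (0, 0) (by simp)) r.val r.isLt)
    · refine ⟨_, h1, fun r => ?_⟩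
      rw [Good.sP_apply, G.w_eq_wF checksF4]
      exact Nat.eq_of_beq_eq_true (allLt_spec (hb (1, 2) (by simp)) r.val r.isLt)

end CfsgLib.Lie.Chev
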