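import Cfsg.Agent.Lib.Lie.Chev.Good

/-!
# The one-parameter subgroups

`x_r(t) = 1 + t D₁ + t² D₂ + t³ D₃` where the integer matrices `D_k` satisfy the multiplication
rules of divided powers of a nilpotent matrix, so that `x_r(s) x_r(t) = x_r(s + t)` over every
commutative ring.
-/

set_option autoImplicit false

namespace CfsgLib.Lie.Chev

open Cfsg.Lie

variable {D : ChevalleyDatum}

/-- multiplication by a non-zero natural number is injective on integer matrices -/
theorem nsmul_cancel {n : ℕ} (hn : n ≠ 0) {A B : Matrix D.Idx D.Idx ℤ} (h : n • A = n • B) :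
    A = B := by
  ext i j
  have := congrFun (congrFun h i) j
  simp only [Matrix.smul_apply, nsmul_eq_mul] at this
  exact mul_left_cancel₀ (by exact_mod_cast hn) this

namespace Good

variable (G : Good D) (r : Fin D.nroots)

include G

theorem d21 : dmat D r 2 * dmat D r 1 = 3 • dmat D r 3 := by
  refine nsmul_cancel two_ne_zero ?_
  rw [← smul_mul_assoc, ← G.pow_one, mul_assoc, G.pow_one, mul_smul_comm, G.pow_two]

theorem d31 : dmat D r 3 * dmat D r 1 = 0 := by
  refine nsmul_cancel three_ne_zero ?_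
  rw [← smul_mul_assoc, ← G.pow_two, mul_assoc, G.d21, mul_smul_comm, G.pow_three]

theorem d22 : dmat D r 2 * dmat D r 2 = 0 := by
  refine nsmul_cancel two_ne_zero ?_
  rw [← smul_mul_assoc, ← G.pow_one, mul_assoc, G.pow_two, mul_smul_comm, G.pow_three, smul_zero,
    smul_zero]

theorem d23 : dmat D r 2 * dmat D r 3 = 0 := by
  refine nsmul_cancel two_ne_zero ?_
  rw [← smul_mul_assoc, ← G.pow_one, mul_assoc, G.pow_three, mul_zero, smul_zero]

theorem d32 : dmat D r 3 * dmat D r 2 = 0 := by
  refine nsmul_cancel two_ne_zero ?_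
  rw [← mul_smul_comm, ← G.pow_one, ← mul_assoc, G.d31, zero_mul, smul_zero]

theorem d33 : dmat D r 3 * dmat D r 3 = 0 := by
  refine nsmul_cancel three_ne_zero ?_
  rw [← smul_mul_assoc, ← G.pow_two, mul_assoc, G.d23, mul_zero, smul_zero]

end Good

section ring

variable (R : Type*) [CommRing R]

/-- the coefficient matrices over a commutative ring -/
def dR (r : Fin D.nroots) (k : ℕ) : Matrix D.Idx D.Idx R := (dmat D r k).map (Int.cast : ℤ → R)

theorem xg_eq (r : Fin D.nroots) (t : R) :
    xg R r t = 1 + t • dR R r 1 + t ^ 2 • dR R r 2 + t ^ 3 • dR R r 3 := by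
  simp [xg, Finset.sum_range_succ, dR]

theorem dR_eq (r : Fin D.nroots) (k : ℕ) :
    dR R r k = (Int.castRingHom R).mapMatrix (dmat D r k) := rfl

theorem xg_zero (r : Fin D.nroots) : xg R r (0 : R) = 1 := by
  simp [xg_eq]

variable {R}

theorem xg_add (G : Good D) (r : Fin D.nroots) (s t : R) :
    xg R r s * xg R r t = xg R r (s + t) := by
  set φ := (Int.castRingHom R).mapMatrix (m := D.Idx)
  have h11 : dR R r 1 * dR R r 1 = 2 • dR R r 2 := by
    simp only [dR_eq, ← map_mul, G.pow_one, map_nsmul]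
  have h12 : dR R r 1 * dR R r 2 = 3 • dR R r 3 := by
    simp only [dR_eq, ← map_mul, G.pow_two, map_nsmul]
  have h13 : dR R r 1 * dR R r 3 = 0 := by
    simp only [dR_eq, ← map_mul, G.pow_three, map_zero]
  have h21 : dR R r 2 * dR R r 1 = 3 • dR R r 3 := by
    simp only [dR_eq, ← map_mul, G.d21, map_nsmul]
  have h31 : dR R r 3 * dR R r 1 = 0 := by simp only [dR_eq, ← map_mul, G.d31, map_zero]
  have h22 : dR R r 2 * dR R r 2 = 0 := by simp only [dR_eq, ← map_mul, G.d22, map_zero]
  have h23 : dR R r 2 * dR R r 3 = 0 := by simp only [dR_eq, ← map_mul, G.d23, map_zero]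
  have h32 : dR R r 3 * dR R r 2 = 0 := by simp only [dR_eq, ← map_mul, G.d32, map_zero]
  have h33 : dR R r 3 * dR R r 3 = 0 := by simp only [dR_eq, ← map_mul, G.d33, map_zero]
  simp only [xg_eq, add_mul, mul_add, one_mul, mul_one, smul_mul_smul_comm, h11, h12, h13, h21, h31,
    h22, h23, h32, h33, smul_zero]
  module

theorem xg_neg_mul (G : Good D) (r : Fin D.nroots) (t : R) : xg R r (-t) * xg R r t = 1 := by
  rw [xg_add G, neg_add_cancel, xg_zero]

theorem xg_mul_neg (G : Good D) (r : Fin D.nroots) (t : R) : xg R r t * xg R r (-t) = 1 := by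
  rw [xg_add G, add_neg_cancel, xg_zero]

theorem xg_det_ne_zero {K : Type*} [Field K] (G : Good D) (r : Fin D.nroots) (t : K) :
    (xg K r t).det ≠ 0 := by
  intro h
  have := congrArg Matrix.det (xg_mul_neg G r t)
  rw [Matrix.det_mul, h, zero_mul, Matrix.det_one] at this
  exact zero_ne_one this

end ring

end CfsgLib.Lie.Chev
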