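import Cfsg.Agent.Lib.Lie.Chev.AutSym
import Cfsg.Agent.Lib.Lie.Chev.TorData
import Cfsg.Prelude.Def_KGroupFacts

/-!
# The outer automorphism group of a finite Chevalley group
-/

set_option autoImplicit false

namespace CfsgLib.Lie.Chev

open Cfsg.Lie
open scoped MatrixGroups
set_option maxHeartbeats 400000

/-- every positive root is fundamental or is lowered by some fundamental reflection -/
def chkDesc (D : ChevalleyDatum) : Bool :=
  (List.range D.nroots).all fun r => !(decide (D.IsPosRoot r)) ||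
    (List.range D.rank).any fun i => D.simple i == r || decide (0 < D.cartan i r)

theorem chkDesc_all {D : ChevalleyDatum}
    (hD : D ∈ [chevG2, chevB2, chevD4, chevF4, chevE6, chevE7, chevE8]) : chkDesc D = true := by
  simp only [List.mem_cons, List.not_mem_nil, or_false] at hD
  rcases hD with rfl | rfl | rfl | rfl | rfl | rfl | rfl <;> decide +kernel

variable {D : ChevalleyDatum} {K : Type*} [Field K]

namespace Full

variable {C : Full D}
variable {φ : MulAut ↥(D.group K)} {π : Equiv.Perm (Fin D.rank)} {σ : Fin D.rank → K ≃+* K}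

theorem IsStd.one (C : Full D) : C.IsStd (1 : MulAut ↥(D.group K)) 1 fun _ => RingEquiv.refl K :=
  fun _ _ => ⟨rfl, rfl⟩

theorem IsStd.mul {φ' : MulAut ↥(D.group K)} {π' : Equiv.Perm (Fin D.rank)}
    {σ' : Fin D.rank → K ≃+* K} (h : C.IsStd φ π σ) (h' : C.IsStd φ' π' σ') :
    C.IsStd (φ * φ') (π * π') fun i => (σ' i).trans (σ (π' i)) := fun i t =>
  ⟨by rw [MulAut.mul_apply, (h' i t).1, (h (π' i) _).1]; rfl,
    by rw [MulAut.mul_apply, (h' i t).2, (h (π' i) _).2]; rfl⟩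

theorem aXs_injective {r s : Fin D.nroots} (h : C.aXs (K := K) r = C.aXs s) : r = s := by
  obtain ⟨t, ht⟩ : C.aX r (1 : K) ∈ C.aXs s := h ▸ ⟨1, rfl⟩
  exact C.G.xu_eq_xu (congrArg Subtype.val ht.symm) one_ne_zero

theorem IsStd.unique {π' : Equiv.Perm (Fin D.rank)} {σ' : Fin D.rank → K ≃+* K}
    (h : C.IsStd φ π σ) (h' : C.IsStd φ π' σ') : π = π' ∧ σ = σ' := by
  have hπ : ∀ i, π i = π' i := fun i => by
    have e := (h i 1).1.symm.trans (h' i 1).1
    rw [map_one, map_one] at e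
    exact C.G.simp_injective (C.G.xu_eq_xu (congrArg Subtype.val e) one_ne_zero)
  refine ⟨Equiv.ext hπ, funext fun i => RingEquiv.ext fun t => ?_⟩
  have e := (h i t).1.symm.trans (h' i t).1
  rw [hπ] at e
  exact C.aX_inj e

theorem isStd_fieldAut (C : Full D) (τ : K ≃+* K) :
    C.IsStd (C.fieldAut τ) 1 fun _ => τ := fun _ _ => ⟨C.fieldAut_aX τ _ _, C.fieldAut_aX τ _ _⟩

theorem IsStd.map_simp (h : C.IsStd φ π σ) (i : Fin D.rank) :
    (C.aXs (C.G.simp' i)).map φ.toMonoidHom = C.aXs (K := K) (C.G.simp' (π i)) ∧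
      (C.aXs (C.G.negr (C.G.simp' i))).map φ.toMonoidHom =
        C.aXs (K := K) (C.G.negr (C.G.simp' (π i))) := by
  constructor <;> ext g <;> constructor
  · rintro ⟨_, ⟨t, rfl⟩, rfl⟩; exact ⟨σ i t, (h i t).1.symm⟩
  · rintro ⟨t, rfl⟩
    exact ⟨_, ⟨(σ i).symm t, rfl⟩, (h i _).1.trans (by rw [RingEquiv.apply_symm_apply])⟩
  · rintro ⟨_, ⟨t, rfl⟩, rfl⟩; exact ⟨σ i t, (h i t).2.symm⟩
  · rintro ⟨t, rfl⟩
    exact ⟨_, ⟨(σ i).symm t, rfl⟩, (h i _).2.trans (by rw [RingEquiv.apply_symm_apply])⟩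

theorem IsStd.map_w (h : C.IsStd φ π σ) (i : Fin D.rank) {r r' : Fin D.nroots}
    (hr : (C.aXs r).map φ.toMonoidHom = C.aXs (K := K) r') :
    (C.aXs (C.G.w i r)).map φ.toMonoidHom = C.aXs (K := K) (C.G.w (π i) r') := by
  have e : ∀ (j : Fin D.rank) (s : Fin D.nroots),
      (C.aXs s).map (MulAut.conj (C.sG j)).toMonoidHom = C.aXs (K := K) (C.G.w j s) :=
    fun j s => C.map_aXs (n := C.sG j) (π := C.G.sP j) (C.G.nPerm_nU j) s
  rw [← e, ← e, ← hr, Subgroup.map_map, Subgroup.map_map]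
  congr 1
  ext g
  simp [h.map_sG]

theorem IsStd.map_root (h : C.IsStd φ π σ) (hdesc : chkDesc D = true) (r : Fin D.nroots)
    (hr : D.IsPosRoot r.val) : ∃ r' : Fin D.nroots, D.IsPosRoot r'.val ∧
      (C.aXs r).map φ.toMonoidHom = C.aXs (K := K) r' ∧
      (C.aXs (C.G.negr r)).map φ.toMonoidHom = C.aXs (K := K) (C.G.negr r') := by
  induction hn : r.val using Nat.strong_induction_on generalizing r with
  | _ n ih =>
    have hd1 := List.all_eq_true.1 hdesc r.val (List.mem_range.2 r.isLt)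
    simp only [hr, decide_true, Bool.not_true, Bool.false_or, List.any_eq_true, List.mem_range,
      Bool.or_eq_true, beq_iff_eq, decide_eq_true_eq] at hd1
    obtain ⟨i, hi, hc⟩ := hd1
    by_cases hs : r = C.G.simp' ⟨i, hi⟩
    · subst hs
      exact ⟨_, C.G.simp_pos _, (h.map_simp _).1, (h.map_simp _).2⟩
    have hpos : 0 < cart D ⟨i, hi⟩ r := by
      refine hc.resolve_left fun e => hs (Fin.ext ?_)
      rw [C.G.simp_val]; exact e.symm
    set s := C.G.w ⟨i, hi⟩ r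
    have hs_pos : D.IsPosRoot s.val := C.G.w_pos hr hs
    have hlt : s.val < n := by
      rw [← hn]
      refine C.G.index_lt_of_ht_lt ?_
      rw [C.G.rho_w, sub_eq_add_neg, C.G.ht_add, C.G.ht_neg, C.G.ht_smul]
      have := mul_pos hpos (C.G.ht_single_pos ⟨i, hi⟩)
      linarith
    obtain ⟨s', hs', h1, h2⟩ := ih s.val hlt s hs_pos rfl
    have hne : s' ≠ C.G.simp' (π ⟨i, hi⟩) := by
      intro e
      rw [e, ← (h.map_simp _).1] at h1
      have := aXs_injective (Subgroup.map_injective φ.injective h1)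
      apply C.G.negr_simp_not_pos ⟨i, hi⟩
      have e2 := congrArg (C.G.w ⟨i, hi⟩) this
      rw [C.G.w_w, C.G.w_simp] at e2
      exact e2 ▸ hr
    refine ⟨C.G.w (π ⟨i, hi⟩) s', C.G.w_pos hs' hne, ?_, ?_⟩
    · have := h.map_w ⟨i, hi⟩ h1
      rwa [show C.G.w ⟨i, hi⟩ s = r from C.G.w_w _ r] at this
    · have := h.map_w ⟨i, hi⟩ h2
      rwa [C.G.w_negr, C.G.w_negr, show C.G.w ⟨i, hi⟩ s = r from C.G.w_w _ r] at this

theorem IsStd.map_aU_le (h : C.IsStd φ π σ) (hdesc : chkDesc D = true) :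
    (C.aU K).map φ.toMonoidHom ≤ C.aU K ∧ (C.aV K).map φ.toMonoidHom ≤ C.aV K := by
  constructor
  · rw [C.aU_eq, MonoidHom.map_closure, Subgroup.closure_le]
    rintro _ ⟨_, ⟨r, t, hr, rfl⟩, rfl⟩
    obtain ⟨r', hr', h1, -⟩ := h.map_root hdesc r hr
    obtain ⟨u, hu⟩ : φ (C.aX r t) ∈ C.aXs (K := K) r' := h1 ▸ ⟨_, ⟨t, rfl⟩, rfl⟩
    exact Subgroup.subset_closure ⟨r', u, hr', hu.symm⟩
  · rw [C.aV_eq, MonoidHom.map_closure, Subgroup.closure_le]
    rintro _ ⟨_, ⟨r, t, hr, rfl⟩, rfl⟩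
    obtain ⟨r', hr', -, h2⟩ := h.map_root hdesc (C.G.negr r) ((C.G.negr_pos_iff r).2 hr)
    rw [C.G.negr_negr] at h2
    obtain ⟨u, hu⟩ : φ (C.aX r t) ∈ C.aXs (K := K) (C.G.negr r') := h2 ▸ ⟨_, ⟨t, rfl⟩, rfl⟩
    exact Subgroup.subset_closure ⟨_, u, fun hp => (C.G.negr_pos_iff r').1 hp hr', hu.symm⟩

/-- a standard automorphism that is inner-diagonal is trivial -/
theorem IsStd.eq_one (h : C.IsStd φ π σ) (hdesc : chkDesc D = true) {x : ↥(D.group K)}
    {c : Fin D.rank → Kˣ} (he : φ = MulAut.conj x * C.torAut c) :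
    φ = 1 ∧ C.G.tor c ∈ D.diagonalSubgroup K := by
  have hxeq : MulAut.conj x = φ * (C.torAut c)⁻¹ := by rw [he, mul_inv_cancel_right]
  have hfix : ∀ ψ : MulAut ↥(D.group K), ∀ X : Subgroup ↥(D.group K),
      X.map ψ.toMonoidHom ≤ X → ∀ y ∈ X, ψ y ∈ X := fun ψ X hX y hy => hX ⟨y, hy, rfl⟩
  have ht : ∀ d : Fin D.rank → Kˣ, (∀ y ∈ C.aU K, C.torAut d y ∈ C.aU K) ∧
      (∀ y ∈ C.aV K, C.torAut d y ∈ C.aV K) := fun d => by
    constructor
    · refine hfix _ _ ?_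
      rw [C.aU_eq, MonoidHom.map_closure, Subgroup.closure_le]
      rintro _ ⟨_, ⟨r, t, hr, rfl⟩, rfl⟩
      exact Subgroup.subset_closure ⟨r, _, hr, C.torAut_aX d r t⟩
    · refine hfix _ _ ?_
      rw [C.aV_eq, MonoidHom.map_closure, Subgroup.closure_le]
      rintro _ ⟨_, ⟨r, t, hr, rfl⟩, rfl⟩
      exact Subgroup.subset_closure ⟨r, _, hr, C.torAut_aX d r t⟩
  have htinv : (C.torAut c)⁻¹ = C.torAut c⁻¹ := by
    rw [inv_eq_iff_mul_eq_one]
    refine MulEquiv.ext fun g => Subtype.ext ?_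
    show C.G.tor c * (C.G.tor c⁻¹ * (g : GL D.Idx K) * (C.G.tor c⁻¹)⁻¹) * (C.G.tor c)⁻¹ =
      (g : GL D.Idx K)
    rw [map_inv]; group
  have hf := h.map_aU_le hdesc
  have hf' := h.symm.map_aU_le hdesc
  have hconjU : ∀ y, y ∈ C.aU K ↔ x * y * x⁻¹ ∈ C.aU K := by
    intro y
    constructor
    · intro hy
      rw [← MulAut.conj_apply, hxeq, htinv]
      exact hfix φ _ hf.1 _ ((ht _).1 y hy)
    · intro hy
      have e : y = (MulAut.conj x)⁻¹ (x * y * x⁻¹) := by simp [← map_inv, mul_assoc]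
      rw [e, hxeq, mul_inv_rev, inv_inv]
      exact (ht c).1 _ (hfix φ.symm _ hf'.1 _ hy)
  have hconjV : ∀ y, y ∈ C.aV K ↔ x * y * x⁻¹ ∈ C.aV K := by
    intro y
    constructor
    · intro hy
      rw [← MulAut.conj_apply, hxeq, htinv]
      exact hfix φ _ hf.2 _ ((ht _).2 y hy)
    · intro hy
      have e : y = (MulAut.conj x)⁻¹ (x * y * x⁻¹) := by simp [← map_inv, mul_assoc]
      rw [e, hxeq, mul_inv_rev, inv_inv]
      exact (ht c).2 _ (hfix φ.symm _ hf'.2 _ hy)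
  have hxH : x ∈ C.aH K := by
    rw [← C.aB_inf_normalizer_aV, ← C.normalizer_aU]
    exact ⟨Subgroup.mem_normalizer_iff.2 hconjU, Subgroup.mem_normalizer_iff.2 hconjV⟩
  obtain ⟨c₀, hc₀⟩ := C.G.exists_tor (show (x : GL D.Idx K) ∈ D.diagonalSubgroup K from hxH)
  have hφ : φ = C.torAut (c₀ * c) := by
    rw [he]
    refine MulEquiv.ext fun g => Subtype.ext ?_
    show (x : GL D.Idx K) * (C.G.tor c * (g : GL D.Idx K) * (C.G.tor c)⁻¹) * (x : GL D.Idx K)⁻¹ =
      C.G.tor (c₀ * c) * (g : GL D.Idx K) * (C.G.tor (c₀ * c))⁻¹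
    rw [hc₀, map_mul]; group
  have hk : ∀ i, c₀ i * c i = 1 := by
    intro i
    have e := (h i 1).1
    rw [hφ, C.torAut_simp, map_one, mul_one] at e
    have hi := C.G.simp_injective (C.G.xu_eq_xu (congrArg Subtype.val e) (Units.ne_zero _))
    rw [← hi] at e
    exact Units.ext (C.aX_inj e)
  have hck : c₀ * c = 1 := funext hk
  refine ⟨?_, ?_⟩
  · rw [hφ, hck]
    refine MulEquiv.ext fun g => Subtype.ext ?_
    show C.G.tor 1 * (g : GL D.Idx K) * (C.G.tor 1)⁻¹ = (g : GL D.Idx K)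
    rw [map_one]; group
  · have : C.G.tor c = (x : GL D.Idx K)⁻¹ := by
      rw [hc₀, eq_inv_iff_mul_eq_one, ← map_mul, mul_comm c, hck, map_one]
    rw [this]
    exact inv_mem hxH

variable (C)

/-- the diagonal automorphisms as a homomorphism -/
noncomputable def torHom : (Fin D.rank → Kˣ) →* MulAut ↥(D.group K) :=
  MonoidHom.mk' C.torAut fun c d => MulEquiv.ext fun g => Subtype.ext (by
    show C.G.tor (c * d) * (g : GL D.Idx K) * (C.G.tor (c * d))⁻¹ =
      C.G.tor c * (C.G.tor d * (g : GL D.Idx K) * (C.G.tor d)⁻¹) * (C.G.tor c)⁻¹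
    rw [map_mul]; group)

variable (K) in
/-- the standard automorphisms -/
noncomputable def stdGrp : Subgroup (MulAut ↥(D.group K)) where
  carrier := {φ | ∃ π σ, C.IsStd φ π σ}
  one_mem' := ⟨1, _, IsStd.one C⟩
  mul_mem' := by rintro _ _ ⟨π, σ, h⟩ ⟨π', σ', h'⟩; exact ⟨_, _, h.mul h'⟩
  inv_mem' := by rintro _ ⟨π, σ, h⟩; exact ⟨_, _, h.symm⟩

/-- the permutation of the nodes of a standard automorphism -/
noncomputable def nodeHom : ↥(C.stdGrp K) →* Equiv.Perm (Fin D.rank) :=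
  MonoidHom.mk' (fun φ => φ.2.choose) fun a b => by
    obtain ⟨σ, ha⟩ := a.2.choose_spec
    obtain ⟨σ', hb⟩ := b.2.choose_spec
    obtain ⟨τ, hab⟩ := (a * b).2.choose_spec
    exact (hab.unique (ha.mul hb)).1

variable {C}

theorem IsStd.nodeHom_eq (h : C.IsStd φ π σ) : C.nodeHom ⟨φ, π, σ, h⟩ = π := by
  obtain ⟨σ', h'⟩ := (⟨φ, π, σ, h⟩ : ↥(C.stdGrp K)).2.choose_spec
  exact (h'.unique h).1

variable (C)

theorem torAut_inner_iff (hdesc : chkDesc D = true) (c : Fin D.rank → Kˣ) :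
    C.torHom c ∈ Cfsg.Inn ↥(D.group K) ↔ C.G.tor c ∈ D.diagonalSubgroup K := by
  constructor
  · rintro ⟨x, hx⟩
    refine ((IsStd.one C).eq_one hdesc (x := x⁻¹) (c := c) ?_).2
    have hx' : MulAut.conj x = C.torAut c := hx
    rw [← hx', map_inv, inv_mul_cancel]
  · intro h
    exact ⟨⟨_, C.G.diagonal_le_group h⟩, MulEquiv.ext fun g => Subtype.ext rfl⟩

theorem card_out [Fintype K] (hdesc : chkDesc D = true) :
    Nat.card (Cfsg.Out ↥(D.group K)) * Nat.card ↥(D.diagonalSubgroup K) =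
      (Fintype.card K - 1) ^ D.rank * Nat.card ↥(C.stdGrp K) := by
  classical
  set H0 : Subgroup (Fin D.rank → Kˣ) := (D.diagonalSubgroup K).comap C.G.tor
  have hH : Nat.card ↥H0 = Nat.card ↥(D.diagonalSubgroup K) :=
    Nat.card_eq_of_bijective (fun c => (⟨C.G.tor c.1, c.2⟩ : ↥(D.diagonalSubgroup K)))
      ⟨fun a b h => Subtype.ext (by
        rw [← mul_inv_eq_one]
        refine C.G.tor_eq_one ?_
        rw [map_mul, map_inv, mul_inv_eq_one]
        exact congrArg Subtype.val h),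
       fun g => by
        obtain ⟨c, hc⟩ := C.G.exists_tor g.2
        exact ⟨⟨c, show C.G.tor c ∈ _ from hc ▸ g.2⟩, Subtype.ext hc.symm⟩⟩
  let Ψ : ((Fin D.rank → Kˣ) ⧸ H0) × ↥(C.stdGrp K) → Cfsg.Out ↥(D.group K) := fun p =>
    QuotientGroup.mk' (Cfsg.Inn ↥(D.group K)) (C.torHom p.1.out * p.2.1)
  have hbij : Function.Bijective Ψ := by
    constructor
    · rintro ⟨a, φ⟩ ⟨b, φ'⟩ h
      simp only [Ψ] at h
      have h' : ((C.torHom a.out * φ.1)⁻¹ * (C.torHom b.out * φ'.1)) ∈ Cfsg.Inn ↥(D.group K) :=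
        QuotientGroup.eq.1 h
      have h2 : φ.1 * ((C.torHom a.out * φ.1)⁻¹ * (C.torHom b.out * φ'.1)) * φ.1⁻¹ ∈
          Cfsg.Inn ↥(D.group K) := Subgroup.Normal.conj_mem (Cfsg.innNormal _) _ h' φ.1
      obtain ⟨x, hx⟩ := h2
      obtain ⟨π, σ, hs⟩ := mul_mem φ'.2 (inv_mem φ.2)
      obtain ⟨y, hy⟩ : C.torHom (b.out⁻¹ * a.out) * MulAut.conj x *
          (C.torHom (b.out⁻¹ * a.out))⁻¹ ∈ Cfsg.Inn ↥(D.group K) :=
        Subgroup.Normal.conj_mem (Cfsg.innNormal _) _ ⟨x, rfl⟩ _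
      have he : φ'.1 * φ.1⁻¹ = MulAut.conj y * C.torAut (b.out⁻¹ * a.out) := by
        rw [show C.torAut (b.out⁻¹ * a.out) = C.torHom (b.out⁻¹ * a.out) from rfl, hy,
          inv_mul_cancel_right, hx, map_mul, map_inv]
        group
      obtain ⟨h1, h3⟩ := hs.eq_one hdesc he
      refine Prod.ext ?_ (Subtype.ext (mul_inv_eq_one.1 h1).symm)
      rw [← a.out_eq, ← b.out_eq]
      exact (QuotientGroup.eq.2 h3).symm
    · intro q
      obtain ⟨θ, rfl⟩ := QuotientGroup.mk'_surjective _ q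
      obtain ⟨x, c, φ, π, σ, hφ, rfl⟩ := C.exists_std θ
      refine ⟨(QuotientGroup.mk c, ⟨φ, π, σ, hφ⟩), ?_⟩
      obtain ⟨h, hh⟩ := QuotientGroup.mk_out_eq_mul H0 c
      set e := φ.trans ((C.torAut c).trans (MulAut.conj x))
      show QuotientGroup.mk' _ (C.torHom (QuotientGroup.mk c : _ ⧸ H0).out * φ) = _
      rw [hh, show e = MulAut.conj x * C.torHom c * φ from rfl]
      simp only [map_mul]
      have h1 : QuotientGroup.mk' (Cfsg.Inn ↥(D.group K)) (C.torHom h.1) = 1 :=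
        (QuotientGroup.eq_one_iff _).2 ((C.torAut_inner_iff hdesc _).2 h.2)
      have h2 : QuotientGroup.mk' (Cfsg.Inn ↥(D.group K)) (MulAut.conj x) = 1 :=
        (QuotientGroup.eq_one_iff _).2 ⟨x, rfl⟩
      rw [h1, h2, mul_one, one_mul]
  rw [← Nat.card_congr (Equiv.ofBijective Ψ hbij), Nat.card_prod, ← hH]
  have h := Subgroup.card_eq_card_quotient_mul_card_subgroup H0
  rw [Nat.card_fun, Nat.card_units, Nat.card_fin, Nat.card_eq_fintype_card] at h
  rw [h]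
  ring

theorem card_stdGrp [Finite K] (hD : D ∈ [chevG2, chevB2, chevD4, chevF4, chevE6, chevE7, chevE8]) :
    Nat.card ↥(C.stdGrp K) = Nat.card ↥(C.nodeHom (K := K)).range * Nat.card (RingAut K) := by
  classical
  have hr : 0 < D.rank := by
    simp only [List.mem_cons, List.not_mem_nil, or_false] at hD
    rcases hD with rfl | rfl | rfl | rfl | rfl | rfl | rfl <;> decide +kernel
  have hker : ∀ φ : ↥(C.stdGrp K), C.nodeHom φ = 1 → ∃ τ : RingAut K, φ.1 = C.fieldAut τ := by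
    intro φ hφ
    obtain ⟨π, σ, h⟩ := φ.2
    have hπ : π = 1 := (h.nodeHom_eq).symm.trans hφ
    subst hπ
    obtain ⟨τ, hτ⟩ := h.exists_sigma (chkBond_all hD) (chkLen_all hD) (connected_all hD)
    have hσ : ∀ i (t : K), σ i t = τ t := fun i t => by
      rw [hτ, ChevalleyDatum.graphExp]
      rw [if_neg (by simp), pow_one]
    refine ⟨τ, C.aut_ext (fun i t => ?_) fun i t => ?_⟩
    · rw [(h i t).1, C.fieldAut_aX, hσ]; rfl
    · rw [(h i t).2, C.fieldAut_aX, hσ]; rfl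
  have e : RingAut K ≃ ↥(C.nodeHom (K := K)).ker := Equiv.ofBijective
    (fun τ => ⟨⟨C.fieldAut τ, _, _, C.isStd_fieldAut τ⟩, (C.isStd_fieldAut τ).nodeHom_eq⟩)
    ⟨fun a b h => by
      have h' : C.fieldAut a = C.fieldAut b := congrArg (fun z => z.1.1) h
      exact congrFun ((C.isStd_fieldAut a).unique (h' ▸ C.isStd_fieldAut b)).2 ⟨0, hr⟩,
     fun φ => by
      obtain ⟨τ, hτ⟩ := hker φ.1 φ.2
      exact ⟨τ, Subtype.ext (Subtype.ext hτ.symm)⟩⟩
  rw [Subgroup.card_eq_card_quotient_mul_card_subgroup (C.nodeHom (K := K)).ker,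
    Nat.card_congr (QuotientGroup.quotientKerEquivRange (C.nodeHom (K := K))).toEquiv,
    ← Nat.card_congr e]

theorem card_out_eq [Fintype K] (hD : D ∈ [chevG2, chevB2, chevD4, chevF4, chevE6, chevE7, chevE8])
    (T : KerData D.rank) (hT : T.Ok (cmat D)) :
    Nat.card (Cfsg.Out ↥(D.group K)) = (Nat.gcd T.d (Fintype.card K - 1)) ^ T.k *
      (Nat.card ↥(C.nodeHom (K := K)).range * Nat.card (RingAut K)) := by
  have h := C.card_out (K := K) (chkDesc_all hD)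
  rw [← C.G.card_diagonal T hT, C.card_stdGrp hD] at h
  exact Nat.eq_of_mul_eq_mul_right (Nat.card_pos (α := ↥(D.diagonalSubgroup K))) (h.trans (by ring))

end Full

end CfsgLib.Lie.Chev
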