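import Cfsg.Agent.Lib.Lie.Chev.Weyl
import Cfsg.Prelude.Def_LieExceptional

/-!
# The Borel subgroup and the (B, N)-pair of a Chevalley group
-/

set_option autoImplicit false

namespace CfsgLib.Lie.Chev

open Cfsg.Lie
open scoped MatrixGroups

variable {D : ChevalleyDatum} {K : Type*} [Field K]

/-- `U_i`, generated by the positive root elements other than those of `p_i` -/
noncomputable def Uex (G : Good D) (i : Fin D.rank) : Subgroup (GL D.Idx K) :=
  Subgroup.closure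
    {g | ∃ r t, (D.IsPosRoot (r : Fin D.nroots).val ∧ r ≠ G.simp' i) ∧ g = G.xu r t}

namespace Good

variable (G : Good D)

include G

theorem rho_nonneg {r : Fin D.nroots} (hr : D.IsPosRoot r.val) (j : Fin D.rank) : 0 ≤ G.rho r j := by
  rcases G.rho_sign r with h | h
  · exact h j
  · exfalso
    have h0 := (G.isPosRoot_iff r).1 hr
    have : G.ht (G.rho r) ≤ 0 := Finset.sum_nonpos fun m _ =>
      mul_nonpos_of_nonpos_of_nonneg (h m) (pow_nonneg G.base_pos.le _)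
    omega

theorem isPosRoot_of_coord {r : Fin D.nroots} {j : Fin D.rank} (h : 0 < G.rho r j) :
    D.IsPosRoot r.val := by
  rw [G.isPosRoot_iff]
  rcases G.rho_sign r with hs | hs
  · exact Finset.sum_pos' (fun l _ => mul_nonneg (hs l) (pow_nonneg G.base_pos.le _))
      ⟨j, Finset.mem_univ j, mul_pos h (pow_pos G.base_pos _)⟩
  · exact absurd (hs j) (by omega)

/-- a positive root other than `p_i` has a positive coordinate away from `i` -/
theorem exists_coord {i : Fin D.rank} {r : Fin D.nroots} (hr : D.IsPosRoot r.val)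
    (hne : r ≠ G.simp' i) : ∃ j, j ≠ i ∧ 0 < G.rho r j := by
  by_contra hex
  have hw := G.w_pos hr hne
  have hneg : G.rho (G.w i r) i < 0 := by
    have hsingle : ∀ j, j ≠ i → G.rho r j = 0 := fun j hj =>
      le_antisymm (not_lt.1 fun h => hex ⟨j, hj, h⟩) (G.rho_nonneg hr j)
    have hc : cart D i r = G.rho r i * 2 := by
      rw [G.cart_eq, Finset.sum_eq_single i (fun j _ hj => by rw [hsingle j hj, zero_mul]) (by simp),
        G.cart_simp]
    rw [G.rho_w, Pi.sub_apply, Pi.smul_apply, Pi.single_eq_same, smul_eq_mul, mul_one, hc]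
    have hpos : 0 < G.rho r i := by
      rcases (G.rho_nonneg hr i).lt_or_eq with h | h
      · exact h
      · exfalso
        refine G.rho_ne_zero r (funext fun j => ?_)
        by_cases hj : j = i
        · subst hj; exact h.symm
        · exact hsingle j hj
    omega
  have := G.rho_nonneg hw i
  omega

theorem nU_mem_group (i : Fin D.rank) : G.nU i ∈ D.group K :=
  mul_mem (mul_mem (G.xu_mem _ _) (G.xu_mem _ _)) (G.xu_mem _ _)

theorem nE_mem_group (r : Fin D.nroots) (t : K) : G.nE r t ∈ D.group K :=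
  mul_mem (mul_mem (G.xu_mem _ _) (G.xu_mem _ _)) (G.xu_mem _ _)

theorem diagonal_le_group : D.diagonalSubgroup K ≤ D.group K := by
  rw [ChevalleyDatum.diagonalSubgroup, Subgroup.closure_le]
  rintro g ⟨r, t, hr, _, hg⟩
  rw [show g = G.hE ⟨r, hr⟩ t from Units.ext (hg.trans (G.hMat_eq ⟨r, hr⟩ t))]
  exact mul_mem (G.nE_mem_group _ _) (G.nE_mem_group _ _)

theorem posUnipotent_le_group : D.posUnipotent K ≤ D.group K := by
  rw [G.posUnipotent_eq_closure, Subgroup.closure_le]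
  rintro g ⟨r, t, -, rfl⟩; exact G.xu_mem r t

theorem negUnipotent_le_group : D.negUnipotent K ≤ D.group K := by
  rw [G.negUnipotent_eq_closure, Subgroup.closure_le]
  rintro g ⟨r, t, -, rfl⟩; exact G.xu_mem r t

theorem borel_le_group : D.borelSubgroup K ≤ D.group K :=
  sup_le G.posUnipotent_le_group G.diagonal_le_group

theorem monomial_le_group : D.monomialSubgroup K ≤ D.group K := by
  rw [G.monomial_eq]
  refine sup_le G.diagonal_le_group ((Subgroup.closure_le _).2 ?_)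
  rintro g ⟨i, rfl⟩; exact G.nU_mem_group i

theorem nw_mem_monomial (l : List (Fin D.rank)) : G.nw l ∈ D.monomialSubgroup K :=
  list_prod_mem fun x hx => by
    obtain ⟨i, -, rfl⟩ := List.mem_map.1 hx
    exact G.nU_mem_monomial i

theorem borel_sup_monomial : D.borelSubgroup K ⊔ D.monomialSubgroup K = D.group K := by
  refine le_antisymm (sup_le G.borel_le_group G.monomial_le_group) ?_
  have key : ∀ r (t : K), G.xu r t ∈ D.borelSubgroup K ⊔ D.monomialSubgroup K := by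
    refine G.orbit _ (fun i _ t => ?_) fun i r hr t => ?_
    · exact Subgroup.mem_sup_left (Subgroup.mem_sup_left (G.xu_mem_U (G.simp_pos i) t))
    · have hn : G.nU i ∈ D.borelSubgroup K ⊔ D.monomialSubgroup K :=
        Subgroup.mem_sup_right (G.nU_mem_monomial i)
      have := mul_mem (mul_mem hn (hr ((G.eta i r : K) * t))) (inv_mem hn)
      rw [G.nU_xu, mul_assoc, mul_inv_cancel, mul_one, ← mul_assoc] at this
      rcases G.eta_unit i r with e | e <;> simpa [e] using this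
  rw [G.group_eq, Subgroup.closure_le]
  rintro g ⟨r, t, rfl⟩
  exact key r t

theorem exists_nPerm {n : GL D.Idx K} (hn : n ∈ D.monomialSubgroup K) : ∃ l, G.NPerm n (G.pw l) := by
  obtain ⟨h, hh, l, rfl⟩ := G.monomial_decomp hn
  exact ⟨l, by simpa using NPerm.mul G (G.nPerm_H hh) (G.nPerm_nw l)⟩

/-- only the identity keeps all fundamental roots positive -/
theorem pw_eq_one_of_pos : ∀ (n : ℕ) (l : List (Fin D.rank)), l.length = n →
    (∀ j, D.IsPosRoot (G.pw l (G.simp' j)).val) → G.pw l = 1 := by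
  intro n
  induction n using Nat.strong_induction_on with
  | _ n ih =>
    intro l hn hl
    rcases List.eq_nil_or_concat l with rfl | ⟨l', j, rfl⟩
    · exact G.pw_nil
    · rw [List.concat_eq_append] at hn hl ⊢
      have hj := hl j
      rw [pw_append, pw_single, Equiv.Perm.mul_apply, sP_apply, G.w_simp, G.pw_negr,
        G.negr_pos_iff] at hj
      obtain ⟨l₁, i, l₂, rfl, hperm, -⟩ := G.delete_right hj
      have e : G.pw ((l₁ ++ i :: l₂) ++ [j]) = G.pw (l₁ ++ l₂) := by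
        rw [pw_append, pw_single, hperm]
      rw [e] at hl ⊢
      exact ih _ (by simp at hn ⊢; omega) (l₁ ++ l₂) rfl hl

theorem nw_mem_H' {l : List (Fin D.rank)} (h : G.pw l = 1) : G.nw l ∈ D.diagonalSubgroup K :=
  G.nw_mem_H l.length l rfl h

theorem mem_H_of_nPerm_one {n : GL D.Idx K} (hn : n ∈ D.monomialSubgroup K) (h : G.NPerm n 1) :
    n ∈ D.diagonalSubgroup K := by
  obtain ⟨d, hd', l, rfl⟩ := G.monomial_decomp hn
  have e : G.pw l = 1 := by
    have h2 := NPerm.mul G (G.nPerm_H hd') (G.nPerm_nw (K := K) l)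
    rw [one_mul] at h2
    exact NPerm.unique G h2 h
  exact mul_mem hd' (G.nw_mem_H' e)

theorem U_inf_V_eq : D.posUnipotent K ⊓ D.negUnipotent K = ⊥ :=
  le_bot_iff.1 (le_trans (inf_le_inf_right _ le_sup_left) G.B_inf_V.le)

theorem U_inf_N : D.posUnipotent K ⊓ D.monomialSubgroup K = ⊥ := by
  rw [eq_bot_iff]
  rintro u ⟨hu, hn⟩
  obtain ⟨l, hl⟩ := G.exists_nPerm hn
  have e : G.pw l = 1 := by
    refine G.pw_eq_one_of_pos l.length l rfl fun j => ?_
    by_contra hj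
    obtain ⟨c, hc⟩ := hl (G.simp' j)
    have h1 : u * G.xu (G.simp' j) 1 * u⁻¹ ∈ D.posUnipotent K :=
      mul_mem (mul_mem hu (G.xu_mem_U (G.simp_pos j) 1)) (inv_mem hu)
    rw [hc] at h1
    have h2 := G.xu_mem_V ((G.isNegRoot_iff_not_pos _).2 hj) ((c : K) * 1)
    have h3 : G.xu (G.pw l (G.simp' j)) ((c : K) * 1) = 1 :=
      Subgroup.mem_bot.1 (G.U_inf_V_eq (K := K) ▸ ⟨h1, h2⟩)
    rw [G.xu_eq_one_iff] at h3
    exact c.ne_zero (by simpa using h3)
  rw [e] at hl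
  have hH := G.mem_H_of_nPerm_one hn hl
  exact Subgroup.mem_bot.2 (G.eq_one_of_U_H hu (inv_mem hH) (mul_inv_cancel u)).1

theorem B_inf_N : D.borelSubgroup K ⊓ D.monomialSubgroup K = D.diagonalSubgroup K := by
  refine le_antisymm ?_ (le_inf le_sup_right le_sup_left)
  rintro g ⟨hb', hn⟩
  obtain ⟨u, hu, h, hh, rfl⟩ := G.mem_borel_iff.1 hb'
  have : u ∈ D.posUnipotent K ⊓ D.monomialSubgroup K := by
    refine ⟨hu, ?_⟩
    have hh' : h ∈ D.monomialSubgroup K := G.H_le_monomial hh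
    have := mul_mem (show u * h ∈ D.monomialSubgroup K from hn) (inv_mem hh')
    simpa using this
  rw [G.U_inf_N, Subgroup.mem_bot] at this
  subst this
  simpa using hh

theorem nU_conj_Uex (i : Fin D.rank) : ∀ v ∈ (Uex G i : Subgroup (GL D.Idx K)),
    G.nU i * v * (G.nU i)⁻¹ ∈ (Uex G i : Subgroup (GL D.Idx K)) := by
  intro v hv
  induction hv using Subgroup.closure_induction with
  | one => simp
  | mul a b _ _ ha hb =>
    rw [show G.nU i * (a * b) * (G.nU i)⁻¹ = (G.nU i * a * (G.nU i)⁻¹) * (G.nU i * b * (G.nU i)⁻¹) by group]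
    exact mul_mem ha hb
  | inv a _ ha =>
    rw [show G.nU i * a⁻¹ * (G.nU i)⁻¹ = (G.nU i * a * (G.nU i)⁻¹)⁻¹ by group]
    exact inv_mem ha
  | mem x hx =>
    obtain ⟨r, t, ⟨hr1, hr2⟩, rfl⟩ := hx
    rw [G.nU_xu, mul_assoc, mul_inv_cancel, mul_one]
    refine Subgroup.subset_closure ⟨_, _, ⟨G.w_pos hr1 hr2, fun e => ?_⟩, rfl⟩
    have := congrArg (G.w i) e
    rw [G.w_w, G.w_simp] at this
    exact G.negr_simp_not_pos i (this ▸ hr1)

theorem Uex_le (i : Fin D.rank) : (Uex G i : Subgroup (GL D.Idx K)) ≤ D.posUnipotent K := by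
  rw [Uex, Subgroup.closure_le]
  rintro g ⟨r, t, ⟨hr, -⟩, rfl⟩
  exact G.xu_mem_U hr t

end Good

namespace Full

variable (C : Full D)

include C

theorem xu_conj_Uex (i : Fin D.rank) {r : Fin D.nroots}
    (hr : r = C.G.simp' i ∨ r = C.G.negr (C.G.simp' i)) (t : K) :
    ∀ v ∈ (Uex C.G i : Subgroup (GL D.Idx K)),
      C.G.xu r t * v * (C.G.xu r t)⁻¹ ∈ (Uex C.G i : Subgroup (GL D.Idx K)) := by
  intro v hv
  induction hv using Subgroup.closure_induction with
  | one => simp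
  | mul a b _ _ ha hb =>
    rw [show C.G.xu r t * (a * b) * (C.G.xu r t)⁻¹ =
      (C.G.xu r t * a * (C.G.xu r t)⁻¹) * (C.G.xu r t * b * (C.G.xu r t)⁻¹) by group]
    exact mul_mem ha hb
  | inv a _ ha =>
    rw [show C.G.xu r t * a⁻¹ * (C.G.xu r t)⁻¹ = (C.G.xu r t * a * (C.G.xu r t)⁻¹)⁻¹ by group]
    exact inv_mem ha
  | mem x hx =>
    obtain ⟨s, u, ⟨hs1, hs2⟩, rfl⟩ := hx
    obtain ⟨j, hj, hjpos⟩ := C.G.exists_coord hs1 hs2
    have hrj : C.G.rho r j = 0 := by
      rcases hr with rfl | rfl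
      · rw [C.G.rho_simp]; simp [hj]
      · rw [C.G.rho_negr, C.G.rho_simp]; simp [hj]
    have hsr : s ≠ r := fun e => by rw [e, hrj] at hjpos; exact lt_irrefl _ hjpos
    have hsn : s ≠ C.G.negr r := fun e => by
      rw [e, C.G.rho_negr, Pi.neg_apply, hrj, neg_zero] at hjpos; exact lt_irrefl _ hjpos
    obtain ⟨l, hl, e⟩ := C.conj_xu r s hsr hsn (-t) u
    rw [C.G.xu_inv r (-t), neg_neg, ← C.G.xu_inv r t] at e
    rw [e]
    refine mul_mem (Subgroup.subset_closure ⟨s, u, ⟨hs1, hs2⟩, rfl⟩) (list_prod_mem fun y hy => ?_)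
    obtain ⟨p, hp, rfl⟩ := List.mem_map.1 hy
    obtain ⟨a, b, ha, hb, hq⟩ := hl p hp
    have hq' : 0 < C.G.rho p.1 j := by
      rw [hq]
      simp only [Pi.add_apply, Pi.smul_apply, smul_eq_mul, hrj, mul_zero, zero_add]
      exact mul_pos (by exact_mod_cast hb) hjpos
    refine Subgroup.subset_closure ⟨p.1, p.2, ⟨C.G.isPosRoot_of_coord hq', fun e => ?_⟩, rfl⟩
    rw [e, C.G.rho_simp] at hq'
    simp [hj] at hq'

theorem xu_mem_normalizer_Uex (i : Fin D.rank) {r : Fin D.nroots}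
    (hr : r = C.G.simp' i ∨ r = C.G.negr (C.G.simp' i)) (t : K) :
    C.G.xu r t ∈ Subgroup.normalizer ((Uex C.G i : Subgroup (GL D.Idx K)) : Set (GL D.Idx K)) := by
  rw [Subgroup.mem_normalizer_iff]
  intro v
  refine ⟨C.xu_conj_Uex i hr t v, fun hv => ?_⟩
  have h := C.xu_conj_Uex i hr (-t) _ hv
  rw [← C.G.xu_inv] at h
  simpa [mul_assoc] using h

theorem exists_Uex_mul (i : Fin D.rank) {u : GL D.Idx K} (hu : u ∈ D.posUnipotent K) :
    ∃ v ∈ (Uex C.G i : Subgroup (GL D.Idx K)), ∃ t : K, u = v * C.G.xu (C.G.simp' i) t := by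
  rw [C.G.posUnipotent_eq_closure] at hu
  induction hu using Subgroup.closure_induction_left with
  | one => exact ⟨1, one_mem _, 0, by rw [C.G.xu_zero, mul_one]⟩
  | mul_left x hx y _ ih =>
    obtain ⟨v, hv, t, rfl⟩ := ih
    obtain ⟨r, s, hr, rfl⟩ := hx
    by_cases e : r = C.G.simp' i
    · subst e
      refine ⟨_, C.xu_conj_Uex i (Or.inl rfl) s v hv, s + t, ?_⟩
      rw [C.G.xu_add]; group
    · exact ⟨C.G.xu r s * v, mul_mem (Subgroup.subset_closure ⟨r, s, ⟨hr, e⟩, rfl⟩) hv, t, by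
        rw [mul_assoc]⟩
  | inv_mul_cancel x hx y _ ih =>
    obtain ⟨v, hv, t, rfl⟩ := ih
    obtain ⟨r, s, hr, rfl⟩ := hx
    by_cases e : r = C.G.simp' i
    · subst e
      refine ⟨_, C.xu_conj_Uex i (Or.inl rfl) (-s) v hv, -s + t, ?_⟩
      rw [C.G.xu_add, ← C.G.xu_inv]; group
    · exact ⟨(C.G.xu r s)⁻¹ * v,
        mul_mem (inv_mem (Subgroup.subset_closure ⟨r, s, ⟨hr, e⟩, rfl⟩)) hv, t, by rw [mul_assoc]⟩

/-- the double coset condition -/
theorem mul_mem_union (i : Fin D.rank) {n b : GL D.Idx K} (hn : n ∈ D.monomialSubgroup K)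
    (hb : b ∈ D.borelSubgroup K) :
    C.G.nU i * b * n ∈
      DoubleCoset.doubleCoset (C.G.nU i * n) (D.borelSubgroup K : Set (GL D.Idx K)) (D.borelSubgroup K) ∪
      DoubleCoset.doubleCoset n (D.borelSubgroup K : Set (GL D.Idx K)) (D.borelSubgroup K) := by
  obtain ⟨u, hu, h, hh, rfl⟩ := C.G.mem_borel_iff.1 hb
  obtain ⟨v, hv, t, rfl⟩ := C.exists_Uex_mul i hu
  have hh' : n⁻¹ * h * n ∈ D.diagonalSubgroup K :=
    (Subgroup.mem_normalizer_iff''.1 (C.G.monomial_le_normalizer hn) h).1 hh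
  obtain ⟨l, hl⟩ := C.G.exists_nPerm hn
  set p := C.G.simp' i
  set s : GL D.Idx K := C.G.nU i with hs
  have hv' : s * v * s⁻¹ ∈ D.borelSubgroup K :=
    Subgroup.mem_sup_left (C.G.Uex_le i (C.G.nU_conj_Uex i v hv))
  obtain ⟨c, hc⟩ := (Good.NPerm.inv C.G hl) p
  simp only [inv_inv] at hc
  have hB : ∀ {x : GL D.Idx K}, x ∈ D.diagonalSubgroup K → x ∈ D.borelSubgroup K :=
    fun hx => Subgroup.mem_sup_right hx
  have e0 : s * (v * C.G.xu p t * h) * n =
      s * v * s⁻¹ * (s * C.G.xu p t * n) * (n⁻¹ * h * n) := by group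
  by_cases hpos : D.IsPosRoot ((C.G.pw l)⁻¹ p).val
  · left
    rw [DoubleCoset.mem_doubleCoset]
    refine ⟨s * v * s⁻¹, hv', C.G.xu ((C.G.pw l)⁻¹ p) ((c : K) * t) * (n⁻¹ * h * n),
      mul_mem (Subgroup.mem_sup_left (C.G.xu_mem_U hpos _)) (hB hh'), ?_⟩
    rw [← hc t]; group
  · by_cases ht : t = 0
    · left
      rw [DoubleCoset.mem_doubleCoset]
      refine ⟨s * v * s⁻¹, hv', n⁻¹ * h * n, hB hh', ?_⟩
      rw [ht, C.G.xu_zero]; group
    right
    rw [DoubleCoset.mem_doubleCoset]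
    have hT := C.G.nE_simp i (Units.mk0 t⁻¹ (inv_ne_zero ht))
    rw [Units.val_mk0] at hT
    have key : s * C.G.xu p t = C.G.xu p (-t⁻¹) *
        (C.G.hd p (Units.mk0 t⁻¹ (inv_ne_zero ht)) * s) * C.G.xu p (-t⁻¹) * s := by
      rw [← hT, hs, C.G.nU_xu, C.G.w_simp, C.G.eta_simp, Int.cast_neg, Int.cast_one, neg_one_mul]
      simp only [p, Good.nE, inv_inv, ← C.G.xu_inv (C.G.simp' i)]
      group
    have hneg : ∃ (d : K), (s * n)⁻¹ * C.G.xu p (-t⁻¹) * (s * n) = C.G.xu (C.G.negr ((C.G.pw l)⁻¹ p)) d := by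
      obtain ⟨a, ha⟩ := (Good.NPerm.inv C.G (Good.NPerm.mul C.G (C.G.nPerm_nU (K := K) i) hl)) p
      simp only [inv_inv] at ha
      refine ⟨(a : K) * -t⁻¹, (ha _).trans ?_⟩
      congr 1
      rw [mul_inv_rev, Equiv.Perm.mul_apply, C.G.sP_inv, Good.sP_apply, C.G.w_simp, ← C.G.pw_reverse,
        C.G.pw_negr]
    obtain ⟨d, hd'⟩ := hneg
    refine ⟨s * v * s⁻¹ * C.G.xu p (-t⁻¹) * (C.G.hd p (Units.mk0 t⁻¹ (inv_ne_zero ht)) * (s * s)),
      mul_mem (mul_mem hv' (Subgroup.mem_sup_left (C.G.xu_mem_U (C.G.simp_pos i) _)))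
        (hB (mul_mem (C.G.hd_mem_H _ _) (C.G.nU_sq i))),
      C.G.xu (C.G.negr ((C.G.pw l)⁻¹ p)) d * (n⁻¹ * h * n),
      mul_mem (Subgroup.mem_sup_left (C.G.xu_mem_U ((C.G.negr_pos_iff _).2 hpos) _)) (hB hh'), ?_⟩
    rw [e0, key, ← hd']
    group

theorem conj_ne (i : Fin D.rank) :
    C.G.nU i * C.G.xu (C.G.simp' i) (1 : K) * C.G.nU i ∉ D.borelSubgroup K := by
  intro h
  set p := C.G.simp' i
  have e : C.G.nU i * C.G.xu p (1 : K) * C.G.nU i =
      C.G.xu (C.G.negr p) (-1) * (C.G.nU i * C.G.nU i) := by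
    rw [C.G.nU_xu, C.G.w_simp, C.G.eta_simp, mul_assoc]; simp [p]
  rw [e] at h
  have hsq : C.G.nU i * C.G.nU i ∈ D.borelSubgroup K :=
    Subgroup.mem_sup_right (C.G.nU_sq (K := K) i)
  have h1 := mul_mem h (inv_mem hsq)
  rw [mul_assoc, mul_inv_cancel, mul_one] at h1
  have h2 := C.G.xu_mem_V (K := K) ((C.G.isNegRoot_iff_not_pos _).2 (C.G.negr_simp_not_pos i)) (-1)
  have h3 : C.G.xu (C.G.negr p) (-1 : K) = 1 :=
    Subgroup.mem_bot.1 (C.G.B_inf_V (K := K) ▸ ⟨h1, h2⟩)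
  rw [C.G.xu_eq_one_iff] at h3
  exact one_ne_zero (neg_eq_zero.1 h3)

/-- the distinguished generators in the Chevalley group -/
noncomputable def sG (i : Fin D.rank) : ↥(D.group K) := ⟨C.G.nU i, C.G.nU_mem_group i⟩

theorem sG_injective : Function.Injective (C.sG (K := K)) := fun i j h =>
  C.G.sP_injective (Good.NPerm.unique C.G (C.G.nPerm_nU (K := K) i)
    (by rw [show (C.G.nU i : GL D.Idx K) = C.G.nU j from congrArg Subtype.val h]; exact C.G.nPerm_nU j))

/-- the (B, N)-pair -/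
noncomputable def bnPair : Cfsg.BNPair ↥(D.group K) where
  B := (D.borelSubgroup K).subgroupOf (D.group K)
  N := (D.monomialSubgroup K).subgroupOf (D.group K)
  S := Set.range C.sG
  sup_eq_top := by
    rw [← Subgroup.subgroupOf_sup C.G.borel_le_group C.G.monomial_le_group, C.G.borel_sup_monomial,
      Subgroup.subgroupOf_self]
  conj_mem := by
    rintro n hn t ⟨ht1, ht2⟩
    simp only [Subgroup.mem_toSubmonoid, Subgroup.mem_subgroupOf, SetLike.mem_coe] at hn ht1 ht2 ⊢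
    have h1 : (t : GL D.Idx K) ∈ D.diagonalSubgroup K := C.G.B_inf_N (K := K) ▸ ⟨ht1, ht2⟩
    exact Subgroup.mem_sup_right
      ((Subgroup.mem_normalizer_iff.1 (C.G.monomial_le_normalizer hn) _).1 h1)
  subset := by
    rintro x ⟨i, rfl⟩
    exact C.G.nU_mem_monomial i
  sq_mem := by
    rintro x ⟨i, rfl⟩
    exact Subgroup.mem_sup_right (C.G.nU_sq i)
  inj := by
    rintro x ⟨i, rfl⟩ y ⟨j, rfl⟩ h
    have h' : (C.G.nU i : GL D.Idx K)⁻¹ * C.G.nU j ∈ D.diagonalSubgroup K :=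
      C.G.B_inf_N (K := K) ▸ Subgroup.mem_inf.2
        ⟨h, mul_mem (inv_mem (C.G.nU_mem_monomial i)) (C.G.nU_mem_monomial j)⟩
    have e := Good.NPerm.unique C.G (C.G.nPerm_H h')
      (Good.NPerm.mul C.G (Good.NPerm.inv C.G (C.G.nPerm_nU i)) (C.G.nPerm_nU j))
    rw [eq_comm, inv_mul_eq_one] at e
    rw [C.G.sP_injective e]
  closure_sup := by
    refine le_antisymm (sup_le ((Subgroup.closure_le _).2 ?_) inf_le_right) ?_
    · rintro x ⟨i, rfl⟩; exact C.G.nU_mem_monomial i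
    · intro x hx
      obtain ⟨h, hh, l, e⟩ := C.G.monomial_decomp hx
      have : x = ⟨h, C.G.diagonal_le_group hh⟩ * (l.map C.sG).prod := Subtype.ext (by
        rw [Subgroup.coe_mul, Subgroup.val_list_prod, List.map_map]; exact e)
      rw [this]
      refine mul_mem (Subgroup.mem_sup_right ⟨Subgroup.mem_sup_right hh, C.G.H_le_monomial hh⟩)
        (Subgroup.mem_sup_left (list_prod_mem fun y hy => ?_))
      obtain ⟨i, -, rfl⟩ := List.mem_map.1 hy
      exact Subgroup.subset_closure ⟨i, rfl⟩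
  mul_mem_union := by
    rintro x ⟨i, rfl⟩ n hn b hb
    rcases C.mul_mem_union i (n := (n : GL D.Idx K)) (b := (b : GL D.Idx K)) hn hb with h | h
    · left
      rw [DoubleCoset.mem_doubleCoset] at h ⊢
      obtain ⟨a, ha, c, hc, e⟩ := h
      exact ⟨⟨a, C.G.borel_le_group ha⟩, ha, ⟨c, C.G.borel_le_group hc⟩, hc, Subtype.ext e⟩
    · right
      rw [DoubleCoset.mem_doubleCoset] at h ⊢
      obtain ⟨a, ha, c, hc, e⟩ := h
      exact ⟨⟨a, C.G.borel_le_group ha⟩, ha, ⟨c, C.G.borel_le_group hc⟩, hc, Subtype.ext e⟩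
  conj_ne := by
    rintro x ⟨i, rfl⟩ heq
    have hmem : (⟨C.G.xu (C.G.simp' i) 1, C.G.xu_mem _ _⟩ : ↥(D.group K)) ∈
        ((D.borelSubgroup K).subgroupOf (D.group K) : Set ↥(D.group K)) :=
      Subgroup.mem_sup_left (C.G.xu_mem_U (C.G.simp_pos i) 1)
    exact C.conj_ne (K := K) i (show _ ∈ _ from (heq.subset ⟨_, hmem, rfl⟩))

theorem bnPair_S : (C.bnPair (K := K)).S =
    {n : ↥(D.group K) | ∃ i < D.rank, ((n : GL D.Idx K) : Matrix D.Idx D.Idx K) = D.nMat K (D.simple i) 1} := by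
  ext n
  constructor
  · rintro ⟨i, rfl⟩
    exact ⟨i.val, i.isLt, (C.G.nMat_simple i).symm⟩
  · rintro ⟨i, hi, e⟩
    exact ⟨⟨i, hi⟩, Subtype.ext (Units.ext (e.trans (C.G.nMat_simple ⟨i, hi⟩)).symm)⟩

end Full

end CfsgLib.Lie.Chev
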