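import Cfsg.Agent.Lib.Lie.Chev.Cent
import Cfsg.Agent.Lib.Lie.Chev.Tw.Cert

/-!
# Centralisers of products of commuting root elements that are not central in `U`

The roots in question lie in a short list `A` of pairwise commuting positive roots.
-/

set_option autoImplicit false

namespace CfsgLib.Lie.Chev

open Cfsg.Lie
open scoped MatrixGroups

variable {D : ChevalleyDatum} {K : Type*} [Field K]

instance decPosRoot' (r : ℕ) : Decidable (D.IsPosRoot r) := by
  unfold ChevalleyDatum.IsPosRoot; infer_instance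

/-- the roots produced with an odd coefficient by commuting `x_r` past `x_a` -/
def oddTg (D : ChevalleyDatum) (r a : ℕ) : List ℕ :=
  if r = a then [] else ((D.commTerms r a).filter fun c => decide (c.2.1 % 2 ≠ 0)).map Prod.fst

/-- the roots of `A` reached from `S` by the roots in `R`, in one step -/
def reach (D : ChevalleyDatum) (T0 A R S : List ℕ) : List ℕ :=
  A.filter fun a => decide (a ∉ T0) && R.any fun r => S.any fun x => decide (a ∈ oddTg D r x)

/-- the roots of `A` reached from `T0` by the roots in `R` -/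
def reachCl (D : ChevalleyDatum) (T0 A R : List ℕ) : List ℕ :=
  reach D T0 A R (T0 ++ reach D T0 A R T0)

/-- `T0 ∪ M` is stable under the roots in `R` -/
def ClosedUnder (D : ChevalleyDatum) (T0 M R : List ℕ) : Prop :=
  (∀ a ∈ M, a ∉ T0) ∧ ∀ r ∈ R, ∀ x ∈ T0 ++ M, ∀ a ∈ oddTg D r x, a ∈ M

instance (T0 M R : List ℕ) : Decidable (ClosedUnder D T0 M R) := by
  unfold ClosedUnder; infer_instance

/-- the positive roots sent to negative ones by a tabulated permutation -/
noncomputable def invList (D : ChevalleyDatum) (P : ℕ) : List ℕ :=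
  ((List.range D.nroots).filter fun r => Nat.ble (D.nroots / 2) r).filter fun r =>
    Nat.blt (digit P r) (D.nroots / 2)

/-- the check on one element of the Weyl group -/
noncomputable def chkCand (D : ChevalleyDatum) (f : Fast) (T0 A four : List ℕ) (stab : List (List ℕ))
    (P : ℕ) : Bool :=
  cond (T0.all fun x => decide (digit P x ∈ A))
    (decide (ClosedUnder D T0 (reachCl D T0 A (invList D P)) (invList D P)) &&
      cond (T0.all fun x => (T0 ++ reachCl D T0 A (invList D P)).any fun s => decide (digit P s = x))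
        ((stab.any fun l => allLt D.nroots fun r => Nat.beq (digit P r) (wordF f l r)) &&
          (invList D P).all fun r => decide (r ∉ four))
        true)
    true

/-- the data for the centraliser: the roots of the element, a commuting set containing them, the
roots moving the element, the nodes of the stabiliser -/
structure CentData (D : ChevalleyDatum) where
  T0 : List ℕ
  A : List ℕ
  four : List ℕ
  /-- the component that a moving root changes, and the root it produces -/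
  src : ℕ → ℕ
  tg : ℕ → ℕ
  J : List (Fin D.rank)

/-- the static conditions on the data -/
structure CentData.Valid (X : CentData D) : Prop where
  T0_sub : ∀ x ∈ X.T0, x ∈ X.A
  T0_nodup : X.T0.Nodup
  A_pos : ∀ a ∈ X.A, a < D.nroots ∧ D.IsPosRoot a
  comm : ∀ a ∈ X.A, ∀ b ∈ X.A, oddTg D a b = []
  closed : ClosedUnder D X.T0 (X.A.filter fun a => decide (a ∉ X.T0)) D.posRoots
  fixed : ∀ r ∈ D.posRoots, r ∉ X.four → ∀ x ∈ X.T0, oddTg D r x = []
  four_pos : ∀ r ∈ X.four, r < D.nroots ∧ D.IsPosRoot r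
  moves : ∀ r ∈ X.four, X.src r ∈ X.T0 ∧ X.src r ≠ r ∧ X.tg r ∉ X.T0 ∧ X.tg r ∈ X.A ∧
    ((D.commTerms r (X.src r)).map fun c => (c.1, decide (c.2.1 % 2 ≠ 0), c.2.2.1, c.2.2.2)) =
      [(X.tg r, true, 1, 1)] ∧
    (∀ x ∈ X.T0, x ≠ X.src r → oddTg D r x = []) ∧
    ∀ s ∈ X.four, oddTg D r (X.tg s) = []
  tg_inj : ∀ r ∈ X.four, ∀ s ∈ X.four, X.tg r = X.tg s → r = s
  J_cart : ∀ i ∈ X.J, ∀ x ∈ X.T0, D.cartan i.val x = 0
  J_simple : ∀ i ∈ X.J, D.simple i.val ∉ X.four

/-- the sum of the indicator of `T0` -/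
def CentData.ind (X : CentData D) (r : Fin D.nroots) : K := if r.val ∈ X.T0 then 1 else 0

namespace Full

variable (C : Full D)

include C

theorem commute_of_odd [CharP K 2] {r a : Fin D.nroots} (hr : D.IsPosRoot r.val)
    (ha : D.IsPosRoot a.val) (h : oddTg D r.val a.val = []) (t u : K) :
    Commute (C.G.xu r t) (C.G.xu a u) := by
  by_cases e : r = a
  · subst e
    rw [Commute, SemiconjBy, ← C.G.xu_add, ← C.G.xu_add, add_comm]
  have hne : r.val ≠ a.val := fun e' => e (Fin.ext e')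
  rw [oddTg, if_neg hne, List.map_eq_nil_iff, List.filter_eq_nil_iff] at h
  have hcm := C.commAt r a (Ne.symm e) (C.pos_ne_negr hr ha) t u
  unfold CommAt at hcm
  have h0 : wordR K D (cwR D r.val a.val t u) = 1 := by
    refine List.prod_eq_one fun M hM => ?_
    obtain ⟨p, hp, rfl⟩ := List.mem_map.1 hM
    obtain ⟨c, hc, rfl⟩ := List.mem_map.1 hp
    have h2 : ((c.2.1 : ℤ) : K) = 0 := by
      have := h c hc
      simp only [decide_eq_true_eq, not_not] at this
      obtain ⟨k, hk⟩ := Int.dvd_of_emod_eq_zero this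
      rw [hk]; push_cast; rw [CharTwo.two_eq_zero]; ring
    simp only [h2, zero_mul, xN]
    split_ifs
    · exact xg_zero K _
    · rfl
  rw [h0, mul_one] at hcm
  exact Units.ext hcm.symm

/-- the group generated by the root elements of a list -/
noncomputable def HL (L : List ℕ) : Subgroup (GL D.Idx K) :=
  Subgroup.closure {g | ∃ (r : Fin D.nroots) (t : K), r.val ∈ L ∧ g = C.G.xu r t}

theorem xu_mem_HL {L : List ℕ} {r : Fin D.nroots} (h : r.val ∈ L) (t : K) :
    C.G.xu r t ∈ C.HL (K := K) L := Subgroup.subset_closure ⟨r, t, h, rfl⟩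

/-- conjugation by `x_r` multiplies a root element by the roots it produces -/
theorem conj_mem_HL [CharP K 2] {r a : Fin D.nroots} (hr : D.IsPosRoot r.val)
    (ha : D.IsPosRoot a.val) {L : List ℕ} (h : ∀ b ∈ oddTg D r.val a.val, b ∈ L) (t u : K) :
    ∃ w ∈ C.HL (K := K) L, C.G.xu r t * C.G.xu a u * (C.G.xu r t)⁻¹ = C.G.xu a u * w := by
  by_cases e : r = a
  · subst e
    refine ⟨1, one_mem _, ?_⟩
    rw [mul_one, C.G.xu_inv, ← C.G.xu_add, ← C.G.xu_add]
    congr 1; ring
  have hne : r.val ≠ a.val := fun e' => e (Fin.ext e')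
  obtain ⟨l, -, -⟩ := C.conj_xu r a (Ne.symm e) (C.pos_ne_negr hr ha) t u
  have hcm := C.commAt r a (Ne.symm e) (C.pos_ne_negr hr ha) (-t) u
  unfold CommAt at hcm
  have hmem : ∀ p ∈ cwR D r.val a.val (-t) u, ∃ g ∈ C.HL (K := K) L,
      (g : Matrix D.Idx D.Idx K) = xN K D p.1 p.2 := by
    intro p hp
    obtain ⟨c, hc, rfl⟩ := List.mem_map.1 hp
    by_cases ho : c.2.1 % 2 = 0
    · refine ⟨1, one_mem _, ?_⟩
      have h2 : ((c.2.1 : ℤ) : K) = 0 := by
        obtain ⟨k, hk⟩ := Int.dvd_of_emod_eq_zero ho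
        rw [hk]; push_cast; rw [CharTwo.two_eq_zero]; ring
      simp only [h2, zero_mul, xN]
      split_ifs
      · rw [xg_zero]; rfl
      · rfl
    · have hb : c.1 ∈ L := h c.1 (by
        rw [oddTg, if_neg hne]
        exact List.mem_map.2 ⟨c, List.mem_filter.2 ⟨hc, by simpa using ho⟩, rfl⟩)
      have hlt : c.1 < D.nroots := (C.commTerms_weight hc).2.2.1
      refine ⟨_, C.xu_mem_HL (r := ⟨c.1, hlt⟩) hb ((c.2.1 : K) * (- -t) ^ c.2.2.1 * u ^ c.2.2.2), ?_⟩
      simp only [xN, dif_pos hlt]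
      rfl
  have : ∃ g ∈ C.HL (K := K) L,
      (g : Matrix D.Idx D.Idx K) = wordR K D (cwR D r.val a.val (-t) u) := by
    unfold wordR
    revert hmem
    generalize cwR D r.val a.val (-t) u = w
    induction w with
    | nil => intro _; exact ⟨1, one_mem _, by simp⟩
    | cons p w ih =>
      intro hmem
      obtain ⟨g, hg, eg⟩ := hmem p List.mem_cons_self
      obtain ⟨g', hg', eg'⟩ := ih fun q hq => hmem q (List.mem_cons_of_mem _ hq)
      exact ⟨g * g', mul_mem hg hg', by simp [eg, eg']⟩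
  obtain ⟨g, hg, eg⟩ := this
  refine ⟨g, hg, ?_⟩
  have e2 : C.G.xu a u * C.G.xu r (-t) = C.G.xu r (-t) * C.G.xu a u * g :=
    Units.ext (by simp only [Units.val_mul, Good.coe_xu, eg]; exact hcm)
  rw [C.G.xu_inv, mul_assoc, e2, ← mul_assoc, ← mul_assoc, ← C.G.xu_add, add_neg_cancel,
    C.G.xu_zero, one_mul]

/-- a product of commuting root elements, in any order -/
theorem uprod_of_list (g : Fin D.nroots → K) {L : List (Fin D.nroots)} (hnd : L.Nodup)
    (hpos : ∀ r ∈ L, D.IsPosRoot r.val)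
    (hsupp : ∀ r : Fin D.nroots, D.IsPosRoot r.val → g r ≠ 0 → r ∈ L)
    (hcomm : ∀ a ∈ L, ∀ b ∈ L, Commute (C.G.xu a (g a)) (C.G.xu b (g b))) :
    (L.map fun r => C.G.xu r (g r)).prod = C.uprod 0 g := by
  classical
  have hdrop : ∀ l : List (Fin D.nroots), (l.map fun r => C.G.xu r (g r)).prod =
      ((l.filter fun r => decide (g r ≠ 0)).map fun r => C.G.xu r (g r)).prod := by
    intro l
    induction l with
    | nil => rfl
    | cons a l ih =>
      by_cases h : g a = 0
      · rw [List.map_cons, List.prod_cons, h, C.G.xu_zero, one_mul, ih,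
          List.filter_cons_of_neg (by simp [h])]
      · rw [List.filter_cons_of_pos (by simp [h]), List.map_cons, List.map_cons, List.prod_cons,
          List.prod_cons, ih]
  rw [hdrop L, uprod]
  conv_rhs => rw [hdrop]
  refine List.Perm.prod_eq' (List.Perm.map _ ?_) ?_
  · rw [List.perm_ext_iff_of_nodup (hnd.filter _) (((List.nodup_finRange _).filter _).filter _)]
    intro r
    simp only [List.mem_filter, List.mem_finRange, true_and, decide_eq_true_eq, Nat.zero_le]
    exact ⟨fun h => ⟨hpos r h.1, h.2⟩, fun h => ⟨hsupp r h.1 h.2, h.2⟩⟩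
  · rw [List.pairwise_map]
    refine List.Pairwise.imp_of_mem ?_ (List.pairwise_of_forall_mem_list (r := fun _ _ => True)
      fun _ _ _ _ => trivial)
    intro a b ha hb _
    exact hcomm a (List.mem_of_mem_filter ha) b (List.mem_of_mem_filter hb)

theorem uprod_single (a : Fin D.nroots) (ha : D.IsPosRoot a.val) (x : K) :
    C.uprod 0 (fun r => if r = a then x else 0) = C.G.xu a x := by
  rw [← C.uprod_of_list (fun r => if r = a then x else 0) (L := [a]) (by simp) (by simpa using ha)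
    (fun r _ h => by
      by_cases e : r = a
      · simp [e]
      · exact absurd (if_neg e) h)
    (fun c hc d hd => by
      rw [List.mem_singleton] at hc hd
      subst hc; subst hd
      exact Commute.refl _)]
  simp

/-- the roots of a list of indices -/
def fins (_C : Full D) (L : List ℕ) : List (Fin D.nroots) :=
  L.dedup.filterMap fun a => if h : a < D.nroots then some ⟨a, h⟩ else none

theorem mem_fins {L : List ℕ} {r : Fin D.nroots} : r ∈ C.fins L ↔ r.val ∈ L := by
  simp only [fins, List.mem_filterMap, List.mem_dedup]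
  constructor
  · rintro ⟨a, ha, e⟩
    split_ifs at e with h
    obtain rfl := Option.some.inj e
    exact ha
  · exact fun h => ⟨r.val, h, by rw [dif_pos r.isLt]⟩

theorem fins_nodup (L : List ℕ) : (C.fins L).Nodup := by
  refine List.Nodup.filterMap ?_ (List.nodup_dedup L)
  intro a b c hc hd
  simp only [Option.mem_def] at hc hd
  split_ifs at hc hd
  rw [← Option.some.inj hd] at hc
  exact congrArg Fin.val (Option.some.inj hc)

variable {X : CentData D}

theorem uprod_add [CharP K 2] (hX : X.Valid) {f g : Fin D.nroots → K}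
    (hf : ∀ r, f r ≠ 0 → r.val ∈ X.A) (hg : ∀ r, g r ≠ 0 → r.val ∈ X.A) :
    C.uprod 0 f * C.uprod 0 g = C.uprod 0 (f + g) := by
  have hcomm : ∀ a ∈ C.fins X.A, ∀ b ∈ C.fins X.A, ∀ x y : K,
      Commute (C.G.xu a x) (C.G.xu b y) := fun a ha b hb x y =>
    C.commute_of_odd (hX.A_pos _ (C.mem_fins.1 ha)).2 (hX.A_pos _ (C.mem_fins.1 hb)).2
      (hX.comm _ (C.mem_fins.1 ha) _ (C.mem_fins.1 hb)) x y
  have key : ∀ h : Fin D.nroots → K, (∀ r, h r ≠ 0 → r.val ∈ X.A) →
      C.uprod 0 h = ((C.fins X.A).map fun r => C.G.xu r (h r)).prod := fun h hh =>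
    (C.uprod_of_list h (C.fins_nodup _) (fun r hr => (hX.A_pos _ (C.mem_fins.1 hr)).2)
      (fun r _ hr => C.mem_fins.2 (hh r hr)) fun a ha b hb => hcomm a ha b hb _ _).symm
  rw [key f hf, key g hg, key (f + g) fun r hr => by
    by_contra hn
    refine hr ?_
    rw [Pi.add_apply, not_not.1 (mt (hf r) hn), not_not.1 (mt (hg r) hn), add_zero]]
  have : ∀ l : List (Fin D.nroots), (∀ a ∈ l, a ∈ C.fins X.A) →
      (l.map fun r => C.G.xu r (f r)).prod * (l.map fun r => C.G.xu r (g r)).prod =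
        (l.map fun r => C.G.xu r ((f + g) r)).prod := by
    intro l
    induction l with
    | nil => intro _; simp
    | cons a l ih =>
      intro hl
      simp only [List.map_cons, List.prod_cons, Pi.add_apply] at ih ⊢
      rw [← ih fun b hb => hl b (List.mem_cons_of_mem _ hb), C.G.xu_add]
      have hc : Commute (C.G.xu a (g a)) (l.map fun r => C.G.xu r (f r)).prod :=
        Commute.list_prod_right _ _ fun x hx => by
          obtain ⟨b, hb, rfl⟩ := List.mem_map.1 hx
          exact hcomm a (hl a List.mem_cons_self) b (hl b (List.mem_cons_of_mem _ hb)) _ _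
      simp only [mul_assoc]
      rw [← mul_assoc (l.map fun r => C.G.xu r (f r)).prod, ← hc.eq, mul_assoc]
  exact this _ fun a ha => ha

theorem exists_uprod_HL [CharP K 2] (hX : X.Valid) {L : List ℕ} (hL : ∀ a ∈ L, a ∈ X.A)
    {g : GL D.Idx K} (hg : g ∈ C.HL (K := K) L) :
    ∃ f : Fin D.nroots → K, (∀ r, f r ≠ 0 → r.val ∈ L) ∧ g = C.uprod 0 f := by
  have h1 : C.uprod 0 (fun _ : Fin D.nroots => (0 : K)) = 1 := by
    refine List.prod_eq_one fun x hx => ?_
    obtain ⟨r, -, rfl⟩ := List.mem_map.1 hx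
    exact C.G.xu_zero r
  induction hg using Subgroup.closure_induction'' with
  | one => exact ⟨fun _ => 0, fun _ h => absurd rfl h, h1.symm⟩
  | mul a b _ _ ha hb =>
    obtain ⟨f, hf, rfl⟩ := ha
    obtain ⟨f', hf', rfl⟩ := hb
    refine ⟨f + f', fun r hr => ?_, C.uprod_add hX (fun r hr => hL _ (hf r hr))
      (fun r hr => hL _ (hf' r hr))⟩
    by_contra hn
    exact hr (by rw [Pi.add_apply, not_not.1 (mt (hf r) hn), not_not.1 (mt (hf' r) hn), add_zero])
  | mem x hx =>
    obtain ⟨r, t, hr, rfl⟩ := hx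
    refine ⟨fun s => if s = r then t else 0, fun s hs => ?_,
      (C.uprod_single r (hX.A_pos _ (hL _ hr)).2 t).symm⟩
    by_cases e : s = r
    · rw [e]; exact hr
    · exact absurd (if_neg e) hs
  | inv_mem x hx =>
    obtain ⟨r, t, hr, rfl⟩ := hx
    rw [C.G.xu_inv]
    refine ⟨fun s => if s = r then -t else 0, fun s hs => ?_,
      (C.uprod_single r (hX.A_pos _ (hL _ hr)).2 (-t)).symm⟩
    by_cases e : s = r
    · rw [e]; exact hr
    · exact absurd (if_neg e) hs

/-- the element -/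
noncomputable def tX (X : CentData D) : GL D.Idx K := C.uprod 0 X.ind

theorem tX_eq [CharP K 2] (hX : X.Valid) :
    C.tX (K := K) X = ((C.fins X.T0).map fun r => C.G.xu r (1 : K)).prod := by
  rw [tX, ← C.uprod_of_list (K := K) X.ind (L := C.fins X.T0) (C.fins_nodup _)
    (fun r hr => (hX.A_pos _ (hX.T0_sub _ (C.mem_fins.1 hr))).2)
    (fun r _ hr => C.mem_fins.2 (by
      by_contra hn
      exact hr (if_neg hn)))
    (fun a ha b hb => C.commute_of_odd (hX.A_pos _ (hX.T0_sub _ (C.mem_fins.1 ha))).2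
      (hX.A_pos _ (hX.T0_sub _ (C.mem_fins.1 hb))).2
      (hX.comm _ (hX.T0_sub _ (C.mem_fins.1 ha)) _ (hX.T0_sub _ (C.mem_fins.1 hb))) _ _)]
  refine congrArg List.prod (List.map_congr_left fun r hr => ?_)
  rw [CentData.ind, if_pos (C.mem_fins.1 hr)]

/-- the orbit of the element under a product of root elements -/
theorem conj_tX [CharP K 2] (hX : X.Valid) {R M : List ℕ}
    (hR : ∀ r ∈ R, r < D.nroots ∧ D.IsPosRoot r) (hM : ∀ a ∈ M, a ∈ X.A)
    (hc : ClosedUnder D X.T0 M R) {u : GL D.Idx K} (hu : u ∈ C.HL (K := K) R) :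
    ∃ f : Fin D.nroots → K, (∀ r, f r ≠ 0 → r.val ∈ X.T0 ++ M) ∧
      (∀ r : Fin D.nroots, r.val ∈ X.T0 → f r = 1) ∧
      u * C.tX X * u⁻¹ = C.uprod 0 f := by
  have hHM : ∀ (r : Fin D.nroots) (t : K), r.val ∈ R → ∀ w ∈ C.HL (K := K) M,
      C.G.xu r t * w * (C.G.xu r t)⁻¹ ∈ C.HL (K := K) M := by
    intro r t hr w hw
    induction hw using Subgroup.closure_induction with
    | one => simp
    | mul a b _ _ ha hb =>
      rw [show C.G.xu r t * (a * b) * (C.G.xu r t)⁻¹ = (C.G.xu r t * a * (C.G.xu r t)⁻¹) *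
        (C.G.xu r t * b * (C.G.xu r t)⁻¹) by group]
      exact mul_mem ha hb
    | inv a _ ha =>
      rw [show C.G.xu r t * a⁻¹ * (C.G.xu r t)⁻¹ = (C.G.xu r t * a * (C.G.xu r t)⁻¹)⁻¹ by group]
      exact inv_mem ha
    | mem x hx =>
      obtain ⟨a, s, ha, rfl⟩ := hx
      obtain ⟨w, hw, e⟩ := C.conj_mem_HL (hR _ hr).2 (hX.A_pos _ (hM _ ha)).2
        (fun b hb => hc.2 _ hr _ (List.mem_append_right _ ha) b hb) t s
      rw [e]
      exact mul_mem (C.xu_mem_HL ha _) hw
  have hAc : ∀ a ∈ X.A, ∀ (s : K) (hlt : a < D.nroots), ∀ w ∈ C.HL (K := K) M,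
      Commute w (C.G.xu ⟨a, hlt⟩ s) := by
    intro a ha s hlt w hw
    have hle : C.HL (K := K) M ≤ Subgroup.centralizer {C.G.xu ⟨a, hlt⟩ s} := by
      rw [HL, Subgroup.closure_le]
      rintro g ⟨b, x, hb, rfl⟩
      exact Subgroup.mem_centralizer_singleton_iff.2
        (C.commute_of_odd (hX.A_pos _ (hM _ hb)).2 (hX.A_pos _ ha).2
          (hX.comm _ (hM _ hb) _ ha) x s).eq
    exact Subgroup.mem_centralizer_singleton_iff.1 (hle hw)
  have hlist : ∀ (r : Fin D.nroots) (t : K), r.val ∈ R → ∀ l : List (Fin D.nroots),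
      (∀ a ∈ l, a.val ∈ X.T0) → ∃ w ∈ C.HL (K := K) M,
        C.G.xu r t * (l.map fun a => C.G.xu a (1 : K)).prod * (C.G.xu r t)⁻¹ =
          (l.map fun a => C.G.xu a (1 : K)).prod * w := by
    intro r t hr l
    induction l with
    | nil => intro _; exact ⟨1, one_mem _, by simp⟩
    | cons a l ih =>
      intro hl
      obtain ⟨w, hw, e⟩ := ih fun b hb => hl b (List.mem_cons_of_mem _ hb)
      have haT := hl a List.mem_cons_self
      obtain ⟨w', hw', e'⟩ := C.conj_mem_HL (hR _ hr).2 (hX.A_pos _ (hX.T0_sub _ haT)).2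
        (fun b hb => hc.2 _ hr _ (List.mem_append_left _ haT) b hb) t (1 : K)
      have hc' : Commute w' (l.map fun b => C.G.xu b (1 : K)).prod :=
        Commute.list_prod_right _ _ fun x hx => by
          obtain ⟨b, hb, rfl⟩ := List.mem_map.1 hx
          exact hAc b.val (hX.T0_sub _ (hl b (List.mem_cons_of_mem _ hb))) 1 b.isLt w' hw'
      refine ⟨w' * w, mul_mem hw' hw, ?_⟩
      simp only [List.map_cons, List.prod_cons]
      rw [show C.G.xu r t * (C.G.xu a 1 * (l.map fun b => C.G.xu b (1 : K)).prod) * (C.G.xu r t)⁻¹ =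
        (C.G.xu r t * C.G.xu a 1 * (C.G.xu r t)⁻¹) *
          (C.G.xu r t * (l.map fun b => C.G.xu b (1 : K)).prod * (C.G.xu r t)⁻¹) by group, e, e']
      simp only [mul_assoc]
      rw [← mul_assoc w', hc'.eq, mul_assoc]
  have hstep : ∀ (r : Fin D.nroots) (t : K), r.val ∈ R → ∀ w ∈ C.HL (K := K) M,
      ∃ w' ∈ C.HL (K := K) M, C.G.xu r t * (C.tX X * w) * (C.G.xu r t)⁻¹ = C.tX X * w' := by
    intro r t hr w hw
    obtain ⟨w', hw', e⟩ := hlist r t hr (C.fins X.T0) fun a ha => C.mem_fins.1 ha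
    refine ⟨w' * (C.G.xu r t * w * (C.G.xu r t)⁻¹), mul_mem hw' (hHM r t hr w hw), ?_⟩
    rw [← C.tX_eq hX] at e
    rw [show C.G.xu r t * (C.tX X * w) * (C.G.xu r t)⁻¹ = (C.G.xu r t * C.tX X * (C.G.xu r t)⁻¹) *
      (C.G.xu r t * w * (C.G.xu r t)⁻¹) by group, e, mul_assoc]
  have hmain : ∃ w ∈ C.HL (K := K) M, u * C.tX X * u⁻¹ = C.tX X * w := by
    induction hu using Subgroup.closure_induction_left with
    | one => exact ⟨1, one_mem _, by simp⟩
    | mul_left x hx y _ ih =>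
      obtain ⟨r, t, hr, rfl⟩ := hx
      obtain ⟨w, hw, e⟩ := ih
      obtain ⟨w', hw', e'⟩ := hstep r t hr w hw
      refine ⟨w', hw', ?_⟩
      rw [← e', ← e]; group
    | inv_mul_cancel x hx y _ ih =>
      obtain ⟨r, t, hr, rfl⟩ := hx
      obtain ⟨w, hw, e⟩ := ih
      obtain ⟨w', hw', e'⟩ := hstep r (-t) hr w hw
      refine ⟨w', hw', ?_⟩
      rw [← e', ← e, ← C.G.xu_inv]; group
  obtain ⟨w, hw, e⟩ := hmain
  obtain ⟨g, hg, rfl⟩ := C.exists_uprod_HL hX hM hw
  refine ⟨X.ind + g, fun r hr => ?_, fun r hr => ?_, ?_⟩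
  · by_contra hn
    simp only [List.mem_append, not_or] at hn
    exact hr (by rw [Pi.add_apply, CentData.ind, if_neg hn.1, not_not.1 (mt (hg r) hn.2), add_zero])
  · rw [Pi.add_apply, CentData.ind, if_pos hr,
      not_not.1 (mt (hg r) fun h => hc.1 _ h hr), add_zero]
  · rw [e, tX, C.uprod_add hX (fun r hr => ?_) fun r hr => hM _ (hg r hr)]
    by_contra hn
    exact hr (if_neg fun h => hn (hX.T0_sub _ h))

/-- a monomial element that maps one product over `A` to another matches their supports -/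
theorem supp_match [CharP K 2] (hX : X.Valid) {n : GL D.Idx K} {π : Equiv.Perm (Fin D.nroots)}
    {c : Fin D.nroots → Kˣ} (hc : ∀ s t, n * C.G.xu s t * n⁻¹ = C.G.xu (π s) ((c s : K) * t))
    {f f' : Fin D.nroots → K} (hf : ∀ r, f r ≠ 0 → r.val ∈ X.A)
    (hf' : ∀ r, f' r ≠ 0 → r.val ∈ X.A)
    (h : n * C.uprod 0 f * n⁻¹ = C.uprod 0 f') :
    (∀ a, f a ≠ 0 → f' (π a) = (c a : K) * f a) ∧
    ∀ b, f' b ≠ 0 → ∃ a, f a ≠ 0 ∧ π a = b := by
  classical
  have hn : C.G.NPerm n π := fun s => ⟨c s, hc s⟩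
  set f1 : Fin D.nroots → K := fun r => if D.IsPosRoot (π r).val then f r else 0
  set f2 : Fin D.nroots → K := fun r => if D.IsPosRoot (π r).val then 0 else f r
  have hf1 : ∀ r, f1 r ≠ 0 → r.val ∈ X.A := fun r hr => by
    by_cases hp : D.IsPosRoot (π r).val
    · exact hf r (by simpa [f1, hp] using hr)
    · exact absurd (if_neg hp) hr
  have hf2 : ∀ r, f2 r ≠ 0 → r.val ∈ X.A := fun r hr => by
    by_cases hp : D.IsPosRoot (π r).val
    · exact absurd (if_pos hp) hr
    · exact hf r (by simpa [f2, hp] using hr)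
  have hsplit : C.uprod 0 f = C.uprod 0 f1 * C.uprod 0 f2 := by
    rw [C.uprod_add hX hf1 hf2]
    exact C.uprod_congr fun r _ _ => by
      by_cases hp : D.IsPosRoot (π r).val <;> simp [f1, f2, hp]
  have h2 : C.uprod 0 f2 = 1 := by
    have hk := C.uprod_mem_closure (fun r => D.IsPosRoot (π r).val) f1 fun r _ hp => if_neg hp
    have hi := C.uprod_mem_closure (fun r => ¬ D.IsPosRoot (π r).val) f2 fun r _ hp =>
      if_pos (not_not.1 hp)
    have e : n * C.uprod 0 f2 * n⁻¹ = (n * C.uprod 0 f1 * n⁻¹)⁻¹ * C.uprod 0 f' := by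
      rw [← h, hsplit]; group
    have h3 : n * C.uprod 0 f2 * n⁻¹ = 1 := Subgroup.mem_bot.1 (C.G.U_inf_V_eq (K := K) ▸
      Subgroup.mem_inf.2 ⟨e ▸ mul_mem (inv_mem (C.G.conj_Ukeep hn _ hk))
        (C.G.posUnipotent_eq (K := K) ▸ C.uprod_mem 0 f'), C.G.conj_Uinv hn _ hi⟩)
    rw [mul_inv_eq_one] at h3
    exact mul_left_cancel (h3.trans (mul_one n).symm)
  have hpos : ∀ a, f a ≠ 0 → D.IsPosRoot (π a).val := by
    intro a ha
    by_contra hp
    have h0 : C.uprod 0 (fun _ : Fin D.nroots => (0 : K)) = 1 := by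
      refine List.prod_eq_one fun x hx => ?_
      obtain ⟨r, -, rfl⟩ := List.mem_map.1 hx
      exact C.G.xu_zero r
    have := C.uprod_inj D.nroots 0 (Nat.zero_add _) _ _ (h2.trans h0.symm) a (Nat.zero_le _)
      (hX.A_pos _ (hf a ha)).2
    exact ha (by simpa [f2, hp] using this)
  set L := (C.fins X.A).filter fun a => decide (f a ≠ 0)
  set g : Fin D.nroots → K := fun b => (c (π⁻¹ b) : K) * f (π⁻¹ b)
  have hL : ∀ a, a ∈ L ↔ f a ≠ 0 := fun a => by
    simp only [L, List.mem_filter, decide_eq_true_eq, C.mem_fins, and_iff_right_iff_imp]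
    exact hf a
  have hcommA : ∀ a b, f a ≠ 0 → f b ≠ 0 → ∀ x y : K, Commute (C.G.xu a x) (C.G.xu b y) :=
    fun a b ha hb x y => C.commute_of_odd (hX.A_pos _ (hf a ha)).2 (hX.A_pos _ (hf b hb)).2
      (hX.comm _ (hf a ha) _ (hf b hb)) x y
  have e1 : C.uprod 0 f = (L.map fun a => C.G.xu a (f a)).prod :=
    (C.uprod_of_list f ((C.fins_nodup _).filter _)
      (fun r hr => (hX.A_pos _ (hf r ((hL r).1 hr))).2) (fun r _ hr => (hL r).2 hr)
      fun a ha b hb => hcommA a b ((hL a).1 ha) ((hL b).1 hb) _ _).symm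
  have hgπ : ∀ a, g (π a) = (c a : K) * f a := fun a => by simp [g]
  have e2 : n * C.uprod 0 f * n⁻¹ = ((L.map π).map fun b => C.G.xu b (g b)).prod := by
    rw [e1, ← MulAut.conj_apply, map_list_prod, List.map_map, List.map_map]
    refine congrArg List.prod (List.map_congr_left fun a _ => ?_)
    simp only [Function.comp_apply, MulAut.conj_apply, hc, hgπ]
  have e3 : C.uprod 0 g = C.uprod 0 f' := by
    rw [← h, e2]
    refine (C.uprod_of_list g (((C.fins_nodup _).filter _).map π.injective) ?_ ?_ ?_).symm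
    · intro b hb
      obtain ⟨a, ha, rfl⟩ := List.mem_map.1 hb
      exact hpos a ((hL a).1 ha)
    · intro b _ hb
      refine List.mem_map.2 ⟨π⁻¹ b, (hL _).2 fun e => hb (show (c (π⁻¹ b) : K) * f (π⁻¹ b) = 0 by rw [e, mul_zero]), by simp⟩
    · intro b hb b' hb'
      obtain ⟨a, ha, rfl⟩ := List.mem_map.1 hb
      obtain ⟨a', ha', rfl⟩ := List.mem_map.1 hb'
      rw [hgπ, hgπ, ← hc, ← hc]
      exact (hcommA a a' ((hL a).1 ha) ((hL a').1 ha') _ _).map (MulAut.conj n).toMonoidHom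
  have key := C.uprod_inj D.nroots 0 (Nat.zero_add _) _ _ e3
  refine ⟨fun a ha => by rw [← key (π a) (Nat.zero_le _) (hpos a ha), hgπ], fun b hb => ?_⟩
  have hb' := key b (Nat.zero_le _) (hX.A_pos _ (hf' b hb)).2
  refine ⟨π⁻¹ b, fun e => hb ?_, by simp⟩
  rw [← hb']
  show (c (π⁻¹ b) : K) * f (π⁻¹ b) = 0
  rw [e, mul_zero]

/-- the group generated by the positive root elements that fix the element -/
noncomputable def fixU (X : CentData D) : Subgroup (GL D.Idx K) :=
  Subgroup.closure {g | ∃ (r : Fin D.nroots) (t : K),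
    (D.IsPosRoot r.val ∧ r.val ∉ X.four) ∧ g = C.G.xu r t}

theorem mem_posRoots {r : ℕ} : r ∈ D.posRoots ↔ r < D.nroots ∧ D.IsPosRoot r := by
  simp [ChevalleyDatum.posRoots]

theorem fixU_commute [CharP K 2] (hX : X.Valid) {u : GL D.Idx K} (hu : u ∈ C.fixU (K := K) X) :
    u * C.tX X = C.tX X * u := by
  have hle : C.fixU (K := K) X ≤ Subgroup.centralizer {C.tX X} := by
    rw [fixU, Subgroup.closure_le]
    rintro g ⟨r, t, ⟨hr, hr4⟩, rfl⟩
    rw [SetLike.mem_coe, Subgroup.mem_centralizer_singleton_iff, C.tX_eq hX]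
    refine (Commute.list_prod_right _ _ fun x hx => ?_).eq
    obtain ⟨a, ha, rfl⟩ := List.mem_map.1 hx
    exact C.commute_of_odd hr (hX.A_pos _ (hX.T0_sub _ (C.mem_fins.1 ha))).2
      (hX.fixed _ (C.mem_posRoots.2 ⟨r.isLt, hr⟩) hr4 _ (C.mem_fins.1 ha)) t 1
  exact Subgroup.mem_centralizer_singleton_iff.1 (hle hu)

/-- one moving root element -/
theorem conj_four [CharP K 2] (hX : X.Valid) {r : Fin D.nroots} (hr : r.val ∈ X.four)
    (htg : X.tg r.val < D.nroots) (a : K) :
    C.G.xu r a * C.tX X * (C.G.xu r a)⁻¹ = C.tX X * C.G.xu ⟨X.tg r.val, htg⟩ a := by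
  obtain ⟨hsrc, hne, -, htgA, hterm, hoth, -⟩ := hX.moves _ hr
  have hrp := (hX.four_pos _ hr).2
  set s : Fin D.nroots := ⟨X.src r.val, (hX.A_pos _ (hX.T0_sub _ hsrc)).1⟩ with hs
  set g : Fin D.nroots := ⟨X.tg r.val, htg⟩
  have hsp : D.IsPosRoot s.val := (hX.A_pos _ (hX.T0_sub _ hsrc)).2
  have hword : wordR K D (cwR D r.val s.val (-a) (1 : K)) = (C.G.xu g a : Matrix D.Idx D.Idx K) := by
    have hs' : s.val = X.src r.val := rfl
    rw [hs']
    rcases hct : D.commTerms r.val (X.src r.val) with _ | ⟨c, _ | ⟨c', l⟩⟩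
    · rw [hct] at hterm; simp at hterm
    · rw [hct] at hterm
      simp only [List.map_cons, List.map_nil, List.cons.injEq, Prod.mk.injEq, decide_eq_true_eq,
        and_true] at hterm
      obtain ⟨e1, e2, e3, e4⟩ := hterm
      have hodd : ((c.2.1 : ℤ) : K) = 1 := by
        obtain ⟨k, hk⟩ : ∃ k, c.2.1 = 2 * k + 1 := ⟨c.2.1 / 2, by omega⟩
        rw [hk]; push_cast; rw [CharTwo.two_eq_zero]; ring
      simp only [cwR, hct, List.map_cons, List.map_nil, wordR, List.prod_cons, List.prod_nil,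
        mul_one, hodd, e3, e4, pow_one, neg_neg, one_mul, xN, e1, dif_pos htg]
      rfl
    · rw [hct] at hterm; simp at hterm
  have hcm := C.commAt r s (fun e => hne (congrArg Fin.val e)) (C.pos_ne_negr hrp hsp) (-a) (1 : K)
  unfold CommAt at hcm
  rw [hword] at hcm
  have e2 : C.G.xu s 1 * C.G.xu r (-a) = C.G.xu r (-a) * C.G.xu s 1 * C.G.xu g a :=
    Units.ext (by simp only [Units.val_mul, Good.coe_xu]; exact hcm)
  have estep : C.G.xu r a * C.G.xu s 1 * (C.G.xu r a)⁻¹ = C.G.xu s (1 : K) * C.G.xu g a := by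
    rw [C.G.xu_inv, mul_assoc, e2, ← mul_assoc, ← mul_assoc, ← C.G.xu_add, add_neg_cancel,
      C.G.xu_zero, one_mul]
  have hgc : ∀ x : Fin D.nroots, x.val ∈ X.T0 → Commute (C.G.xu g a) (C.G.xu x (1 : K)) :=
    fun x hx => C.commute_of_odd (hX.A_pos _ htgA).2 (hX.A_pos _ (hX.T0_sub _ hx)).2
      (hX.comm _ htgA _ (hX.T0_sub _ hx)) a 1
  have hl : ∀ l : List (Fin D.nroots), l.Nodup → (∀ x ∈ l, x.val ∈ X.T0) →
      C.G.xu r a * (l.map fun x => C.G.xu x (1 : K)).prod * (C.G.xu r a)⁻¹ =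
        (l.map fun x => C.G.xu x (1 : K)).prod * (if s ∈ l then C.G.xu g a else 1) := by
    intro l
    induction l with
    | nil => intro _ _; simp
    | cons x l ih =>
      intro hnd hl
      rw [List.nodup_cons] at hnd
      have e := ih hnd.2 fun y hy => hl y (List.mem_cons_of_mem _ hy)
      simp only [List.map_cons, List.prod_cons]
      rw [show C.G.xu r a * (C.G.xu x 1 * (l.map fun y => C.G.xu y (1 : K)).prod) * (C.G.xu r a)⁻¹ =
        (C.G.xu r a * C.G.xu x 1 * (C.G.xu r a)⁻¹) *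
          (C.G.xu r a * (l.map fun y => C.G.xu y (1 : K)).prod * (C.G.xu r a)⁻¹) by group, e]
      by_cases hxs : x = s
      · subst hxs
        rw [estep, if_neg hnd.1, if_pos List.mem_cons_self, mul_one]
        have hc : Commute (C.G.xu g a) (l.map fun y => C.G.xu y (1 : K)).prod :=
          Commute.list_prod_right _ _ fun z hz => by
            obtain ⟨y, hy, rfl⟩ := List.mem_map.1 hz
            exact hgc y (hl y (List.mem_cons_of_mem _ hy))
        rw [mul_assoc, hc.eq, mul_assoc]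
      · have hc := C.commute_of_odd hrp (hX.A_pos _ (hX.T0_sub _ (hl x List.mem_cons_self))).2
          (hoth _ (hl x List.mem_cons_self) fun e' => hxs (Fin.ext e')) a (1 : K)
        rw [hc.eq, mul_inv_cancel_right, ← mul_assoc]
        congr 2
        exact propext ⟨List.mem_cons_of_mem _, fun h => (List.mem_cons.1 h).resolve_left (Ne.symm hxs)⟩
  have h := hl (C.fins X.T0) (C.fins_nodup _) fun x hx => C.mem_fins.1 hx
  rwa [← C.tX_eq hX, if_pos (C.mem_fins.2 hsrc)] at h

/-- the elements of `U` fixing the element -/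
theorem U_cent [CharP K 2] (hX : X.Valid) {u : GL D.Idx K} (hu : u ∈ D.posUnipotent K)
    (h : u * C.tX X = C.tX X * u) : u ∈ C.fixU (K := K) X := by
  classical
  rw [C.G.posUnipotent_eq] at hu
  obtain ⟨t, rfl⟩ := C.exists_mix (fun r => r.val ∉ X.four) D.nroots 0 (Nat.zero_add _) u hu
  set s : Fin D.nroots → K := fun r => if r.val ∉ X.four then 0 else -t r
  have ha := C.uprod_mem_closure (fun r => r.val ∉ X.four)
    (fun r => if r.val ∉ X.four then t r else 0) fun r _ hr => if_neg hr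
  suffices hs : C.uprod 0 s = 1 by rw [hs, inv_one, mul_one]; exact ha
  have hW : C.uprod 0 s * C.tX X = C.tX X * C.uprod 0 s := by
    set a0 := C.uprod 0 (fun r => if r.val ∉ X.four then t r else 0)
    have h0 := C.fixU_commute hX (u := a0) ha
    have h1 : (C.uprod 0 s)⁻¹ * C.tX X = C.tX X * (C.uprod 0 s)⁻¹ := by
      apply mul_left_cancel (a := a0)
      rw [← mul_assoc, h, ← mul_assoc a0 (C.tX X), h0, mul_assoc]
    exact (Commute.inv_left_iff.1 h1).eq
  set L := (List.finRange D.nroots).filter fun r => decide (0 ≤ r.val ∧ D.IsPosRoot r.val)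
  have hdrop : ∀ l : List (Fin D.nroots), (l.map fun r => C.G.xu r (s r)).prod =
      ((l.filter fun r => decide (r.val ∈ X.four)).map fun r => C.G.xu r (s r)).prod := by
    intro l
    induction l with
    | nil => rfl
    | cons b l ih =>
      by_cases hb : b.val ∈ X.four
      · rw [List.filter_cons_of_pos (by simp [hb]), List.map_cons, List.map_cons, List.prod_cons,
          List.prod_cons, ih]
      · rw [List.map_cons, List.prod_cons, show s b = 0 from if_pos hb, C.G.xu_zero, one_mul, ih,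
          List.filter_cons_of_neg (by simp [hb])]
  have hs' : C.uprod 0 s =
      ((L.filter fun r => decide (r.val ∈ X.four)).map fun r => C.G.xu r (s r)).prod := hdrop L
  set L4 := L.filter fun r => decide (r.val ∈ X.four)
  have h4 : ∀ r ∈ L4, r.val ∈ X.four := fun r hr => by simpa using (List.mem_filter.1 hr).2
  let sh : List (Fin D.nroots) → Fin D.nroots → K := fun l b =>
    (l.map fun r => if X.tg r.val = b.val then s r else 0).sum
  have hshA : ∀ l : List (Fin D.nroots), (∀ r ∈ l, r.val ∈ X.four) →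
      ∀ b, sh l b ≠ 0 → b.val ∈ X.A := by
    intro l hl b hb
    by_contra hn
    refine hb (List.sum_eq_zero fun x hx => ?_)
    obtain ⟨r, hr, rfl⟩ := List.mem_map.1 hx
    rw [if_neg]
    intro e
    exact hn (e ▸ (hX.moves _ (hl r hr)).2.2.2.1)
  have h00 : C.uprod 0 (fun _ : Fin D.nroots => (0 : K)) = 1 := by
    refine List.prod_eq_one fun x hx => ?_
    obtain ⟨r, -, rfl⟩ := List.mem_map.1 hx
    exact C.G.xu_zero r
  have hconj : ∀ l : List (Fin D.nroots), (∀ r ∈ l, r.val ∈ X.four) →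
      (l.map fun r => C.G.xu r (s r)).prod * C.tX X * ((l.map fun r => C.G.xu r (s r)).prod)⁻¹ =
        C.tX X * C.uprod 0 (sh l) := by
    intro l
    induction l with
    | nil => intro _; simp [sh, h00]
    | cons r l ih =>
      intro hl
      have hl' : ∀ x ∈ l, x.val ∈ X.four := fun x hx => hl x (List.mem_cons_of_mem _ hx)
      have hr4 := hl r List.mem_cons_self
      have htgA := (hX.moves _ hr4).2.2.2.1
      have htg := (hX.A_pos _ htgA).1
      have hfix : ∀ f : List (Fin D.nroots), (∀ x ∈ f, x.val ∈ X.four) →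
          Commute (C.G.xu r (s r)) (C.uprod 0 (sh f)) := by
        intro f hf
        refine Commute.list_prod_right _ _ fun x hx => ?_
        obtain ⟨b, hb, rfl⟩ := List.mem_map.1 hx
        by_cases hb0 : sh f b = 0
        · rw [hb0, C.G.xu_zero]; exact Commute.one_right _
        obtain ⟨x, hx, hxb⟩ : ∃ x ∈ f, X.tg x.val = b.val := by
          by_contra hne
          refine hb0 (List.sum_eq_zero fun y hy => ?_)
          obtain ⟨z, hz, rfl⟩ := List.mem_map.1 hy
          exact if_neg fun e => hne ⟨z, hz, e⟩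
        refine C.commute_of_odd (hX.four_pos _ hr4).2 ?_ ?_ _ _
        · exact hxb ▸ (hX.A_pos _ (hX.moves _ (hf x hx)).2.2.2.1).2
        · rw [← hxb]; exact (hX.moves _ hr4).2.2.2.2.2.2 _ (hf x hx)
      simp only [List.map_cons, List.prod_cons, mul_inv_rev]
      rw [show ∀ A B T : GL D.Idx K, A * B * T * (B⁻¹ * A⁻¹) = A * (B * T * B⁻¹) * A⁻¹ from
        fun A B T => by group, ih hl',
        show ∀ A T W : GL D.Idx K, A * (T * W) * A⁻¹ = (A * T * A⁻¹) * (A * W * A⁻¹) from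
        fun A T W => by group, C.conj_four hX hr4 htg, (hfix l hl').eq, mul_inv_cancel_right,
        mul_assoc]
      congr 1
      rw [← C.uprod_single ⟨X.tg r.val, htg⟩ (hX.A_pos _ htgA).2 (s r),
        C.uprod_add hX (fun b hb => ?_) (hshA l hl')]
      · refine C.uprod_congr fun b _ _ => ?_
        simp only [sh, Pi.add_apply, List.map_cons, List.sum_cons, Fin.ext_iff, eq_comm]
      · by_cases e : b = ⟨X.tg r.val, htg⟩
        · rw [e]; exact htgA
        · exact absurd (if_neg e) hb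
  have hz := hconj L4 h4
  rw [← hs', hW, mul_inv_cancel_right] at hz
  have hz' : C.uprod 0 (sh L4) = C.uprod 0 (fun _ : Fin D.nroots => (0 : K)) := by
    rw [h00]; exact mul_left_cancel (hz.symm.trans (mul_one _).symm)
  have hzero : ∀ r ∈ L4, s r = 0 := by
    intro r hr
    have htgA := (hX.moves _ (h4 r hr)).2.2.2.1
    have := C.uprod_inj D.nroots 0 (Nat.zero_add _) _ _ hz' ⟨X.tg r.val, (hX.A_pos _ htgA).1⟩
      (Nat.zero_le _) (hX.A_pos _ htgA).2
    have hnd : L4.Nodup := ((List.nodup_finRange _).filter _).filter _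
    rw [show sh L4 ⟨X.tg r.val, (hX.A_pos _ htgA).1⟩ = s r from ?_] at this
    · exact this
    · simp only [sh]
      rw [List.sum_map_eq_nsmul_single r (fun x => if X.tg x.val = X.tg r.val then s x else 0)
        fun x hx hxm => if_neg fun e => hx (Fin.ext (hX.tg_inj _ (h4 x hxm) _ (h4 r hr) e)),
        if_pos rfl, List.count_eq_one_of_mem hnd hr, one_smul]
  rw [hs']
  refine List.prod_eq_one fun x hx => ?_
  obtain ⟨r, hr, rfl⟩ := List.mem_map.1 hx
  rw [hzero r hr, C.G.xu_zero]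

/-- the group the centraliser is shown to be -/
noncomputable def centGrp (X : CentData D) : Subgroup (GL D.Idx K) :=
  C.fixU (K := K) X ⊔ Subgroup.closure {g | ∃ i ∈ X.J, ∃ t, g = C.G.xu (C.G.negr (C.G.simp' i)) t}

/-- the centraliser of a product of commuting root elements -/
theorem centralizer_data [CharP K 2] {f : Fast} (c : Checks D f) (hX : X.Valid)
    (stab : List (List ℕ))
    (hW : ∀ π ∈ C.G.Wg, ∃ P, chkCand D f X.T0 X.A X.four stab P = true ∧
      ∀ r : Fin D.nroots, (π r).val = digit P r.val)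
    (hstab : ∀ l ∈ stab, ∀ i ∈ l, ∃ h : i < D.rank, (⟨i, h⟩ : Fin D.rank) ∈ X.J)
    (hsolve : ∀ d : Fin D.rank → Kˣ,
      (∀ x : Fin D.nroots, x.val ∈ X.T0 → ∏ i, d i ^ cart D i x = 1) → ∀ i, i ∉ X.J → d i = 1) :
    D.group K ⊓ Subgroup.centralizer {C.tX X} = C.centGrp (K := K) X := by
  classical
  have hUfix : ∀ x ∈ C.fixU (K := K) X, x ∈ D.posUnipotent K := by
    intro x hx
    refine (?_ : C.fixU (K := K) X ≤ _) hx
    rw [fixU, Subgroup.closure_le]
    rintro g ⟨r, t, ⟨hr, -⟩, rfl⟩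
    exact C.G.xu_mem_U hr t
  have hfixle : ∀ x ∈ C.fixU (K := K) X, x ∈ D.group K ⊓ Subgroup.centralizer {C.tX X} := fun x hx =>
    Subgroup.mem_inf.2 ⟨C.G.posUnipotent_le_group (hUfix x hx),
      Subgroup.mem_centralizer_singleton_iff.2 (C.fixU_commute hX hx)⟩
  have hsimp : ∀ i ∈ X.J, ∀ t : K, C.G.xu (C.G.simp' i) t ∈ C.fixU (K := K) X := fun i hi t =>
    Subgroup.subset_closure ⟨_, t, ⟨C.G.simp_pos i, by rw [C.G.simp_val]; exact hX.J_simple i hi⟩, rfl⟩
  have hfixn : ∀ i ∈ X.J, C.G.nU i * C.tX X = C.tX X * (C.G.nU i : GL D.Idx K) := by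
    intro i hi
    rw [C.tX_eq hX]
    refine (Commute.list_prod_right _ _ (fun x hx => ?_)).eq
    obtain ⟨θ, hθ, rfl⟩ := List.mem_map.1 hx
    have hc0 : cart D i θ = 0 := hX.J_cart i hi _ (C.mem_fins.1 hθ)
    have hw : C.G.w i θ = θ :=
      C.G.rho_injective (by rw [C.G.rho_w, hc0, zero_smul, sub_zero])
    have h1 := C.G.nU_xu i θ (1 : K)
    rw [hw, mul_one] at h1
    have h2 : ((C.G.eta i θ : ℤ) : K) = 1 := by
      rcases C.G.eta_unit i θ with e | e <;> rw [e] <;> simp [CharTwo.neg_eq]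
    rw [h2] at h1
    exact h1
  have hMle : C.centGrp (K := K) X ≤ D.group K ⊓ Subgroup.centralizer {C.tX X} := by
    refine sup_le hfixle ((Subgroup.closure_le _).2 ?_)
    rintro g ⟨i, hi, t, rfl⟩
    have hn : C.G.nU i ∈ D.group K ⊓ Subgroup.centralizer {C.tX X} :=
      Subgroup.mem_inf.2 ⟨C.G.nU_mem_group i,
        Subgroup.mem_centralizer_singleton_iff.2 (hfixn i hi)⟩
    have h1 := C.G.nU_xu i (C.G.simp' i) (-t : K)
    rw [C.G.w_simp, C.G.eta_simp, Int.cast_neg, Int.cast_one, neg_one_mul, neg_neg] at h1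
    rw [show C.G.xu (C.G.negr (C.G.simp' i)) t =
      C.G.nU i * C.G.xu (C.G.simp' i) (-t) * (C.G.nU i)⁻¹ by rw [h1]; group]
    exact mul_mem (mul_mem hn (hfixle _ (hsimp i hi _))) (inv_mem hn)
  refine le_antisymm ?_ hMle
  intro g hg
  rw [Subgroup.mem_inf, Subgroup.mem_centralizer_singleton_iff] at hg
  obtain ⟨hgG, hgt⟩ := hg
  obtain ⟨b, hb, n₀, hn₀, π, hπ, v, hv, rfl⟩ := C.refined_exists hgG
  obtain ⟨u, hu, h, hh, rfl⟩ := C.G.mem_borel_iff.1 hb
  set n := h * n₀ with hn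
  have hN : n ∈ D.monomialSubgroup K := mul_mem (C.G.H_le_monomial hh) hn₀
  have hnP : C.G.NPerm n π := by simpa using Good.NPerm.mul C.G (C.G.nPerm_H hh) hπ
  choose cc hcc using hnP
  have eq0 : n * (v * C.tX X * v⁻¹) * n⁻¹ = u⁻¹ * C.tX X * u := by
    calc n * (v * C.tX X * v⁻¹) * n⁻¹
        = u⁻¹ * ((u * h * n₀ * v) * C.tX X) * v⁻¹ * n⁻¹ := by rw [hn]; group
      _ = u⁻¹ * (C.tX X * (u * h * n₀ * v)) * v⁻¹ * n⁻¹ := by rw [hgt]
      _ = u⁻¹ * C.tX X * u := by rw [hn]; group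
  obtain ⟨l₁, hl₁⟩ := C.G.exists_nPerm hN
  have hπW : π ∈ C.G.Wg :=
    Good.NPerm.unique C.G hl₁ (fun s => ⟨cc s, hcc s⟩) ▸ C.G.pw_mem l₁
  obtain ⟨P, hchk, hP⟩ := hW π hπW
  set R := invList D P
  set M := reachCl D X.T0 X.A R
  have hR : ∀ r ∈ R, r < D.nroots ∧ D.IsPosRoot r := by
    intro r hr
    simp only [R, invList, List.mem_filter, List.mem_range] at hr
    exact ⟨hr.1.1, (C.G.pos_iff_half ⟨r, hr.1.1⟩).2 (Nat.le_of_ble_eq_true hr.1.2)⟩
  have hvR : v ∈ C.HL (K := K) R := by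
    refine (?_ : Uinv C.G π ≤ C.HL (K := K) R) hv
    rw [Uinv, Subgroup.closure_le]
    rintro x ⟨r, t, ⟨hr, hneg⟩, rfl⟩
    refine C.xu_mem_HL ?_ t
    rw [C.G.pos_iff_half] at hr hneg
    simp only [R, invList, List.mem_filter, List.mem_range]
    refine ⟨⟨r.isLt, Nat.ble_eq_true_of_le hr⟩, Nat.blt_eq.mpr ?_⟩
    rw [← hP]; omega
  have huU : u⁻¹ ∈ C.HL (K := K) D.posRoots := by
    refine (?_ : D.posUnipotent K ≤ C.HL (K := K) D.posRoots) (inv_mem hu)
    rw [C.G.posUnipotent_eq_closure, Subgroup.closure_le]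
    rintro x ⟨r, t, hr, rfl⟩
    exact C.xu_mem_HL (C.mem_posRoots.2 ⟨r.isLt, hr⟩) t
  have hA0 : ∀ a ∈ X.A.filter (fun a => decide (a ∉ X.T0)), a ∈ X.A :=
    fun a ha => (List.mem_filter.1 ha).1
  obtain ⟨F', hF', hF'1, eF'⟩ :=
    C.conj_tX hX (fun r hr => C.mem_posRoots.1 hr) hA0 hX.closed huU
  rw [inv_inv] at eF'
  have hF'A : ∀ r, F' r ≠ 0 → r.val ∈ X.A := fun r hr =>
    (List.mem_append.1 (hF' r hr)).elim (hX.T0_sub _) fun h => hA0 _ h
  have hMA : ∀ a ∈ M, a ∈ X.A := fun a ha => (List.mem_filter.1 ha).1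
  unfold chkCand at hchk
  have hcl0 : ∀ {F : Fin D.nroots → K}, (∀ r : Fin D.nroots, r.val ∈ X.T0 → F r = 1) →
      (∀ r, F r ≠ 0 → r.val ∈ X.A) → n * C.uprod 0 F * n⁻¹ = C.uprod 0 F' →
      ((X.T0.all fun x => decide (digit P x ∈ X.A)) = true) := by
    intro F hF1 hFA e
    obtain ⟨h1, -⟩ := C.supp_match hX hcc hFA hF'A e
    rw [List.all_eq_true]
    intro x hx
    have hxlt := (hX.A_pos _ (hX.T0_sub _ hx)).1
    have hne : F ⟨x, hxlt⟩ ≠ 0 := by rw [hF1 ⟨x, hxlt⟩ hx]; exact one_ne_zero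
    have := hF'A (π ⟨x, hxlt⟩) (by rw [h1 _ hne]; exact mul_ne_zero (cc _).ne_zero hne)
    rw [hP] at this
    simpa using this
  have hA1 : (X.T0.all fun x => decide (digit P x ∈ X.A)) = true := by
    obtain ⟨F, hF, hF1, eF⟩ := C.conj_tX hX hR hA0
      ⟨fun a ha => by simpa using (List.mem_filter.1 ha).2,
        fun r hr x hx a ha => hX.closed.2 r (C.mem_posRoots.2 (hR r hr)) x hx a ha⟩ hvR
    exact hcl0 hF1 (fun r hr => (List.mem_append.1 (hF r hr)).elim (hX.T0_sub _) fun h => hA0 _ h)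
      (by rw [← eF, eq0, eF'])
  rw [hA1, cond_true, Bool.and_eq_true, decide_eq_true_eq] at hchk
  obtain ⟨F, hF, hF1, eF⟩ := C.conj_tX hX hR hMA hchk.1 hvR
  have hFA : ∀ r, F r ≠ 0 → r.val ∈ X.A := fun r hr =>
    (List.mem_append.1 (hF r hr)).elim (hX.T0_sub _) (hMA _)
  obtain ⟨h1, h2⟩ := C.supp_match hX hcc hFA hF'A (by rw [← eF, eq0, eF'])
  have hA2 : (X.T0.all fun x => (X.T0 ++ M).any fun s => decide (digit P s = x)) = true := by
    rw [List.all_eq_true]
    intro x hx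
    have hxlt := (hX.A_pos _ (hX.T0_sub _ hx)).1
    obtain ⟨a, ha, e⟩ := h2 ⟨x, hxlt⟩ (by rw [hF'1 ⟨x, hxlt⟩ hx]; exact one_ne_zero)
    rw [List.any_eq_true]
    exact ⟨a.val, hF a ha, by rw [← hP, e]; simp⟩
  have h3 := hchk.2
  rw [hA2, cond_true, Bool.and_eq_true] at h3
  obtain ⟨l, hl, hleq⟩ := List.any_eq_true.1 h3.1
  let w : List (Fin D.rank) :=
    l.pmap (fun i h => (⟨i, h⟩ : Fin D.rank)) fun i hi => (hstab l hl i hi).1
  have hwval : w.map Fin.val = l := by
    simp only [w, List.map_pmap]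
    exact List.pmap_eq_map ..|>.trans (List.map_id _)
  have hwJ : ∀ i ∈ w, i ∈ X.J := by
    intro i hi
    obtain ⟨j, hj, rfl⟩ := List.mem_pmap.1 hi
    exact (hstab l hl j hj).2
  have hpw : C.G.pw w = π := Equiv.ext fun r => Fin.ext (by
    rw [C.G.pw_val c, hwval, hP]
    exact (Nat.eq_of_beq_eq_true (allLt_spec hleq r.val r.isLt)).symm)
  have hwM : C.G.nw w ∈ C.centGrp (K := K) X := by
    refine list_prod_mem fun x hx => ?_
    obtain ⟨i, hi, rfl⟩ := List.mem_map.1 hx
    refine mul_mem (mul_mem ?_ ?_) ?_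
    · exact Subgroup.mem_sup_left (hsimp i (hwJ i hi) _)
    · exact Subgroup.mem_sup_right (Subgroup.subset_closure ⟨i, hwJ i hi, _, rfl⟩)
    · exact Subgroup.mem_sup_left (hsimp i (hwJ i hi) _)
  have hvfix : v ∈ C.fixU (K := K) X := by
    refine (?_ : C.HL (K := K) R ≤ C.fixU (K := K) X) hvR
    rw [HL, Subgroup.closure_le]
    rintro x ⟨r, t, hr, rfl⟩
    refine Subgroup.subset_closure ⟨r, t, ⟨(hR _ hr).2, ?_⟩, rfl⟩
    simpa using List.all_eq_true.1 h3.2 _ hr
  have eqv : v * C.tX X * v⁻¹ = C.tX X := by rw [C.fixU_commute hX hvfix, mul_inv_cancel_right]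
  rw [eqv] at eq0
  have hd : n * (C.G.nw w)⁻¹ ∈ D.diagonalSubgroup K := by
    refine C.G.mem_H_of_nPerm_one (mul_mem hN (inv_mem (C.G.nw_mem_monomial w))) ?_
    have := Good.NPerm.mul C.G (fun s => ⟨cc s, hcc s⟩ : C.G.NPerm n π)
      (Good.NPerm.inv C.G (C.G.nPerm_nw (K := K) w))
    rwa [hpw, mul_inv_cancel] at this
  rw [C.G.diagonal_eq_range] at hd
  obtain ⟨d, hd'⟩ := hd
  have hwc : C.G.nw w * C.tX X = C.tX X * C.G.nw w :=
    Subgroup.mem_centralizer_singleton_iff.1 (Subgroup.mem_inf.1 (hMle hwM)).2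
  have eqd : C.G.torθ d * C.tX X * (C.G.torθ d)⁻¹ = C.uprod 0 F' := by
    rw [← eF', ← eq0, hd', mul_inv_rev, inv_inv]
    rw [show n * (C.G.nw w)⁻¹ * C.tX X * (C.G.nw w * n⁻¹) =
      n * ((C.G.nw w)⁻¹ * (C.tX X * C.G.nw w)) * n⁻¹ by group, ← hwc]
    group
  obtain ⟨k1, -⟩ := C.supp_match hX (n := C.G.torθ d) (π := 1)
    (c := fun r => ∏ i, d i ^ cart D i r) (f := X.ind) (f' := F')
    (fun s t => C.G.torθ_conj_xu d s t)
    (fun r hr => by
      by_contra hn
      exact hr (if_neg fun h => hn (hX.T0_sub _ h)))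
    hF'A eqd
  have hchar : ∀ x : Fin D.nroots, x.val ∈ X.T0 → ∏ i, d i ^ cart D i x = 1 := by
    intro x hx
    have h1x : (X.ind x : K) = 1 := if_pos hx
    have := k1 x (by rw [h1x]; exact one_ne_zero)
    rw [h1x, mul_one, Equiv.Perm.one_apply, hF'1 x hx] at this
    exact (Units.ext this).symm
  have hd1 := hsolve d hchar
  have hdM : C.G.torθ d ∈ C.centGrp (K := K) X := by
    rw [C.G.torθ_eq_prod]
    refine list_prod_mem fun x hx => ?_
    obtain ⟨i, -, rfl⟩ := List.mem_map.1 hx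
    by_cases hi : i ∈ X.J
    · rw [← C.G.hE_eq]
      have hp : ∀ t : K, C.G.xu (C.G.simp' i) t ∈ C.centGrp (K := K) X := fun t =>
        Subgroup.mem_sup_left (hsimp i hi _)
      have hm : ∀ t : K, C.G.xu (C.G.negr (C.G.simp' i)) t ∈ C.centGrp (K := K) X := fun t =>
        Subgroup.mem_sup_right (Subgroup.subset_closure ⟨i, hi, _, rfl⟩)
      simp only [Good.hE, Good.nE]
      exact mul_mem (mul_mem (mul_mem (hp _) (hm _)) (hp _)) (mul_mem (mul_mem (hp _) (hm _)) (hp _))
    · rw [hd1 i hi, map_one]; exact one_mem _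
  have hdc : C.G.torθ d * C.tX X * (C.G.torθ d)⁻¹ = C.tX X := by
    rw [Subgroup.mem_centralizer_singleton_iff.1 (Subgroup.mem_inf.1 (hMle hdM)).2,
      mul_inv_cancel_right]
  have huc : u * C.tX X = C.tX X * u := by
    rw [eqd, ← eF'] at hdc
    calc u * C.tX X = u * (u⁻¹ * C.tX X * u) := by rw [hdc]
      _ = C.tX X * u := by group
  rw [show u * h * n₀ * v = u * ((C.G.torθ d) * C.G.nw w) * v by rw [hd', hn]; group]
  exact mul_mem (mul_mem (Subgroup.mem_sup_left (C.U_cent hX hu huc)) (mul_mem hdM hwM))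
    (Subgroup.mem_sup_left hvfix)

end Full

/-- every element of the Weyl group is tabulated by the enumeration for the trivial permutation -/
theorem exists_tab {f : Fast} {S : OrbData} {E : EnumData} {G : Good D} (c : Checks D f)
    (hS : chkOrb D f S = true) (hP : ∀ r < D.nroots, digit S.P r = r)
    (hE : chkEnum D S E = true) {π : Equiv.Perm (Fin D.nroots)} (hπ : π ∈ G.Wg) :
    ∃ k < E.m, ∀ r : Fin D.nroots, (π r).val = digit (E.P.get k) r.val := by
  let O := S.orbits (G := G) c hS 1 fun r => (hP r.val r.isLt).symm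
  have hO : ∀ (o : Fin S.no) (r : Fin D.nroots), (O.wO o r).val = digit (S.tab.get o.val) r.val := by
    intro o r
    show (G.pw (S.wl D o) r).val = _
    rw [G.pw_val c, OrbData.wl_val hS]
    exact ((OrbData.spec hS o.val o.isLt).2.2.2.1 r.val r.isLt).symm
  simp only [chkEnum, Bool.and_eq_true, Nat.blt_eq] at hE
  obtain ⟨⟨⟨⟨⟨⟨hm, h0⟩, -⟩, hch⟩, -⟩, -⟩, -⟩ := hE
  have hcomp : ∀ π ∈ Wp G 1, ∃ k : Fin E.m, ∀ r, (π⁻¹ r).val = digit (E.P.get k.val) r.val := by
    intro π hπ
    refine O.induction_on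
      (P := fun π => ∃ k : Fin E.m, ∀ r, (π⁻¹ r).val = digit (E.P.get k.val) r.val) hπ
      ⟨⟨0, hm⟩, fun r => ?_⟩ ?_
    · rw [inv_one]
      exact (Nat.eq_of_beq_eq_true (allLt_spec h0 r.val r.isLt)).symm
    · rintro π' - o - - ⟨k, hk⟩
      have := allLt_spec (allLt_spec hch k.val k.isLt) o.val o.isLt
      simp only [Bool.and_eq_true, Nat.blt_eq] at this
      refine ⟨⟨_, this.1⟩, fun r => ?_⟩
      rw [mul_inv_rev, O.wO_inv, Equiv.Perm.mul_apply, hO, hk]
      exact Nat.eq_of_beq_eq_true (allLt_spec this.2 r.val r.isLt)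
  obtain ⟨k, hk⟩ := hcomp π⁻¹ (inv_mem (mem_Wp.2 ⟨hπ, by simp⟩))
  exact ⟨k.val, k.isLt, fun r => by rw [← hk r, inv_inv]⟩

end CfsgLib.Lie.Chev
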