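import Cfsg.Agent.Lib.Lie.Chev.Good

/-!
# Boolean certificates for the facts in `Good`

The tables are re-coded as packed natural numbers so that the kernel can look entries up fast;
the first check compares the re-coded tables with the tables of the datum.
-/

set_option autoImplicit false

namespace CfsgLib.Lie.Chev

open Cfsg.Lie

/-- a lookup tree -/
inductive Tree (α : Type) where
  | leaf (v : α)
  | node (k : ℕ) (l r : Tree α)

/-- lookup -/
noncomputable def Tree.get {α : Type} (t : Tree α) (a : ℕ) : α :=
  Tree.rec (fun v => v) (fun k _ _ l r => cond (Nat.blt a k) l r) t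

/-- the re-coded tables -/
structure Fast where
  t1 : Tree ℕ
  t2 : Tree ℕ
  t3 : Tree ℕ
  cor : Tree (List (ℕ × ℤ))
  tA : Tree ℕ
  rho : Tree (List ℤ)
  negs : Tree ℕ
  simples : Tree ℕ
  tw : Tree ℕ
  parent : Tree (ℕ × ℕ × ℕ)
  bez : Tree (List ℤ)
  base : ℕ
  reps : List ℕ

/-- bounded universal quantifier -/
noncomputable def allLt (n : ℕ) (f : ℕ → Bool) : Bool :=
  Nat.rec true (fun i acc => cond (f i) acc false) n

theorem allLt_spec {n : ℕ} {f : ℕ → Bool} (h : allLt n f = true) : ∀ i < n, f i = true := by
  induction n with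
  | zero => intro i hi; omega
  | succ n ih =>
    change cond (f n) (allLt n f) false = true at h
    cases hf : f n with
    | false => simp [hf] at h
    | true =>
      simp only [hf, cond_true] at h
      intro i hi
      rcases Nat.lt_succ_iff_lt_or_eq.1 hi with h' | h'
      · exact ih h i h'
      · exact h' ▸ hf

/-- the 16-bit digit number `b` of `row` -/
noncomputable def digit (row b : ℕ) : ℕ := Nat.land (Nat.shiftRight row (16 * b)) 65535

/-- the code of an empty vector is `0`, of a coroot `1023`, of a single entry as below -/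
noncomputable def encode : List (ℕ × ℤ) → ℕ
  | [] => 0
  | e :: _ => e.1 + 1 + 1024 * (e.2 + 8).toNat

/-- decoding -/
noncomputable def decode (cor : List (ℕ × ℤ)) (c : ℕ) : List (ℕ × ℤ) :=
  cond (Nat.beq c 0) [] (cond (Nat.beq c 1023) cor [(c % 1024 - 1, Int.subNatNat (c / 1024) 8)])

/-- scalar multiples -/
noncomputable def scale (c : ℤ) (v : List (ℕ × ℤ)) : List (ℕ × ℤ) := v.map fun e => (e.1, c * e.2)

/-- apply a linear map given on basis vectors -/
noncomputable def bindv (v : List (ℕ × ℤ)) (f : ℕ → List (ℕ × ℤ)) : List (ℕ × ℤ) :=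
  List.rec [] (fun e _ ih => scale e.2 (f e.1) ++ ih) v

/-- equality of integers, reducing by recursors only -/
noncomputable def intBeq (a b : ℤ) : Bool :=
  Int.rec (fun m => Int.rec (fun n => Nat.beq m n) (fun _ => false) b)
    (fun m => Int.rec (fun _ => false) (fun n => Nat.beq m n) b) a

theorem intBeq_spec {a b : ℤ} (h : intBeq a b = true) : a = b := by
  cases a <;> cases b <;> simp only [intBeq] at h
  · simp only [Nat.beq_eq] at h; rw [h]
  · exact absurd h (by decide)
  · exact absurd h (by decide)
  · simp only [Nat.beq_eq] at h; rw [h]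

/-- coefficient, reducing by recursors only -/
noncomputable def coefR (v : List (ℕ × ℤ)) (j : ℕ) : ℤ :=
  List.rec 0 (fun e _ ih => cond (Nat.beq e.1 j) (Int.add e.2 ih) ih) v

theorem coefR_eq (v : List (ℕ × ℤ)) (j : ℕ) : coefR v j = coef v j := by
  induction v with
  | nil => rfl
  | cons e v ih =>
    rw [coef_cons, ← ih]
    show cond (Nat.beq e.1 j) (Int.add e.2 (coefR v j)) (coefR v j) = _
    by_cases h : e.1 = j
    · subst h; simp [Nat.beq_refl, Int.add_def]
    · cases hb : Nat.beq e.1 j with
      | false => simp [h]
      | true => exact absurd (Nat.eq_of_beq_eq_true hb) h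

/-- conjunction over a list -/
noncomputable def allList {α : Type} (v : List α) (f : α → Bool) : Bool :=
  List.rec true (fun e _ ih => cond (f e) ih false) v

theorem allList_spec {α : Type} {v : List α} {f : α → Bool} (h : allList v f = true) :
    ∀ e ∈ v, f e = true := by
  induction v with
  | nil => simp
  | cons e v ih =>
    change cond (f e) (allList v f) false = true at h
    cases hf : f e with
    | false => simp [hf] at h
    | true =>
      simp only [hf, cond_true] at h
      intro x hx
      rcases List.mem_cons.1 hx with rfl | hx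
      · exact hf
      · exact ih h x hx

/-- equality of sparse vectors -/
noncomputable def eqv (v w : List (ℕ × ℤ)) : Bool :=
  allList v (fun e => intBeq (coefR v e.1) (coefR w e.1)) &&
    allList w (fun e => intBeq (coefR v e.1) (coefR w e.1))

section ops

variable (D : ChevalleyDatum) (f : Fast)

/-- the coefficient maps from the fast tables -/
noncomputable def actF (r k b : ℕ) : List (ℕ × ℤ) :=
  decode (f.cor.get r)
    (match k with
     | 1 => digit (f.t1.get r) b
     | 2 => digit (f.t2.get r) b
     | 3 => digit (f.t3.get r) b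
     | _ => 0)

/-- the Cartan integer from the fast table -/
noncomputable def cartF (i s : ℕ) : ℤ := Int.subNatNat (digit (f.tA.get i) s) 8

/-- adjoint action of basis vectors from the fast tables -/
noncomputable def adF (a b : ℕ) : List (ℕ × ℤ) :=
  cond (Nat.blt a D.rank)
    (cond (Nat.blt b D.rank) [] [(b, cartF f a (b - D.rank))])
    (actF f (a - D.rank) 1 b)

/-- the reflection on roots from the fast table -/
noncomputable def wF (i s : ℕ) : ℕ := digit (f.tw.get i) s % 1024

/-- its sign -/
noncomputable def etaF (i s : ℕ) : ℤ := cond (Nat.beq (digit (f.tw.get i) s / 1024) 0) 1 (-1)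

/-- `n_{p_i}(1)` on basis vectors -/
noncomputable def nF (i b : ℕ) : List (ℕ × ℤ) :=
  cond (Nat.blt b D.rank) [(b, 1), (i, - cartF f b (f.simples.get i))]
    [(D.rank + wF f i (b - D.rank), etaF f i (b - D.rank))]

/-- weights of basis vectors -/
noncomputable def rhoF (b : ℕ) : List ℤ :=
  cond (Nat.blt b D.rank) (List.replicate D.rank 0) (f.rho.get (b - D.rank))

/-- `x_r(t)` on a basis vector, for `t` an integer -/
noncomputable def xF (r : ℕ) (t : ℤ) (b : ℕ) : List (ℕ × ℤ) :=
  (b, 1) :: (scale t (actF f r 1 b) ++ scale (t ^ 2) (actF f r 2 b) ++ scale (t ^ 3) (actF f r 3 b))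

/-- drop the head entry once its position is passed -/
noncomputable def dropKey (s : ℕ) (l : List (ℕ × Array (ℕ × ℤ))) : List (ℕ × Array (ℕ × ℤ)) :=
  List.rec [] (fun e l' _ => cond (Nat.beq e.1 s) l' (e :: l')) l

/-- the code read from the head of the remaining chain entries -/
noncomputable def headCode (l k s : ℕ) : List (ℕ × Array (ℕ × ℤ)) → ℕ
  | [] => 0
  | e :: _ =>
    cond (Nat.beq e.1 s)
      (match e.2.toList[k - 1]? with
       | none => 0
       | some x => encode [(l + x.1, x.2)]) 0

/-- the code of column `b` of coefficient `k` of root `r`, computed from the datum by a sweep -/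
noncomputable def sweep (D : ChevalleyDatum) (r k ng : ℕ) (m : ℕ) :
    ℕ → List (ℕ × Array (ℕ × ℤ)) → ℕ :=
  Nat.rec (fun _ _ => 0)
    (fun _ ih s l =>
      cond (Nat.beq s r) 0
        (cond (Nat.beq s ng)
          (cond (Nat.beq k 1) 1023 (cond (Nat.beq k 2) (encode [(D.rank + r, -1)]) 0))
          (headCode D.rank k s l)) +
        65536 * ih (s + 1) (dropKey s l)) m

/-- the packed row -/
noncomputable def packRow (r k : ℕ) : ℕ :=
  (List.range D.rank).foldr
    (fun i acc => (cond (Nat.beq k 1)
      (encode [(D.rank + r, - (D.cartanSR.getD i #[]).getD r 0)]) 0) + 65536 * acc)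
    (sweep D r k (D.negIdx.getD r 0) D.nroots 0 (D.chain.getD r #[]).toList)

/-- strictly increasing -/
noncomputable def increasing : List ℕ → Bool
  | a :: b :: l => Nat.blt a b && increasing (b :: l)
  | _ => true

/-- the packed Cartan row -/
noncomputable def packA (i : ℕ) : ℕ :=
  (D.cartanSR.getD i #[]).toList.foldr (fun a acc => (a + 8).toNat + 65536 * acc) 0

/-- the tables agree -/
noncomputable def chkRows : Bool :=
  Nat.blt (D.rank + D.nroots) 1000 &&
  (allLt D.nroots fun r =>
    Nat.beq (f.t1.get r) (packRow D r 1) && Nat.beq (f.t2.get r) (packRow D r 2) &&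
      Nat.beq (f.t3.get r) (packRow D r 3) &&
      (f.cor.get r == (List.range D.rank).map fun i => (i, (D.coroot.getD r #[]).getD i 0)) &&
      Nat.beq (f.negs.get r) (D.negIdx.getD r 0) &&
      Nat.blt (f.negs.get r) D.nroots && !(Nat.beq (f.negs.get r) r) &&
      increasing ((D.chain.getD r #[]).toList.map Prod.fst) &&
      Nat.beq (D.coroot.getD r #[]).size D.rank &&
      ((D.chain.getD r #[]).toList.all fun e => e.2.toList.all (fun x => Nat.blt x.1 D.nroots &&
        Nat.ble x.2.natAbs 7) && Nat.blt e.2.size 4 && Nat.blt e.1 D.nroots)) &&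
  (allLt D.rank fun i =>
    Nat.beq (f.tA.get i) (packA D i) && Nat.beq (D.cartanSR.getD i #[]).size D.nroots &&
      ((D.cartanSR.getD i #[]).toList.all fun a => Nat.ble a.natAbs 7) &&
      Nat.beq (f.simples.get i) (D.simpleIdx.getD i 0) && Nat.blt (f.simples.get i) D.nroots)

/-- the dot product of integer lists -/
noncomputable def dot : List ℤ → List ℤ → ℤ
  | a :: v, b :: w => a * b + dot v w
  | _, _ => 0

/-- `v + k u` -/
noncomputable def addMul : List ℤ → ℤ → List ℤ → List ℤ
  | a :: v, k, b :: u => (a + k * b) :: addMul v k u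
  | _, _, _ => []

/-- the weight code -/
noncomputable def wcode (B : ℤ) : List ℤ → ℤ
  | [] => 0
  | a :: v => a * B ^ v.length + wcode B v

/-- roots, weights, order -/
noncomputable def chkRoots : Bool :=
  (allLt D.nroots fun r =>
    let v := f.rho.get r
    Nat.beq v.length D.rank &&
      (f.rho.get (f.negs.get r) == v.map (fun a => -a)) &&
      (v.all (fun a => decide (0 ≤ a)) || v.all (fun a => decide (a ≤ 0))) &&
      (Nat.beq (r + 1) D.nroots || decide (wcode f.base v < wcode f.base (f.rho.get (r + 1)))) &&
      (((f.cor.get r).all fun e => decide (0 ≤ e.2)) == decide (0 < wcode f.base v)) &&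
      (((f.cor.get r).all fun e => decide (e.2 ≤ 0)) == decide (wcode f.base v < 0)) &&
      decide (dot (f.bez.get r) ((f.cor.get r).map Prod.snd) = 1) &&
      Nat.beq (f.bez.get r).length D.rank) &&
  Nat.blt 0 f.base && (allLt D.rank fun i =>
    (f.cor.get (f.simples.get i) ==
        (List.range D.rank).map (fun j => (j, cond (Nat.beq j i) (1 : ℤ) 0))) &&
    ((f.rho.get (f.simples.get i) ==
      (List.range D.rank).map (fun j => cond (Nat.beq j i) 1 0)) &&
      (cartF f i (f.simples.get i) == 2) &&
      (allLt D.nroots fun s =>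
        cartF f i s == dot (f.rho.get s)
          ((List.range D.rank).map fun j => cartF f i (f.simples.get j)))))

/-- weights of the root elements -/
noncomputable def chkWeight : Bool :=
  allLt D.nroots fun r => allLt (D.rank + D.nroots) fun b =>
    cond (Nat.beq (digit (f.t1.get r) b + digit (f.t2.get r) b + digit (f.t3.get r) b) 0) true <|
    allLt 3 fun k => (actF f r (k + 1) b).all fun e => Nat.blt e.1 (D.rank + D.nroots) &&
      (e.2 == 0 || rhoF D f e.1 == addMul (rhoF D f b) (k + 1) (f.rho.get r))

/-- divided powers -/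
noncomputable def chkPow : Bool :=
  allLt D.nroots fun r => allLt (D.rank + D.nroots) fun b =>
    cond (Nat.beq (digit (f.t1.get r) b + digit (f.t2.get r) b + digit (f.t3.get r) b) 0) true <|
    eqv (bindv (actF f r 1 b) (actF f r 1)) (scale 2 (actF f r 2 b)) &&
    eqv (bindv (actF f r 2 b) (actF f r 1)) (scale 3 (actF f r 3 b)) &&
    eqv (bindv (actF f r 3 b) (actF f r 1)) []

/-- the reflections and the elements `n_{p_i}(1)` -/
noncomputable def chkN : Bool :=
  allLt D.rank fun i =>
    let p := f.simples.get i
    let m := f.negs.get p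
    (allLt D.nroots fun s =>
      Nat.blt (wF f i s) D.nroots && Nat.beq (wF f i (wF f i s)) s &&
        (f.rho.get (wF f i s) == addMul (f.rho.get s) (- cartF f i s)
          ((List.range D.rank).map fun j => cond (Nat.beq j i) 1 0)) &&
        (etaF f i s * etaF f i (wF f i s) == (-1) ^ (cartF f i s).natAbs) &&
        (etaF f i s * etaF f i (f.negs.get s) == 1)) &&
    (etaF f i p == -1) &&
    (allLt (D.rank + D.nroots) fun b =>
      eqv (bindv (bindv (xF f p 1 b) (xF f m (-1))) (xF f p 1)) (nF D f i b))

/-- the code of the image of the code `c` under a signed permutation -/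
noncomputable def moveCode (l wt sgn c : ℕ) : ℕ :=
  l + wt + 1 + 1024 * cond (Nat.beq sgn 0) (c / 1024) (16 - c / 1024)

/-- `n_{p_i}(1)` preserves brackets of root vectors -/
noncomputable def chkEquiv : Bool :=
  allLt D.rank fun i => allLt D.nroots fun r =>
    Nat.beq (wF f i (f.negs.get r)) (f.negs.get (wF f i r)) &&
    eqv (bindv (f.cor.get r) (nF D f i)) (f.cor.get (wF f i r)) &&
    allList (D.chain.getD r #[]).toList fun e =>
      let c := digit (f.t1.get r) (D.rank + e.1)
      let t := c % 1024 - 1 - D.rank
      cond (Nat.beq c 0 || Nat.beq c 1023) true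
        (Nat.beq (digit (f.t1.get (wF f i r)) (D.rank + wF f i e.1))
          (moveCode D.rank (wF f i t)
            (cond (intBeq (etaF f i t * etaF f i r * etaF f i e.1) 1) 0 1) c))

/-- the Jacobi identity for the representatives -/
noncomputable def chkJac : Bool :=
  f.reps.all fun i => Nat.blt i D.rank &&
    allLt (D.rank + D.nroots) fun b => allLt (D.rank + D.nroots) fun a =>
      let p := D.rank + f.simples.get i
      cond (Nat.blt b D.rank || Nat.blt a D.rank)
        (eqv (bindv (adF D f b a) (adF D f p))
          (bindv (adF D f p b) (fun c => adF D f c a) ++ bindv (adF D f p a) (adF D f b)))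
        (cond (Nat.beq (digit (f.t1.get (b - D.rank)) a + digit (f.t1.get (p - D.rank)) a +
            digit (f.t1.get (p - D.rank)) b) 0) true
          (eqv (bindv (adF D f b a) (adF D f p))
            (bindv (adF D f p b) (fun c => adF D f c a) ++ bindv (adF D f p a) (adF D f b))))

/-- every root is reached from a representative -/
noncomputable def chkOrbit : Bool :=
  allLt D.nroots fun r =>
    let x := f.parent.get r
    cond (Nat.beq x.1 0)
      (f.reps.any fun i => Nat.beq r (f.simples.get i))
      (Nat.blt x.2.1 D.rank && Nat.blt x.2.2 D.nroots &&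
        Nat.beq (wF f x.2.1 x.2.2) r && Nat.blt ((f.parent.get x.2.2).1) x.1)

/-- the end of the chain, from the fast tables -/
noncomputable def chainEndF (D : ChevalleyDatum) (f : Fast) (r s k : ℕ) : ℕ :=
  let c := cond (Nat.beq k 1) (digit (f.t1.get r) (D.rank + s))
    (cond (Nat.beq k 2) (digit (f.t2.get r) (D.rank + s)) (digit (f.t3.get r) (D.rank + s)))
  cond (Nat.beq c 0) s (c % 1024 - 1 - D.rank)

/-- the reflections agree with the tabulated ones -/
noncomputable def chkReflect : Bool :=
  allLt D.rank fun i =>
    let p := f.simples.get i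
    let m := f.negs.get p
    Nat.beq (f.negs.get m) p &&
    allLt D.nroots fun s =>
      let c := digit (f.tA.get i) s
      Nat.blt 4 c && Nat.blt c 12 &&
      Nat.beq (wF f i s)
        (cond (Nat.beq s p) m (cond (Nat.beq s m) p
          (cond (Nat.blt 8 c) (chainEndF D f m s (c - 8))
            (cond (Nat.blt c 8) (chainEndF D f p s (8 - c)) s))))

end ops

end CfsgLib.Lie.Chev
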