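import Mathlib
import Cfsg.Prelude.Def_ChevStructure

/-!
# The root elements of a Chevalley datum as polynomials with integer matrix coefficients
-/

set_option autoImplicit false

namespace CfsgLib.Lie.Chev

open Cfsg.Lie

variable (D : ChevalleyDatum)

/-- the position of a basis vector: `h_i` at `i`, `e_s` at `rank + s` -/
def pos : D.Idx → ℕ
  | Sum.inl i => i.val
  | Sum.inr s => D.rank + s.val

theorem pos_lt (b : D.Idx) : pos D b < D.rank + D.nroots := by
  rcases b with i | s
  · have := i.isLt; simp only [pos]; omega
  · have := s.isLt; simp only [pos]; omega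

theorem pos_injective : Function.Injective (pos D) := by
  rintro (a | a) (b | b) h <;> simp only [pos] at h
  · exact congrArg _ (Fin.ext h)
  · have := a.isLt; omega
  · have := b.isLt; omega
  · exact congrArg _ (Fin.ext (by omega))

/-- coefficient of `t ^ k` in `x_r(t)` applied to basis vector `b`, as a sparse vector (`k ≥ 1`) -/
def act (r k b : ℕ) : List (ℕ × ℤ) :=
  if b < D.rank then
    (if k = 1 then [(D.rank + r, - (D.cartanSR.getD b #[]).getD r 0)] else [])
  else
    if b - D.rank = r then [] else
    if b - D.rank = D.negIdx.getD r 0 then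
      (if k = 1 then (List.range D.rank).map fun i => (i, (D.coroot.getD r #[]).getD i 0)
       else if k = 2 then [(D.rank + r, -1)] else [])
    else
      match (D.chainEntry r (b - D.rank))[k - 1]? with
      | none => []
      | some e => [(D.rank + e.1, e.2)]

/-- coefficient in a sparse vector -/
def coef : List (ℕ × ℤ) → ℕ → ℤ
  | [], _ => 0
  | e :: v, j => (if e.1 = j then e.2 else 0) + coef v j

theorem coef_cons (e : ℕ × ℤ) (v : List (ℕ × ℤ)) (j : ℕ) :
    coef (e :: v) j = (if e.1 = j then e.2 else 0) + coef v j := rfl

@[simp] theorem coef_nil (j : ℕ) : coef [] j = 0 := rfl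

theorem coef_append (v w : List (ℕ × ℤ)) (j : ℕ) : coef (v ++ w) j = coef v j + coef w j := by
  induction v with
  | nil => simp
  | cons e v ih => simp [coef_cons, ih, add_assoc]

theorem coef_map_range (f : ℕ → ℤ) (n j : ℕ) :
    coef ((List.range n).map fun i => (i, f i)) j = if j < n then f j else 0 := by
  induction n with
  | zero => simp
  | succ n ih =>
    rw [List.range_succ, List.map_append, coef_append, ih, List.map_singleton, coef_cons, coef_nil]
    rcases lt_trichotomy j n with h | h | h
    · simp [h, Nat.lt_succ_of_lt h, (ne_of_gt h)]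
    · subst h; simp
    · have : ¬ j < n + 1 := by omega
      simp [this, (ne_of_lt h), not_lt.2 h.le]

/-- the matrix of the coefficient of `t ^ k` in `x_r(t)` -/
def dmat (r : Fin D.nroots) (k : ℕ) : Matrix D.Idx D.Idx ℤ :=
  Matrix.of fun row col =>
    if k = 0 then (if row = col then 1 else 0) else coef (act D r.val k (pos D col)) (pos D row)

@[simp] theorem dmat_zero (r : Fin D.nroots) : dmat D r 0 = 1 := by
  ext i j; simp [dmat, Matrix.one_apply]

/-- the shape of the tables needed to read them as polynomials of degree at most three -/
structure Shape : Prop where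
  neg_lt : ∀ r, r < D.nroots → D.negIdx.getD r 0 < D.nroots
  neg_ne : ∀ r, r < D.nroots → D.negIdx.getD r 0 ≠ r
  keys : ∀ r, r < D.nroots → ((D.chain.getD r #[]).toList.map Prod.fst).Nodup
  len : ∀ r, r < D.nroots → ∀ e ∈ (D.chain.getD r #[]).toList, e.2.size ≤ 3

theorem filter_eq_find {α : Type*} : ∀ (l : List (ℕ × α)) (s : ℕ), (l.map Prod.fst).Nodup →
    l.filter (fun e => e.1 = s) = (l.find? fun e => e.1 = s).toList := by
  intro l s
  induction l with
  | nil => intro; rfl
  | cons e l ih =>
    intro h
    rw [List.map_cons, List.nodup_cons] at h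
    by_cases he : e.1 = s
    · simp only [List.filter_cons, List.find?_cons, he, decide_true, ite_true, Option.toList_some,
        List.cons.injEq, true_and]
      rw [List.filter_eq_nil_iff]
      intro x hx
      simp only [decide_eq_true_eq]
      intro hxs
      exact h.1 (List.mem_map.2 ⟨x, hx, hxs.trans he.symm⟩)
    · simp [List.find?_cons, he, ih h.2]

variable {D}

theorem chainEntry_length (hS : Shape D) {r : ℕ} (hr : r < D.nroots) (s : ℕ) :
    (D.chainEntry r s).length ≤ 3 := by
  unfold ChevalleyDatum.chainEntry
  split
  · simp
  · next e he => simpa using hS.len r hr e (List.mem_of_find?_eq_some he)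

theorem chainCoeff_eq (hS : Shape D) {r : ℕ} (hr : r < D.nroots) (s u : ℕ) :
    D.chainCoeff r s u =
      ((D.chainEntry r s).zipIdx.filter (fun q => q.1.1 = u)).map fun q => (q.2 + 1, q.1.2) := by
  unfold ChevalleyDatum.chainCoeff ChevalleyDatum.chainEntry
  rw [filter_eq_find _ _ (hS.keys r hr)]
  cases (D.chain.getD r #[]).toList.find? (fun e => decide (e.1 = s)) <;> simp

/-- the polynomial `x_r(t)` over a commutative ring -/
def xg (R : Type*) [CommRing R] (r : Fin D.nroots) (t : R) : Matrix D.Idx D.Idx R :=
  ∑ k ∈ Finset.range 4, t ^ k • (dmat D r k).map (Int.cast : ℤ → R)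

theorem xg_apply {R : Type*} [CommRing R] (r : Fin D.nroots) (t : R) (i j : D.Idx) :
    xg R r t i j = (if i = j then 1 else 0) + t * (coef (act D r.val 1 (pos D j)) (pos D i) : ℤ)
      + t ^ 2 * (coef (act D r.val 2 (pos D j)) (pos D i) : ℤ)
      + t ^ 3 * (coef (act D r.val 3 (pos D j)) (pos D i) : ℤ) := by
  simp only [xg, Finset.sum_range_succ, Finset.range_zero, Finset.sum_empty, zero_add, pow_zero,
    one_smul, dmat_zero, Matrix.add_apply, Matrix.smul_apply, Matrix.map_apply, smul_eq_mul, pow_one,
    Matrix.one_apply]
  simp [dmat, apply_ite (Int.cast : ℤ → R)]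

theorem xg_map {R S : Type*} [CommRing R] [CommRing S] (f : R →+* S) (r : Fin D.nroots) (t : R) :
    (xg R r t).map f = xg S r (f t) := by
  ext i j
  simp [xg_apply, Matrix.map_apply, apply_ite f]

theorem xMat_eq (hS : Shape D) (F : Type*) [Field F] (r : Fin D.nroots) (t : F) :
    D.xMat F r t = xg F r t := by
  ext row col
  rw [xg_apply]
  have hl := D.rank
  rcases col with i | s
  · have hi : i.val < D.rank := i.isLt
    rcases row with i' | u
    · have hi' : i'.val < D.rank := i'.isLt
      have h1 : D.rank + r.val ≠ i'.val := by omega
      simp [ChevalleyDatum.xMat, act, pos, coef_cons, h1]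
    · simp only [ChevalleyDatum.xMat, act, pos, coef_cons, coef_nil, Matrix.of_apply, hi, if_true]
      by_cases hu : u = r
      · subst hu; simp; ring
      · have : r.val ≠ u.val := fun h => hu (Fin.ext h.symm)
        simp [hu, this]
  · have hb : ¬ (D.rank + s.val < D.rank) := by omega
    have hbs : D.rank + s.val - D.rank = s.val := by omega
    simp only [ChevalleyDatum.xMat, Matrix.of_apply, act, pos, if_neg hb, hbs]
    by_cases hsr : s = r
    · subst hsr
      rcases row with i' | u <;> simp
    · have hsr' : s.val ≠ r.val := fun h => hsr (Fin.ext h)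
      simp only [if_neg hsr, if_neg hsr']
      by_cases hsn : s.val = D.negIdx.getD r.val 0
      · simp only [hsn, if_true, coef_map_range]
        rcases row with i' | u
        · have hi' : i'.val < D.rank := i'.isLt
          have h1 : D.rank + r.val ≠ i'.val := by omega
          simp [coef_cons, hi', h1]; ring
        · have hu : ¬ (D.rank + u.val < D.rank) := by omega
          simp only [coef_cons, coef_nil, hu, if_false, Sum.inr.injEq]
          by_cases hus : u = s
          · subst hus
            have : r.val ≠ u.val := fun h => hsr' h.symm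
            simp [this, coef_cons]
          · by_cases hur : u = r
            · subst hur; simp [hus, coef_cons]
            · have : r.val ≠ u.val := fun h => hur (Fin.ext h.symm)
              simp [hus, hur, this, coef_cons]
      · simp only [if_neg hsn]
        have hlen := chainEntry_length hS r.isLt s.val
        rcases row with i' | u
        · have hi' : i'.val < D.rank := i'.isLt
          have h1 : ∀ m : ℕ, D.rank + m ≠ i'.val := fun m => by omega
          generalize D.chainEntry r.val s.val = L at hlen ⊢
          rcases L with _ | ⟨a, _ | ⟨b, _ | ⟨c, L⟩⟩⟩ <;> simp [coef_cons, h1]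
          all_goals
            have : L = [] := List.length_eq_zero_iff.1 (by simp at hlen; omega)
            subst this
            simp [coef_cons, h1]
        · dsimp only
          rw [chainCoeff_eq hS r.isLt]
          simp only [Sum.inr.injEq]
          have h2 : ∀ m : ℕ, D.rank + m = D.rank + u.val ↔ m = u.val := fun m => by omega
          generalize D.chainEntry r.val s.val = L at hlen ⊢
          rcases L with _ | ⟨a, _ | ⟨b, _ | ⟨c, L⟩⟩⟩
          · simp
          · by_cases ha : a.1 = u.val <;> simp [List.zipIdx_cons, coef_cons, h2, ha] <;> ring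
          · by_cases ha : a.1 = u.val <;> by_cases hb' : b.1 = u.val <;>
              simp [List.zipIdx_cons, coef_cons, h2, ha, hb'] <;> ring
          · have : L = [] := List.length_eq_zero_iff.1 (by simp at hlen; omega)
            subst this
            by_cases ha : a.1 = u.val <;> by_cases hb' : b.1 = u.val <;> by_cases hc : c.1 = u.val <;>
              simp [List.zipIdx_cons, coef_cons, h2, ha, hb', hc] <;> ring

theorem x_eq (hS : Shape D) (F : Type*) [Field F] (r : Fin D.nroots) (t : F) :
    D.x F r.val t = xg F r t := by
  rw [ChevalleyDatum.x, dif_pos r.isLt, xMat_eq hS]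

end CfsgLib.Lie.Chev
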