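import Cfsg.Agent.Lib.Lie.Chev.Good

/-!
# Elementary facts about the root system of a verified datum
-/

set_option autoImplicit false

namespace CfsgLib.Lie.Chev

open Cfsg.Lie

variable {D : ChevalleyDatum}

namespace Good

variable (G : Good D)

include G

/-- the weight that orders the roots, as a linear form on the root lattice -/
def ht (v : Fin D.rank → ℤ) : ℤ := ∑ j : Fin D.rank, v j * G.base ^ (D.rank - 1 - j.val)

theorem ht_add (u v : Fin D.rank → ℤ) : G.ht (u + v) = G.ht u + G.ht v := by
  simp [ht, add_mul, Finset.sum_add_distrib]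

theorem ht_smul (c : ℤ) (v : Fin D.rank → ℤ) : G.ht (c • v) = c * G.ht v := by
  simp [ht, Finset.mul_sum, mul_assoc]

theorem ht_neg (v : Fin D.rank → ℤ) : G.ht (-v) = - G.ht v := by
  simp [ht]

theorem ht_single_pos (i : Fin D.rank) : 0 < G.ht (Pi.single i 1) := by
  have : G.ht (Pi.single i 1) = G.base ^ (D.rank - 1 - i.val) := by
    rw [ht, Finset.sum_eq_single i]
    · simp
    · intro b _ hb; simp [hb]
    · simp
  rw [this]
  exact pow_pos G.base_pos _

theorem ht_lt {r s : Fin D.nroots} (h : r < s) : G.ht (G.rho r) < G.ht (G.rho s) := G.order r s h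

theorem ht_injective : Function.Injective fun r => G.ht (G.rho r) := by
  intro r s h
  rcases lt_trichotomy r s with l | l | l
  · exact absurd (G.ht_lt l) (by simp only at h; omega)
  · exact l
  · exact absurd (G.ht_lt l) (by simp only at h; omega)

theorem rho_injective : Function.Injective G.rho :=
  fun _ _ h => G.ht_injective (by simp only [h])

theorem negr_negr (r : Fin D.nroots) : G.negr (G.negr r) = r :=
  G.rho_injective (by rw [G.rho_negr, G.rho_negr, neg_neg])

theorem negr_ne (r : Fin D.nroots) : G.negr r ≠ r := fun h =>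
  G.shape.neg_ne r.val r.isLt ((G.negr_val r).symm.trans (congrArg Fin.val h))

theorem rho_ne_zero (r : Fin D.nroots) : G.rho r ≠ 0 := fun h =>
  G.negr_ne r (G.rho_injective (by rw [G.rho_negr, h, neg_zero]))

theorem ht_ne_zero (r : Fin D.nroots) : G.ht (G.rho r) ≠ 0 := fun h =>
  G.negr_ne r (G.ht_injective (by simp only [G.rho_negr, ht_neg, h, neg_zero]))

theorem isPosRoot_iff (r : Fin D.nroots) : D.IsPosRoot r.val ↔ 0 < G.ht (G.rho r) := G.posroot r

theorem isNegRoot_iff (r : Fin D.nroots) : D.IsNegRoot r.val ↔ G.ht (G.rho r) < 0 := G.negroot r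

theorem negr_pos_iff (r : Fin D.nroots) : D.IsPosRoot (G.negr r).val ↔ ¬ D.IsPosRoot r.val := by
  rw [G.isPosRoot_iff, G.isPosRoot_iff, G.rho_negr, ht_neg]
  have := G.ht_ne_zero r
  omega

theorem isNegRoot_iff_not_pos (r : Fin D.nroots) : D.IsNegRoot r.val ↔ ¬ D.IsPosRoot r.val := by
  rw [G.isPosRoot_iff, G.isNegRoot_iff]
  have := G.ht_ne_zero r
  omega

theorem simp_pos (i : Fin D.rank) : D.IsPosRoot (G.simp' i).val := by
  rw [G.isPosRoot_iff, G.rho_simp]; exact G.ht_single_pos i

theorem simp_injective : Function.Injective G.simp' := fun i j h => by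
  have := congrArg (fun r => G.rho r i) h
  simp only [G.rho_simp, Pi.single_eq_same] at this
  by_contra hne
  rw [Pi.single_eq_of_ne hne] at this
  exact one_ne_zero this

theorem cart_negr (i : Fin D.rank) (s : Fin D.nroots) : cart D i (G.negr s) = - cart D i s := by
  rw [G.cart_eq, G.cart_eq i s, G.rho_negr]
  simp

theorem w_negr (i : Fin D.rank) (s : Fin D.nroots) : G.w i (G.negr s) = G.negr (G.w i s) := by
  refine G.rho_injective ?_
  rw [G.rho_w, G.rho_negr, G.rho_negr, G.rho_w, G.cart_negr]
  module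

theorem w_simp (i : Fin D.rank) : G.w i (G.simp' i) = G.negr (G.simp' i) := by
  refine G.rho_injective ?_
  rw [G.rho_w, G.rho_negr, G.rho_simp, G.cart_simp]
  module

theorem w_injective (i : Fin D.rank) : Function.Injective (G.w i) :=
  Function.LeftInverse.injective (G.w_w i)

theorem cart_w (i j : Fin D.rank) (s : Fin D.nroots) :
    cart D j (G.w i s) = cart D j s - cart D i s * cart D j (G.simp' i) := by
  rw [G.cart_eq j (G.w i s), G.cart_eq j s, G.rho_w]
  simp only [Pi.sub_apply, Pi.smul_apply, smul_eq_mul, sub_mul, Finset.sum_sub_distrib]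
  congr 1
  rw [Finset.sum_eq_single i]
  · simp
  · intro b _ hb; simp [hb]
  · simp

/-- some integer linear form takes the value `1` on each root: roots are primitive -/
theorem primitive (r : Fin D.nroots) : ∃ φ : Fin D.rank → ℤ, ∑ j, φ j * G.rho r j = 1 := by
  revert r
  refine G.orbit _ (fun i _ => ⟨Pi.single i 1, ?_⟩) fun i r hr => ?_
  · rw [Finset.sum_eq_single i]
    · simp [G.rho_simp]
    · intro b _ hb; simp [hb]
    · simp
  · obtain ⟨φ, hφ⟩ := hr
    -- compose `φ` with the reflection
    refine ⟨fun j => φ j - (∑ l, φ l * (Pi.single i 1 : Fin D.rank → ℤ) l) * cart D i (G.simp' j), ?_⟩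
    have h1 : ∑ j, φ j * G.rho (G.w i r) j = 1 - cart D i r * φ i := by
      rw [← hφ, G.rho_w]
      simp only [Pi.sub_apply, Pi.smul_apply, smul_eq_mul, mul_sub, Finset.sum_sub_distrib]
      congr 1
      rw [Finset.sum_eq_single i]
      · simp [mul_comm]
      · intro b _ hb; simp [hb]
      · simp
    have h2 : ∑ l, φ l * (Pi.single i 1 : Fin D.rank → ℤ) l = φ i := by
      rw [Finset.sum_eq_single i]
      · simp
      · intro b _ hb; simp [hb]
      · simp
    rw [h2]
    simp only [sub_mul, Finset.sum_sub_distrib, h1, mul_assoc, ← Finset.mul_sum]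
    have h3 : ∑ j, cart D i (G.simp' j) * G.rho (G.w i r) j = cart D i (G.w i r) := by
      rw [G.cart_eq i (G.w i r)]
      exact Finset.sum_congr rfl fun j _ => mul_comm _ _
    rw [h3, G.cart_w, G.cart_simp]
    ring

/-- a positive root other than `p_i` stays positive under the reflection in `p_i` -/
theorem w_pos {i : Fin D.rank} {r : Fin D.nroots} (hr : D.IsPosRoot r.val) (hne : r ≠ G.simp' i) :
    D.IsPosRoot (G.w i r).val := by
  rw [G.isPosRoot_iff] at hr ⊢
  have hnn : ∀ j, 0 ≤ G.rho r j := by
    rcases G.rho_sign r with h | h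
    · exact h
    · exfalso
      have : G.ht (G.rho r) ≤ 0 := Finset.sum_nonpos fun j _ =>
        mul_nonpos_of_nonpos_of_nonneg (h j) (pow_nonneg G.base_pos.le _)
      omega
  by_cases hex : ∃ j, j ≠ i ∧ 0 < G.rho r j
  · obtain ⟨j, hj, hjp⟩ := hex
    have hjw : 0 < G.rho (G.w i r) j := by
      rw [G.rho_w]; simpa [hj] using hjp
    have hnn' : ∀ l, 0 ≤ G.rho (G.w i r) l := by
      rcases G.rho_sign (G.w i r) with h | h
      · exact h
      · exact absurd (h j) (by omega)
    refine Finset.sum_pos' (fun l _ => mul_nonneg (hnn' l) (pow_nonneg G.base_pos.le _))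
      ⟨j, Finset.mem_univ j, mul_pos hjw (pow_pos G.base_pos _)⟩
  · exfalso
    apply hne
    have hsingle : ∀ j, j ≠ i → G.rho r j = 0 := fun j hj =>
      le_antisymm (not_lt.1 fun h => hex ⟨j, hj, h⟩) (hnn j)
    obtain ⟨φ, hφ⟩ := G.primitive r
    rw [Finset.sum_eq_single i (fun j _ hj => by rw [hsingle j hj, mul_zero]) (by simp)] at hφ
    have hi : G.rho r i = 1 := by
      rcases Int.eq_one_or_neg_one_of_mul_eq_one' hφ with ⟨-, h⟩ | ⟨-, h⟩
      · exact h
      · exact absurd (hnn i) (by omega)
    refine G.rho_injective ?_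
    rw [G.rho_simp]
    funext j
    by_cases hj : j = i
    · subst hj; simpa using hi
    · rw [hsingle j hj]; simp [hj]

end Good

end CfsgLib.Lie.Chev
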