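import Cfsg.Agent.Lib.Lie.Chev.CommPoly
import Cfsg.Agent.Lib.Lie.Chev.Roots

/-!
# Chevalley's commutator formula from the certificate
-/

set_option autoImplicit false

namespace CfsgLib.Lie.Chev

open Cfsg.Lie

variable {D : ChevalleyDatum} {f : Fast}

/-- the right-hand side of the commutator formula as a word -/
def cwR (D : ChevalleyDatum) {R : Type*} [CommRing R] (r s : ℕ) (t u : R) : List (ℕ × R) :=
  (D.commTerms r s).map fun c => (c.1, (c.2.1 : R) * (-t) ^ c.2.2.1 * u ^ c.2.2.2)

/-- the commutator formula at given parameters -/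
def CommAt (D : ChevalleyDatum) {R : Type*} [CommRing R] (r s : Fin D.nroots) (t u : R) : Prop :=
  xg R s u * xg R r t = xg R r t * xg R s u * wordR R D (cwR D r.val s.val t u)

theorem CommAt.map {R S : Type*} [CommRing R] [CommRing S] (φ : R →+* S) {r s : Fin D.nroots}
    {t u : R} (h : CommAt D r s t u) : CommAt D r s (φ t) (φ u) := by
  have h' := congrArg (fun M : Matrix D.Idx D.Idx R => M.map φ) h
  simp only [Matrix.map_mul, xg_map, wordR_map] at h'
  unfold CommAt
  rw [h']
  simp [cwR, List.map_map, Function.comp_def]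

theorem commAt_of_rat {R : Type*} [CommRing R] {r s : Fin D.nroots}
    (h : ∀ t u : MvPolynomial (Fin 2) ℚ, CommAt D r s t u) (t u : R) : CommAt D r s t u := by
  let ι : MvPolynomial (Fin 2) ℤ →+* MvPolynomial (Fin 2) ℚ := MvPolynomial.map (Int.castRingHom ℚ)
  have hι : Function.Injective ι := MvPolynomial.map_injective _ Int.cast_injective
  have hg : CommAt D r s (MvPolynomial.X 0 : MvPolynomial (Fin 2) ℤ) (MvPolynomial.X 1) := by
    have hq := h (ι (MvPolynomial.X 0)) (ι (MvPolynomial.X 1))
    unfold CommAt at hq ⊢
    apply Matrix.map_injective hι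
    simp only [Matrix.map_mul, xg_map, wordR_map]
    rw [hq]
    simp [cwR, List.map_map, Function.comp_def]
  have := hg.map (MvPolynomial.eval₂Hom (Int.castRingHom R) ![t, u])
  simpa using this

namespace Good

variable (G : Good D)

include G

section rat

variable {R : Type*} [CommRing R] [Algebra ℚ R]

theorem chainW_commute {r s : ℕ} (t u : R) (hlt : ∀ q ∈ s :: (D.chainEntry r s).map Prod.fst, q < D.nroots)
    (hact : ∀ a ∈ s :: (D.chainEntry r s).map Prod.fst, ∀ b ∈ s :: (D.chainEntry r s).map Prod.fst,
      act D a 1 (D.rank + b) = []) :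
    ∀ a ∈ (s, u) :: G.chainW r s t u, ∀ b ∈ (s, u) :: G.chainW r s t u,
      Commute (dN R D a.1) (dN R D b.1) := by
  have hmem : ∀ a ∈ (s, u) :: G.chainW r s t u, a.1 ∈ s :: (D.chainEntry r s).map Prod.fst := by
    intro a ha
    rcases List.mem_cons.1 ha with rfl | ha
    · exact List.mem_cons_self
    · refine List.mem_cons_of_mem _ ?_
      simp only [chainW, List.mem_map] at ha
      obtain ⟨q, hq, rfl⟩ := ha
      exact List.mem_map.2 ⟨q.1, (List.mem_zipIdx_iff_getElem?.1 hq |> List.mem_of_getElem?), rfl⟩
  intro a ha b hb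
  exact G.dN_commute (hlt _ (hmem a ha)) (hact _ (hmem a ha) _ (hmem b hb))

end rat

theorem chain_facts (h : RowsOK D f) (hk : KeysOK D) {r s : Fin D.nroots}
    (hc : commuting D f (s.val :: (chainL D f r.val s.val).map fun x => x.1) = true) :
    (∀ q ∈ s.val :: (D.chainEntry r.val s.val).map Prod.fst, q < D.nroots) ∧
    ∀ a ∈ s.val :: (D.chainEntry r.val s.val).map Prod.fst,
      ∀ b ∈ s.val :: (D.chainEntry r.val s.val).map Prod.fst, act D a 1 (D.rank + b) = [] := by
  have e : (chainL D f r.val s.val).map (fun x => x.1) = (D.chainEntry r.val s.val).map Prod.fst := by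
    rw [chainL_eq h hk G.shape r.isLt s.isLt, List.map_map]
    conv_rhs => rw [← List.zipIdx_map_fst 0 (D.chainEntry r.val s.val), List.map_map]
    rfl
  rw [e] at hc
  have hlt : ∀ q ∈ s.val :: (D.chainEntry r.val s.val).map Prod.fst, q < D.nroots := by
    intro q hq
    rcases List.mem_cons.1 hq with rfl | hq
    · exact s.isLt
    · obtain ⟨x, hx, rfl⟩ := List.mem_map.1 hq
      obtain ⟨k, hk', rfl⟩ := List.getElem_of_mem hx
      exact (chainEntry_bound h r.isLt (List.getElem?_eq_getElem hk')).1
  exact ⟨hlt, commuting_spec h hk hlt hc⟩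

theorem commAt_of_check (h : RowsOK D f) (hc : chkComm D f = true) (r s : Fin D.nroots)
    (hsr : s ≠ r) (hsn : s ≠ G.negr r) {R : Type*} [CommRing R] (t u : R) : CommAt D r s t u := by
  unfold chkComm at hc
  simp only [Bool.and_eq_true] at hc
  have hk := keysOK hc.1
  have C := allLt_spec (allLt_spec hc.2 r.val r.isLt) s.val s.isLt
  have hsr' : s.val ≠ r.val := fun e => hsr (Fin.ext e)
  have hsn' : s.val ≠ D.negIdx.getD r.val 0 := fun e => hsn (Fin.ext (e.trans (G.negr_val r).symm))
  rw [natBeq_false hsr', h.negs r.val r.isLt, natBeq_false hsn', Bool.or_self, cond_false] at C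
  have hT := commTermsF_eq h hk r.isLt s.isLt
  cases h1 : directB D f r.val s.val with
  | true =>
    refine commAt_of_rat (fun t u => ?_) t u
    unfold directB at h1
    simp only [Bool.and_eq_true, beq_iff_eq] at h1
    obtain ⟨hlt, hact⟩ := G.chain_facts h hk h1.2
    have key := G.swap_chain r s hsr' hsn' t u (G.chainW_commute t u hlt hact)
    unfold CommAt
    rw [key]
    congr 2
    rw [cwR, ← hT, h1.1, chainL_eq h hk G.shape r.isLt s.isLt]
    simp [chainW, List.map_map, Function.comp_def]
  | false =>
    rw [h1, cond_false] at C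
    cases h2 : swapB D f r.val s.val with
    | true =>
      refine commAt_of_rat (fun t u => ?_) t u
      unfold swapB at h2
      simp only [Bool.and_eq_true, beq_iff_eq] at h2
      obtain ⟨hlt, hact⟩ := G.chain_facts h hk h2.2
      have hrn : r.val ≠ D.negIdx.getD s.val 0 := by
        intro e
        apply hsn
        have : r = G.negr s := Fin.ext (e.trans (G.negr_val s).symm)
        rw [this, G.negr_negr]
      have key := G.swap_chain s r hsr'.symm hrn u t (G.chainW_commute u t hlt hact)
      have hinv := G.chainW_inv (R := MvPolynomial (Fin 2) ℚ) s.val r.val u t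
        fun a ha b hb => G.chainW_commute u t hlt hact a (List.mem_cons_of_mem _ ha) b (List.mem_cons_of_mem _ hb)
      have key' := congrArg
        (· * wordR _ D ((G.chainW s.val r.val u t).map fun p => (p.1, -p.2))) key
      simp only [mul_assoc, hinv, mul_one] at key'
      unfold CommAt
      rw [← key', mul_assoc]
      congr 3
      rw [cwR, ← hT, h2.1, chainL_eq h hk G.shape s.isLt r.isLt]
      simp only [chainW, List.map_map]
      refine List.map_congr_left fun q _ => ?_
      simp only [Function.comp_apply]
      congr 1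
      push_cast
      rw [neg_pow u]
      ring
    | false =>
      rw [h2, cond_false] at C
      unfold polyB at C
      simp only [Bool.and_eq_true, List.all_eq_true, Nat.blt_eq] at C
      obtain ⟨hlt, hP⟩ := C
      have key := word_eq_of_eqP h t u
        (w := [(s.val, 1, 0, 1), (r.val, 1, 1, 0)])
        (w' := (r.val, 1, 1, 0) :: (s.val, 1, 0, 1) :: (commTermsF D f r.val s.val).map
          fun x => (x.1, (-1 : ℤ) ^ x.2.2.1 * x.2.1, x.2.2.1, x.2.2.2))
        (by simp) (by
          intro x hx
          simp only [List.mem_cons, List.mem_map] at hx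
          rcases hx with rfl | rfl | ⟨y, hy, rfl⟩
          exacts [r.isLt, s.isLt, hlt y hy]) (fun col hcol => allLt_spec hP col hcol)
      unfold CommAt
      simp only [List.map_cons, List.map_nil, wordR_cons, wordR_nil, mul_one, hT, List.map_map,
        ← mul_assoc] at key
      simp only [xN, dif_pos r.isLt, dif_pos s.isLt, Int.cast_one, pow_zero, _root_.pow_one, one_mul,
        mul_one] at key
      rw [key, cwR]
      congr 2
      refine List.map_congr_left fun q _ => ?_
      simp only [Function.comp_apply]
      congr 1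
      push_cast
      rw [neg_pow t]
      ring

end Good

end CfsgLib.Lie.Chev
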