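import Cfsg.Agent.Lib.Lie.Chev.Vec2

/-!
# A certificate for the commutator formula

For a pair of roots `(r, s)` the formula is settled in one of three ways: the `r`-chain through `s`
consists of pairwise commuting root vectors (direct), the same holds with `r` and `s` interchanged
(swapped), or the polynomial identity is multiplied out on every basis vector.
-/

set_option autoImplicit false

namespace CfsgLib.Lie.Chev

open Cfsg.Lie

/-- an entry of the chain table from the code -/
noncomputable def deopt (l c : ℕ) : Option (ℕ × ℤ) :=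
  cond (Nat.beq c 0) none (some (c % 1024 - 1 - l, Int.subNatNat (c / 1024) 8))

/-- the `k`-th term of the `r`-chain through `s` from the fast tables -/
noncomputable def chF (D : ChevalleyDatum) (f : Fast) (r s k : ℕ) : Option (ℕ × ℤ) :=
  cond (Nat.beq s r || Nat.beq s (f.negs.get r)) none
    (deopt D.rank
      (cond (Nat.beq k 1) (digit (f.t1.get r) (D.rank + s))
        (cond (Nat.beq k 2) (digit (f.t2.get r) (D.rank + s))
          (cond (Nat.beq k 3) (digit (f.t3.get r) (D.rank + s)) 0))))

/-- the terms of the commutator formula from the fast tables -/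
noncomputable def commTermsF (D : ChevalleyDatum) (f : Fast) (r s : ℕ) : List (ℕ × ℤ × ℕ × ℕ) :=
  let root := fun a b k => (chF D f a b k).map Prod.fst
  let M := fun a b k => ((chF D f a b k).map Prod.snd).getD 0
  let rs := root r s 1
  let cands : List (Option ℕ × ℤ × ℕ × ℕ) :=
    [ (root r s 1, M r s 1, 1, 1),
      (root r s 2, M r s 2, 2, 1),
      (root s r 2, M s r 2, 1, 2),
      (root r s 3, M r s 3, 3, 1),
      (root s r 3, - M s r 3, 1, 3),
      ((root r s 3).bind fun k => root k s 1, (rs.map fun k => M k r 2 / 3).getD 0, 3, 2),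
      ((root s r 3).bind fun k => root k r 1, (rs.map fun k => -2 * M k s 2 / 3).getD 0, 2, 3) ]
  cands.filterMap fun c => c.1.map fun k => (k, c.2)

/-- the `r`-chain through `s` without `s`, with its positions -/
noncomputable def chainL (D : ChevalleyDatum) (f : Fast) (r s : ℕ) : List (ℕ × ℤ × ℕ) :=
  [1, 2, 3].filterMap fun k => (chF D f r s k).map fun e => (e.1, e.2, k)

/-- all members of the chain commute with each other -/
noncomputable def commuting (D : ChevalleyDatum) (f : Fast) (l : List ℕ) : Bool :=
  allList l fun a => allList l fun b =>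
    Nat.beq a b || (!(Nat.beq b (f.negs.get a)) && (chF D f a b 1).isNone)

/-- the direct case -/
noncomputable def directB (D : ChevalleyDatum) (f : Fast) (r s : ℕ) : Bool :=
  let L := chainL D f r s
  (commTermsF D f r s == L.map fun x => (x.1, x.2.1, x.2.2, 1)) &&
    commuting D f (s :: L.map fun x => x.1)

/-- the swapped case -/
noncomputable def swapB (D : ChevalleyDatum) (f : Fast) (r s : ℕ) : Bool :=
  let L := chainL D f s r
  (commTermsF D f r s == L.map fun x => (x.1, (-1 : ℤ) ^ x.2.2 * x.2.1, 1, x.2.2)) &&
    commuting D f (r :: L.map fun x => x.1)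

/-- a sparse vector of polynomials in two variables -/
abbrev PVec := List ((ℕ × ℕ × ℕ) × ℤ)

/-- coefficient, reducing by recursors only -/
noncomputable def coefP (v : PVec) (p : ℕ × ℕ × ℕ) : ℤ :=
  List.rec 0 (fun e _ ih =>
    cond (Nat.beq e.1.1 p.1 && Nat.beq e.1.2.1 p.2.1 && Nat.beq e.1.2.2 p.2.2) (Int.add e.2 ih) ih) v

/-- equality of polynomial vectors -/
noncomputable def eqP (v w : PVec) : Bool :=
  allList (v ++ w) fun e => intBeq (coefP v e.1) (coefP w e.1)

/-- apply `x_q(c t^a u^b)` -/
noncomputable def stepP (f : Fast) (q : ℕ) (c : ℤ) (a b : ℕ) (v : PVec) : PVec :=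
  v.flatMap fun e => e :: [1, 2, 3].flatMap fun k =>
    (actF f q k e.1.1).map fun x => ((x.1, e.1.2.1 + k * a, e.1.2.2 + k * b), c ^ k * x.2 * e.2)

/-- apply a word to a basis vector -/
noncomputable def runP (f : Fast) (w : List (ℕ × ℤ × ℕ × ℕ)) (col : ℕ) : PVec :=
  w.foldr (fun x v => stepP f x.1 x.2.1 x.2.2.1 x.2.2.2 v) [((col, 0, 0), 1)]

/-- the multiplied-out identity -/
noncomputable def polyB (D : ChevalleyDatum) (f : Fast) (r s : ℕ) : Bool :=
  let T := commTermsF D f r s
  (T.all fun x => Nat.blt x.1 D.nroots) &&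
  allLt (D.rank + D.nroots) fun col =>
    eqP (runP f [(s, 1, 0, 1), (r, 1, 1, 0)] col)
      (runP f ((r, 1, 1, 0) :: (s, 1, 0, 1) ::
        T.map fun x => (x.1, (-1 : ℤ) ^ x.2.2.1 * x.2.1, x.2.2.1, x.2.2.2)) col)

/-- the chain table has no entries at `± r` and no coefficient `0` -/
noncomputable def chkKeys (D : ChevalleyDatum) : Bool :=
  allLt D.nroots fun r => allList (D.chain.getD r #[]).toList fun e =>
    !(Nat.beq e.1 r) && !(Nat.beq e.1 (D.negIdx.getD r 0)) &&
      allList e.2.toList fun x => !(intBeq x.2 0)

/-- the certificate -/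
noncomputable def chkComm (D : ChevalleyDatum) (f : Fast) : Bool :=
  chkKeys D && allLt D.nroots fun r => allLt D.nroots fun s =>
    cond (Nat.beq s r || Nat.beq s (f.negs.get r)) true
      (cond (directB D f r s) true (cond (swapB D f r s) true (polyB D f r s)))

end CfsgLib.Lie.Chev
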