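import Cfsg.Agent.Lib.Lie.Chev.CommCert
import Cfsg.Prelude.Def_ChevStructure

/-!
# The fast tables compute the terms of the commutator formula
-/

set_option autoImplicit false

namespace CfsgLib.Lie.Chev

open Cfsg.Lie

variable {D : ChevalleyDatum} {f : Fast}

/-- the chain table has no entries at `± r` and no coefficient `0` -/
def KeysOK (D : ChevalleyDatum) : Prop :=
  ∀ r < D.nroots, ∀ e ∈ (D.chain.getD r #[]).toList,
    (e.1 ≠ r ∧ e.1 ≠ D.negIdx.getD r 0) ∧ ∀ x ∈ e.2.toList, x.2 ≠ 0

theorem keysOK (hk : chkKeys D = true) : KeysOK D := by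
  intro r hr e he
  have := allList_spec (by unfold chkKeys at hk; exact allLt_spec hk r hr) e he
  simp only [Bool.and_eq_true, Bool.not_eq_true', ← Bool.not_eq_true, Nat.beq_eq] at this
  refine ⟨this.1, fun x hx h0 => ?_⟩
  have h := allList_spec this.2 x hx
  rw [h0] at h
  exact Bool.false_ne_true h

theorem chainEntry_bound (h : RowsOK D f) {r : ℕ} (hr : r < D.nroots) {s k : ℕ} {x : ℕ × ℤ}
    (hx : (D.chainEntry r s)[k]? = some x) : x.1 < D.nroots ∧ x.2.natAbs ≤ 7 := by
  revert hx
  unfold ChevalleyDatum.chainEntry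
  cases hf : (D.chain.getD r #[]).toList.find? (fun e => decide (e.1 = s)) with
  | none => simp
  | some e =>
    intro hx
    exact (h.ent r hr e (List.mem_of_find?_eq_some hf)).2 x (List.mem_of_getElem? hx)

theorem chainEntry_special (hk : KeysOK D) {r : ℕ} (hr : r < D.nroots) {s : ℕ}
    (h : s = r ∨ s = D.negIdx.getD r 0) : D.chainEntry r s = [] := by
  unfold ChevalleyDatum.chainEntry
  cases hf : (D.chain.getD r #[]).toList.find? (fun e => decide (e.1 = s)) with
  | none => rfl
  | some e =>
    exfalso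
    have h1 := hk r hr e (List.mem_of_find?_eq_some hf)
    have h2 : e.1 = s := by simpa using List.find?_some hf
    rcases h with rfl | rfl
    exacts [h1.1.1 h2, h1.1.2 h2]

theorem chF_eq (h : RowsOK D f) (hk : KeysOK D) {r s k : ℕ} (hr : r < D.nroots) (hs : s < D.nroots)
    (hkk : k = 1 ∨ k = 2 ∨ k = 3) : chF D f r s k = (D.chainEntry r s)[k - 1]? := by
  rw [chF, h.negs r hr]
  by_cases hsp : s = r ∨ s = D.negIdx.getD r 0
  · rw [chainEntry_special hk hr hsp]
    rcases hsp with e | e
    · rw [natBeq_true e, Bool.true_or, cond_true]; simp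
    · rw [natBeq_true e, Bool.or_true, cond_true]; simp
  · simp only [not_or] at hsp
    rw [natBeq_false hsp.1, natBeq_false hsp.2, Bool.or_self, cond_false]
    have hd : cond (Nat.beq k 1) (digit (f.t1.get r) (D.rank + s))
        (cond (Nat.beq k 2) (digit (f.t2.get r) (D.rank + s))
          (cond (Nat.beq k 3) (digit (f.t3.get r) (D.rank + s)) 0)) =
        codeAt D r k (D.negIdx.getD r 0) (D.chain.getD r #[]).toList s := by
      rcases hkk with rfl | rfl | rfl
      · rw [natBeq_true rfl, cond_true, h.t1 r hr, digit_packRow h hr _ hs]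
      · rw [natBeq_false (show 2 ≠ 1 by norm_num), cond_false, natBeq_true rfl, cond_true, h.t2 r hr,
          digit_packRow h hr _ hs]
      · rw [natBeq_false (show 3 ≠ 1 by norm_num), cond_false, natBeq_false (show 3 ≠ 2 by norm_num),
          cond_false, natBeq_true rfl, cond_true, h.t3 r hr, digit_packRow h hr _ hs]
    rw [hd]
    unfold codeAt ChevalleyDatum.chainEntry
    rw [if_neg hsp.1, if_neg hsp.2]
    cases hf : (D.chain.getD r #[]).toList.find? (fun e => decide (e.1 = s)) with
    | none => simp [deopt]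
    | some e =>
      simp only
      cases hx : e.2.toList[k - 1]? with
      | none => simp [deopt]
      | some x =>
        obtain ⟨-, hb⟩ := h.ent r hr e (List.mem_of_find?_eq_some hf)
        obtain ⟨hb1, hb2⟩ := hb x (List.mem_of_getElem? hx)
        have hsm := h.small
        simp only [deopt, encode]
        rw [natBeq_false (by omega), cond_false, Option.some.injEq]
        refine Prod.ext (by simp only; omega) ?_
        simp only [Int.subNatNat_eq_coe]
        omega

theorem root_lt (h : RowsOK D f) {r s k x : ℕ} (hr : r < D.nroots)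
    (hx : D.chainRoot r s k = some x) : x < D.nroots := by
  unfold ChevalleyDatum.chainRoot at hx
  obtain ⟨e, he, rfl⟩ := Option.map_eq_some_iff.1 hx
  exact (chainEntry_bound h hr he).1

theorem commTermsF_eq (h : RowsOK D f) (hk : KeysOK D) {r s : ℕ} (hr : r < D.nroots)
    (hs : s < D.nroots) : commTermsF D f r s = D.commTerms r s := by
  have e : ∀ {a b : ℕ}, a < D.nroots → b < D.nroots → ∀ {k : ℕ}, (k = 1 ∨ k = 2 ∨ k = 3) →
      (chF D f a b k).map Prod.fst = D.chainRoot a b k ∧
      ((chF D f a b k).map Prod.snd).getD 0 = D.chainM a b k := by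
    intro a b ha hb k hkk
    rw [chF_eq h hk ha hb hkk]
    exact ⟨rfl, rfl⟩
  have e1 := fun {k : ℕ} (hkk : k = 1 ∨ k = 2 ∨ k = 3) => (e hr hs hkk)
  have e2 := fun {k : ℕ} (hkk : k = 1 ∨ k = 2 ∨ k = 3) => (e hs hr hkk)
  simp only [commTermsF, ChevalleyDatum.commTerms,
    (e1 (Or.inl rfl)).1, (e1 (Or.inl rfl)).2, (e1 (Or.inr (Or.inl rfl))).1,
    (e1 (Or.inr (Or.inl rfl))).2, (e1 (Or.inr (Or.inr rfl))).1, (e1 (Or.inr (Or.inr rfl))).2,
    (e2 (Or.inr (Or.inl rfl))).1, (e2 (Or.inr (Or.inl rfl))).2, (e2 (Or.inr (Or.inr rfl))).1,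
    (e2 (Or.inr (Or.inr rfl))).2]
  congr 1
  simp only [List.cons.injEq, Prod.mk.injEq, true_and, and_true]
  refine ⟨⟨?_, ?_⟩, ?_, ?_⟩
  · cases hx : D.chainRoot r s 3 with
    | none => rfl
    | some x => exact (e (root_lt h hr hx) hs (Or.inl rfl)).1
  · cases hx : D.chainRoot r s 1 with
    | none => rfl
    | some x =>
      simp only [Option.map_some, Option.getD_some, (e (root_lt h hr hx) hr (Or.inr (Or.inl rfl))).2]
  · cases hx : D.chainRoot s r 3 with
    | none => rfl
    | some x => exact (e (root_lt h hs hx) hr (Or.inl rfl)).1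
  · cases hx : D.chainRoot r s 1 with
    | none => rfl
    | some x =>
      simp only [Option.map_some, Option.getD_some, (e (root_lt h hr hx) hs (Or.inr (Or.inl rfl))).2]

theorem chainL_eq (h : RowsOK D f) (hk : KeysOK D) (hS : Shape D) {r s : ℕ} (hr : r < D.nroots)
    (hs : s < D.nroots) :
    chainL D f r s = (D.chainEntry r s).zipIdx.map fun q => (q.1.1, q.1.2, q.2 + 1) := by
  have hlen : (D.chainEntry r s).length ≤ 3 := chainEntry_length hS hr s
  simp only [chainL, List.filterMap_cons, List.filterMap_nil, chF_eq h hk hr hs (Or.inl rfl),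
    chF_eq h hk hr hs (Or.inr (Or.inl rfl)), chF_eq h hk hr hs (Or.inr (Or.inr rfl))]
  generalize D.chainEntry r s = L at hlen ⊢
  rcases L with _ | ⟨a, _ | ⟨b, _ | ⟨c, _ | ⟨d, L⟩⟩⟩⟩ <;> simp [List.zipIdx_cons] at hlen ⊢
  all_goals omega

theorem commuting_spec (h : RowsOK D f) (hk : KeysOK D) {l : List ℕ} (hl : ∀ a ∈ l, a < D.nroots)
    (hc : commuting D f l = true) : ∀ a ∈ l, ∀ b ∈ l,
      act D a 1 (D.rank + b) = [] := by
  intro a ha b hb
  have := allList_spec (allList_spec hc a ha) b hb
  simp only [Bool.or_eq_true, Nat.beq_eq, Bool.and_eq_true, Bool.not_eq_true', ← Bool.not_eq_true,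
    Option.isNone_iff_eq_none, h.negs a (hl a ha), chF_eq h hk (hl a ha) (hl b hb) (Or.inl rfl)] at this
  rw [act, if_neg (by omega), Nat.add_sub_cancel_left]
  rcases this with rfl | ⟨h1, h2⟩
  · rw [if_pos rfl]
  · by_cases hba : b = a
    · rw [if_pos hba]
    · rw [if_neg hba, if_neg h1, h2]

end CfsgLib.Lie.Chev
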