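import Cfsg.Agent.Lib.Lie.Chev.Equiv
import Cfsg.Agent.Lib.Lie.Chev.CommTables

/-!
# The commutator formula for chains of commuting root vectors

Over a `ℚ`-algebra `x_r(t)` is the exponential of `t ad e_r`, and conjugating `x_s(u)` by `x_r(-t)`
gives the exponential of a sum of root vectors of the chain.
-/

set_option autoImplicit false

namespace CfsgLib.Lie.Chev

open Cfsg.Lie

variable {D : ChevalleyDatum}

section ring

variable (R : Type*) [CommRing R]

/-- `x_r(t)` over a commutative ring with a natural number index -/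
def xN (D : ChevalleyDatum) (r : ℕ) (t : R) : Matrix D.Idx D.Idx R :=
  if h : r < D.nroots then xg R ⟨r, h⟩ t else 1

/-- the product of a word -/
def wordR (D : ChevalleyDatum) (w : List (ℕ × R)) : Matrix D.Idx D.Idx R :=
  (w.map fun p => xN R D p.1 p.2).prod

/-- `ad e_q` over a commutative ring with a natural number index -/
def dN (D : ChevalleyDatum) (q : ℕ) : Matrix D.Idx D.Idx R :=
  if h : q < D.nroots then dR R ⟨q, h⟩ 1 else 0

/-- the vector `e_q` -/
def eN (D : ChevalleyDatum) (q : ℕ) : D.Idx → R := fun c => if pos D c = D.rank + q then 1 else 0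

variable {R}

theorem wordR_nil : wordR R D [] = 1 := rfl

theorem wordR_cons (p : ℕ × R) (w : List (ℕ × R)) :
    wordR R D (p :: w) = xN R D p.1 p.2 * wordR R D w := by
  simp [wordR]

theorem xN_map {S : Type*} [CommRing S] (φ : R →+* S) (r : ℕ) (t : R) :
    (xN R D r t).map φ = xN S D r (φ t) := by
  unfold xN
  split_ifs
  · rw [xg_map]
  · simp

theorem wordR_map {S : Type*} [CommRing S] (φ : R →+* S) (w : List (ℕ × R)) :
    (wordR R D w).map φ = wordR S D (w.map fun p => (p.1, φ p.2)) := by
  induction w with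
  | nil => simp [wordR_nil]
  | cons p w ih => rw [List.map_cons, wordR_cons, wordR_cons, Matrix.map_mul, xN_map, ih]

theorem adv_eN (q : ℕ) : adv D R (eN R D q) = dN R D q := by
  unfold dN
  split_ifs with h
  · have : eN R D q = Pi.single (Sum.inr ⟨q, h⟩) 1 := by
      funext c
      rw [eN, Pi.single_apply]
      by_cases hc : c = Sum.inr ⟨q, h⟩
      · subst hc; simp [pos]
      · rw [if_neg hc, if_neg]
        intro e
        exact hc (pos_injective D e)
    rw [this, adv_single]; rfl
  · have : eN R D q = 0 := by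
      funext c
      rw [eN, if_neg]
      · rfl
      · have := pos_lt D c; omega
    rw [this, ← advL_apply, map_zero]

end ring

namespace Good

variable (G : Good D)

include G

theorem dN_commute {R : Type*} [CommRing R] {a b : ℕ} (ha : a < D.nroots)
    (h : act D a 1 (D.rank + b) = []) : Commute (dN R D a) (dN R D b) := by
  unfold dN
  rw [dif_pos ha]
  split_ifs with hb
  · have key := G.der ⟨a, ha⟩ (Pi.single (Sum.inr ⟨b, hb⟩) 1)
    have h0 : (dmat D ⟨a, ha⟩ 1).mulVec (Pi.single (Sum.inr ⟨b, hb⟩) 1) = 0 := by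
      funext c
      simp [dmat, pos, h]
    rw [h0, show adv D ℤ (0 : D.Idx → ℤ) = 0 from map_zero (advL ℤ), zero_add, adv_single_int] at key
    have := congrArg (Int.castRingHom R).mapMatrix key
    simp only [map_mul] at this
    exact this
  · exact Commute.zero_right _

section rat

variable {R : Type*} [CommRing R] [Algebra ℚ R]

theorem pow_dN (q : ℕ) : dN R D q ^ 4 = 0 := by
  unfold dN
  split_ifs with h
  · set q' : Fin D.nroots := ⟨q, h⟩
    have : dmat D q' 1 ^ 4 = 0 := by
      rw [show dmat D q' 1 ^ 4 = (dmat D q' 1 * dmat D q' 1) * (dmat D q' 1 * dmat D q' 1) by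
        simp only [pow_succ, pow_zero, one_mul, mul_assoc], G.pow_one, smul_mul_smul_comm, G.d22,
        smul_zero]
    rw [dR_eq, ← map_pow, this, map_zero]
  · simp

theorem smul_pow_four (q : ℕ) (c : R) : (c • dN R D q) ^ 4 = 0 := by
  rw [smul_pow, G.pow_dN, smul_zero]

theorem xN_eq_exp (q : ℕ) (c : R) : xN R D q c = IsNilpotent.exp (c • dN R D q) := by
  rw [IsNilpotent.exp_eq_sum (G.smul_pow_four q c)]
  unfold xN dN
  split_ifs with h
  · set q' : Fin D.nroots := ⟨q, h⟩
    have e11 : dR R q' 1 * dR R q' 1 = 2 • dR R q' 2 := by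
      simp only [dR_eq, ← map_mul, G.pow_one, map_nsmul]
    have e12 : dR R q' 1 * dR R q' 2 = 3 • dR R q' 3 := by
      simp only [dR_eq, ← map_mul, G.pow_two, map_nsmul]
    have cancel : ∀ (n : ℕ), n ≠ 0 → ∀ X : Matrix D.Idx D.Idx R, (n : ℚ)⁻¹ • (n • X) = X := by
      intro n hn X
      rw [← Nat.cast_smul_eq_nsmul ℚ, smul_smul, inv_mul_cancel₀ (Nat.cast_ne_zero.2 hn), one_smul]
    have e2 : (c • dR R q' 1) ^ 2 = 2 • (c ^ 2 • dR R q' 2) := by
      rw [smul_pow, sq (dR R q' 1), e11, smul_comm]
    have e3 : (c • dR R q' 1) ^ 3 = 6 • (c ^ 3 • dR R q' 3) := by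
      rw [smul_pow, pow_succ' (dR R q' 1) 2, sq (dR R q' 1), e11, mul_smul_comm, e12, smul_smul,
        smul_comm, show 2 * 3 = 6 from rfl]
    simp only [Finset.sum_range_succ, Finset.range_zero, Finset.sum_empty, zero_add, xg_eq,
      _root_.pow_zero, _root_.pow_one, e2, e3]
    rw [show ((Nat.factorial 2 : ℕ) : ℚ) = ((2 : ℕ) : ℚ) by norm_num [Nat.factorial],
      show ((Nat.factorial 3 : ℕ) : ℚ) = ((6 : ℕ) : ℚ) by norm_num [Nat.factorial],
      cancel 2 (by norm_num), cancel 6 (by norm_num)]
    norm_num [Nat.factorial]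
  · simp [Finset.sum_range_succ, pow_succ]

/-- the sum of the scaled root vectors of a word -/
def wsum (_ : Good D) (w : List (ℕ × R)) : Matrix D.Idx D.Idx R :=
  (w.map fun p => p.2 • dN R D p.1).sum

theorem wordR_eq_exp : ∀ w : List (ℕ × R),
    (∀ a ∈ w, ∀ b ∈ w, Commute (dN R D a.1) (dN R D b.1)) →
    IsNilpotent (G.wsum w) ∧ wordR R D w = IsNilpotent.exp (G.wsum w) := by
  intro w
  induction w with
  | nil => intro _; exact ⟨⟨1, by simp [wsum]⟩, by simp [wsum, wordR_nil]⟩
  | cons p w ih =>
    intro hc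
    obtain ⟨h1, h2⟩ := ih fun a ha b hb => hc a (List.mem_cons_of_mem _ ha) b (List.mem_cons_of_mem _ hb)
    have hcomm : Commute (p.2 • dN R D p.1) (G.wsum w) := by
      apply Commute.list_sum_right
      intro x hx
      obtain ⟨q, hq, rfl⟩ := List.mem_map.1 hx
      exact ((hc p List.mem_cons_self q (List.mem_cons_of_mem _ hq)).smul_left _).smul_right _
    have hn : IsNilpotent (p.2 • dN R D p.1) := ⟨4, G.smul_pow_four _ _⟩
    have e : G.wsum (p :: w) = p.2 • dN R D p.1 + G.wsum w := by simp [wsum]
    rw [e]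
    refine ⟨hcomm.isNilpotent_add hn h1, ?_⟩
    rw [wordR_cons, IsNilpotent.exp_add_of_commute hcomm hn h1, h2, G.xN_eq_exp]

/-- the terms of the chain, as a word -/
def chainW (_ : Good D) (r s : ℕ) (t u : R) : List (ℕ × R) :=
  (D.chainEntry r s).zipIdx.map fun q => (q.1.1, (q.1.2 : R) * (-t) ^ (q.2 + 1) * u)

theorem conj_chain (r : Fin D.nroots) (s : Fin D.nroots) (hsr : s.val ≠ r.val)
    (hsn : s.val ≠ D.negIdx.getD r.val 0) (t u : R)
    (hc : ∀ a ∈ (s.val, u) :: G.chainW r.val s.val t u,
      ∀ b ∈ (s.val, u) :: G.chainW r.val s.val t u, Commute (dN R D a.1) (dN R D b.1)) :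
    xg R r (-t) * xN R D s.val u =
      wordR R D ((s.val, u) :: G.chainW r.val s.val t u) * xg R r (-t) := by
  set w := (s.val, u) :: G.chainW r.val s.val t u with hw
  set g := xg R r (-t)
  have hA : g * (u • dN R D s.val) = G.wsum w * g := by
    have e1 : G.wsum w = adv D R (u • g.mulVec (eN R D s.val)) := by
      have e2 : u • g.mulVec (eN R D s.val) = (w.map fun p => p.2 • eN R D p.1).sum := by
        funext c
        have hcol : g.mulVec (eN R D s.val) c = g c (Sum.inr s) := by
          have : eN R D s.val = Pi.single (Sum.inr s) 1 := by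
            funext d
            rw [eN, Pi.single_apply]
            by_cases hd : d = Sum.inr s
            · subst hd; simp [pos]
            · rw [if_neg hd, if_neg fun e => hd (pos_injective D (by rw [e]; rfl))]
          rw [this]; simp
        rw [Pi.smul_apply, hcol]
        simp only [g]
        rw [xg_apply]
        have hlen := chainEntry_length G.shape r.isLt s.val
        have hps : pos D (Sum.inr s) = D.rank + s.val := rfl
        simp only [act, hps, Nat.add_sub_cancel_left, if_neg hsr, if_neg hsn,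
          if_neg (show ¬ D.rank + s.val < D.rank by omega), hw, chainW, List.map_cons, List.sum_cons]
        have hpos : (if c = Sum.inr s then (1 : R) else 0) =
            if pos D c = D.rank + s.val then 1 else 0 := by
          by_cases hd : c = Sum.inr s
          · subst hd; simp [pos]
          · rw [if_neg hd, if_neg fun e => hd (pos_injective D (by rw [e]; rfl))]
        rw [hpos]
        simp only [List.map_map, Pi.add_apply, Pi.smul_apply, smul_eq_mul, eN]
        generalize D.chainEntry r.val s.val = L at hlen ⊢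
        rcases L with _ | ⟨a, _ | ⟨b, _ | ⟨c', _ | ⟨d, L⟩⟩⟩⟩
        · simp
        · simp [coef_cons, eN, eq_comm]; split_ifs <;> ring
        · simp [coef_cons, List.zipIdx_cons, eN, eq_comm]; split_ifs <;> ring
        · simp [coef_cons, List.zipIdx_cons, eN, eq_comm]; split_ifs <;> ring
        · simp at hlen; omega
      rw [e2, ← advL_apply, map_list_sum, List.map_map, wsum]
      congr 1
      refine List.map_congr_left fun p _ => ?_
      simp [advL_apply, ← adv_eN, ← advL_apply]
    rw [e1, ← adv_eN, ← advL_apply, ← map_smul, advL_apply, ← Matrix.mulVec_smul]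
    exact G.eqvt_xg r (-t) _
  have hpow : ∀ k, g * (u • dN R D s.val) ^ k = G.wsum w ^ k * g := by
    intro k
    induction k with
    | zero => simp
    | succ k ih => rw [pow_succ, ← mul_assoc, ih, mul_assoc, hA, ← mul_assoc, ← pow_succ]
  have hX : G.wsum w ^ 4 = 0 := by
    have h0 := hpow 4
    rw [G.smul_pow_four, mul_zero] at h0
    have := congrArg (· * xg R r t) h0
    simp only [zero_mul, mul_assoc, g, xg_neg_mul G, mul_one] at this
    exact this.symm
  rw [(G.wordR_eq_exp w hc).2, G.xN_eq_exp, IsNilpotent.exp_eq_sum (G.smul_pow_four _ _),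
    IsNilpotent.exp_eq_sum hX, Finset.mul_sum, Finset.sum_mul]
  exact Finset.sum_congr rfl fun k _ => by rw [mul_smul_comm, hpow, smul_mul_assoc]

theorem swap_chain (r : Fin D.nroots) (s : Fin D.nroots) (hsr : s.val ≠ r.val)
    (hsn : s.val ≠ D.negIdx.getD r.val 0) (t u : R)
    (hc : ∀ a ∈ (s.val, u) :: G.chainW r.val s.val t u,
      ∀ b ∈ (s.val, u) :: G.chainW r.val s.val t u, Commute (dN R D a.1) (dN R D b.1)) :
    xg R s u * xg R r t = xg R r t * xg R s u * wordR R D (G.chainW r.val s.val t u) := by
  have h := G.conj_chain r s hsr hsn t u hc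
  have hs : xN R D s.val u = xg R s u := by simp [xN]
  rw [wordR_cons, hs] at h
  have h2 := congrArg (fun M => xg R r t * M * xg R r t) h
  simp only [← mul_assoc] at h2
  rw [xg_mul_neg G, one_mul, mul_assoc _ (xg R r (-t)) (xg R r t), xg_neg_mul G, mul_one] at h2
  exact h2

theorem chainW_inv (r s : ℕ) (t u : R)
    (hc : ∀ a ∈ G.chainW r s t u, ∀ b ∈ G.chainW r s t u, Commute (dN R D a.1) (dN R D b.1)) :
    wordR R D (G.chainW r s t u) *
      wordR R D ((G.chainW r s t u).map fun p => (p.1, -p.2)) = 1 := by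
  obtain ⟨h1, h2⟩ := G.wordR_eq_exp _ hc
  obtain ⟨-, h4⟩ := G.wordR_eq_exp ((G.chainW r s t u).map fun p => (p.1, -p.2)) (by
    intro a ha b hb
    obtain ⟨a', ha', rfl⟩ := List.mem_map.1 ha
    obtain ⟨b', hb', rfl⟩ := List.mem_map.1 hb
    exact hc a' ha' b' hb')
  have e : G.wsum ((G.chainW r s t u).map fun p => (p.1, -p.2)) = - G.wsum (G.chainW r s t u) := by
    simp only [wsum, List.map_map]
    induction G.chainW r s t u with
    | nil => simp
    | cons p l ih =>
      simp only [List.map_cons, List.sum_cons, Function.comp_apply] at ih ⊢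
      rw [ih, neg_smul, neg_add]
  rw [h4, e, h2, IsNilpotent.exp_mul_exp_neg_self h1]

end rat

end Good

end CfsgLib.Lie.Chev
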