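import Cfsg.Agent.Lib.Lie.Chev.CommExp

/-!
# The multiplied-out form of the commutator formula
-/

set_option autoImplicit false

namespace CfsgLib.Lie.Chev

open Cfsg.Lie

variable {D : ChevalleyDatum} {f : Fast} {R : Type*} [CommRing R]

/-- the value of a polynomial vector -/
def evP (D : ChevalleyDatum) (t u : R) (v : PVec) : D.Idx → R := fun c =>
  (v.map fun e => if e.1.1 = pos D c then (e.2 : R) * t ^ e.1.2.1 * u ^ e.1.2.2 else 0).sum

theorem coefP_cons (e : (ℕ × ℕ × ℕ) × ℤ) (v : PVec) (p : ℕ × ℕ × ℕ) :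
    coefP (e :: v) p = (if e.1 = p then e.2 else 0) + coefP v p := by
  show cond (Nat.beq e.1.1 p.1 && Nat.beq e.1.2.1 p.2.1 && Nat.beq e.1.2.2 p.2.2)
    (Int.add e.2 (coefP v p)) (coefP v p) = _
  obtain ⟨⟨a, b, c⟩, z⟩ := e
  obtain ⟨a', b', c'⟩ := p
  simp only [Prod.mk.injEq]
  by_cases h : a = a' ∧ b = b' ∧ c = c'
  · rw [if_pos h, natBeq_true h.1, natBeq_true h.2.1, natBeq_true h.2.2]; rfl
  · rw [if_neg h, zero_add]
    have : (Nat.beq a a' && Nat.beq b b' && Nat.beq c c') = false := by
      rw [Bool.eq_false_iff]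
      simp only [ne_eq, Bool.and_eq_true, Nat.beq_eq]
      tauto
    rw [this, cond_false]

theorem coefP_eq_zero {v : PVec} {p : ℕ × ℕ × ℕ} (h : ∀ e ∈ v, e.1 ≠ p) : coefP v p = 0 := by
  induction v with
  | nil => rfl
  | cons e v ih =>
    rw [coefP_cons, if_neg (h e List.mem_cons_self), ih fun x hx => h x (List.mem_cons_of_mem _ hx),
      add_zero]

theorem evP_eq_sum (t u : R) (S : Finset (ℕ × ℕ × ℕ)) : ∀ (v : PVec), (∀ e ∈ v, e.1 ∈ S) → ∀ c,
    evP D t u v c =
      ∑ p ∈ S, if p.1 = pos D c then (coefP v p : R) * t ^ p.2.1 * u ^ p.2.2 else 0 := by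
  intro v
  induction v with
  | nil => intro _ c; simp [evP, coefP]
  | cons e v ih =>
    intro h c
    have := ih (fun x hx => h x (List.mem_cons_of_mem _ hx)) c
    simp only [evP, List.map_cons, List.sum_cons] at this ⊢
    rw [this]
    have he : (if e.1.1 = pos D c then (e.2 : R) * t ^ e.1.2.1 * u ^ e.1.2.2 else 0) =
        ∑ p ∈ S, if e.1 = p then
          (if p.1 = pos D c then (e.2 : R) * t ^ p.2.1 * u ^ p.2.2 else 0) else 0 := by
      rw [Finset.sum_ite_eq, if_pos (h e List.mem_cons_self)]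
    rw [he, ← Finset.sum_add_distrib]
    refine Finset.sum_congr rfl fun p _ => ?_
    rw [coefP_cons]
    split_ifs <;> simp [add_mul]

theorem eqP_spec {v w : PVec} (h : eqP v w = true) (t u : R) : evP D t u v = evP D t u w := by
  funext c
  set S := ((v ++ w).map Prod.fst).toFinset
  rw [evP_eq_sum t u S v (fun e he =>
      List.mem_toFinset.2 (List.mem_map.2 ⟨e, List.mem_append_left _ he, rfl⟩)) c,
    evP_eq_sum t u S w (fun e he =>
      List.mem_toFinset.2 (List.mem_map.2 ⟨e, List.mem_append_right _ he, rfl⟩)) c]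
  refine Finset.sum_congr rfl fun p hp => ?_
  obtain ⟨e, he, rfl⟩ := List.mem_map.1 (List.mem_toFinset.1 hp)
  have := intBeq_spec (allList_spec (by unfold eqP at h; exact h) e he)
  rw [this]

/-- positions in range -/
def PInR (D : ChevalleyDatum) (v : PVec) : Prop := ∀ e ∈ v, e.1.1 < D.rank + D.nroots

theorem stepP_inR (h : RowsOK D f) {q : ℕ} (hq : q < D.nroots) (c : ℤ) (a b : ℕ) {v : PVec}
    (hv : PInR D v) : PInR D (stepP f q c a b v) := by
  intro e he
  simp only [stepP, List.mem_flatMap, List.mem_cons] at he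
  obtain ⟨x, hx, he⟩ := he
  rcases he with rfl | ⟨k, hk, he⟩
  · exact hv _ hx
  · obtain ⟨y, hy, rfl⟩ := List.mem_map.1 he
    have hk' : k = 1 ∨ k = 2 ∨ k = 3 := by simpa using hk
    rw [actF_eq h hq (by omega) (by omega) (hv x hx)] at hy
    exact act_inR h hq k _ y hy

theorem evP_step (h : RowsOK D f) (q : Fin D.nroots) (c : ℤ) (a b : ℕ) (t u : R) : ∀ (v : PVec),
    PInR D v →
    evP D t u (stepP f q.val c a b v) = (xg R q ((c : R) * t ^ a * u ^ b)).mulVec (evP D t u v) := by
  intro v
  induction v with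
  | nil => intro _; funext d; simp [stepP, evP, Matrix.mulVec, dotProduct]
  | cons e v ih =>
    intro hv
    have ih' := ih fun x hx => hv x (List.mem_cons_of_mem _ hx)
    have e1 : evP D t u (stepP f q.val c a b (e :: v)) =
        evP D t u (e :: [1, 2, 3].flatMap fun k => (actF f q.val k e.1.1).map fun x =>
          ((x.1, e.1.2.1 + k * a, e.1.2.2 + k * b), c ^ k * x.2 * e.2)) +
        evP D t u (stepP f q.val c a b v) := by
      funext d; simp [stepP, evP, List.flatMap_cons]; ring
    have e2 : evP D t u (e :: v) = evP D t u [e] + evP D t u v := by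
      funext d; simp [evP]
    rw [e1, e2, Matrix.mulVec_add, ih']
    congr 1
    funext d
    obtain ⟨c0, hc0⟩ := exists_pos D (hv e List.mem_cons_self)
    have hvec : evP D t u [e] = Pi.single c0 ((e.2 : R) * t ^ e.1.2.1 * u ^ e.1.2.2) := by
      funext z
      rw [Pi.single_apply]
      by_cases hz : z = c0
      · subst hz; simp [evP, hc0]
      · have : ¬ e.1.1 = pos D z := fun x => hz (pos_injective D (by rw [← x, hc0]))
        simp [evP, hz, this]
    rw [hvec, Matrix.mulVec_single, Pi.smul_apply, MulOpposite.smul_eq_mul_unop,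
      MulOpposite.unop_op, Matrix.col_apply, xg_apply, hc0]
    have hmap : ∀ (k : ℕ) (L : List (ℕ × ℤ)),
        ((L.map fun x => ((x.1, e.1.2.1 + k * a, e.1.2.2 + k * b), c ^ k * x.2 * e.2)).map fun y =>
          if y.1.1 = pos D d then (y.2 : R) * t ^ y.1.2.1 * u ^ y.1.2.2 else 0).sum =
        (coef L (pos D d) : R) * ((c : R) * t ^ a * u ^ b) ^ k *
          ((e.2 : R) * t ^ e.1.2.1 * u ^ e.1.2.2) := by
      intro k L
      induction L with
      | nil => simp
      | cons x L ihL =>
        simp only [List.map_cons, List.sum_cons, ihL, coef_cons]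
        push_cast
        split_ifs <;> simp [pow_add, mul_pow, pow_mul'] <;> ring
    have hb := hv e List.mem_cons_self
    simp only [evP, List.flatMap_cons, List.flatMap_nil, List.append_nil, List.map_cons,
      List.map_append, List.sum_cons, List.sum_append, hmap,
      actF_eq h q.isLt le_rfl (show 1 ≤ 3 by norm_num) hb,
      actF_eq h q.isLt (show 1 ≤ 2 by norm_num) (show 2 ≤ 3 by norm_num) hb,
      actF_eq h q.isLt (show 1 ≤ 3 by norm_num) le_rfl hb]
    have hd : (e.1.1 = pos D d) = (d = c0) := propext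
      ⟨fun x => pos_injective D (by rw [← x, hc0]), fun x => by rw [x, hc0]⟩
    simp only [hd]
    split_ifs <;> ring

theorem evP_run (h : RowsOK D f) (t u : R) (col : D.Idx) : ∀ (w : List (ℕ × ℤ × ℕ × ℕ)),
    (∀ x ∈ w, x.1 < D.nroots) →
    PInR D (runP f w (pos D col)) ∧ evP D t u (runP f w (pos D col)) =
      (wordR R D (w.map fun x => (x.1, (x.2.1 : R) * t ^ x.2.2.1 * u ^ x.2.2.2))).mulVec
        (Pi.single col 1) := by
  intro w
  induction w with
  | nil =>
    intro _
    refine ⟨fun e he => ?_, ?_⟩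
    · simp only [runP, List.foldr_nil, List.mem_singleton] at he; subst he; exact pos_lt D col
    · funext c
      simp only [runP, List.foldr_nil, List.map_nil, wordR_nil, Matrix.one_mulVec, Pi.single_apply,
        evP, List.map_cons, List.sum_cons, List.sum_nil]
      by_cases hc : c = col
      · subst hc; simp
      · rw [if_neg hc, if_neg fun e => hc (pos_injective D e.symm), add_zero]
  | cons x w ih =>
    intro hw
    obtain ⟨h1, h2⟩ := ih fun y hy => hw y (List.mem_cons_of_mem _ hy)
    have hx := hw x List.mem_cons_self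
    refine ⟨?_, ?_⟩
    · simp only [runP, List.foldr_cons]
      exact stepP_inR h hx _ _ _ h1
    · show evP D t u (stepP f x.1 x.2.1 x.2.2.1 x.2.2.2 (runP f w (pos D col))) = _
      rw [evP_step h ⟨x.1, hx⟩ _ _ _ t u _ h1, h2, Matrix.mulVec_mulVec, List.map_cons, wordR_cons]
      simp [xN, hx]

theorem word_eq_of_eqP (h : RowsOK D f) (t u : R) {w w' : List (ℕ × ℤ × ℕ × ℕ)}
    (hw : ∀ x ∈ w, x.1 < D.nroots) (hw' : ∀ x ∈ w', x.1 < D.nroots)
    (he : ∀ col < D.rank + D.nroots, eqP (runP f w col) (runP f w' col) = true) :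
    wordR R D (w.map fun x => (x.1, (x.2.1 : R) * t ^ x.2.2.1 * u ^ x.2.2.2)) =
      wordR R D (w'.map fun x => (x.1, (x.2.1 : R) * t ^ x.2.2.1 * u ^ x.2.2.2)) := by
  refine Matrix.ext_of_mulVec_single fun col => ?_
  rw [← (evP_run h t u col w hw).2, ← (evP_run h t u col w' hw').2]
  exact eqP_spec (he _ (pos_lt D col)) t u

end CfsgLib.Lie.Chev
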