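import Cfsg.Agent.Lib.Lie.Chev.SL2Root
import Cfsg.Agent.Lib.Lie.Chev.Perfect
import Cfsg.Agent.Lib.Lie.Chev.FullAll
import Cfsg.Prelude.Def_SteinbergCover

/-!
# The Steinberg cover: the map onto the Chevalley group has central kernel
-/

set_option autoImplicit false

namespace CfsgLib.Lie.Chev

open Cfsg.Lie
open scoped MatrixGroups

variable {D : ChevalleyDatum} {K : Type*} [Field K]

namespace Good

variable (G : Good D)

/-- the generator of the cover -/
def xc (_ : Good D) (r : Fin D.nroots) (t : K) : D.SteinbergCover K := D.scGen K r.val t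

include G

theorem xc_eq_of (r : Fin D.nroots) (t : K) :
    G.xc r t = (PresentedGroup.of (r, t) : D.SteinbergCover K) := by
  show PresentedGroup.mk _ (D.stX r.val t) = _
  rw [ChevalleyDatum.stX, dif_pos r.isLt]
  rfl

theorem xc_add (r : Fin D.nroots) (t u : K) : G.xc r (t + u) = G.xc r t * G.xc r u := by
  have e : PresentedGroup.mk (D.steinbergRelsAB K)
      (D.stX r.val t * D.stX r.val u * (D.stX r.val (t + u))⁻¹) = 1 :=
    PresentedGroup.one_of_mem (Or.inl ⟨r.val, t, u, r.isLt, rfl⟩)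
  rw [map_mul, map_mul, map_inv, mul_inv_eq_one] at e
  exact e.symm

theorem xc_zero (r : Fin D.nroots) : G.xc r (0 : K) = 1 := by
  have h := G.xc_add r (0 : K) 0
  rw [add_zero] at h
  exact right_eq_mul.1 h

theorem xc_inv (r : Fin D.nroots) (t : K) : (G.xc r t)⁻¹ = G.xc r (-t) := by
  rw [inv_eq_iff_mul_eq_one, ← G.xc_add, add_neg_cancel, G.xc_zero]

theorem xc_generate :
    Subgroup.closure {g : D.SteinbergCover K | ∃ r t, g = G.xc r t} = ⊤ := by
  rw [eq_top_iff, ← PresentedGroup.closure_range_of, Subgroup.closure_le]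
  rintro _ ⟨⟨r, t⟩, rfl⟩
  exact Subgroup.subset_closure ⟨r, t, (G.xc_eq_of r t).symm⟩

/-- the subgroup of the cover generated by the roots in `S` -/
def cgen (S : Fin D.nroots → Prop) : Subgroup (D.SteinbergCover K) :=
  Subgroup.closure {g | ∃ r t, S r ∧ g = G.xc r t}

theorem xc_mem_cgen {S : Fin D.nroots → Prop} {r : Fin D.nroots} (hr : S r) (t : K) :
    G.xc r t ∈ G.cgen (K := K) S := Subgroup.subset_closure ⟨r, t, hr, rfl⟩

theorem cgen_mono {S T : Fin D.nroots → Prop} (h : ∀ r, S r → T r) :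
    G.cgen (K := K) S ≤ G.cgen T :=
  (Subgroup.closure_le _).2 fun _ ⟨r, t, hr, e⟩ => e ▸ G.xc_mem_cgen (h r hr) t

/-- positive in the system moved by a word -/
def PS (l : List (Fin D.rank)) (r : Fin D.nroots) : Prop := D.IsPosRoot (G.pw l r).val

/-- involves a fundamental root other than `i` -/
def Off (i : Fin D.rank) (r : Fin D.nroots) : Prop := ∃ m, m ≠ i ∧ G.rho r m ≠ 0

theorem pos_iff_coord {r : Fin D.nroots} {m : Fin D.rank} (h : G.rho r m ≠ 0) :
    D.IsPosRoot r.val ↔ 0 < G.rho r m := by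
  have hh : ∀ (s : Fin D.nroots), 0 < G.rho s m → D.IsPosRoot s.val := by
    intro s hs
    have hnn : ∀ l, 0 ≤ G.rho s l := by
      rcases G.rho_sign s with h' | h'
      · exact h'
      · exact absurd (h' m) (by omega)
    rw [G.isPosRoot_iff]
    exact Finset.sum_pos' (fun l _ => mul_nonneg (hnn l) (pow_nonneg G.base_pos.le _))
      ⟨m, Finset.mem_univ m, mul_pos hs (pow_pos G.base_pos _)⟩
  refine ⟨fun hp => ?_, hh r⟩
  by_contra hn
  have h2 : 0 < G.rho (G.negr r) m := by rw [G.rho_negr]; simp; omega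
  exact (G.negr_pos_iff r).1 (hh _ h2) hp

theorem off_or (i : Fin D.rank) (r : Fin D.nroots) :
    G.Off i r ∨ r = G.simp' i ∨ r = G.negr (G.simp' i) := by
  by_contra h
  push Not at h
  obtain ⟨hoff, h1, h2⟩ := h
  have hz : ∀ m, m ≠ i → G.rho r m = 0 := fun m hm => by
    by_contra e
    exact hoff ⟨m, hm, e⟩
  have key : ∀ s : Fin D.nroots, (∀ m, m ≠ i → G.rho s m = 0) → D.IsPosRoot s.val →
      s = G.simp' i := by
    intro s hs hp
    by_contra hne
    have hw := G.w_pos hp hne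
    have hc : cart D i s = 2 * G.rho s i := by
      rw [G.cart_eq, Finset.sum_eq_single i (fun b _ hb => by rw [hs b hb, zero_mul]) (by simp),
        G.cart_simp, mul_comm]
    have e : G.rho (G.w i s) = - G.rho s := by
      funext m
      rw [G.rho_w, hc]
      by_cases hm : m = i
      · subst hm; simp; ring
      · simp [hs m hm, hm]
    rw [G.isPosRoot_iff, e, G.ht_neg] at hw
    rw [G.isPosRoot_iff] at hp
    omega
  by_cases hp : D.IsPosRoot r.val
  · exact h1 (key r hz hp)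
  · have := key (G.negr r) (fun m hm => by rw [G.rho_negr, Pi.neg_apply, hz m hm, neg_zero])
      ((G.negr_pos_iff r).2 hp)
    exact h2 (by rw [← this, G.negr_negr])

theorem off_ne {i : Fin D.rank} {r : Fin D.nroots} (h : G.Off i r) :
    r ≠ G.simp' i ∧ r ≠ G.negr (G.simp' i) := by
  obtain ⟨m, hm, h⟩ := h
  constructor <;> rintro rfl <;> simp [G.rho_negr, G.rho_simp, hm] at h

/-- the roots of one sign off `p_i` -/
def Rad (i : Fin D.rank) (ε : Bool) (r : Fin D.nroots) : Prop :=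
  G.Off i r ∧ (D.IsPosRoot r.val ↔ ε = true)

theorem rad_w {i : Fin D.rank} {ε : Bool} {r : Fin D.nroots} (h : G.Rad i ε r) :
    G.Rad i ε (G.w i r) := by
  obtain ⟨⟨m, hm, hne⟩, hs⟩ := h
  have e : G.rho (G.w i r) m = G.rho r m := by rw [G.rho_w]; simp [hm]
  refine ⟨⟨m, hm, by rwa [e]⟩, ?_⟩
  rw [G.pos_iff_coord (r := G.w i r) (by rwa [e]), e, ← G.pos_iff_coord hne, hs]

theorem rad_comb {i : Fin D.rank} {ε : Bool} {s k r : Fin D.nroots}
    (hr : r = G.simp' i ∨ r = G.negr (G.simp' i)) (h : G.Rad i ε s) {a b : ℕ} (hb : 1 ≤ b)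
    (e : G.rho k = (a : ℤ) • G.rho r + (b : ℤ) • G.rho s) : G.Rad i ε k := by
  obtain ⟨⟨m, hm, hne⟩, hs⟩ := h
  have e' : G.rho k m = (b : ℤ) * G.rho s m := by
    rw [e]
    rcases hr with rfl | rfl <;> simp [G.rho_negr, G.rho_simp, hm]
  have hne' : G.rho k m ≠ 0 := by rw [e']; exact mul_ne_zero (by omega) hne
  refine ⟨⟨m, hm, hne'⟩, ?_⟩
  rw [G.pos_iff_coord hne', e', mul_pos_iff_of_pos_left (by omega), ← G.pos_iff_coord hne, hs]

theorem rho_pw_comb (l : List (Fin D.rank)) {k r s : Fin D.nroots} {a b : ℤ}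
    (e : G.rho k = a • G.rho r + b • G.rho s) :
    G.rho (G.pw l k) = a • G.rho (G.pw l r) + b • G.rho (G.pw l s) := by
  rw [G.rho_pw l k, G.rho_pw l r, G.rho_pw l s, e, Finset.smul_sum, Finset.smul_sum,
    ← Finset.sum_add_distrib]
  exact Finset.sum_congr rfl fun j _ => by
    simp only [Pi.add_apply, Pi.smul_apply, smul_eq_mul]
    module

/-- `n_{p_i}(t)` in the cover -/
def nc (i : Fin D.rank) (t : K) : D.SteinbergCover K :=
  G.xc (G.simp' i) t * G.xc (G.negr (G.simp' i)) (-t⁻¹) * G.xc (G.simp' i) t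

theorem nc_inv (i : Fin D.rank) (t : K) : (G.nc i t)⁻¹ = G.nc i (-t) := by
  simp [nc, G.xc_inv, mul_assoc, inv_neg]

/-- the subgroup generated by the `n_{p_i}(t)` in the cover -/
def Nc : Subgroup (D.SteinbergCover K) :=
  Subgroup.closure {g | ∃ i t, t ≠ 0 ∧ g = G.nc i t}

/-- conjugation by `g` follows the word `l` on the root subgroups -/
def CPerm (g : D.SteinbergCover K) (l : List (Fin D.rank)) : Prop :=
  ∀ s, ∃ a : Kˣ, ∀ t : K, g * G.xc s t * g⁻¹ = G.xc (G.pw l s) ((a : K) * t)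

theorem CPerm.one : G.CPerm (1 : D.SteinbergCover K) [] := fun s => ⟨1, fun t => by simp [G.pw_nil]⟩

theorem CPerm.mul {g h : D.SteinbergCover K} {l l' : List (Fin D.rank)} (hg : G.CPerm g l)
    (hh : G.CPerm h l') : G.CPerm (g * h) (l ++ l') := by
  intro s
  obtain ⟨c, hc⟩ := hh s
  obtain ⟨d, hd⟩ := hg (G.pw l' s)
  refine ⟨d * c, fun t => ?_⟩
  rw [show g * h * G.xc s t * (g * h)⁻¹ = g * (h * G.xc s t * h⁻¹) * g⁻¹ by group, hc, hd,
    Units.val_mul, mul_assoc, G.pw_append]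
  rfl

theorem CPerm.inv {g : D.SteinbergCover K} {l : List (Fin D.rank)} (hg : G.CPerm g l) :
    G.CPerm g⁻¹ l.reverse := by
  intro s
  obtain ⟨c, hc⟩ := hg (G.pw l.reverse s)
  refine ⟨c⁻¹, fun t => ?_⟩
  have := hc (((c⁻¹ : Kˣ) : K) * t)
  have e : G.pw l (G.pw l.reverse s) = s := by
    rw [← Equiv.Perm.mul_apply, G.pw_reverse, mul_inv_cancel]; rfl
  rw [e, Units.mul_inv_cancel_left] at this
  rw [← this]
  group

end Good

namespace Full

variable (C : Full D)

/-- the natural map into the general linear group -/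
noncomputable def theta : D.SteinbergCover K →* GL D.Idx K :=
  PresentedGroup.toGroup (f := fun p => C.G.xu p.1 p.2) (by
    have hw : ∀ l : List (ℕ × K), (∀ c ∈ l, c.1 < D.nroots) →
        ((FreeGroup.lift fun p : Fin D.nroots × K => C.G.xu p.1 p.2) (D.stWord l) : GL D.Idx K).val =
          wordR K D l := by
      intro l hl
      induction l with
      | nil => simp [ChevalleyDatum.stWord, wordR_nil]
      | cons c l ih =>
        have hc := hl c (List.mem_cons_self ..)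
        rw [show D.stWord (c :: l) = D.stX c.1 c.2 * D.stWord l from by
          simp [ChevalleyDatum.stWord], map_mul, Units.val_mul,
          ih fun d hd => hl d (List.mem_cons_of_mem _ hd), wordR_cons]
        congr 1
        simp [ChevalleyDatum.stX, hc, xN, Good.coe_xu]
    rintro w (⟨r, t, u, hr, rfl⟩ | ⟨r, s, t, u, hr, hs, h1, h2, rfl⟩)
    · simp [ChevalleyDatum.stX, hr, C.G.xu_add]
    · have h1' : (⟨s, hs⟩ : Fin D.nroots) ≠ ⟨r, hr⟩ := fun e => h1 (congrArg Fin.val e)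
      have h2' : (⟨s, hs⟩ : Fin D.nroots) ≠ C.G.negr ⟨r, hr⟩ := fun e =>
        h2 ((congrArg Fin.val e).trans (C.G.neg_val ⟨r, hr⟩).symm)
      have h := C.commAt ⟨r, hr⟩ ⟨s, hs⟩ h1' h2' t u
      unfold CommAt at h
      simp only [map_mul, map_inv, mul_inv_eq_one]
      simp only [ChevalleyDatum.stX, dif_pos hs, dif_pos hr, FreeGroup.lift_apply_of]
      rw [← _root_.mul_inv_rev, mul_assoc, inv_mul_eq_iff_eq_mul]
      apply Units.ext
      rw [Units.val_mul, Units.val_mul, Units.val_mul, hw, Good.coe_xu, Good.coe_xu, h]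
      · congr 1
      · intro c hc
        simp only [ChevalleyDatum.commWord, List.mem_map] at hc
        obtain ⟨a, ha, rfl⟩ := hc
        exact (C.commTerms_weight (r := ⟨r, hr⟩) (s := ⟨s, hs⟩) ha).2.2.1)

theorem theta_xc (r : Fin D.nroots) (t : K) : C.theta (C.G.xc r t) = C.G.xu r t := by
  rw [C.G.xc_eq_of, theta, PresentedGroup.toGroup.of]

theorem theta_nc (i : Fin D.rank) (t : K) : C.theta (C.G.nc i t) = C.G.nE (C.G.simp' i) t := by
  simp [Good.nc, Good.nE, C.theta_xc]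

theorem theta_range : (C.theta (K := K)).range = D.group K := by
  rw [MonoidHom.range_eq_map, ← C.G.xc_generate, MonoidHom.map_closure, C.G.group_eq]
  congr 1
  ext g
  constructor
  · rintro ⟨_, ⟨r, t, rfl⟩, rfl⟩; exact ⟨r, t, C.theta_xc r t⟩
  · rintro ⟨r, t, rfl⟩; exact ⟨_, ⟨r, t, rfl⟩, C.theta_xc r t⟩

/-- the relation of the cover as a conjugation formula -/
theorem comm_xc (r s : Fin D.nroots) (hsr : s ≠ r) (hsn : s ≠ C.G.negr r) (t u : K) :
    (C.G.xc r t)⁻¹ * C.G.xc s u * C.G.xc r t = C.G.xc s u *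
      ((D.commTerms r.val s.val).map fun c =>
        D.scGen K c.1 ((c.2.1 : K) * ((-t) ^ c.2.2.1 * u ^ c.2.2.2))).prod := by
  have e : PresentedGroup.mk (D.steinbergRelsAB K) ((D.stX s.val u)⁻¹ * (D.stX r.val t)⁻¹ *
      D.stX s.val u * D.stX r.val t * (D.stWord (D.commWord K r.val s.val t u))⁻¹) = 1 :=
    PresentedGroup.one_of_mem (Or.inr ⟨r.val, s.val, t, u, r.isLt, s.isLt, fun e => hsr (Fin.ext e),
      fun e => hsn (Fin.ext (e.trans (C.G.neg_val r))), rfl⟩)
  simp only [map_mul, map_inv, mul_inv_eq_one] at e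
  simp only [ChevalleyDatum.stWord, ChevalleyDatum.commWord, map_list_prod, List.map_map] at e
  rw [mul_assoc, mul_assoc, inv_mul_eq_iff_eq_mul] at e
  simp only [mul_assoc] at e ⊢
  exact e

theorem terms_mem {S : Fin D.nroots → Prop} {r s : Fin D.nroots}
    (h : ∀ (k : Fin D.nroots) (a b : ℕ), 1 ≤ a → 1 ≤ b →
      C.G.rho k = (a : ℤ) • C.G.rho r + (b : ℤ) • C.G.rho s → S k)
    (t u : K) : ((D.commTerms r.val s.val).map fun c =>
        D.scGen K c.1 ((c.2.1 : K) * ((-t) ^ c.2.2.1 * u ^ c.2.2.2))).prod ∈ C.G.cgen S := by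
  refine list_prod_mem fun x hx => ?_
  obtain ⟨c, hc, rfl⟩ := List.mem_map.1 hx
  obtain ⟨ha, hb, hk, e⟩ := C.commTerms_weight hc
  exact C.G.xc_mem_cgen (h ⟨c.1, hk⟩ _ _ ha hb e) _

theorem conj_cgen {S : Fin D.nroots → Prop} {r : Fin D.nroots}
    (hS : ∀ s, S s → s ≠ r ∧ s ≠ C.G.negr r ∧ ∀ (k : Fin D.nroots) (a b : ℕ), 1 ≤ a → 1 ≤ b →
      C.G.rho k = (a : ℤ) • C.G.rho r + (b : ℤ) • C.G.rho s → S k)
    (t : K) {g : D.SteinbergCover K} (hg : g ∈ C.G.cgen S) :
    C.G.xc r t * g * (C.G.xc r t)⁻¹ ∈ C.G.cgen (K := K) S := by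
  have hle : C.G.cgen S ≤ (C.G.cgen S).comap (MulAut.conj (C.G.xc r t)).toMonoidHom := by
    rw [Good.cgen, Subgroup.closure_le]
    rintro _ ⟨s, u, hs, rfl⟩
    obtain ⟨h1, h2, h3⟩ := hS s hs
    show C.G.xc r t * C.G.xc s u * (C.G.xc r t)⁻¹ ∈ C.G.cgen (K := K) S
    have e := C.comm_xc r s h1 h2 (-t) u
    rw [← C.G.xc_inv, inv_inv] at e
    rw [e]
    exact mul_mem (C.G.xc_mem_cgen hs u) (C.terms_mem h3 _ u)
  exact hle hg

/-- the root system `PS l` from index `m` on -/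
def PSge (l : List (Fin D.rank)) (m : ℕ) (r : Fin D.nroots) : Prop :=
  C.G.PS l r ∧ m ≤ (C.G.pw l r).val

theorem theta_PSge (l : List (Fin D.rank)) (m : ℕ) {g : D.SteinbergCover K}
    (hg : g ∈ C.G.cgen (C.PSge l m)) : C.G.nw l * C.theta g * (C.G.nw l)⁻¹ ∈ C.G.Uge (K := K) m := by
  have hle : C.G.cgen (C.PSge l m) ≤
      (C.G.Uge (K := K) m).comap ((MulAut.conj (C.G.nw l)).toMonoidHom.comp C.theta) := by
    rw [Good.cgen, Subgroup.closure_le]
    rintro _ ⟨r, t, hr, rfl⟩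
    show C.G.nw l * C.theta (C.G.xc r t) * (C.G.nw l)⁻¹ ∈ C.G.Uge (K := K) m
    obtain ⟨c, hc⟩ := C.G.nPerm_nw (K := K) l r
    rw [C.theta_xc, hc]
    exact C.G.xu_mem_Uge hr.2 hr.1 _
  exact hle hg

theorem inj_aux (l : List (Fin D.rank)) : ∀ (n m : ℕ), m + n = D.nroots →
    ∀ g ∈ C.G.cgen (C.PSge l m), C.theta g = 1 → g = (1 : D.SteinbergCover K) := by
  intro n
  induction n with
  | zero =>
    intro m hm g hg _
    have : C.G.cgen (C.PSge l m) ≤ (⊥ : Subgroup (D.SteinbergCover K)) := by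
      rw [Good.cgen, Subgroup.closure_le]
      rintro _ ⟨r, t, hr, rfl⟩
      have := (C.G.pw l r).isLt
      have := hr.2
      omega
    exact Subgroup.mem_bot.1 (this hg)
  | succ n ih =>
    intro m hm g hg h1
    let q : Fin D.nroots := ⟨m, by omega⟩
    let r := (C.G.pw l).symm q
    have hrq : C.G.pw l r = q := (C.G.pw l).apply_symm_apply q
    by_cases hq : D.IsPosRoot q.val
    · have hnorm : ∀ (u : K) (v : D.SteinbergCover K), v ∈ C.G.cgen (C.PSge l (m + 1)) →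
          C.G.xc r u * v * (C.G.xc r u)⁻¹ ∈ C.G.cgen (C.PSge l (m + 1)) := by
        intro u v hv
        refine C.conj_cgen (fun s hs => ⟨?_, ?_, fun k a b ha hb e => ?_⟩) u hv
        · rintro rfl
          have := hs.2
          rw [hrq] at this
          simp [q] at this
        · rintro rfl
          have := hs.1
          rw [Good.PS, C.G.pw_negr, hrq, C.G.negr_pos_iff] at this
          exact this hq
        · have e' := C.G.rho_pw_comb l e
          rw [hrq] at e'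
          have h2 := (C.G.isPosRoot_iff _).1 hq
          have h3 := (C.G.isPosRoot_iff _).1 hs.1
          have e'' := congrArg C.G.ht e'
          simp only [C.G.ht_add, C.G.ht_smul] at e''
          have ha' : (1 : ℤ) ≤ a := by exact_mod_cast ha
          have hb' : (1 : ℤ) ≤ b := by exact_mod_cast hb
          refine ⟨(C.G.isPosRoot_iff _).2 (by nlinarith), ?_⟩
          have h4 : C.G.ht (C.G.rho q) < C.G.ht (C.G.rho (C.G.pw l k)) := by nlinarith
          exact C.G.index_lt_of_ht_lt h4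
      have hdec : ∀ g ∈ C.G.cgen (K := K) (C.PSge l m),
          ∃ t : K, ∃ v ∈ C.G.cgen (C.PSge l (m + 1)), g = C.G.xc r t * v := by
        intro g hg
        have step : ∀ (s : Fin D.nroots) (u : K), C.PSge l m s → ∀ y : D.SteinbergCover K,
            (∃ t : K, ∃ v ∈ C.G.cgen (C.PSge l (m + 1)), y = C.G.xc r t * v) →
            ∃ t : K, ∃ v ∈ C.G.cgen (C.PSge l (m + 1)), C.G.xc s u * y = C.G.xc r t * v := by
          rintro s u ⟨hs1, hs2⟩ _ ⟨t, v, hv, rfl⟩
          rcases Nat.eq_or_lt_of_le hs2 with e | e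
          · have : s = r := (C.G.pw l).injective (Fin.ext (by rw [hrq]; exact e.symm))
            subst this
            exact ⟨u + t, v, hv, by rw [C.G.xc_add, mul_assoc]⟩
          · refine ⟨t, C.G.xc r (-t) * C.G.xc s u * (C.G.xc r (-t))⁻¹ * v,
              mul_mem (hnorm _ _ (C.G.xc_mem_cgen (show C.PSge l (m + 1) s from ⟨hs1, e⟩) u)) hv, ?_⟩
            rw [← C.G.xc_inv]
            group
        induction hg using Subgroup.closure_induction_left with
        | one => exact ⟨0, 1, one_mem _, by rw [C.G.xc_zero, mul_one]⟩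
        | mul_left x hx y _ ihy =>
          obtain ⟨s, u, hs, rfl⟩ := hx
          exact step s u hs y ihy
        | inv_mul_cancel x hx y _ ihy =>
          obtain ⟨s, u, hs, rfl⟩ := hx
          rw [C.G.xc_inv]
          exact step s (-u) hs y ihy
      obtain ⟨t, v, hv, rfl⟩ := hdec g hg
      obtain ⟨c, hc⟩ := C.G.nPerm_nw (K := K) l r
      have e : C.G.xu q ((c : K) * t) * (C.G.nw l * C.theta v * (C.G.nw l)⁻¹) = C.G.xu q 0 * 1 := by
        rw [← hrq, ← hc, ← C.theta_xc, C.G.xu_zero, mul_one]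
        rw [map_mul] at h1
        calc _ = C.G.nw l * (C.theta (C.G.xc r t) * C.theta v) * (C.G.nw l)⁻¹ := by group
          _ = 1 := by rw [h1]; group
      obtain ⟨ht, hv1⟩ := C.G.lowest_unique hq (C.theta_PSge l (m + 1) hv) (one_mem _) e
      have htv : C.theta v = 1 := conj_eq_one_iff.1 hv1
      rw [(mul_eq_zero.1 ht).resolve_left c.ne_zero, C.G.xc_zero, one_mul,
        ih (m + 1) (by omega) v hv htv]
    · refine ih (m + 1) (by omega) g (C.G.cgen_mono (fun s hs => ⟨hs.1, ?_⟩) hg) h1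
      rcases Nat.eq_or_lt_of_le hs.2 with e | e
      · have h2 : C.G.pw l s = q := Fin.ext e.symm
        exact absurd (h2 ▸ hs.1) hq
      · exact e

theorem inj (l : List (Fin D.rank)) {g g' : D.SteinbergCover K} (hg : g ∈ C.G.cgen (C.G.PS l))
    (hg' : g' ∈ C.G.cgen (C.G.PS l)) (h : C.theta g = C.theta g') : g = g' := by
  rw [← mul_inv_eq_one]
  refine C.inj_aux l D.nroots 0 (Nat.zero_add _) _
    (C.G.cgen_mono (fun s hs => ⟨hs, Nat.zero_le _⟩) (mul_mem hg (inv_mem hg'))) ?_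
  rw [map_mul, map_inv, h, mul_inv_cancel]

theorem rad_le (i : Fin D.rank) (ε : Bool) : ∃ l, ∀ r, C.G.Rad i ε r → C.G.PS l r := by
  cases ε with
  | true => exact ⟨[], fun r hr => hr.2.2 rfl⟩
  | false =>
    obtain ⟨l, hl⟩ := C.G.exists_longest
    refine ⟨l, fun r hr => ?_⟩
    have hn : ¬ D.IsPosRoot r.val := fun h => Bool.false_ne_true (hr.2.1 h)
    have := hl (C.G.negr r) ((C.G.negr_pos_iff r).2 hn)
    rw [C.G.pw_negr, C.G.negr_pos_iff, not_not] at this
    exact this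

theorem nE_nPerm (i : Fin D.rank) {t : K} (ht : t ≠ 0) :
    C.G.NPerm (C.G.nE (C.G.simp' i) t) (C.G.sP i) := by
  rw [show t = ((Units.mk0 t ht : Kˣ) : K) from rfl, C.G.nE_simp]
  have h := Good.NPerm.mul C.G (C.G.nPerm_H (C.G.hd_mem_H (C.G.simp' i) (Units.mk0 t ht)))
    (C.G.nPerm_nU (K := K) i)
  rwa [one_mul] at h

theorem nc_conj_rad (i : Fin D.rank) (ε : Bool) (t : K) {g : D.SteinbergCover K}
    (hg : g ∈ C.G.cgen (C.G.Rad i ε)) :
    C.G.nc i t * g * (C.G.nc i t)⁻¹ ∈ C.G.cgen (C.G.Rad i ε) := by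
  have hx : ∀ (r : Fin D.nroots), (r = C.G.simp' i ∨ r = C.G.negr (C.G.simp' i)) → ∀ (u : K)
      (v : D.SteinbergCover K), v ∈ C.G.cgen (C.G.Rad i ε) →
      C.G.xc r u * v * (C.G.xc r u)⁻¹ ∈ C.G.cgen (C.G.Rad i ε) := by
    intro r hr u v hv
    refine C.conj_cgen (fun s hs => ⟨?_, ?_, fun k a b _ hb e => C.G.rad_comb hr hs hb e⟩) u hv
    · rintro rfl
      obtain ⟨h1, h2⟩ := C.G.off_ne hs.1
      exact hr.elim h1 h2
    · rintro rfl
      obtain ⟨h1, h2⟩ := C.G.off_ne hs.1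
      rcases hr with rfl | rfl
      · exact h2 rfl
      · exact h1 (C.G.negr_negr _)
  have := hx _ (Or.inl rfl) t _ (hx _ (Or.inr rfl) (-t⁻¹) _ (hx _ (Or.inl rfl) t _ hg))
  simpa [Good.nc, mul_assoc] using this

theorem nc_off {i : Fin D.rank} {s : Fin D.nroots} (hs : C.G.Off i s) {t : K} (ht : t ≠ 0) :
    ∃ a : Kˣ, ∀ u : K, C.G.nc i t * C.G.xc s u * (C.G.nc i t)⁻¹ = C.G.xc (C.G.w i s) ((a : K) * u) := by
  obtain ⟨a, ha⟩ := C.nE_nPerm i ht s
  refine ⟨a, fun u => ?_⟩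
  let ε := decide (D.IsPosRoot s.val)
  have hrad : C.G.Rad i ε s := ⟨hs, by simp [ε]⟩
  obtain ⟨l, hl⟩ := C.rad_le i ε
  refine C.inj l (C.G.cgen_mono hl (C.nc_conj_rad i ε t (C.G.xc_mem_cgen hrad u)))
    (C.G.cgen_mono hl (C.G.xc_mem_cgen (C.G.rad_w hrad) _)) ?_
  rw [map_mul, map_mul, map_inv, C.theta_nc, C.theta_xc, C.theta_xc, ha u]
  rfl

/-- a pair of roots off `p_i` whose commutator involves `p_i` linearly -/
def HasPair (i : Fin D.rank) : Prop :=
  ∃ (a b : Fin D.nroots) (l : List (Fin D.rank)), C.G.Off i a ∧ C.G.Off i b ∧ b ≠ a ∧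
    b ≠ C.G.negr a ∧ C.G.PS l a ∧ C.G.PS l b ∧
    ∃ (pre post : List (ℕ × ℤ × ℕ × ℕ)) (c : ℤ) (m n : ℕ),
      D.commTerms a.val b.val = pre ++ ((C.G.simp' i).val, c, m, n) :: post ∧
      (c = 1 ∨ c = -1) ∧ (m = 1 ∨ n = 1) ∧ ∀ e ∈ pre ++ post, e.1 ≠ (C.G.simp' i).val

theorem nc_simp {i : Fin D.rank} (hi : C.HasPair i) {t : K} (ht : t ≠ 0) (v : K) :
    C.G.nc i t * C.G.xc (C.G.simp' i) v * (C.G.nc i t)⁻¹ =
      C.G.xc (C.G.negr (C.G.simp' i)) (-(t⁻¹ ^ 2 * v)) := by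
  obtain ⟨a, b, l, hoa, hob, hba, hban, hla, hlb, pre, post, c, m, n, hl, hc, hmn, hne⟩ := hi
  set p := C.G.simp' i
  let l' := l ++ [i]
  let M : Subgroup (D.SteinbergCover K) :=
    (C.G.cgen (C.G.PS l')).comap (MulAut.conj (C.G.nc i t)).toMonoidHom
  have hcomb : ∀ {k : Fin D.nroots} {x y : ℕ}, 1 ≤ x → 1 ≤ y →
      C.G.rho k = (x : ℤ) • C.G.rho a + (y : ℤ) • C.G.rho b → C.G.PS l k := by
    intro k x y hx hy e
    have e' := congrArg C.G.ht (C.G.rho_pw_comb l e)
    simp only [C.G.ht_add, C.G.ht_smul] at e'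
    have h1 := (C.G.isPosRoot_iff _).1 hla
    have h2 := (C.G.isPosRoot_iff _).1 hlb
    have hx' : (1 : ℤ) ≤ x := by exact_mod_cast hx
    have hy' : (1 : ℤ) ≤ y := by exact_mod_cast hy
    exact (C.G.isPosRoot_iff _).2 (by nlinarith)
  have hw : ∀ {k : Fin D.nroots}, C.G.PS l k → C.G.PS l' (C.G.w i k) := by
    intro k hk
    show D.IsPosRoot (C.G.pw (l ++ [i]) (C.G.w i k)).val
    rw [C.G.pw_append, C.G.pw_single, Equiv.Perm.mul_apply, C.G.sP_apply, C.G.w_w]
    exact hk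
  have hmem : ∀ (k : Fin D.nroots), C.G.Off i k → C.G.PS l k → ∀ u : K, C.G.xc k u ∈ M := by
    intro k hk hk' u
    obtain ⟨q, hq⟩ := C.nc_off hk ht
    show C.G.nc i t * C.G.xc k u * (C.G.nc i t)⁻¹ ∈ C.G.cgen (K := K) (C.G.PS l')
    rw [hq]
    exact C.G.xc_mem_cgen (hw hk') _
  have hterm : ∀ e ∈ D.commTerms a.val b.val, e.1 ≠ p.val → ∀ u : K, D.scGen K e.1 u ∈ M := by
    intro e he hep u
    obtain ⟨hx, hy, hk, er⟩ := C.commTerms_weight he
    have hPS := hcomb hx hy er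
    rcases C.G.off_or i ⟨e.1, hk⟩ with h | h | h
    · exact hmem _ h hPS u
    · exact absurd (congrArg Fin.val h) hep
    · exfalso
      obtain ⟨hx', hy', hk', er'⟩ := C.commTerms_weight
        (show (p.val, c, m, n) ∈ D.commTerms a.val b.val by rw [hl]; simp)
      have hp : C.G.PS l p := hcomb hx' hy' er'
      rw [h, Good.PS, C.G.pw_negr, C.G.negr_pos_iff] at hPS
      exact hPS hp
  have hpv : ∀ u w : K, C.G.xc p ((c : K) * ((-u) ^ m * w ^ n)) ∈ M := by
    intro u w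
    have e := C.comm_xc a b hba hban u w
    have hprod : ((D.commTerms a.val b.val).map fun e =>
        D.scGen K e.1 ((e.2.1 : K) * ((-u) ^ e.2.2.1 * w ^ e.2.2.2))).prod ∈ M := by
      rw [← inv_mul_eq_iff_eq_mul] at e
      rw [← e]
      exact mul_mem (inv_mem (hmem b hob hlb w))
        (mul_mem (mul_mem (inv_mem (hmem a hoa hla u)) (hmem b hob hlb w)) (hmem a hoa hla u))
    have hin : ∀ L : List (ℕ × ℤ × ℕ × ℕ), (∀ e ∈ L, e ∈ pre ++ post) →
        (L.map fun e => D.scGen K e.1 ((e.2.1 : K) * ((-u) ^ e.2.2.1 * w ^ e.2.2.2))).prod ∈ M := by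
      intro L hL
      refine list_prod_mem fun x hx => ?_
      obtain ⟨e, he, rfl⟩ := List.mem_map.1 hx
      have h' := hL e he
      refine hterm e ?_ (hne e h') _
      rw [hl]
      rcases List.mem_append.1 h' with h'' | h''
      · exact List.mem_append.2 (Or.inl h'')
      · exact List.mem_append.2 (Or.inr (List.mem_cons_of_mem _ h''))
    rw [hl, List.map_append, List.map_cons, List.prod_append, List.prod_cons] at hprod
    have h1 := hin pre fun e he => List.mem_append.2 (Or.inl he)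
    have h2 := hin post fun e he => List.mem_append.2 (Or.inr he)
    have := mul_mem (mul_mem (inv_mem h1) hprod) (inv_mem h2)
    rw [inv_mul_cancel_left, mul_inv_cancel_right] at this
    exact this
  have hv : C.G.xc p v ∈ M := by
    have hc2 : (c : K) * (c : K) = 1 := by rcases hc with rfl | rfl <;> norm_num
    rcases hmn with rfl | rfl
    · have := hpv (-((c : K) * v)) 1
      rwa [neg_neg, pow_one, one_pow, mul_one, ← mul_assoc, hc2, one_mul] at this
    · have := hpv (-1) ((c : K) * v)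
      rwa [neg_neg, pow_one, one_pow, one_mul, ← mul_assoc, hc2, one_mul] at this
  refine C.inj l' hv (C.G.xc_mem_cgen ?_ _) ?_
  · obtain ⟨hx', hy', hk', er'⟩ := C.commTerms_weight
      (show (p.val, c, m, n) ∈ D.commTerms a.val b.val by rw [hl]; simp)
    rw [← C.G.w_simp]
    exact hw (hcomb hx' hy' er')
  · show C.theta (C.G.nc i t * C.G.xc p v * (C.G.nc i t)⁻¹) = _
    rw [map_mul, map_mul, map_inv, C.theta_nc, C.theta_xc, C.theta_xc, C.G.nE_xu _ _ _ ht]

/-- the rank one family in the cover -/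
noncomputable def ncFam {i : Fin D.rank} (hi : C.HasPair i) :
    CfsgLib.Lie.SL2Rel.Fam K (D.SteinbergCover K) where
  x := C.G.xc (C.G.simp' i)
  y := C.G.xc (C.G.negr (C.G.simp' i))
  x_add := C.G.xc_add _
  y_add := C.G.xc_add _
  rel := fun _ u ht => C.nc_simp hi ht u

theorem nc_cperm (hP : ∀ i, C.HasPair i) (i : Fin D.rank) {t : K} (ht : t ≠ 0) :
    C.G.CPerm (C.G.nc i t) [i] := by
  intro s
  rw [C.G.pw_single, C.G.sP_apply]
  rcases C.G.off_or i s with h | h | h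
  · exact C.nc_off h ht
  · subst h
    rw [C.G.w_simp]
    refine ⟨-(Units.mk0 t ht)⁻¹ ^ 2, fun u => ?_⟩
    rw [C.nc_simp (hP i) ht]
    simp [neg_mul]
  · subst h
    rw [C.G.w_negr, C.G.w_simp, C.G.negr_negr]
    refine ⟨-(Units.mk0 t ht) ^ 2, fun u => ?_⟩
    have e := (C.ncFam (K := K) (hP i)).w_y ht u
    rw [mul_inv_eq_iff_eq_mul]
    simp only [Units.val_neg, Units.val_pow_eq_pow_val, Units.val_mk0, neg_mul]
    exact e

theorem Nc_cperm (hP : ∀ i, C.HasPair i) {g : D.SteinbergCover K} (hg : g ∈ C.G.Nc) :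
    ∃ l, C.G.CPerm g l := by
  induction hg using Subgroup.closure_induction with
  | mem x hx =>
    obtain ⟨i, t, ht, rfl⟩ := hx
    exact ⟨[i], C.nc_cperm hP i ht⟩
  | one => exact ⟨[], Good.CPerm.one C.G⟩
  | mul a b _ _ ha hb =>
    obtain ⟨l, hl⟩ := ha
    obtain ⟨l', hl'⟩ := hb
    exact ⟨l ++ l', Good.CPerm.mul C.G hl hl'⟩
  | inv a _ ha =>
    obtain ⟨l, hl⟩ := ha
    exact ⟨l.reverse, Good.CPerm.inv C.G hl⟩

theorem theta_Nc {g : D.SteinbergCover K} (hg : g ∈ C.G.Nc) :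
    C.theta g ∈ D.monomialSubgroup K := by
  have hle : C.G.Nc ≤ (D.monomialSubgroup K).comap (C.theta (K := K)) := by
    rw [Good.Nc, Subgroup.closure_le]
    rintro _ ⟨i, t, ht, rfl⟩
    show C.theta (C.G.nc i t) ∈ D.monomialSubgroup K
    rw [C.theta_nc, show t = ((Units.mk0 t ht : Kˣ) : K) from rfl, C.G.nE_simp]
    exact mul_mem (C.G.H_le_monomial (C.G.hd_mem_H _ _)) (C.G.nU_mem_monomial i)
  exact hle hg

theorem Nc_central (hP : ∀ i, C.HasPair i) {g : D.SteinbergCover K} (hg : g ∈ C.G.Nc)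
    (h1 : C.theta g = 1) : g ∈ Subgroup.center (D.SteinbergCover K) := by
  obtain ⟨l, hl⟩ := C.Nc_cperm hP hg
  have key : ∀ s t, g * C.G.xc s t * g⁻¹ = C.G.xc s t := by
    intro s t
    obtain ⟨a, ha⟩ := hl s
    have e := congrArg C.theta (ha 1)
    rw [map_mul, map_mul, map_inv, h1, one_mul, inv_one, mul_one, C.theta_xc, C.theta_xc, mul_one] at e
    have hs : s = C.G.pw l s := C.G.xu_eq_xu e one_ne_zero
    rw [← hs] at e
    rw [ha, ← hs, ← C.G.xu_injective' s e, one_mul]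
  have hle : (⊤ : Subgroup (D.SteinbergCover K)) ≤ Subgroup.centralizer {g} := by
    rw [← C.G.xc_generate, Subgroup.closure_le]
    rintro _ ⟨s, t, rfl⟩
    rw [SetLike.mem_coe, Subgroup.mem_centralizer_singleton_iff]
    exact (mul_inv_eq_iff_eq_mul.1 (key s t)).symm
  exact Subgroup.mem_center_iff.2 fun x =>
    Subgroup.mem_centralizer_singleton_iff.1 (hle (Subgroup.mem_top x))

/-- `U` in the cover -/
abbrev Uc : Subgroup (D.SteinbergCover K) := C.G.cgen (C.G.PS [])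

theorem Uc_decomp (i : Fin D.rank) {u : D.SteinbergCover K} (hu : u ∈ C.Uc (K := K)) :
    ∃ v ∈ C.G.cgen (C.G.Rad i true), ∃ a : K, u = v * C.G.xc (C.G.simp' i) a := by
  have step : ∀ (s : Fin D.nroots) (b : K), C.G.PS [] s → ∀ y : D.SteinbergCover K,
      (∃ v ∈ C.G.cgen (C.G.Rad i true), ∃ a : K, y = v * C.G.xc (C.G.simp' i) a) →
      ∃ v ∈ C.G.cgen (C.G.Rad i true), ∃ a : K, C.G.xc s b * y = v * C.G.xc (C.G.simp' i) a := by
    rintro s b hs _ ⟨v, hv, a, rfl⟩
    rcases C.G.off_or i s with h | h | h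
    · exact ⟨C.G.xc s b * v, mul_mem (C.G.xc_mem_cgen ⟨h, by simpa [Good.PS, C.G.pw_nil] using hs⟩ b) hv, a,
        (mul_assoc _ _ _).symm⟩
    · subst h
      refine ⟨C.G.xc (C.G.simp' i) b * v * (C.G.xc (C.G.simp' i) b)⁻¹, ?_, b + a, by
        rw [C.G.xc_add]; group⟩
      refine C.conj_cgen (fun k hk => ⟨(C.G.off_ne hk.1).1, (C.G.off_ne hk.1).2,
        fun m x y _ hy e => C.G.rad_comb (Or.inl rfl) hk hy e⟩) b hv
    · subst h
      exact absurd hs (by simpa [Good.PS, C.G.pw_nil] using (C.G.negr_simp_not_pos i))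
  induction hu using Subgroup.closure_induction_left with
  | one => exact ⟨1, one_mem _, 0, by rw [C.G.xc_zero, mul_one]⟩
  | mul_left x hx y _ ihy =>
    obtain ⟨s, b, hs, rfl⟩ := hx
    exact step s b hs y ihy
  | inv_mul_cancel x hx y _ ihy =>
    obtain ⟨s, b, hs, rfl⟩ := hx
    rw [C.G.xc_inv]
    exact step s (-b) hs y ihy

/-- the elements `u n u'` -/
def Cells (g : D.SteinbergCover K) : Prop :=
  ∃ u ∈ C.Uc (K := K), ∃ n ∈ C.G.Nc (K := K), ∃ u' ∈ C.Uc (K := K), g = u * n * u'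

theorem cells_U {x g : D.SteinbergCover K} (hx : x ∈ C.Uc (K := K)) (hg : C.Cells g) :
    C.Cells (x * g) := by
  obtain ⟨u, hu, n, hn, u', hu', rfl⟩ := hg
  exact ⟨x * u, mul_mem hx hu, n, hn, u', hu', by simp only [mul_assoc]⟩

theorem cells_nc (hP : ∀ i, C.HasPair i) (i : Fin D.rank) {t : K} (ht : t ≠ 0)
    {g : D.SteinbergCover K} (hg : C.Cells g) : C.Cells (C.G.nc i t * g) := by
  obtain ⟨u, hu, n, hn, u', hu', rfl⟩ := hg
  obtain ⟨v, hv, a, rfl⟩ := C.Uc_decomp i hu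
  set p := C.G.simp' i
  set w := C.G.nc i t
  have hwN : w ∈ C.G.Nc (K := K) := Subgroup.subset_closure ⟨i, t, ht, rfl⟩
  have hv' : w * v * w⁻¹ ∈ C.Uc (K := K) :=
    C.G.cgen_mono (fun k hk => by simpa [Good.PS, C.G.pw_nil] using hk.2.2 rfl)
      (C.nc_conj_rad i true t hv)
  suffices h : C.Cells (w * C.G.xc p a * n * u') by
    have := C.cells_U hv' h
    simpa [mul_assoc] using this
  obtain ⟨l, hl⟩ := C.Nc_cperm hP hn
  obtain ⟨l₁, hl₁⟩ : ∃ l₁, C.G.CPerm n⁻¹ l₁ := ⟨_, Good.CPerm.inv C.G hl⟩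
  by_cases hpos : D.IsPosRoot (C.G.pw l₁ p).val
  · obtain ⟨c, hc⟩ := hl₁ p
    have e : C.G.xc p a * n = n * C.G.xc (C.G.pw l₁ p) ((c : K) * a) := by
      rw [← hc a]
      group
    refine ⟨1, one_mem _, w * n, mul_mem hwN hn, C.G.xc (C.G.pw l₁ p) ((c : K) * a) * u',
      mul_mem (C.G.xc_mem_cgen (by simpa [Good.PS, C.G.pw_nil] using hpos) _) hu', ?_⟩
    rw [one_mul, mul_assoc w, e]
    simp only [mul_assoc]
  · rcases eq_or_ne a 0 with rfl | ha
    · exact ⟨1, one_mem _, w * n, mul_mem hwN hn, u', hu', by simp [C.G.xc_zero, mul_assoc]⟩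
    · let F := C.ncFam (K := K) (hP i)
      have hneg : D.IsPosRoot (C.G.pw l₁ (C.G.negr p)).val := by
        rwa [C.G.pw_negr, C.G.negr_pos_iff]
      obtain ⟨c, hc⟩ := hl₁ (C.G.negr p)
      have ex : C.G.xc p a = C.G.xc (C.G.negr p) a⁻¹ * C.G.nc i a * C.G.xc (C.G.negr p) a⁻¹ := by
        have e := F.w_eq_y ha
        change C.G.nc i a = C.G.xc (C.G.negr p) (-a⁻¹) * C.G.xc p a * C.G.xc (C.G.negr p) (-a⁻¹) at e
        rw [e, ← C.G.xc_inv]
        group
      have ey : w * C.G.xc (C.G.negr p) a⁻¹ = C.G.xc p (-(t ^ 2 * a⁻¹)) * w := F.w_y ht a⁻¹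
      have en : C.G.xc (C.G.negr p) a⁻¹ * n = n * C.G.xc (C.G.pw l₁ (C.G.negr p)) ((c : K) * a⁻¹) := by
        rw [← hc a⁻¹]
        group
      refine ⟨C.G.xc p (-(t ^ 2 * a⁻¹)), C.G.xc_mem_cgen (C.G.simp_pos i) _,
        w * C.G.nc i a * n, mul_mem (mul_mem hwN (Subgroup.subset_closure ⟨i, a, ha, rfl⟩)) hn,
        C.G.xc (C.G.pw l₁ (C.G.negr p)) ((c : K) * a⁻¹) * u',
        mul_mem (C.G.xc_mem_cgen (by simpa [Good.PS, C.G.pw_nil] using hneg) _) hu', ?_⟩
      calc w * C.G.xc p a * n * u'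
          = w * C.G.xc (C.G.negr p) a⁻¹ * C.G.nc i a * (C.G.xc (C.G.negr p) a⁻¹ * n) * u' := by
            rw [ex]; simp only [mul_assoc]
        _ = _ := by rw [ey, en]; simp only [mul_assoc]

theorem cells_all (hP : ∀ i, C.HasPair i) (g : D.SteinbergCover K) : C.Cells g := by
  have hy : ∀ (i : Fin D.rank) (v : K) (g : D.SteinbergCover K), C.Cells g →
      C.Cells (C.G.xc (C.G.negr (C.G.simp' i)) v * g) := by
    intro i v g hg
    rcases eq_or_ne v 0 with rfl | hv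
    · rwa [C.G.xc_zero, one_mul]
    · have hx : C.G.xc (C.G.simp' i) v⁻¹ ∈ C.Uc (K := K) := C.G.xc_mem_cgen (C.G.simp_pos i) _
      have e : C.G.xc (C.G.negr (C.G.simp' i)) v * g =
          C.G.xc (C.G.simp' i) v⁻¹ * (C.G.nc i (-v⁻¹) * (C.G.xc (C.G.simp' i) v⁻¹ * g)) := by
        rw [Good.nc, ← C.G.xc_inv, inv_neg, neg_neg, inv_inv]
        group
      rw [e]
      exact C.cells_U hx (C.cells_nc hP i (neg_ne_zero.2 (inv_ne_zero hv)) (C.cells_U hx hg))
  let S : Submonoid (D.SteinbergCover K) :=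
    { carrier := {x | ∀ g, C.Cells g → C.Cells (x * g)}
      one_mem' := fun g hg => by rwa [one_mul]
      mul_mem' := fun {a b} ha hb g hg => by rw [mul_assoc]; exact ha _ (hb g hg) }
  have hU : ∀ r, D.IsPosRoot r.val → ∀ v : K, C.G.xc r v ∈ S := fun r hr v g hg =>
    C.cells_U (C.G.xc_mem_cgen (by simpa [Good.PS, C.G.pw_nil] using hr) v) hg
  have hnc : ∀ (i : Fin D.rank) (v : K), v ≠ 0 → C.G.nc i v ∈ S := fun i v hv g hg =>
    C.cells_nc hP i hv hg
  have hall : ∀ r, ∀ v : K, C.G.xc r v ∈ S := by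
    refine C.G.orbit _ (fun i _ v => hU _ (C.G.simp_pos i) v) fun i r hr v => ?_
    obtain ⟨a, ha⟩ := C.nc_cperm hP i (one_ne_zero (α := K)) r
    have e := ha ((a⁻¹ : Kˣ) * v)
    rw [Units.mul_inv_cancel_left, C.G.pw_single, C.G.sP_apply] at e
    rw [← e, C.G.nc_inv]
    exact mul_mem (mul_mem (hnc i 1 one_ne_zero) (hr _)) (hnc i (-1) (neg_ne_zero.2 one_ne_zero))
  have h1 : C.Cells (1 : D.SteinbergCover K) :=
    ⟨1, one_mem _, 1, one_mem _, 1, one_mem _, by simp⟩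
  have hg : g ∈ Subgroup.closure {x : D.SteinbergCover K | ∃ r t, x = C.G.xc r t} := by
    rw [C.G.xc_generate]; trivial
  induction hg using Subgroup.closure_induction_left with
  | one => exact h1
  | mul_left x hx y _ ihy =>
    obtain ⟨r, t, rfl⟩ := hx
    exact hall r t y ihy
  | inv_mul_cancel x hx y _ ihy =>
    obtain ⟨r, t, rfl⟩ := hx
    rw [C.G.xc_inv]
    exact hall r (-t) y ihy

theorem theta_ker_mem (hP : ∀ i, C.HasPair i) {g : D.SteinbergCover K} (hg : g ∈ (C.theta (K := K)).ker) :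
    g ∈ Subgroup.center (D.SteinbergCover K) ∧ g ∈ C.G.Nc := by
  rw [MonoidHom.mem_ker] at hg
  obtain ⟨u, hu, n, hn, u', hu', rfl⟩ := C.cells_all hP g
  have hU : ∀ {x : D.SteinbergCover K}, x ∈ C.Uc (K := K) → C.theta x ∈ D.posUnipotent K := by
    intro x hx
    have hle : C.Uc (K := K) ≤ (D.posUnipotent K).comap (C.theta (K := K)) := by
      simp only [Uc, Good.cgen, Subgroup.closure_le]
      rintro _ ⟨r, t, hr, rfl⟩
      show C.theta (C.G.xc r t) ∈ D.posUnipotent K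
      rw [C.theta_xc]
      exact C.G.xu_mem_U (by simpa [Good.PS, C.G.pw_nil] using hr) t
    exact hle hx
  rw [map_mul, map_mul] at hg
  have e : C.theta n = (C.theta u)⁻¹ * (C.theta u')⁻¹ := by
    calc C.theta n = (C.theta u)⁻¹ * (C.theta u * C.theta n * C.theta u') * (C.theta u')⁻¹ := by group
      _ = _ := by rw [hg, mul_one]
  have hn1 : C.theta n = 1 :=
    Subgroup.mem_bot.1 (C.G.U_inf_N (K := K) ▸ Subgroup.mem_inf.2
      ⟨e ▸ mul_mem (inv_mem (hU hu)) (inv_mem (hU hu')), C.theta_Nc hn⟩)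
  rw [hn1, mul_one] at hg
  have huu : u * u' = 1 := C.inj [] (mul_mem hu hu') (one_mem _) (by rw [map_mul, map_one, hg])
  have hc := C.Nc_central hP hn hn1
  rw [show u * n * u' = n from ?_]
  · exact ⟨hc, hn⟩
  · rw [Subgroup.mem_center_iff.1 hc u, mul_assoc, huu, mul_one]

theorem theta_ker_central (hP : ∀ i, C.HasPair i) :
    (C.theta (K := K)).ker ≤ Subgroup.center (D.SteinbergCover K) :=
  fun _ hg => (C.theta_ker_mem hP hg).1

end Full

end CfsgLib.Lie.Chev
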