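import Cfsg.Agent.Lib.Lie.Chev.CoverPairs

/-!
# Over a finite field the torus relations hold in the Steinberg cover
-/

set_option autoImplicit false

namespace CfsgLib.Lie.Chev

open Cfsg.Lie

variable {D : ChevalleyDatum} {K : Type*} [Field K]

namespace Good

variable (G : Good D)

/-- `n_r(t)` in the cover -/
def ncr (r : Fin D.nroots) (t : K) : D.SteinbergCover K :=
  G.xc r t * G.xc (G.negr r) (-t⁻¹) * G.xc r t

end Good

namespace Full

variable (C : Full D)

theorem nc_one_xc (hP : ∀ i, C.HasPair i) (i : Fin D.rank) (s : Fin D.nroots) (v : K) :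
    C.G.nc i 1 * C.G.xc s v * (C.G.nc i 1)⁻¹ = C.G.xc (C.G.w i s) ((C.G.eta i s : K) * v) := by
  obtain ⟨a, ha⟩ := C.nc_cperm hP i (one_ne_zero (α := K)) s
  rw [C.G.pw_single, C.G.sP_apply] at ha
  have e := congrArg C.theta (ha 1)
  rw [map_mul, map_mul, map_inv, C.theta_nc, C.theta_xc, C.theta_xc, C.G.nE_simp_one, C.G.nU_xu,
    mul_assoc (C.G.xu _ _) (C.G.nU i), mul_inv_cancel, mul_one, mul_one, mul_one] at e
  rw [ha, C.G.xu_injective' _ e]

theorem ncr_xc (hP : ∀ i, C.HasPair i) (r : Fin D.nroots) : ∀ t u : K, t ≠ 0 →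
    C.G.ncr r t * C.G.xc r u * (C.G.ncr r t)⁻¹ = C.G.xc (C.G.negr r) (-(t⁻¹ ^ 2 * u)) := by
  revert r
  refine C.G.orbit _ (fun i _ t u ht => C.nc_simp (hP i) ht u) fun i r hr t u ht => ?_
  have he2 : (C.G.eta i r : K) * (C.G.eta i r : K) = 1 := by
    rcases C.G.eta_unit i r with e | e <;> rw [e] <;> norm_num
  have hne : (C.G.eta i r : K) ≠ 0 := left_ne_zero_of_mul_eq_one he2
  have heta : (C.G.eta i (C.G.negr r) : K) = (C.G.eta i r : K) := by
    have := C.G.eta_negr i r
    rcases C.G.eta_unit i r with a | a <;> rcases C.G.eta_unit i (C.G.negr r) with b | b <;> simp_all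
  set g := C.G.nc (K := K) i 1
  have hconj : ∀ (s : Fin D.nroots) (v : K), g * C.G.xc s ((C.G.eta i s : K) * v) * g⁻¹ =
      C.G.xc (C.G.w i s) v := by
    intro s v
    have hs : (C.G.eta i s : K) * (C.G.eta i s : K) = 1 := by
      rcases C.G.eta_unit i s with e | e <;> rw [e] <;> norm_num
    rw [C.nc_one_xc hP, ← mul_assoc, hs, one_mul]
  have hA : g * C.G.ncr r ((C.G.eta i r : K) * t) * g⁻¹ = C.G.ncr (C.G.w i r) t := by
    have e : (C.G.eta i (C.G.negr r) : K) * -t⁻¹ = -((C.G.eta i r : K) * t)⁻¹ := by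
      rw [heta, mul_inv, inv_eq_of_mul_eq_one_right he2]
      ring
    rw [Good.ncr, Good.ncr, ← e, ← C.G.w_negr, ← hconj r t, ← hconj (C.G.negr r)]
    group
  rw [← hA, ← hconj r u, show ∀ a b : D.SteinbergCover K,
    g * a * g⁻¹ * (g * b * g⁻¹) * (g * a * g⁻¹)⁻¹ = g * (a * b * a⁻¹) * g⁻¹ from fun a b => by group,
    hr _ _ (mul_ne_zero hne ht), C.nc_one_xc hP, C.G.w_negr]
  congr 1
  rw [heta]
  field_simp

/-- the rank one family of a root in the cover -/
noncomputable def rootFam (hP : ∀ i, C.HasPair i) (r : Fin D.nroots) :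
    CfsgLib.Lie.SL2Rel.Fam K (D.SteinbergCover K) where
  x := C.G.xc r
  y := C.G.xc (C.G.negr r)
  x_add := C.G.xc_add r
  y_add := C.G.xc_add _
  rel := fun t u ht => C.ncr_xc hP r t u ht

theorem cover_hRel [Finite K] (hP : ∀ i, C.HasPair i) {r : ℕ} (hr : r < D.nroots) {t u : K}
    (ht : t ≠ 0) (hu : u ≠ 0) :
    PresentedGroup.mk (D.steinbergRelsAB K) (D.stH r t * D.stH r u * (D.stH r (t * u))⁻¹) = 1 := by
  have hH : ∀ v : K, PresentedGroup.mk (D.steinbergRelsAB K) (D.stH r v) =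
      (C.rootFam (K := K) hP ⟨r, hr⟩).h v := by
    intro v
    have hn : ∀ w : K, PresentedGroup.mk (D.steinbergRelsAB K) (D.stWord (D.nWord r w)) =
        (C.rootFam (K := K) hP ⟨r, hr⟩).w w := by
      intro w
      have e1 : C.G.xc (C.G.negr ⟨r, hr⟩) (-w⁻¹) =
          PresentedGroup.mk (D.steinbergRelsAB K) (D.stX (D.neg r) (-w⁻¹)) := by
        rw [C.G.neg_val ⟨r, hr⟩]; rfl
      simp only [ChevalleyDatum.nWord, ChevalleyDatum.stWord, List.map_cons, List.map_nil,
        List.prod_cons, List.prod_nil, mul_one, map_mul]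
      rw [← e1, ← mul_assoc]
      rfl
    rw [ChevalleyDatum.stH, ChevalleyDatum.hWord, ChevalleyDatum.stWord, List.map_append,
      List.prod_append, map_mul]
    exact congrArg₂ (· * ·) (hn v) (hn (-1))
  rw [map_mul, map_mul, map_inv, hH, hH, hH, mul_inv_eq_one]
  exact (C.rootFam (K := K) hP ⟨r, hr⟩).mult_of_finite t u ht hu

theorem exists_cover_equiv [Finite K] (hP : ∀ i, C.HasPair i) :
    ∃ e : D.SteinbergCover K ≃* D.SteinbergGroup K,
      ∀ (r : ℕ) (t : K), e (D.scGen K r t) = D.stGen K r t := by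
  have h1 : ∀ w ∈ D.steinbergRelsAB K,
      FreeGroup.lift (fun p => (PresentedGroup.of p : D.SteinbergGroup K)) w = 1 := by
    intro w hw
    rw [show FreeGroup.lift (fun p => (PresentedGroup.of p : D.SteinbergGroup K)) =
      PresentedGroup.mk (D.steinbergRels K) from FreeGroup.ext_hom _ _ fun p => by simp [PresentedGroup.of]]
    exact PresentedGroup.one_of_mem (Or.inl hw)
  have h2 : ∀ w ∈ D.steinbergRels K,
      FreeGroup.lift (fun p => (PresentedGroup.of p : D.SteinbergCover K)) w = 1 := by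
    intro w hw
    rw [show FreeGroup.lift (fun p => (PresentedGroup.of p : D.SteinbergCover K)) =
      PresentedGroup.mk (D.steinbergRelsAB K) from FreeGroup.ext_hom _ _ fun p => by simp [PresentedGroup.of]]
    rcases hw with hw | ⟨r, t, u, hr, ht, hu, rfl⟩
    · exact PresentedGroup.one_of_mem hw
    · exact C.cover_hRel hP hr ht hu
  let f := PresentedGroup.toGroup h1
  let g := PresentedGroup.toGroup h2
  have hgf : g.comp f = MonoidHom.id _ := PresentedGroup.ext fun p => by simp [f, g]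
  have hfg : f.comp g = MonoidHom.id _ := PresentedGroup.ext fun p => by simp [f, g]
  refine ⟨MonoidHom.toMulEquiv f g hgf hfg, fun r t => ?_⟩
  show f (D.scGen K r t) = _
  by_cases hr : r < D.nroots
  · rw [ChevalleyDatum.scGen, ChevalleyDatum.stGen, ChevalleyDatum.stX, dif_pos hr]
    exact PresentedGroup.toGroup.of h1
  · simp [ChevalleyDatum.scGen, ChevalleyDatum.stGen, ChevalleyDatum.stX, hr]

end Full

end CfsgLib.Lie.Chev
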