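import Cfsg.Agent.Lib.Lie.Chev.PoinCert
import Cfsg.Agent.Lib.Lie.Chev.GoodD4

/-!
The length generating function of the Weyl group of type D4.
-/

set_option autoImplicit false
set_option maxRecDepth 100000
set_option maxHeartbeats 1000000

namespace CfsgLib.Lie.Chev

open Cfsg.Lie

/-- data of step 0 for type D4 -/
def stepD4_0 : Step where
  I := [3]
  J := []
  m := 2
  P := (.node 1 (.leaf 0x170016001500140013001200110010000f000e000d000c000b000a0009000800070006000500040003000200010000) (.leaf 0x170015001600130014001200100011000e000f000d000b000c000a0008000900060007000500030004000100020000))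
  par := (.node 1 (.leaf (0, 0)) (.leaf (3, 0)))
  nx := (.node 1 (.leaf [(1, 0)]) (.leaf [(0, 0)]))
  N := [0, 1]

theorem chkStepD4_0 : chkStep chevD4 fastD4 stepD4_0 = true := by decide +kernel

theorem poinPolyD4_0 (q : ℤ) :
    (stepD4_0.N.map fun a => q ^ a).sum * (q - 1) * (1) = (q ^ 2 - 1) := by
  simp only [stepD4_0, List.map_cons, List.map_nil, List.sum_cons, List.sum_nil]
  ring

theorem poinStepD4_0 (G : Good chevD4) (q : ℤ) :
    Psum G (idxSet chevD4 [3]) q * (q - 1) ^ 1 = (q ^ 2 - 1) := by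
  have h := G.Psum_of_chk (S := stepD4_0) (G.w_eq_wF checksD4) (G.simples_eq' checksD4)
    chkStepD4_0 q
  rw [show stepD4_0.I = [3] from rfl] at h
  rw [← poinPolyD4_0 q, h]

  rw [show idxSet chevD4 stepD4_0.J = ∅ from by decide +kernel, G.Psum_empty]
  ring

/-- data of step 1 for type D4 -/
def stepD4_1 : Step where
  I := [1, 3]
  J := [3]
  m := 3
  P := (.node 1 (.leaf 0x170016001500140013001200110010000f000e000d000c000b000a0009000800070006000500040003000200010000) (.node 2 (.leaf 0x16001700150014001200130011000d000c00090010000f00080007000e000b000a0006000400050003000200000001) (.leaf 0x15001700160013001200140010000d000b00080011000e00090006000f000c000a0007000300050004000100000002)))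
  par := (.node 1 (.leaf (0, 0)) (.node 2 (.leaf (1, 0)) (.leaf (3, 1))))
  nx := (.node 1 (.leaf [(1, 0), (0, 4)]) (.node 2 (.leaf [(0, 0), (2, 0)]) (.leaf [(2, 4), (1, 0)])))
  N := [0, 1, 2]

theorem chkStepD4_1 : chkStep chevD4 fastD4 stepD4_1 = true := by decide +kernel

theorem poinPolyD4_1 (q : ℤ) :
    (stepD4_1.N.map fun a => q ^ a).sum * (q - 1) * ((q ^ 2 - 1)) = (q ^ 2 - 1) * (q ^ 3 - 1) := by
  simp only [stepD4_1, List.map_cons, List.map_nil, List.sum_cons, List.sum_nil]
  ring

theorem poinStepD4_1 (G : Good chevD4) (q : ℤ) :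
    Psum G (idxSet chevD4 [1, 3]) q * (q - 1) ^ 2 = (q ^ 2 - 1) * (q ^ 3 - 1) := by
  have h := G.Psum_of_chk (S := stepD4_1) (G.w_eq_wF checksD4) (G.simples_eq' checksD4)
    chkStepD4_1 q
  rw [show stepD4_1.I = [1, 3] from rfl] at h
  rw [← poinPolyD4_1 q, h]

  rw [← poinStepD4_0 G q, show stepD4_1.J = [3] from rfl]
  ring

/-- data of step 2 for type D4 -/
def stepD4_2 : Step where
  I := [1, 2, 3]
  J := [1, 3]
  m := 4
  P := (.node 2 (.node 1 (.leaf 0x170016001500140013001200110010000f000e000d000c000b000a0009000800070006000500040003000200010000) (.leaf 0x1700140013001600150012000f000e00110010000a000c000b000d0007000600090008000500020001000400030000)) (.node 3 (.leaf 0x1600140012001700150013000c00090011000d0007000f00080010000a0006000e000b000400020000000500030001) (.leaf 0x1500130012001700160014000b00080010000d0006000e00090011000a0007000f000c000300010000000500040002)))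
  par := (.node 2 (.node 1 (.leaf (0, 0)) (.leaf (2, 0))) (.node 3 (.leaf (1, 1)) (.leaf (3, 2))))
  nx := (.node 2 (.node 1 (.leaf [(0, 2), (1, 0), (0, 4)]) (.leaf [(2, 0), (0, 0), (1, 4)])) (.node 3 (.leaf [(1, 0), (2, 2), (3, 0)]) (.leaf [(3, 4), (3, 2), (2, 0)])))
  N := [0, 1, 2, 3]

theorem chkStepD4_2 : chkStep chevD4 fastD4 stepD4_2 = true := by decide +kernel

theorem poinPolyD4_2 (q : ℤ) :
    (stepD4_2.N.map fun a => q ^ a).sum * (q - 1) * ((q ^ 2 - 1) * (q ^ 3 - 1)) = (q ^ 2 - 1) * (q ^ 3 - 1) * (q ^ 4 - 1) := by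
  simp only [stepD4_2, List.map_cons, List.map_nil, List.sum_cons, List.sum_nil]
  ring

theorem poinStepD4_2 (G : Good chevD4) (q : ℤ) :
    Psum G (idxSet chevD4 [1, 2, 3]) q * (q - 1) ^ 3 = (q ^ 2 - 1) * (q ^ 3 - 1) * (q ^ 4 - 1) := by
  have h := G.Psum_of_chk (S := stepD4_2) (G.w_eq_wF checksD4) (G.simples_eq' checksD4)
    chkStepD4_2 q
  rw [show stepD4_2.I = [1, 2, 3] from rfl] at h
  rw [← poinPolyD4_2 q, h]

  rw [← poinStepD4_1 G q, show stepD4_2.J = [1, 3] from rfl]
  ring

/-- data of step 3 for type D4 -/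
def stepD4_3 : Step where
  I := [0, 1, 2, 3]
  J := [1, 2, 3]
  m := 8
  P := (.node 4 (.node 2 (.node 1 (.leaf 0x170016001500140013001200110010000f000e000d000c000b000a0009000800070006000500040003000200010000) (.leaf 0x1700110010000f000e00050016001500140013000d000c000b000a0004000300020001001200090008000700060000)) (.node 3 (.leaf 0x160011000d000c0009000400170015001400120010000f0008000700050003000200000013000e000b000a00060001) (.leaf 0x14000f000a000c000700020017001300160012000e001100060009000500010004000000150010000b000d00080003))) (.node 6 (.node 5 (.leaf 0x150010000d000b0008000300170016001300120011000e0009000600050004000100000014000f000c000a00070002) (.leaf 0x13000e000a000b000600010017001400150012000f001000070008000500020003000000160011000c000d00090004)) (.node 7 (.leaf 0x12000900070008000600000016001400150013000c000d000a000b000400020003000100170011000f0010000e0005) (.leaf 0x5000400020003000100000011000f0010000e000c000d000a000b0009000700080006001700160014001500130012))))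
  par := (.node 4 (.node 2 (.node 1 (.leaf (0, 0)) (.leaf (0, 0))) (.node 3 (.leaf (1, 1)) (.leaf (2, 2)))) (.node 6 (.node 5 (.leaf (3, 2)) (.leaf (3, 3))) (.node 7 (.leaf (1, 5)) (.leaf (0, 6)))))
  nx := (.node 4 (.node 2 (.node 1 (.leaf [(1, 0), (0, 2), (0, 3), (0, 4)]) (.leaf [(0, 0), (2, 0), (1, 3), (1, 4)])) (.node 3 (.leaf [(2, 2), (1, 0), (3, 0), (4, 0)]) (.leaf [(3, 2), (3, 3), (2, 0), (5, 0)]))) (.node 6 (.node 5 (.leaf [(4, 2), (4, 4), (5, 0), (2, 0)]) (.leaf [(5, 2), (6, 0), (4, 0), (3, 0)])) (.node 7 (.leaf [(7, 0), (5, 0), (6, 4), (6, 3)]) (.leaf [(6, 0), (7, 2), (7, 4), (7, 3)]))))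
  N := [0, 1, 2, 3, 3, 4, 5, 6]

theorem chkStepD4_3 : chkStep chevD4 fastD4 stepD4_3 = true := by decide +kernel

theorem poinPolyD4_3 (q : ℤ) :
    (stepD4_3.N.map fun a => q ^ a).sum * (q - 1) * ((q ^ 2 - 1) * (q ^ 3 - 1) * (q ^ 4 - 1)) = (q ^ 2 - 1) * (q ^ 4 - 1) * (q ^ 4 - 1) * (q ^ 6 - 1) := by
  simp only [stepD4_3, List.map_cons, List.map_nil, List.sum_cons, List.sum_nil]
  ring

theorem poinStepD4_3 (G : Good chevD4) (q : ℤ) :
    Psum G (idxSet chevD4 [0, 1, 2, 3]) q * (q - 1) ^ 4 = (q ^ 2 - 1) * (q ^ 4 - 1) * (q ^ 4 - 1) * (q ^ 6 - 1) := by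
  have h := G.Psum_of_chk (S := stepD4_3) (G.w_eq_wF checksD4) (G.simples_eq' checksD4)
    chkStepD4_3 q
  rw [show stepD4_3.I = [0, 1, 2, 3] from rfl] at h
  rw [← poinPolyD4_3 q, h]

  rw [← poinStepD4_2 G q, show stepD4_3.J = [1, 2, 3] from rfl]
  ring

/-- the factorised length generating function of type D4 -/
theorem poinD4 (G : Good chevD4) (q : ℤ) :
    Psum G Finset.univ q * (q - 1) ^ 4 = (q ^ 2 - 1) * (q ^ 4 - 1) * (q ^ 4 - 1) * (q ^ 6 - 1) := by
  rw [← poinStepD4_3 G q, show idxSet chevD4 [0, 1, 2, 3] = Finset.univ from by decide +kernel]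

end CfsgLib.Lie.Chev
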