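import Cfsg.Agent.Lib.Lie.Chev.CoxCert
import Cfsg.Agent.Lib.Lie.Chev.PoinD4

/-!
The Coxeter group of type D4 and its action on the roots.
-/

set_option autoImplicit false
set_option maxRecDepth 100000
set_option maxHeartbeats 1000000

namespace CfsgLib.Lie.Chev

open Cfsg.Lie

theorem rankD4 : 4 = chevD4.rank := by decide +kernel

theorem coxMatD4 : ∀ i j : Fin 4, chkOrd chevD4 fastD4 [i.val, j.val] (Cfsg.Lie.coxeterD4 i j) = true := by decide +kernel

theorem cardWJD4 (G : Good chevD4) : Psum G Finset.univ (1 : ℕ) = 192 := by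
  have h3 := G.Psum_of_chk (S := stepD4_3) (G.w_eq_wF checksD4) (G.simples_eq' checksD4)
    chkStepD4_3 (1 : ℕ)
  rw [show stepD4_3.I = [0, 1, 2, 3] from rfl, show stepD4_3.J = [1, 2, 3] from rfl,
    show (stepD4_3.N.map fun a => (1 : ℕ) ^ a).sum = 8 by simp [stepD4_3]] at h3
  have h2 := G.Psum_of_chk (S := stepD4_2) (G.w_eq_wF checksD4) (G.simples_eq' checksD4)
    chkStepD4_2 (1 : ℕ)
  rw [show stepD4_2.I = [1, 2, 3] from rfl, show stepD4_2.J = [1, 3] from rfl,
    show (stepD4_2.N.map fun a => (1 : ℕ) ^ a).sum = 4 by simp [stepD4_2]] at h2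
  have h1 := G.Psum_of_chk (S := stepD4_1) (G.w_eq_wF checksD4) (G.simples_eq' checksD4)
    chkStepD4_1 (1 : ℕ)
  rw [show stepD4_1.I = [1, 3] from rfl, show stepD4_1.J = [3] from rfl,
    show (stepD4_1.N.map fun a => (1 : ℕ) ^ a).sum = 3 by simp [stepD4_1]] at h1
  have h0 := G.Psum_of_chk (S := stepD4_0) (G.w_eq_wF checksD4) (G.simples_eq' checksD4)
    chkStepD4_0 (1 : ℕ)
  rw [show stepD4_0.I = [3] from rfl, show stepD4_0.J = [] from rfl,
    show (stepD4_0.N.map fun a => (1 : ℕ) ^ a).sum = 2 by simp [stepD4_0]] at h0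
  rw [show (Finset.univ : Finset (Fin chevD4.rank)) = idxSet chevD4 [0, 1, 2, 3] from by decide +kernel, h3, h2, h1, h0]
  rw [show idxSet chevD4 [] = ∅ from by decide +kernel, G.Psum_empty]
  all_goals norm_num

theorem cardWgD4 (G : Good chevD4) : Nat.card G.Wg = 192 := by
  classical
  rw [← cardWJD4 G, Nat.card_eq_fintype_card, Psum]
  simp [G.WJ_univ, Fintype.card_subtype]

theorem exists_equivD4 (G : Good chevD4) : ∃ ψ : (Cfsg.Lie.coxeterD4).Group ≃* G.Wg, ∀ i : Fin 4,
    (ψ ((Cfsg.Lie.coxeterD4).simple i) : Equiv.Perm (Fin chevD4.nroots)) = G.sP (Fin.cast rankD4 i) :=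
  G.exists_coxeter_equiv checksD4 Cfsg.Lie.coxeterD4 rankD4 coxMatD4

theorem orderCoxD4 (G : Good chevD4) : orderOf (G.pw (List.finRange chevD4.rank)) = 6 :=
  G.orderOf_pw checksD4 _ (by decide +kernel)

theorem flipD4 : chkFlip chevD4 fastD4 = true := by decide +kernel

theorem coxHalfD4 : (allLt chevD4.nroots fun r =>
    Nat.beq (iterF fastD4 ((List.finRange chevD4.rank).map Fin.val) 3 r) (fastD4.negs.get r)) = true := by
  decide +kernel

theorem negPowD4 (G : Good chevD4) : ∀ r, (G.pw (List.finRange chevD4.rank) ^ 3) r = G.negr r := by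
  intro r
  refine Fin.ext ?_
  rw [G.iter_val checksD4, Nat.eq_of_beq_eq_true (allLt_spec coxHalfD4 r.val r.isLt),
    (rowsOK checksD4.rows).negs r.val r.isLt]
  exact (G.negr_val r).symm

/-- straight line programme -/
def slpPD4 : Tree ℕ := (.node 3 (.node 1 (.leaf 0x1700110010000f000e00050016001500140013000d000c000b000a0004000300020001001200090008000700060000) (.node 2 (.leaf 0x1700140013001600150012000f000e00110010000a000c000b000d0007000600090008000500020001000400030000) (.leaf 0x16001700150014001200130011000d000c00090010000f00080007000e000b000a0006000400050003000200000001))) (.node 4 (.leaf 0xf000c00020014000a0007001100050017000e000400160001001300090000001200060010000d00030015000b0008) (.node 5 (.leaf 0xe0001000b000a0013000600050010000f00170003000200150014000000080007001200110004000d000c00160009) (.leaf 0x170015001600130014001200100011000e000f000d000b000c000a0008000900060007000500030004000100020000))))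

/-- its operations -/
def slpOpD4 : Tree (Bool × ℕ × ℕ) := (.node 3 (.node 1 (.leaf (false, 0, 0)) (.node 2 (.leaf (false, 0, 0)) (.leaf (true, 0, 0)))) (.node 4 (.leaf (true, 1, 1)) (.node 5 (.leaf (true, 2, 2)) (.leaf (false, 4, 3)))))

theorem genD4 (G : Good chevD4) (H : Subgroup (Equiv.Perm (Fin chevD4.nroots)))
    (hc : G.pw (List.finRange chevD4.rank) ∈ H)
    (h0 : G.sP ⟨0, by decide +kernel⟩ ∈ H)
    (h1 : G.sP ⟨2, by decide +kernel⟩ ∈ H) : G.Wg ≤ H := by
  have hb : ([(0, 0), (1, 2)] : List (ℕ × ℕ)).all (fun p =>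
      allLt chevD4.nroots fun r => Nat.beq (wF fastD4 p.2 r) (digit (slpPD4.get p.1) r)) = true := by decide +kernel
  rw [List.all_eq_true] at hb
  have hstep : (allLt 6 fun k => cond (Nat.blt k 2) true (chkGenStep chevD4 fastD4
      ((List.finRange chevD4.rank).map Fin.val) slpPD4 slpOpD4 k)) = true := by decide +kernel
  have hsimp : ∀ i : Fin chevD4.rank, ([0, 2, 1, 5].getD i.val 0 < 6 ∧
      allLt chevD4.nroots (fun r => Nat.beq (wF fastD4 i.val r) (digit (slpPD4.get ([0, 2, 1, 5].getD i.val 0)) r)) = true) := by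
    decide +kernel
  have key := G.sP_mem_of_slp checksD4 H hc 6 2 slpPD4 slpOpD4 (fun k hk => ?_) hstep
  · refine (Subgroup.closure_le _).2 ?_
    rintro x ⟨i, rfl⟩
    obtain ⟨π, hπ, hπr⟩ := key _ (hsimp i).1
    suffices e : G.sP i = π by rw [e]; exact hπ
    refine Equiv.ext fun r => Fin.ext ?_
    rw [hπr, Good.sP_apply, G.w_eq_wF checksD4]
    exact Nat.eq_of_beq_eq_true (allLt_spec (hsimp i).2 r.val r.isLt)
  · interval_cases k
    · refine ⟨_, h0, fun r => ?_⟩
      rw [Good.sP_apply, G.w_eq_wF checksD4]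
      exact Nat.eq_of_beq_eq_true (allLt_spec (hb (0, 0) (by simp)) r.val r.isLt)
    · refine ⟨_, h1, fun r => ?_⟩
      rw [Good.sP_apply, G.w_eq_wF checksD4]
      exact Nat.eq_of_beq_eq_true (allLt_spec (hb (1, 2) (by simp)) r.val r.isLt)

end CfsgLib.Lie.Chev
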