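import Cfsg.Agent.Lib.Lie.Chev.CoxCert
import Cfsg.Agent.Lib.Lie.Chev.PoinE6

/-!
The Coxeter group of type E6 and its action on the roots.
-/

set_option autoImplicit false
set_option maxRecDepth 100000
set_option maxHeartbeats 1000000

namespace CfsgLib.Lie.Chev

open Cfsg.Lie

theorem rankE6 : 6 = chevE6.rank := by decide +kernel

theorem coxMatE6 : ∀ i j : Fin 6, chkOrd chevE6 fastE6 [i.val, j.val] (CoxeterMatrix.E₆ i j) = true := by decide +kernel

theorem cardWJE6 (G : Good chevE6) : Psum G Finset.univ (1 : ℕ) = 51840 := by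
  have h5 := G.Psum_of_chk (S := stepE6_5) (G.w_eq_wF checksE6) (G.simples_eq' checksE6)
    chkStepE6_5 (1 : ℕ)
  rw [show stepE6_5.I = [0, 1, 2, 3, 4, 5] from rfl, show stepE6_5.J = [1, 2, 3, 4, 5] from rfl,
    show (stepE6_5.N.map fun a => (1 : ℕ) ^ a).sum = 27 by simp [stepE6_5]] at h5
  have h4 := G.Psum_of_chk (S := stepE6_4) (G.w_eq_wF checksE6) (G.simples_eq' checksE6)
    chkStepE6_4 (1 : ℕ)
  rw [show stepE6_4.I = [1, 2, 3, 4, 5] from rfl, show stepE6_4.J = [1, 2, 3, 4] from rfl,
    show (stepE6_4.N.map fun a => (1 : ℕ) ^ a).sum = 10 by simp [stepE6_4]] at h4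
  have h3 := G.Psum_of_chk (S := stepE6_3) (G.w_eq_wF checksE6) (G.simples_eq' checksE6)
    chkStepE6_3 (1 : ℕ)
  rw [show stepE6_3.I = [1, 2, 3, 4] from rfl, show stepE6_3.J = [2, 3, 4] from rfl,
    show (stepE6_3.N.map fun a => (1 : ℕ) ^ a).sum = 8 by simp [stepE6_3]] at h3
  have h2 := G.Psum_of_chk (S := stepE6_2) (G.w_eq_wF checksE6) (G.simples_eq' checksE6)
    chkStepE6_2 (1 : ℕ)
  rw [show stepE6_2.I = [2, 3, 4] from rfl, show stepE6_2.J = [3, 4] from rfl,
    show (stepE6_2.N.map fun a => (1 : ℕ) ^ a).sum = 4 by simp [stepE6_2]] at h2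
  have h1 := G.Psum_of_chk (S := stepE6_1) (G.w_eq_wF checksE6) (G.simples_eq' checksE6)
    chkStepE6_1 (1 : ℕ)
  rw [show stepE6_1.I = [3, 4] from rfl, show stepE6_1.J = [4] from rfl,
    show (stepE6_1.N.map fun a => (1 : ℕ) ^ a).sum = 3 by simp [stepE6_1]] at h1
  have h0 := G.Psum_of_chk (S := stepE6_0) (G.w_eq_wF checksE6) (G.simples_eq' checksE6)
    chkStepE6_0 (1 : ℕ)
  rw [show stepE6_0.I = [4] from rfl, show stepE6_0.J = [] from rfl,
    show (stepE6_0.N.map fun a => (1 : ℕ) ^ a).sum = 2 by simp [stepE6_0]] at h0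
  rw [show (Finset.univ : Finset (Fin chevE6.rank)) = idxSet chevE6 [0, 1, 2, 3, 4, 5] from by decide +kernel, h5, h4, h3, h2, h1, h0]
  rw [show idxSet chevE6 [] = ∅ from by decide +kernel, G.Psum_empty]
  all_goals norm_num

theorem cardWgE6 (G : Good chevE6) : Nat.card G.Wg = 51840 := by
  classical
  rw [← cardWJE6 G, Nat.card_eq_fintype_card, Psum]
  simp [G.WJ_univ, Fintype.card_subtype]

theorem exists_equivE6 (G : Good chevE6) : ∃ ψ : (CoxeterMatrix.E₆).Group ≃* G.Wg, ∀ i : Fin 6,
    (ψ ((CoxeterMatrix.E₆).simple i) : Equiv.Perm (Fin chevE6.nroots)) = G.sP (Fin.cast rankE6 i) :=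
  G.exists_coxeter_equiv checksE6 CoxeterMatrix.E₆ rankE6 coxMatE6

theorem orderCoxE6 (G : Good chevE6) : orderOf (G.pw (List.finRange chevE6.rank)) = 12 :=
  G.orderOf_pw checksE6 _ (by decide +kernel)

theorem flipE6 : chkFlip chevE6 fastE6 = true := by decide +kernel

theorem notNegE6 (G : Good chevE6) (l : List (Fin chevE6.rank)) : ¬ ∀ r, G.pw l r = G.negr r := by
  intro h
  let w0 : List (Fin chevE6.rank) := [⟨0, by decide +kernel⟩, ⟨1, by decide +kernel⟩, ⟨2, by decide +kernel⟩, ⟨0, by decide +kernel⟩, ⟨3, by decide +kernel⟩, ⟨1, by decide +kernel⟩, ⟨2, by decide +kernel⟩, ⟨0, by decide +kernel⟩, ⟨3, by decide +kernel⟩, ⟨2, by decide +kernel⟩, ⟨4, by decide +kernel⟩, ⟨3, by decide +kernel⟩, ⟨1, by decide +kernel⟩, ⟨2, by decide +kernel⟩, ⟨0, by decide +kernel⟩, ⟨3, by decide +kernel⟩, ⟨2, by decide +kernel⟩, ⟨4, by decide +kernel⟩, ⟨3, by decide +kernel⟩, ⟨1, by decide +kernel⟩, ⟨5, by decide +kernel⟩, ⟨4, by decide +kernel⟩, ⟨3, by decide +kernel⟩, ⟨1, by decide +kernel⟩, ⟨2, by decide +kernel⟩, ⟨0, by decide +kernel⟩,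 ⟨3, by decide +kernel⟩, ⟨2, by decide +kernel⟩, ⟨4, by decide +kernel⟩, ⟨3, by decide +kernel⟩, ⟨1, by decide +kernel⟩, ⟨5, by decide +kernel⟩, ⟨4, by decide +kernel⟩, ⟨3, by decide +kernel⟩, ⟨2, by decide +kernel⟩, ⟨0, by decide +kernel⟩]
  have hw : allLt chevE6.nroots (fun r => cond (Nat.ble (chevE6.nroots / 2) r)
      (Nat.blt (wordF fastE6 (w0.map Fin.val) r) (chevE6.nroots / 2)) true) = true := by decide +kernel
  have hne : (allLt chevE6.nroots fun r => Nat.beq (wordF fastE6 (w0.map Fin.val) r) (fastE6.negs.get r)) = false := by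
    decide +kernel
  have e : G.pw (w0.reverse ++ l) = 1 := by
    refine G.pw_eq_one_of_pos _ _ rfl fun j => ?_
    rw [G.pw_append, Equiv.Perm.mul_apply, h, G.pw_negr, G.negr_pos_iff, G.pw_reverse]
    intro hp
    have h1 := allLt_spec hw ((G.pw w0)⁻¹ (G.simp' j)).val ((G.pw w0)⁻¹ (G.simp' j)).isLt
    rw [show Nat.ble (chevE6.nroots / 2) ((G.pw w0)⁻¹ (G.simp' j)).val = true from
        (Nat.ble_eq).symm ▸ ((G.pos_iff_half _).1 hp), cond_true, ← G.pw_val checksE6,
      ← Equiv.Perm.mul_apply (G.pw w0) (G.pw w0)⁻¹, mul_inv_cancel, Equiv.Perm.one_apply, Nat.blt_eq] at h1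
    exact absurd ((G.pos_iff_half _).1 (G.simp_pos j)) (not_le.2 h1)
  rw [G.pw_append, G.pw_reverse, inv_mul_eq_one] at e
  rw [allLt_eq_true (fun r hr => natBeq_true ?_)] at hne
  · exact Bool.noConfusion hne
  · rw [(rowsOK checksE6.rows).negs r hr, ← G.pw_val checksE6 w0 ⟨r, hr⟩, e, h]
    exact G.negr_val ⟨r, hr⟩

/-- straight line programme -/
def slpPE6 : Tree ℕ := (.node 4 (.node 2 (.node 1 (.leaf 0x470046004500440043003700360035003400330032002d002c002b002a000f004200410040003f003e003d00310030002f002e003c003b003a00390029002800270026002500240023002200210020001f001e000e000d000c000b0019001800170016000a000900080007000600050038001d001c001b001a00150014001300120011001000040003000200010000) (.leaf 0x470046004200410040004500440043003f003e003d003c003b003a0038003900370036003500310030002f003400330032002e002900280027001d002d002c002b002600250024002300220021001c001b001a002a0020001f001e0019001500140013001800170016001200110010000e000f000d000c000b000a0009000800040003000200070006000500010000)) (.node 3 (.leaf 0x4500460047004400430042003c003b003f003e003900410040003a003d00380037002d002c00340033002a002600250018002000360035002b0032002900280019003100300024002300170016002e001f001e0015001c001200110027002f00220021001d00140013001b001a0010000f000a000d00070006000e00090008000c000b000500040003000000010002)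 (.leaf 0x47003600340044003200310041002f003f002e003d0024000c0022001f001b003700460035004500330043004200300040003e002d000f002b002a0029000e00270026000d003c000b003a002100200039001e001d001c0038001a0009000700170005000400140002001200010010002c00280025003b0023000a0019000800180006001600150003001300110000))) (.node 6 (.node 5 (.leaf 0x400046003b003a00430042004100470038003e003d003c004500440039003f002800270035001300230021001d0030002f001a0019002c002b001600290037003600150025001400330022003200110010001e0031001c001b002e002d00180017002a00260024003400120020001f0008000e00030002000b000a0009000f0000000600050004000d000c00010007) (.leaf 0x4700450046004400430042003f003e00410040003d003c003b0039003a003800370034003300360035003200310030002e002f002d002c002a002b0026002500200029002800240023001f001e002700220021001c001d001b001a0018001900170016001500120011001400130010000f000d000e000c000b000a0007000600090008000500040003000100020000)) (.node 7 (.leaf 0x470046004400450043004100420040003f003d003e003c003a003b003900380036003700350034003200330031002f0030002e002d002b002c002a002900270028002400220026002100250023001f0020001e001d001b001c001a0019001700180016001400150013001200100011000f000e000c000d000b0009000a000800070005000600040002000300010000)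 (.node 8 (.leaf 0x460047004500440043004200410040003c003b003a003f003e003d00390038003700360035002d002c002b0029002800270019003400330032002a00310030002f002600250024002300220021001800170016001d001500140013002e0020001f001e001c001b001a001200110010000f000e000a00090008000d000c000b00070006000500040003000200000001) (.leaf 0x470046004500430044004200400041003e003f003d003b003c003a0039003800370035003600330034003200300031002f002e002c002d002b002a0028002900270025002600230024002100220020001e001f001d001c001a001b0019001800160017001500130014001100120010000f000e000d000b000c000a0008000900060007000500030004000200010000)))))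

/-- its operations -/
def slpOpE6 : Tree (Bool × ℕ × ℕ) := (.node 4 (.node 2 (.node 1 (.leaf (false, 0, 0)) (.leaf (true, 0, 0))) (.node 3 (.leaf (true, 1, 1)) (.leaf (true, 2, 2)))) (.node 6 (.node 5 (.leaf (true, 3, 3)) (.leaf (true, 4, 4))) (.node 7 (.leaf (true, 5, 5)) (.node 8 (.leaf (false, 5, 2)) (.leaf (true, 6, 6))))))

theorem genE6 (G : Good chevE6) (H : Subgroup (Equiv.Perm (Fin chevE6.nroots)))
    (hc : G.pw (List.finRange chevE6.rank) ∈ H)
    (h0 : G.sP ⟨0, by decide +kernel⟩ ∈ H) : G.Wg ≤ H := by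
  have hb : ([(0, 0)] : List (ℕ × ℕ)).all (fun p =>
      allLt chevE6.nroots fun r => Nat.beq (wF fastE6 p.2 r) (digit (slpPE6.get p.1) r)) = true := by decide +kernel
  rw [List.all_eq_true] at hb
  have hstep : (allLt 9 fun k => cond (Nat.blt k 1) true (chkGenStep chevE6 fastE6
      ((List.finRange chevE6.rank).map Fin.val) slpPE6 slpOpE6 k)) = true := by decide +kernel
  have hsimp : ∀ i : Fin chevE6.rank, ([0, 7, 1, 5, 6, 8].getD i.val 0 < 9 ∧
      allLt chevE6.nroots (fun r => Nat.beq (wF fastE6 i.val r) (digit (slpPE6.get ([0, 7, 1, 5, 6, 8].getD i.val 0)) r)) = true) := by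
    decide +kernel
  have key := G.sP_mem_of_slp checksE6 H hc 9 1 slpPE6 slpOpE6 (fun k hk => ?_) hstep
  · refine (Subgroup.closure_le _).2 ?_
    rintro x ⟨i, rfl⟩
    obtain ⟨π, hπ, hπr⟩ := key _ (hsimp i).1
    suffices e : G.sP i = π by rw [e]; exact hπ
    refine Equiv.ext fun r => Fin.ext ?_
    rw [hπr, Good.sP_apply, G.w_eq_wF checksE6]
    exact Nat.eq_of_beq_eq_true (allLt_spec (hsimp i).2 r.val r.isLt)
  · interval_cases k
    · refine ⟨_, h0, fun r => ?_⟩
      rw [Good.sP_apply, G.w_eq_wF checksE6]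
      exact Nat.eq_of_beq_eq_true (allLt_spec (hb (0, 0) (by simp)) r.val r.isLt)

end CfsgLib.Lie.Chev
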