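import Cfsg.Agent.Lib.Lie.Chev.CoxB2
import Cfsg.Agent.Lib.Lie.Chev.CoxG2
import Cfsg.Agent.Lib.Lie.Chev.CoxD4
import Cfsg.Agent.Lib.Lie.Chev.CoxF4
import Cfsg.Agent.Lib.Lie.Chev.CoxE6
import Cfsg.Agent.Lib.Lie.Chev.CoxE7
import Cfsg.Agent.Lib.Lie.Chev.CoxE8

/-!
# Centre and generators of a Weyl group, transferred to the Coxeter group
-/

set_option autoImplicit false

namespace CfsgLib.Lie.Chev

open Cfsg.Lie

namespace Good

variable {D : ChevalleyDatum} {f : Fast} (G : Good D)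

include G

theorem central_two (c : Checks D f) (hflip : chkFlip D f = true)
    (hconn : ∀ J ∈ (Finset.univ : Finset (Fin D.rank)).powerset, J.Nonempty → J ≠ Finset.univ →
      ∃ i ∈ J, ∃ j, j ∉ J ∧ cmat D i j ≠ 0 ∧ cmat D j i ≠ 0)
    {z : G.Wg} (hz : z ∈ Subgroup.center G.Wg) :
    z = 1 ∨ ∀ r, (z : Equiv.Perm (Fin D.nroots)) r = G.negr r := by
  obtain ⟨l, hl⟩ := G.exists_pw z.2
  rcases G.central_eq c hflip hconn (l := l) (fun i => by
    have := congrArg Subtype.val (Subgroup.mem_center_iff.1 hz ⟨G.sP i, Subgroup.subset_closure ⟨i, rfl⟩⟩)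
    rw [hl]; exact this) with h | h
  · exact Or.inl (Subtype.ext (hl.symm.trans h))
  · exact Or.inr fun r => by rw [← hl]; exact h r

theorem coxeter_center (c : Checks D f) (hflip : chkFlip D f = true)
    (hconn : ∀ J ∈ (Finset.univ : Finset (Fin D.rank)).powerset, J.Nonempty → J ≠ Finset.univ →
      ∃ i ∈ J, ∃ j, j ∉ J ∧ cmat D i j ≠ 0 ∧ cmat D j i ≠ 0)
    {n : ℕ} (M : CoxeterMatrix (Fin n)) (hn : n = D.rank) (ψ : M.Group ≃* G.Wg)
    (hψ : ∀ i : Fin n, (ψ (M.simple i) : Equiv.Perm (Fin D.nroots)) = G.sP (Fin.cast hn i))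
    (r0 : Fin D.nroots) (k : ℕ) (hk : ∀ r, (G.pw (List.finRange D.rank) ^ k) r = G.negr r) :
    Nat.card (Subgroup.center M.Group) = 2 ∧
      Subgroup.center M.Group ≤ Subgroup.zpowers ((List.finRange n).map M.simple).prod := by
  classical
  set cx := ((List.finRange n).map M.simple).prod
  have hcx : ∀ r, ((ψ (cx ^ k) : G.Wg) : Equiv.Perm (Fin D.nroots)) r = G.negr r := by
    intro r; rw [map_pow, Subgroup.coe_pow, G.coxeter_prod M hn ψ hψ]; exact hk r
  set w := cx ^ k
  have hw : w ∈ Subgroup.center M.Group := by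
    rw [Subgroup.mem_center_iff]
    intro x
    refine ψ.injective (Subtype.ext (Equiv.ext fun r => ?_))
    obtain ⟨l, hl⟩ := G.exists_pw (ψ x).2
    rw [map_mul, map_mul, Subgroup.coe_mul, Subgroup.coe_mul, Equiv.Perm.mul_apply, Equiv.Perm.mul_apply,
      hcx, hcx, ← hl, G.pw_negr]
  have hne : w ≠ 1 := by
    intro e
    have := hcx r0
    rw [e, map_one] at this
    exact G.negr_ne r0 this.symm
  have hall : ∀ z ∈ Subgroup.center M.Group, z = 1 ∨ z = w := by
    intro z hz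
    have hz' : ψ z ∈ Subgroup.center G.Wg := by
      rw [Subgroup.mem_center_iff] at hz ⊢
      intro y
      rw [← ψ.apply_symm_apply y, ← map_mul, ← map_mul, hz]
    rcases G.central_two c hflip hconn hz' with h | h
    · exact Or.inl (ψ.injective (h.trans (map_one ψ).symm))
    · exact Or.inr (ψ.injective (Subtype.ext (Equiv.ext fun r => (h r).trans (hcx r).symm)))
  refine ⟨?_, fun z hz => ?_⟩
  · rw [Nat.card_eq_two_iff]
    refine ⟨1, ⟨w, hw⟩, fun e => hne (congrArg Subtype.val e).symm, ?_⟩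
    rw [Set.eq_univ_iff_forall]
    rintro ⟨z, hz⟩
    rcases hall z hz with h | h
    · exact Or.inl (Subtype.ext h)
    · exact Or.inr (Set.mem_singleton_iff.2 (Subtype.ext h))
  · rcases hall z hz with rfl | rfl
    · exact one_mem _
    · exact Subgroup.npow_mem_zpowers _ k

theorem coxeter_center_trivial (c : Checks D f) (hflip : chkFlip D f = true)
    (hconn : ∀ J ∈ (Finset.univ : Finset (Fin D.rank)).powerset, J.Nonempty → J ≠ Finset.univ →
      ∃ i ∈ J, ∃ j, j ∉ J ∧ cmat D i j ≠ 0 ∧ cmat D j i ≠ 0)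
    {n : ℕ} (M : CoxeterMatrix (Fin n)) (ψ : M.Group ≃* G.Wg)
    (hno : ∀ l : List (Fin D.rank), ¬ ∀ r, G.pw l r = G.negr r) :
    Nat.card (Subgroup.center M.Group) = 1 ∧
      ∀ H : Subgroup M.Group, Subgroup.center M.Group ≤ H := by
  have e : Subgroup.center M.Group = ⊥ := by
    rw [eq_bot_iff]
    intro z hz
    have hz' : ψ z ∈ Subgroup.center G.Wg := by
      rw [Subgroup.mem_center_iff] at hz ⊢
      intro y
      rw [← ψ.apply_symm_apply y, ← map_mul, ← map_mul, hz]
    rcases G.central_two c hflip hconn hz' with h | h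
    · exact Subgroup.mem_bot.2 (ψ.injective (h.trans (map_one ψ).symm))
    · obtain ⟨l, hl⟩ := G.exists_pw (ψ z).2
      exact absurd (fun r => by rw [hl]; exact h r) (hno l)
  exact ⟨by rw [e, Subgroup.card_bot], fun H => e ▸ bot_le⟩

theorem coxeter_gen {n : ℕ} (M : CoxeterMatrix (Fin n)) (hn : n = D.rank) (ψ : M.Group ≃* G.Wg)
    (hψ : ∀ i : Fin n, (ψ (M.simple i) : Equiv.Perm (Fin D.nroots)) = G.sP (Fin.cast hn i))
    (S : Finset (Fin n))
    (hgen : ∀ H : Subgroup (Equiv.Perm (Fin D.nroots)), G.pw (List.finRange D.rank) ∈ H →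
      (∀ i ∈ S, G.sP (Fin.cast hn i) ∈ H) → G.Wg ≤ H) :
    ∃ T : Finset M.Group, T.card = S.card ∧
      (∀ t ∈ T, ∃ (g : M.Group) (i : Fin n), t = g * M.simple i * g⁻¹) ∧
      Subgroup.closure (({((List.finRange n).map M.simple).prod} : Set M.Group) ∪ ↑T) = ⊤ := by
  classical
  refine ⟨S.image M.simple, Finset.card_image_of_injective _ fun a b e => ?_, ?_, ?_⟩
  · have h := congrArg (fun x => ((ψ x : G.Wg) : Equiv.Perm (Fin D.nroots))) e
    simp only [hψ] at h
    exact Fin.cast_injective hn (G.sP_injective h)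
  · intro t ht
    obtain ⟨i, -, rfl⟩ := Finset.mem_image.1 ht
    exact ⟨1, i, by simp⟩
  · set A := Subgroup.closure (({((List.finRange n).map M.simple).prod} : Set M.Group) ∪ ↑(S.image M.simple))
    rw [eq_top_iff]
    intro x _
    let φ : M.Group →* Equiv.Perm (Fin D.nroots) := G.Wg.subtype.comp ψ.toMonoidHom
    have hφ : Function.Injective φ := fun a b e => ψ.injective (Subtype.ext e)
    have := hgen (A.map φ) ⟨_, Subgroup.subset_closure (Or.inl rfl), G.coxeter_prod M hn ψ hψ⟩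
      (fun i hi => ⟨_, Subgroup.subset_closure (Or.inr (Finset.mem_image_of_mem _ hi)), hψ i⟩) (ψ x).2
    obtain ⟨y, hy, e⟩ := this
    exact hφ e ▸ hy

end Good

end CfsgLib.Lie.Chev
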