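import Cfsg.Agent.Lib.Lie.Chev.CoxCert
import Cfsg.Agent.Lib.Lie.Chev.PoinB2

/-!
The Coxeter group of type B2 and its action on the roots.
-/

set_option autoImplicit false
set_option maxRecDepth 100000
set_option maxHeartbeats 1000000

namespace CfsgLib.Lie.Chev

open Cfsg.Lie

theorem rankB2 : 2 = chevB2.rank := by decide +kernel

theorem coxMatB2 : ∀ i j : Fin 2, chkOrd chevB2 fastB2 [i.val, j.val] ((CoxeterMatrix.B 2) i j) = true := by decide +kernel

theorem cardWJB2 (G : Good chevB2) : Psum G Finset.univ (1 : ℕ) = 8 := by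
  have h1 := G.Psum_of_chk (S := stepB2_1) (G.w_eq_wF checksB2) (G.simples_eq' checksB2)
    chkStepB2_1 (1 : ℕ)
  rw [show stepB2_1.I = [0, 1] from rfl, show stepB2_1.J = [1] from rfl,
    show (stepB2_1.N.map fun a => (1 : ℕ) ^ a).sum = 4 by simp [stepB2_1]] at h1
  have h0 := G.Psum_of_chk (S := stepB2_0) (G.w_eq_wF checksB2) (G.simples_eq' checksB2)
    chkStepB2_0 (1 : ℕ)
  rw [show stepB2_0.I = [1] from rfl, show stepB2_0.J = [] from rfl,
    show (stepB2_0.N.map fun a => (1 : ℕ) ^ a).sum = 2 by simp [stepB2_0]] at h0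
  rw [show (Finset.univ : Finset (Fin chevB2.rank)) = idxSet chevB2 [0, 1] from by decide +kernel, h1, h0]
  rw [show idxSet chevB2 [] = ∅ from by decide +kernel, G.Psum_empty]
  all_goals norm_num

theorem cardWgB2 (G : Good chevB2) : Nat.card G.Wg = 8 := by
  classical
  rw [← cardWJB2 G, Nat.card_eq_fintype_card, Psum]
  simp [G.WJ_univ, Fintype.card_subtype]

theorem exists_equivB2 (G : Good chevB2) : ∃ ψ : ((CoxeterMatrix.B 2)).Group ≃* G.Wg, ∀ i : Fin 2,
    (ψ (((CoxeterMatrix.B 2)).simple i) : Equiv.Perm (Fin chevB2.nroots)) = G.sP (Fin.cast rankB2 i) :=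
  G.exists_coxeter_equiv checksB2 (CoxeterMatrix.B 2) rankB2 coxMatB2

theorem orderCoxB2 (G : Good chevB2) : orderOf (G.pw (List.finRange chevB2.rank)) = 4 :=
  G.orderOf_pw checksB2 _ (by decide +kernel)

theorem flipB2 : chkFlip chevB2 fastB2 = true := by decide +kernel

theorem coxHalfB2 : (allLt chevB2.nroots fun r =>
    Nat.beq (iterF fastB2 ((List.finRange chevB2.rank).map Fin.val) 2 r) (fastB2.negs.get r)) = true := by
  decide +kernel

theorem negPowB2 (G : Good chevB2) : ∀ r, (G.pw (List.finRange chevB2.rank) ^ 2) r = G.negr r := by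
  intro r
  refine Fin.ext ?_
  rw [G.iter_val checksB2, Nat.eq_of_beq_eq_true (allLt_spec coxHalfB2 r.val r.isLt),
    (rowsOK checksB2.rows).negs r.val r.isLt]
  exact (G.negr_val r).symm

theorem genB2 (G : Good chevB2) (H : Subgroup (Equiv.Perm (Fin chevB2.nroots)))
    (hc : G.pw (List.finRange chevB2.rank) ∈ H) (h0 : G.sP ⟨0, by decide +kernel⟩ ∈ H) : G.Wg ≤ H := by
  set a : Fin chevB2.rank := ⟨0, by decide +kernel⟩
  set b : Fin chevB2.rank := ⟨1, by decide +kernel⟩
  rw [show List.finRange chevB2.rank = [a, b] from by decide +kernel, G.pw_cons, G.pw_single] at hc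
  refine (Subgroup.closure_le _).2 ?_
  rintro x ⟨i, rfl⟩
  have hl : i.val < 2 := rankB2.symm ▸ i.isLt
  rcases (show i.val = 0 ∨ i.val = 1 by omega) with e | e
  · rwa [show i = a from Fin.ext e]
  · rw [show i = b from Fin.ext e, show G.sP b = (G.sP a)⁻¹ * (G.sP a * G.sP b) from (inv_mul_cancel_left _ _).symm]
    exact mul_mem (inv_mem h0) hc

end CfsgLib.Lie.Chev
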