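import Cfsg.Agent.Lib.Lie.Chev.StCells
import Cfsg.Prelude.Def_ParabolicCharacters

/-!
# The cosets of a parabolic subgroup and their fixed points under the Borel subgroup
-/

set_option autoImplicit false

namespace CfsgLib.Lie.Chev

open Cfsg.Lie
open scoped MatrixGroups

variable {D : ChevalleyDatum} {K : Type*} [Field K]

namespace Full

variable (C : Full D)

/-- the parabolic subgroup inside the Chevalley group -/
noncomputable def PG (J : Finset (Fin D.rank)) : Subgroup ↥(D.group K) :=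
  (C.PJ J).subgroupOf (D.group K)

/-- the cosets of `P_L` in `P_J` -/
abbrev Cos (J L : Finset (Fin D.rank)) : Type _ :=
  {x : ↥(D.group K) ⧸ C.PG (K := K) L // ∃ g ∈ C.PG J, QuotientGroup.mk g = x}

/-- the minimal coset representatives of `W_L` in `W_J` -/
abbrev Wset (J L : Finset (Fin D.rank)) : Type :=
  {w : Equiv.Perm (Fin D.nroots) // w ∈ WJ C.G J ∧ Up C.G L w}

/-- the condition on a fixed point -/
def Cond (w : Equiv.Perm (Fin D.nroots)) (b u : GL D.Idx K) : Prop :=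
  (C.nr w)⁻¹ * (u⁻¹ * b * u) * C.nr w ∈ D.borelSubgroup K

/-- the fixed points of `b` in a cell -/
noncomputable def fcell (w : Equiv.Perm (Fin D.nroots)) (b : GL D.Idx K) : ℕ :=
  Nat.card {u : (Uinv C.G w⁻¹ : Subgroup (GL D.Idx K)) // C.Cond w b u}

theorem conj_Uinv_VR {L : Finset (Fin D.rank)} {n : GL D.Idx K} {w : Equiv.Perm (Fin D.nroots)}
    (hwW : w ∈ C.G.Wg) (hu : Up C.G L w) (hn : C.G.NPerm n w) {v : GL D.Idx K}
    (hv : v ∈ (Uinv C.G w⁻¹ : Subgroup (GL D.Idx K))) :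
    n⁻¹ * v * n ∈ (VR C.G L : Subgroup (GL D.Idx K)) := by
  have hle : (Uinv C.G w⁻¹ : Subgroup (GL D.Idx K)) ≤
      (VR C.G L).comap (MulAut.conj n⁻¹).toMonoidHom := by
    rw [Uinv, Subgroup.closure_le]
    rintro _ ⟨r, t, ⟨hr, hneg⟩, rfl⟩
    obtain ⟨c, hc⟩ := Good.NPerm.inv C.G hn r
    show n⁻¹ * C.G.xu r t * n⁻¹⁻¹ ∈ (VR C.G L : Subgroup (GL D.Idx K))
    rw [hc]
    refine Subgroup.subset_closure ⟨_, _, ⟨hneg, fun hin => hneg ?_⟩, rfl⟩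
    have h := C.G.up_sign hwW hu hin
    rw [show w (w⁻¹ r) = r from w.apply_symm_apply r] at h
    exact h.1 hr
  have := hle hv
  rw [Subgroup.mem_comap] at this
  simpa using this

theorem exists_inv_keep (π : Equiv.Perm (Fin D.nroots)) {g : GL D.Idx K}
    (hg : g ∈ D.posUnipotent K) :
    ∃ v ∈ (Uinv C.G π : Subgroup (GL D.Idx K)), ∃ a ∈ (Ukeep C.G π : Subgroup (GL D.Idx K)),
      g = v * a := by
  obtain ⟨a, ha, b, hb, e⟩ := C.exists_keep_mul_inv π (inv_mem hg)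
  exact ⟨b⁻¹, inv_mem hb, a⁻¹, inv_mem ha, by rw [← mul_inv_rev, ← e, inv_inv]⟩

theorem conj_keep_U {n : GL D.Idx K} {w : Equiv.Perm (Fin D.nroots)} (hn : C.G.NPerm n w)
    {a : GL D.Idx K} (ha : a ∈ (Ukeep C.G w⁻¹ : Subgroup (GL D.Idx K))) :
    n⁻¹ * a * n ∈ D.posUnipotent K := by
  have := C.G.conj_Ukeep (Good.NPerm.inv C.G hn) a ha
  rwa [inv_inv] at this

theorem conj_mem_borel (hchk : chkSupp D = true) {L : Finset (Fin D.rank)} {n y : GL D.Idx K}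
    {w : Equiv.Perm (Fin D.nroots)} (hnN : n ∈ D.monomialSubgroup K) (hn : C.G.NPerm n w)
    (hu : Up C.G L w) (hy : y ∈ D.borelSubgroup K) (h : n⁻¹ * y * n ∈ C.PJ L) :
    n⁻¹ * y * n ∈ D.borelSubgroup K := by
  obtain ⟨u, huU, d, hd, rfl⟩ := C.G.mem_borel_iff.1 hy
  obtain ⟨v, hv, a, ha, rfl⟩ := C.exists_inv_keep w⁻¹ huU
  have h1 : n⁻¹ * a * n ∈ D.borelSubgroup K := Subgroup.mem_sup_left (C.conj_keep_U hn ha)
  have h2 : n⁻¹ * d * n ∈ D.borelSubgroup K := Subgroup.mem_sup_right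
    ((Subgroup.mem_normalizer_iff''.1 (C.G.monomial_le_normalizer hnN) d).1 hd)
  have e : n⁻¹ * (v * a * d) * n = n⁻¹ * v * n * ((n⁻¹ * a * n) * (n⁻¹ * d * n)) := by group
  have h3 : n⁻¹ * v * n ∈ C.PJ L := by
    have := mul_mem h (inv_mem (C.borel_le_PJ L (mul_mem h1 h2)))
    rwa [e, mul_inv_cancel_right] at this
  rw [e, C.eq_one_of_VR_PJ hchk (C.conj_Uinv_VR (C.perm_mem_Wg hnN hn) hu hn hv) h3, one_mul]
  exact mul_mem h1 h2

/-- the element of a coset given by a representative and a unipotent element -/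
noncomputable def cosetOf (J L : Finset (Fin D.rank))
    (p : Σ w : C.Wset J L, (Uinv C.G w.1⁻¹ : Subgroup (GL D.Idx K))) : ↥(D.group K) :=
  ⟨(p.2 : GL D.Idx K) * C.nr p.1.1,
    mul_mem (C.G.posUnipotent_le_group (C.G.Uinv_le _ p.2.2))
      (C.G.monomial_le_group (C.nr_mem _))⟩

theorem cosetOf_mem {J L : Finset (Fin D.rank)}
    (p : Σ w : C.Wset J L, (Uinv C.G w.1⁻¹ : Subgroup (GL D.Idx K))) : C.cosetOf J L p ∈ C.PG J := by
  show (p.2 : GL D.Idx K) * C.nr p.1.1 ∈ C.PJ J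
  exact mul_mem (C.borel_le_PJ J (Subgroup.mem_sup_left (C.G.Uinv_le _ p.2.2))) (C.nr_mem_PJ p.1.2.1)

theorem cosetOf_bijective (hchk : chkSupp D = true) {J L : Finset (Fin D.rank)} (hLJ : L ⊆ J) :
    Function.Bijective fun p : Σ w : C.Wset J L, (Uinv C.G w.1⁻¹ : Subgroup (GL D.Idx K)) =>
      (⟨QuotientGroup.mk (C.cosetOf J L p), _, C.cosetOf_mem p, rfl⟩ : C.Cos (K := K) J L) := by
  constructor
  · rintro ⟨⟨w, hwJ, hwu⟩, u, hu⟩ ⟨⟨w', hwJ', hwu'⟩, u', hu'⟩ h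
    simp only [Subtype.mk.injEq, QuotientGroup.eq] at h
    have hp : (u * C.nr w)⁻¹ * (u' * C.nr w') ∈ C.PJ L := h
    have hw := C.G.WJ_le J hwJ
    have hw' := C.G.WJ_le J hwJ'
    have c1 : C.InCell (u * C.nr w : GL D.Idx K) w :=
      ⟨u, Subgroup.mem_sup_left (C.G.Uinv_le _ hu), _, C.nr_mem w, C.nr_perm hw, 1, one_mem _,
        (mul_one _).symm⟩
    have c2 : C.InCell (u' * C.nr w' : GL D.Idx K) w' :=
      ⟨u', Subgroup.mem_sup_left (C.G.Uinv_le _ hu'), _, C.nr_mem w', C.nr_perm hw', 1, one_mem _,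
        (mul_one _).symm⟩
    obtain ⟨a, ha, h2⟩ := C.inCell_mul_PJ hp c1
    rw [mul_inv_cancel_left] at h2
    have e := C.inCell_unique c2 h2
    have ha1 := C.G.eq_one_of_up_mul hw hwu ha (e ▸ hwu')
    rw [ha1, mul_one] at e
    subst e
    have h3 : (C.nr w')⁻¹ * (u⁻¹ * u') * C.nr w' ∈ C.PJ L := by
      simpa [mul_assoc] using hp
    have h4 := C.eq_one_of_VR_PJ hchk (C.conj_Uinv_VR hw' hwu' (C.nr_perm hw') (mul_mem (inv_mem hu) hu')) h3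
    have h5 : u⁻¹ * u' = 1 := by
      calc u⁻¹ * u' = C.nr w' * ((C.nr w')⁻¹ * (u⁻¹ * u') * C.nr w') * (C.nr w')⁻¹ := by group
        _ = 1 := by rw [h4]; group
    rw [inv_mul_eq_one] at h5
    subst h5
    rfl
  · rintro ⟨x, g, hg, rfl⟩
    obtain ⟨v, hvJ, hcell⟩ := C.cell_of_mem_PJ (show (g : GL D.Idx K) ∈ C.PJ J from hg)
    obtain ⟨b, hb, n, hn, hnv, c, hc, e⟩ := hcell
    obtain ⟨w, a, hwa, ha, hwW, hwu⟩ := C.G.exists_up_decomp L (C.G.WJ_le J hvJ)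
    have hwJ : w ∈ WJ C.G J := by
      rw [show w = v * a⁻¹ by rw [hwa, mul_inv_cancel_right]]
      exact mul_mem hvJ (inv_mem (C.G.WJ_mono hLJ ha))
    obtain ⟨u, hu, d, hd, rfl⟩ := C.G.mem_borel_iff.1 hb
    obtain ⟨u1, hu1, u2, hu2, rfl⟩ := C.exists_inv_keep w⁻¹ hu
    refine ⟨⟨⟨w, hwJ, hwu⟩, ⟨u1, hu1⟩⟩, Subtype.ext (QuotientGroup.eq.2 ?_)⟩
    show (u1 * C.nr w)⁻¹ * (g : GL D.Idx K) ∈ C.PJ L
    set m := C.nr (K := K) w
    have hmN := C.nr_mem (K := K) w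
    have hm := C.nr_perm (K := K) hwW
    have h1 : m⁻¹ * u2 * m ∈ C.PJ L :=
      C.borel_le_PJ L (Subgroup.mem_sup_left (C.conj_keep_U hm hu2))
    have h2 : m⁻¹ * d * n ∈ C.PJ L := by
      refine C.mem_PJ_of_cell ha ⟨1, one_mem _, _, mul_mem (mul_mem (inv_mem hmN) (C.G.H_le_monomial hd)) hn,
        ?_, 1, one_mem _, by rw [one_mul, mul_one]⟩
      have := Good.NPerm.mul C.G (Good.NPerm.mul C.G (Good.NPerm.inv C.G hm) (C.G.nPerm_H hd)) hnv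
      rwa [mul_one, hwa, inv_mul_cancel_left] at this
    rw [e, show (u1 * m)⁻¹ * (u1 * u2 * d * n * c) = m⁻¹ * u2 * m * (m⁻¹ * d * n) * c by group]
    exact mul_mem (mul_mem h1 h2) (C.borel_le_PJ L hc)

theorem fixed_iff (hchk : chkSupp D = true) {J L : Finset (Fin D.rank)}
    (p : Σ w : C.Wset J L, (Uinv C.G w.1⁻¹ : Subgroup (GL D.Idx K))) {b : ↥(D.group K)}
    (hb : (b : GL D.Idx K) ∈ D.borelSubgroup K) :
    b • (QuotientGroup.mk (C.cosetOf J L p) : ↥(D.group K) ⧸ C.PG (K := K) L) =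
        QuotientGroup.mk (C.cosetOf J L p) ↔ C.Cond p.1.1 (b : GL D.Idx K) p.2 := by
  rw [MulAction.Quotient.smul_mk, eq_comm, QuotientGroup.eq]
  show (((p.2 : GL D.Idx K) * C.nr p.1.1))⁻¹ * ((b : GL D.Idx K) * ((p.2 : GL D.Idx K) * C.nr p.1.1))
    ∈ C.PJ L ↔ _
  rw [show (((p.2 : GL D.Idx K) * C.nr p.1.1))⁻¹ * ((b : GL D.Idx K) * ((p.2 : GL D.Idx K) * C.nr p.1.1)) =
    (C.nr p.1.1)⁻¹ * ((p.2 : GL D.Idx K)⁻¹ * (b : GL D.Idx K) * (p.2 : GL D.Idx K)) * C.nr p.1.1 by group]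
  have hu : (p.2 : GL D.Idx K) ∈ D.borelSubgroup K := Subgroup.mem_sup_left (C.G.Uinv_le _ p.2.2)
  exact ⟨fun h => C.conj_mem_borel hchk (C.nr_mem _) (C.nr_perm (C.G.WJ_le J p.1.2.1)) p.1.2.2
    (mul_mem (mul_mem (inv_mem hu) hb) hu) h, fun h => C.borel_le_PJ L h⟩

/-- the number of cosets of `P_L` in `P_J` fixed by `g` -/
noncomputable def cfix (J L : Finset (Fin D.rank)) (g : ↥(D.group K)) : ℕ :=
  Nat.card {x : C.Cos (K := K) J L // g • x.1 = x.1}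

theorem cfix_borel [Finite K] (hchk : chkSupp D = true) {J L : Finset (Fin D.rank)} (hLJ : L ⊆ J)
    {b : ↥(D.group K)} (hb : (b : GL D.Idx K) ∈ D.borelSubgroup K) [Fintype (C.Wset J L)] :
    C.cfix J L b = ∑ w : C.Wset J L, C.fcell w.1 (b : GL D.Idx K) := by
  have : Finite (GL D.Idx K) := inferInstance
  simp only [fcell]
  rw [cfix, ← Nat.card_sigma]
  symm
  refine Nat.card_eq_of_bijective
    (fun p : Σ w : C.Wset J L, {u : (Uinv C.G w.1⁻¹ : Subgroup (GL D.Idx K)) //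
        C.Cond w.1 (b : GL D.Idx K) u} =>
      ⟨⟨QuotientGroup.mk (C.cosetOf J L ⟨p.1, p.2.1⟩), _, C.cosetOf_mem ⟨p.1, p.2.1⟩, rfl⟩,
        (C.fixed_iff hchk ⟨p.1, p.2.1⟩ hb).2 p.2.2⟩) ⟨?_, ?_⟩
  · rintro ⟨w, u, hu⟩ ⟨w', u', hu'⟩ h
    have h' := (C.cosetOf_bijective (K := K) hchk hLJ).1 (congrArg Subtype.val h :)
    injection h' with h1 h2
    subst h1
    have h3 := eq_of_heq h2
    cases h3
    rfl
  · rintro ⟨x, hx⟩
    obtain ⟨⟨w, u⟩, hp⟩ := (C.cosetOf_bijective (K := K) hchk hLJ).2 x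
    subst hp
    exact ⟨⟨w, u, (C.fixed_iff hchk ⟨w, u⟩ hb).1 hx⟩, rfl⟩

end Full

end CfsgLib.Lie.Chev
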