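import Cfsg.Agent.Lib.Lie.Chev.Borel

/-!
# The homomorphism from the monomial subgroup onto the Weyl group
-/

set_option autoImplicit false

namespace CfsgLib.Lie.Chev

open Cfsg.Lie
open scoped MatrixGroups

namespace Good

variable {D : ChevalleyDatum} (G : Good D) {K : Type*} [Field K]

include G

theorem exists_monomial_hom {n : ℕ} (M : CoxeterMatrix (Fin n)) (hn : n = D.rank) (ψ : M.Group ≃* G.Wg)
    (hψ : ∀ i : Fin n, (ψ (M.simple i) : Equiv.Perm (Fin D.nroots)) = G.sP (Fin.cast hn i)) :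
    ∃ φ : ↥(D.monomialSubgroup K) →* M.Group, Function.Surjective φ ∧
      φ.ker = (D.diagonalSubgroup K).subgroupOf (D.monomialSubgroup K) ∧
      ∀ (i : Fin n) (g : ↥(D.monomialSubgroup K)),
        ((g : GL D.Idx K) : Matrix D.Idx D.Idx K) = D.nMat K (D.simple i) 1 → φ g = M.simple i := by
  classical
  choose l hl using fun g : ↥(D.monomialSubgroup K) => G.exists_nPerm g.2
  let f : ↥(D.monomialSubgroup K) →* G.Wg :=
    { toFun := fun g => ⟨G.pw (l g), G.pw_mem _⟩
      map_one' := Subtype.ext (NPerm.unique G (hl 1) (NPerm.one G))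
      map_mul' := fun a b => Subtype.ext (NPerm.unique G (hl (a * b)) (NPerm.mul G (hl a) (hl b))) }
  have hf : ∀ (g : ↥(D.monomialSubgroup K)) (π : G.Wg), G.NPerm (g : GL D.Idx K) (π : Equiv.Perm _) →
      f g = π := fun g π h => Subtype.ext (NPerm.unique G (hl g) h)
  refine ⟨ψ.symm.toMonoidHom.comp f, ψ.symm.surjective.comp fun π => ?_, ?_, fun i g hg => ?_⟩
  · obtain ⟨w, hw⟩ := G.exists_pw π.2
    exact ⟨⟨G.nw w, G.nw_mem_monomial w⟩, hf _ π (hw ▸ G.nPerm_nw w)⟩
  · ext g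
    rw [MonoidHom.mem_ker, MonoidHom.comp_apply, MulEquiv.coe_toMonoidHom, ψ.symm.map_eq_one_iff,
      Subgroup.mem_subgroupOf]
    refine ⟨fun h => G.mem_H_of_nPerm_one g.2 ?_, fun h => hf g 1 (G.nPerm_H h)⟩
    have := hl g
    rwa [show G.pw (l g) = 1 from congrArg Subtype.val h] at this
  · have e : (g : GL D.Idx K) = G.nU (Fin.cast hn i) := Units.ext (hg.trans (G.nMat_simple (Fin.cast hn i)))
    rw [MonoidHom.comp_apply, MulEquiv.coe_toMonoidHom, MulEquiv.symm_apply_eq]
    refine hf g _ ?_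
    rw [hψ, e]
    exact G.nPerm_nU _

end Good

end CfsgLib.Lie.Chev
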