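import Cfsg.Agent.Lib.Lie.Chev.AutStd

/-!
# Enumeration of the symmetries of a diagram
-/

set_option autoImplicit false
set_option maxRecDepth 100000

namespace CfsgLib.Lie.Chev

open Cfsg.Lie

/-- the lists of values of partial symmetries on the first `k` nodes -/
def symLists (D : ChevalleyDatum) : ℕ → List (List ℕ)
  | 0 => [[]]
  | k + 1 => (symLists D k).flatMap fun l => (List.range D.rank).filterMap fun a =>
      if !l.contains a && (List.range k).all (fun i => D.bonds (l.getD i 0) a == D.bonds i k) then
        some (l ++ [a]) else none

/-- the values of a node permutation -/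
def permList {D : ChevalleyDatum} (π : Equiv.Perm (Fin D.rank)) : List ℕ :=
  List.ofFn fun i => (π i).val

theorem permList_injective {D : ChevalleyDatum} :
    Function.Injective (permList (D := D)) := fun π ρ h =>
  Equiv.ext fun i => Fin.ext (congrFun (List.ofFn_injective h) i)

theorem permList_mem {D : ChevalleyDatum} {π : Equiv.Perm (Fin D.rank)} (h : D.IsDiagramSymmetry π) :
    permList π ∈ symLists D D.rank := by
  have key : ∀ k, k ≤ D.rank → (permList π).take k ∈ symLists D k := by
    intro k
    induction k with
    | zero => intro _; simp [symLists]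
    | succ k ih =>
      intro hk
      have hlen : (permList π).length = D.rank := List.length_ofFn
      rw [symLists, List.mem_flatMap]
      refine ⟨_, ih (by omega), List.mem_filterMap.2 ⟨(π ⟨k, hk⟩).val,
        List.mem_range.2 (Fin.isLt _), ?_⟩⟩
      have hget : ∀ i (hi : i < k), ((permList π).take k).getD i 0 = (π ⟨i, hi.trans hk⟩).val := by
        intro i hi
        simp [List.getD_eq_getElem?_getD, List.getElem?_take, hi, permList, hi.trans hk]
      rw [if_pos]
      · rw [List.take_add_one]
        simp [permList, Nat.lt_of_succ_le hk]
      · simp only [Bool.and_eq_true, Bool.not_eq_true', List.all_eq_true, List.mem_range, beq_iff_eq]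
        refine ⟨?_, fun i hi => ?_⟩
        · rw [← Bool.not_eq_true, List.contains_iff_mem]
          intro hmem
          obtain ⟨i, hi, e⟩ := List.getElem_of_mem hmem
          have hik : i < k := by rw [List.length_take] at hi; omega
          have e' := hget i hik
          rw [List.getD_eq_getElem?_getD, List.getElem?_eq_getElem hi, e] at e'
          have := congrArg Fin.val (π.injective (Fin.ext e'.symm : π ⟨i, hik.trans hk⟩ = π ⟨k, hk⟩))
          simp at this; omega
        · rw [hget i hi]
          exact h ⟨i, hi.trans hk⟩ ⟨k, hk⟩ fun e => by
            have := congrArg Fin.val e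
            simp at this; omega
  have := key D.rank le_rfl
  rwa [List.take_of_length_le (show (permList π).length ≤ D.rank from (List.length_ofFn).le)] at this

namespace Full

variable {D : ChevalleyDatum} (C : Full D) {K : Type*} [Field K]

theorem range_symm (hD : D ∈ [chevG2, chevB2, chevD4, chevF4, chevE6, chevE7, chevE8])
    {π : Equiv.Perm (Fin D.rank)} (h : π ∈ (C.nodeHom (K := K)).range) :
    D.IsDiagramSymmetry π := by
  obtain ⟨⟨φ, π', σ, hs⟩, rfl⟩ := h
  rw [hs.nodeHom_eq]
  exact hs.isDiagramSymmetry (chkBond_all hD)

theorem card_range_le (hD : D ∈ [chevG2, chevB2, chevD4, chevF4, chevE6, chevE7, chevE8]) :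
    Nat.card ↥(C.nodeHom (K := K)).range ≤ (symLists D D.rank).length := by
  classical
  refine le_trans (Nat.card_le_card_of_injective
    (fun π => (⟨permList π.1, List.mem_toFinset.2 (permList_mem (C.range_symm hD π.2))⟩ :
      ↥(symLists D D.rank).toFinset))
    fun a b h => Subtype.ext (permList_injective (congrArg Subtype.val h))) ?_
  rw [Nat.card_eq_fintype_card, Fintype.card_coe]
  exact List.toFinset_card_le _

end Full

end CfsgLib.Lie.Chev
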