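import Cfsg.Agent.Lib.Lie.Chev.Equiv
import Cfsg.Agent.Lib.Lie.Chev.Roots

/-!
# The elements `x_r(t)`, `n_r(t)`, `h_r(t)` of the general linear group and their conjugation rules
-/

set_option autoImplicit false

namespace CfsgLib.Lie.Chev

open Cfsg.Lie
open scoped MatrixGroups

variable {D : ChevalleyDatum}

namespace Good

variable (G : Good D) {K : Type*} [Field K]

include G

/-- `x_r(t)` in the general linear group -/
noncomputable def xu (r : Fin D.nroots) (t : K) : GL D.Idx K :=
  ⟨xg K r t, xg K r (-t), xg_mul_neg G r t, xg_neg_mul G r t⟩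

theorem coe_xu (r : Fin D.nroots) (t : K) : (G.xu r t : Matrix D.Idx D.Idx K) = xg K r t := rfl

theorem x_eq_xu (r : Fin D.nroots) (t : K) :
    D.x K r.val t = (G.xu r t : Matrix D.Idx D.Idx K) := x_eq G.shape K r t

theorem xu_add (r : Fin D.nroots) (s t : K) : G.xu r (s + t) = G.xu r s * G.xu r t :=
  Units.ext (xg_add G r s t).symm

theorem xu_zero (r : Fin D.nroots) : G.xu r (0 : K) = 1 := Units.ext (xg_zero K r)

theorem xu_inv (r : Fin D.nroots) (t : K) : (G.xu r t)⁻¹ = G.xu r (-t) := Units.ext rfl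

/-- the value of the character `c` at the weight `v` -/
def chi (_ : Good D) (c : Fin D.rank → Kˣ) (v : Fin D.rank → ℤ) : Kˣ := ∏ j, c j ^ v j

theorem chi_add (c : Fin D.rank → Kˣ) (u v : Fin D.rank → ℤ) :
    G.chi c (u + v) = G.chi c u * G.chi c v := by
  simp [chi, zpow_add, Finset.prod_mul_distrib]

theorem chi_zero (c : Fin D.rank → Kˣ) : G.chi c 0 = 1 := by simp [chi]

theorem chi_mul (c c' : Fin D.rank → Kˣ) (v : Fin D.rank → ℤ) :
    G.chi (c * c') v = G.chi c v * G.chi c' v := by
  simp [chi, mul_zpow, Finset.prod_mul_distrib]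

theorem chi_zsmul (c : Fin D.rank → Kˣ) (k : ℤ) (v : Fin D.rank → ℤ) :
    G.chi c (k • v) = G.chi c v ^ k := by
  simp only [chi, ← Finset.prod_zpow, Pi.smul_apply, smul_eq_mul]
  exact Finset.prod_congr rfl fun j _ => by rw [← zpow_mul, mul_comm]

theorem chi_single (c : Fin D.rank → Kˣ) (j : Fin D.rank) : G.chi c (Pi.single j 1) = c j := by
  rw [chi, Finset.prod_eq_single j]
  · simp
  · intro b _ hb; simp [hb]
  · simp

/-- the diagonal matrices that scale the weight spaces -/
noncomputable def tor : (Fin D.rank → Kˣ) →* GL D.Idx K where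
  toFun c := ⟨Matrix.diagonal fun b => (G.chi c (weight D G.rho b) : K),
    Matrix.diagonal fun b => ((G.chi c (weight D G.rho b))⁻¹ : Kˣ),
    by simp [Matrix.diagonal_mul_diagonal, Matrix.diagonal_one],
    by simp [Matrix.diagonal_mul_diagonal, Matrix.diagonal_one]⟩
  map_one' := Units.ext (by simp [chi, Matrix.diagonal_one])
  map_mul' c c' := Units.ext (by simp [G.chi_mul, Matrix.diagonal_mul_diagonal])

theorem coe_tor (c : Fin D.rank → Kˣ) : (G.tor c : Matrix D.Idx D.Idx K) =
    Matrix.diagonal fun b => (G.chi c (weight D G.rho b) : K) := rfl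

theorem tor_xu (c : Fin D.rank → Kˣ) (r : Fin D.nroots) (t : K) :
    G.tor c * G.xu r t = G.xu r ((G.chi c (G.rho r) : K) * t) * G.tor c := by
  apply Units.ext
  ext i j
  simp only [Units.val_mul, coe_tor, coe_xu, Matrix.diagonal_mul, Matrix.mul_diagonal, xg,
    Matrix.sum_apply, Matrix.smul_apply, Matrix.map_apply, smul_eq_mul, Finset.mul_sum,
    Finset.sum_mul]
  refine Finset.sum_congr rfl fun k hk => ?_
  by_cases hz : dmat D r k i j = 0
  · simp [hz]
  · rw [G.weight_eq r k i j hz (Finset.mem_range.1 hk), G.chi_add, G.chi_zsmul, zpow_natCast]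
    push_cast
    ring

/-- `n_{p_i}(1)` in the general linear group -/
noncomputable def nU (i : Fin D.rank) : GL D.Idx K :=
  G.xu (G.simp' i) 1 * G.xu (G.negr (G.simp' i)) (-1) * G.xu (G.simp' i) 1

theorem coe_nU (i : Fin D.rank) :
    ((G.nU i : GL D.Idx K) : Matrix D.Idx D.Idx K) = (G.nZ i).map (Int.cast : ℤ → K) := by
  rw [show (Int.cast : ℤ → K) = Int.castRingHom K from rfl, nZ, ← G.nword, Matrix.map_mul,
    Matrix.map_mul, xg_map, xg_map]
  simp [nU, coe_xu]

theorem nU_xu (i : Fin D.rank) (s : Fin D.nroots) (t : K) :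
    G.nU i * G.xu s t = G.xu (G.w i s) ((G.eta i s : K) * t) * G.nU i := by
  apply Units.ext
  simp only [Units.val_mul, coe_xu, coe_nU, xg, Finset.mul_sum, Finset.sum_mul]
  refine Finset.sum_congr rfl fun k hk => ?_
  rw [Matrix.mul_smul, Matrix.smul_mul]
  have := congrArg (Int.castRingHom K).mapMatrix (G.nZ_dmat i s k (Finset.mem_range.1 hk))
  simp only [map_mul, map_zsmul] at this
  rw [show ((G.nZ i).map (Int.cast : ℤ → K)) * (dmat D s k).map (Int.cast : ℤ → K) = _ from this,
    mul_pow, mul_smul, smul_comm]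
  congr 1
  rw [← Int.cast_pow, Int.cast_smul_eq_zsmul]
  rfl

/-- the transpose of the reflection in `p_i`, acting on characters -/
noncomputable def wc (i : Fin D.rank) (c : Fin D.rank → Kˣ) : Fin D.rank → Kˣ :=
  fun j => c j * c i ^ (- cart D i (G.simp' j))

theorem chi_wc (i : Fin D.rank) (c : Fin D.rank → Kˣ) (v : Fin D.rank → ℤ) :
    G.chi (G.wc i c) v =
      G.chi c v * c i ^ (- ∑ j, v j * cart D i (G.simp' j)) := by
  simp only [chi, wc, mul_zpow, Finset.prod_mul_distrib, ← zpow_mul]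
  congr 1
  rw [← Finset.sum_neg_distrib]
  induction (Finset.univ : Finset (Fin D.rank)) using Finset.induction with
  | empty => simp
  | insert a s ha ih => rw [Finset.prod_insert ha, Finset.sum_insert ha, zpow_add, ih, neg_mul, mul_comm (cart D i _)]

theorem chi_rho_w (i : Fin D.rank) (c : Fin D.rank → Kˣ) (s : Fin D.nroots) :
    G.chi c (G.rho (G.w i s)) = G.chi (G.wc i c) (G.rho s) := by
  rw [G.chi_wc, ← G.cart_eq, G.rho_w, sub_eq_add_neg, ← neg_smul, G.chi_add, G.chi_zsmul,
    G.chi_single]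

theorem nU_tor (i : Fin D.rank) (c : Fin D.rank → Kˣ) :
    G.nU i * G.tor c = G.tor (G.wc i c) * G.nU i := by
  apply Units.ext
  ext a b
  simp only [Units.val_mul, coe_tor, coe_nU, Matrix.diagonal_mul, Matrix.mul_diagonal,
    Matrix.map_apply]
  rcases a with j | s <;> rcases b with l | s'
  · simp [weight, chi]
  · simp [nZ, nmat]
  · simp [nZ, nmat]
  · by_cases h : s = G.w i s'
    · subst h
      simp only [weight, Sum.elim_inr]
      rw [← G.chi_rho_w, G.w_w]
      ring
    · simp [nZ, nmat, h]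

/-- `n_r(t)` in the general linear group -/
noncomputable def nE (r : Fin D.nroots) (t : K) : GL D.Idx K :=
  G.xu r t * G.xu (G.negr r) (-t⁻¹) * G.xu r t

/-- `h_r(t)` in the general linear group -/
noncomputable def hE (r : Fin D.nroots) (t : K) : GL D.Idx K := G.nE r t * G.nE r (-1)

theorem nE_inv (r : Fin D.nroots) : (G.nE r (1 : K))⁻¹ = G.nE r (-1) := by
  simp [nE, G.xu_inv, mul_assoc, inv_neg]

theorem nE_simp_one (i : Fin D.rank) : G.nE (G.simp' i) (1 : K) = G.nU i := by
  simp [nE, nU]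

theorem nU_nE (i : Fin D.rank) (s : Fin D.nroots) (t : K) :
    G.nU i * G.nE s t = G.nE (G.w i s) ((G.eta i s : K) * t) * G.nU i := by
  have hinv : (G.eta i (G.negr s) : K) * -t⁻¹ = -((G.eta i s : K) * t)⁻¹ := by
    have := G.eta_negr i s
    rcases G.eta_unit i s with e | e <;> rcases G.eta_unit i (G.negr s) with e' | e' <;>
      simp_all
  simp only [nE]
  rw [← mul_assoc, ← mul_assoc, G.nU_xu, mul_assoc _ (G.nU i), G.nU_xu, ← mul_assoc,
    mul_assoc _ (G.nU i), G.nU_xu, ← mul_assoc, G.w_negr, hinv]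

/-- the pairing of the coroot of `r` with the fundamental roots -/
def pair (r : Fin D.nroots) (l : Fin D.rank) : ℤ :=
  ∑ j : Fin D.rank, (D.coroot.getD r.val #[]).getD j.val 0 * cart D j (G.simp' l)

/-- the diagonal matrix that `h_r(t)` will be shown to be -/
noncomputable def hd (r : Fin D.nroots) : Kˣ →* GL D.Idx K :=
  G.tor.comp
    { toFun := fun t l => t ^ G.pair r l
      map_one' := funext fun l => one_zpow _
      map_mul' := fun s t => funext fun l => mul_zpow s t _ }

theorem coroot_entry (r : Fin D.nroots) (j : Fin D.rank) :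
    dmat D r 1 (Sum.inl j) (Sum.inr (G.negr r)) = (D.coroot.getD r.val #[]).getD j.val 0 := by
  have hv : (G.negr r).val = D.negIdx.getD r.val 0 := G.negr_val r
  have hne := G.shape.neg_ne r.val r.isLt
  simp only [dmat, Matrix.of_apply, if_neg one_ne_zero, act, pos, hv]
  rw [if_neg (by omega), Nat.add_sub_cancel_left, if_neg hne, if_pos rfl, if_pos trivial, coef_map_range,
    if_pos j.isLt]

theorem coroot_w (i : Fin D.rank) (r : Fin D.nroots) (j : Fin D.rank) :
    (D.coroot.getD (G.w i r).val #[]).getD j.val 0 = (D.coroot.getD r.val #[]).getD j.val 0 -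
      (if j = i then ∑ k : Fin D.rank, cart D k (G.simp' i) * (D.coroot.getD r.val #[]).getD k.val 0
        else 0) := by
  have h := congrFun (congrFun (G.nZ_dmat_one i r) (Sum.inl j)) (Sum.inr (G.negr r))
  rw [Matrix.mul_apply, Matrix.smul_apply, Matrix.mul_apply, Fintype.sum_sum_type,
    Fintype.sum_sum_type] at h
  have e1 : ∀ k : Fin D.nroots, G.nZ i (Sum.inl j) (Sum.inr k) = 0 := fun k => rfl
  have e2 : ∀ k : Fin D.rank, G.nZ i (Sum.inl k) (Sum.inr (G.negr r)) = 0 := fun k => rfl
  simp only [e1, e2, zero_mul, mul_zero, Finset.sum_const_zero, add_zero, zero_add, coroot_entry]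
    at h
  rw [Finset.sum_eq_single (G.w i (G.negr r))] at h
  · rw [G.w_negr, coroot_entry] at h
    simp only [nZ, nmat, Matrix.of_apply, ← G.w_negr, if_true, smul_eq_mul] at h
    have he := G.eta_negr i r
    rw [mul_comm (_ : ℤ) (G.eta i (G.negr r)), ← mul_assoc, he, one_mul] at h
    rw [← h]
    simp only [sub_mul, Finset.sum_sub_distrib, ite_mul, one_mul, zero_mul, Finset.sum_ite_eq,
      Finset.mem_univ, if_true]
    by_cases hji : j = i <;> simp [hji]
  · intro b _ hb; simp [nZ, nmat, hb]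
  · simp

theorem hd_w (i : Fin D.rank) (r : Fin D.nroots) (t : Kˣ) :
    G.nU i * G.hd r t = G.hd (G.w i r) t * G.nU i := by
  simp only [hd, MonoidHom.comp_apply, MonoidHom.coe_mk, OneHom.coe_mk]
  rw [G.nU_tor]
  congr 2
  funext l
  simp only [wc]
  rw [← zpow_mul, ← zpow_add]
  congr 1
  simp only [pair, G.coroot_w, sub_mul, Finset.sum_sub_distrib, ite_mul, zero_mul, Finset.sum_ite_eq',
    Finset.mem_univ, if_true]
  have : ∑ j : Fin D.rank, (D.coroot.getD r.val #[]).getD j.val 0 * cart D j (G.simp' i) =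
      ∑ k : Fin D.rank, cart D k (G.simp' i) * (D.coroot.getD r.val #[]).getD k.val 0 :=
    Finset.sum_congr rfl fun k _ => mul_comm _ _
  rw [this]
  ring

theorem pair_simp (i l : Fin D.rank) : G.pair (G.simp' i) l = cart D i (G.simp' l) := by
  rw [pair, Finset.sum_eq_single i]
  · rw [G.coroot_simp, if_pos rfl, one_mul]
  · intro b _ hb; rw [G.coroot_simp, if_neg hb, zero_mul]
  · simp

theorem nE_simp (i : Fin D.rank) (t : Kˣ) :
    G.nE (G.simp' i) (t : K) = G.hd (G.simp' i) t * G.nU i := by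
  set c : Fin D.rank → Kˣ := Pi.mulSingle i t
  have hc : G.chi c (G.rho (G.simp' i)) = t := by rw [G.rho_simp, G.chi_single]; simp [c]
  have hc' : G.chi c (G.rho (G.negr (G.simp' i))) = t⁻¹ := by
    rw [G.rho_negr, ← neg_one_smul ℤ, G.chi_zsmul, hc, zpow_neg_one]
  have h1 : G.tor c * G.nU i = G.nE (G.simp' i) (t : K) * G.tor c := by
    simp only [nU, nE]
    rw [← mul_assoc, ← mul_assoc, G.tor_xu, mul_assoc _ (G.tor c), G.tor_xu, ← mul_assoc,
      mul_assoc _ (G.tor c), G.tor_xu, ← mul_assoc, hc, hc']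
    simp
  have h2 : G.hd (G.simp' i) t = G.tor c * G.tor (G.wc i c⁻¹) := by
    rw [← map_mul, hd, MonoidHom.comp_apply]
    congr 1
    funext l
    simp only [MonoidHom.coe_mk, OneHom.coe_mk, G.pair_simp, Pi.mul_apply, wc, Pi.inv_apply, c]
    simp [Pi.mulSingle_eq_same]
  rw [h2, mul_assoc, ← G.nU_tor, ← mul_assoc, h1, mul_assoc, ← map_mul, mul_inv_cancel, map_one,
    mul_one]

theorem hE_eq (r : Fin D.nroots) : ∀ t : Kˣ, G.hE r (t : K) = G.hd r t := by
  revert r
  refine G.orbit _ (fun i _ t => ?_) fun i r hr t => ?_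
  · rw [hE, G.nE_simp, ← G.nE_inv, G.nE_simp_one, mul_assoc, mul_inv_cancel, mul_one]
  · have conj : ∀ u : Kˣ, G.hd (G.w i r) u =
        G.nE (G.w i r) ((G.eta i r : K) * u) * G.nE (G.w i r) ((G.eta i r : K) * -1) := by
      intro u
      have e := G.hd_w i r u
      rw [← hr, hE, ← mul_assoc, G.nU_nE, mul_assoc _ (G.nU i), G.nU_nE, ← mul_assoc] at e
      exact (mul_right_cancel e).symm
    rcases G.eta_unit i r with e | e
    · rw [hE, conj t, e]; simp
    · have k : ∀ u : Kˣ, G.hd (G.w i r) (-u) = G.nE (G.w i r) (u : K) * G.nE (G.w i r) 1 := by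
        intro u; rw [conj, e]; simp
      have k1 := k 1
      rw [Units.val_one] at k1
      have hh : G.hd (G.w i r) t = G.hd (G.w i r) (-t) * (G.hd (G.w i r) (-1))⁻¹ := by
        rw [← map_inv, ← map_mul]; simp
      rw [hh, k, k1, hE, ← G.nE_inv]
      group

end Good

end CfsgLib.Lie.Chev
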