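import Cfsg.Agent.Lib.Lie.Chev.Add

/-!
# The root elements are automorphisms of the bracket

A matrix `g` is equivariant when `g (ad v) = ad (g v) g` for all vectors `v`. The Jacobi identity
for the fundamental root vectors of the chosen representatives, transported by the elements
`n_{p_i}(1)`, gives it for all `x_r(t)`, over every commutative ring.
-/

set_option autoImplicit false

namespace CfsgLib.Lie.Chev

open Cfsg.Lie

variable {D : ChevalleyDatum}

section adv

variable (R : Type*) [CommRing R]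

/-- `adv` as a linear map -/
def advL : (D.Idx → R) →ₗ[R] Matrix D.Idx D.Idx R where
  toFun v := adv D R v
  map_add' v w := by simp [adv, add_smul, Finset.sum_add_distrib]
  map_smul' c v := by simp [adv, Finset.smul_sum, smul_smul]

theorem advL_apply (v : D.Idx → R) : advL R v = adv D R v := rfl

theorem adv_single (b : D.Idx) :
    adv D R (Pi.single b 1) = (adb D b).map (Int.cast : ℤ → R) := by
  rw [adv, Finset.sum_eq_single b]
  · simp
  · intro c _ hc; simp [hc]
  · simp

theorem adv_single_int (b : D.Idx) : adv D ℤ (Pi.single b 1) = adb D b := by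
  rw [adv_single]; ext i j; simp

variable {R}

theorem adv_map {S : Type*} [CommRing S] (φ : R →+* S) (v : D.Idx → R) :
    (adv D R v).map φ = adv D S (φ ∘ v) := by
  ext i j
  simp [adv, Matrix.sum_apply, map_sum]

/-- `g` is an automorphism of the bracket -/
def Eqvt (g : Matrix D.Idx D.Idx R) : Prop :=
  ∀ v, g * adv D R v = adv D R (g.mulVec v) * g

theorem eqvt_of_single {g : Matrix D.Idx D.Idx R}
    (h : ∀ b, g * adv D R (Pi.single b 1) = adv D R (g.mulVec (Pi.single b 1)) * g) : Eqvt g := by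
  have key : (LinearMap.mulLeft R g).comp (advL R) =
      (LinearMap.mulRight R g).comp ((advL R).comp (Matrix.mulVecLin g)) := by
    refine (Pi.basisFun R D.Idx).ext fun b => ?_
    simpa [advL_apply] using h b
  intro v
  exact LinearMap.congr_fun key v

theorem Eqvt.one : Eqvt (1 : Matrix D.Idx D.Idx R) := fun v => by simp

theorem Eqvt.mul {g h : Matrix D.Idx D.Idx R} (hg : Eqvt g) (hh : Eqvt h) : Eqvt (g * h) := by
  intro v
  rw [mul_assoc, hh v, ← mul_assoc, hg, Matrix.mulVec_mulVec, mul_assoc]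

theorem Eqvt.inv {g h : Matrix D.Idx D.Idx R} (hg : Eqvt g) (h1 : g * h = 1) (h2 : h * g = 1) :
    Eqvt h := by
  intro v
  have := hg (h.mulVec v)
  rw [Matrix.mulVec_mulVec, h1, Matrix.one_mulVec] at this
  calc h * adv D R v = h * (adv D R v * g) * h := by rw [mul_assoc, mul_assoc, h1, mul_one]
    _ = h * (g * adv D R (h.mulVec v)) * h := by rw [this]
    _ = adv D R (h.mulVec v) * h := by rw [← mul_assoc h g, h2, one_mul]

theorem map_mulVec_single {S : Type*} [CommRing S] (φ : R →+* S) (g : Matrix D.Idx D.Idx R)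
    (b : D.Idx) : (g.map φ).mulVec (Pi.single b 1) = φ ∘ g.mulVec (Pi.single b 1) := by
  funext i
  simp

theorem Eqvt.map {S : Type*} [CommRing S] (φ : R →+* S) {g : Matrix D.Idx D.Idx R} (hg : Eqvt g) :
    Eqvt (g.map φ) := by
  refine eqvt_of_single fun b => ?_
  have h1 : adv D S (Pi.single b 1) = (adv D R (Pi.single b 1)).map φ := by
    rw [adv_map]; congr 1; funext c; by_cases hc : c = b
    · subst hc; simp
    · simp [hc]
  rw [h1, map_mulVec_single, ← adv_map, ← Matrix.map_mul, ← Matrix.map_mul, hg]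

end adv

/-- `ad e_r` is a derivation -/
def Der (r : Fin D.nroots) : Prop :=
  ∀ v, dmat D r 1 * adv D ℤ v = adv D ℤ ((dmat D r 1).mulVec v) + adv D ℤ v * dmat D r 1

namespace Good

variable (G : Good D)

include G

/-- the matrix of `n_{p_i}(1)` over `ℤ` -/
def nZ (i : Fin D.rank) : Matrix D.Idx D.Idx ℤ := nmat D i (G.simp' i) (G.w i) (G.eta i)

/-- its inverse -/
def nZ' (i : Fin D.rank) : Matrix D.Idx D.Idx ℤ :=
  xg ℤ (G.simp' i) (-1) * xg ℤ (G.negr (G.simp' i)) 1 * xg ℤ (G.simp' i) (-1)

theorem nZ_mul (i : Fin D.rank) : G.nZ i * G.nZ' i = 1 := by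
  rw [nZ, ← G.nword, nZ']
  simp only [mul_assoc]
  rw [← mul_assoc (xg ℤ (G.simp' i) 1) (xg ℤ (G.simp' i) (-1)), xg_mul_neg G, one_mul,
    ← mul_assoc (xg ℤ _ (-1)) (xg ℤ _ 1), xg_neg_mul G, one_mul, xg_mul_neg G]

theorem nZ'_mul (i : Fin D.rank) : G.nZ' i * G.nZ i = 1 := by
  rw [nZ, ← G.nword, nZ']
  simp only [mul_assoc]
  rw [← mul_assoc (xg ℤ (G.simp' i) (-1)) (xg ℤ (G.simp' i) 1), xg_neg_mul G, one_mul,
    ← mul_assoc (xg ℤ _ 1) (xg ℤ _ (-1)), xg_mul_neg G, one_mul, xg_neg_mul G]

theorem eqvt_nZ (i : Fin D.rank) : Eqvt (G.nZ i) := by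
  refine eqvt_of_single fun b => ?_
  rw [adv_single_int]
  have h : (G.nZ i).mulVec (Pi.single b 1) = fun c => G.nZ i c b := by
    funext c; simp
  rw [h]
  exact G.equiv i b

theorem nZ_col (i : Fin D.rank) (s : Fin D.nroots) :
    (G.nZ i).mulVec (Pi.single (Sum.inr s) 1) = G.eta i s • Pi.single (Sum.inr (G.w i s)) 1 := by
  funext c
  rcases c with j | s' <;> simp [nZ, nmat, Pi.single_apply]

theorem nZ_dmat_one (i : Fin D.rank) (s : Fin D.nroots) :
    G.nZ i * dmat D s 1 = G.eta i s • (dmat D (G.w i s) 1 * G.nZ i) := by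
  have := G.eqvt_nZ i (Pi.single (Sum.inr s) 1)
  rw [nZ_col, ← advL_apply, ← advL_apply, map_smul, advL_apply, advL_apply, adv_single_int,
    adv_single_int, smul_mul_assoc] at this
  exact this

theorem nZ_dmat (i : Fin D.rank) (s : Fin D.nroots) :
    ∀ k < 4, G.nZ i * dmat D s k = G.eta i s ^ k • (dmat D (G.w i s) k * G.nZ i) := by
  have h1 := G.nZ_dmat_one i s
  have h2 : G.nZ i * dmat D s 2 = G.eta i s ^ 2 • (dmat D (G.w i s) 2 * G.nZ i) := by
    refine nsmul_cancel two_ne_zero ?_
    rw [← mul_smul_comm, ← G.pow_one, ← mul_assoc, h1, smul_mul_assoc, mul_assoc, h1,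
      mul_smul_comm, smul_smul, ← mul_assoc, G.pow_one, smul_mul_assoc, smul_comm, sq]
  have h3 : G.nZ i * dmat D s 3 = G.eta i s ^ 3 • (dmat D (G.w i s) 3 * G.nZ i) := by
    refine nsmul_cancel three_ne_zero ?_
    rw [← mul_smul_comm, ← G.pow_two, ← mul_assoc, h1, smul_mul_assoc, mul_assoc, h2,
      mul_smul_comm, smul_smul, ← mul_assoc, G.pow_two, smul_mul_assoc, smul_comm, ← pow_succ']
  intro k hk
  interval_cases k
  · simp
  · rw [_root_.pow_one]; exact h1
  · exact h2
  · exact h3

/-- `ad e_r` is a derivation for every root `r` -/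
theorem der : ∀ r, Der (D := D) r := by
  refine G.orbit _ (fun i hi => ?_) fun i r hr => ?_
  · intro v
    have key : (LinearMap.mulLeft ℤ (dmat D (G.simp' i) 1)).comp (advL ℤ) =
        (advL ℤ).comp (Matrix.mulVecLin (dmat D (G.simp' i) 1)) +
          (LinearMap.mulRight ℤ (dmat D (G.simp' i) 1)).comp (advL ℤ) := by
      refine (Pi.basisFun ℤ D.Idx).ext fun b => ?_
      simp only [Pi.basisFun_apply, LinearMap.add_apply, LinearMap.comp_apply,
        LinearMap.mulLeft_apply, LinearMap.mulRight_apply, advL_apply, adv_single_int,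
        Matrix.mulVecLin_apply]
      have h : (dmat D (G.simp' i) 1).mulVec (Pi.single b 1) = fun c => dmat D (G.simp' i) 1 c b := by
        funext c; simp
      rw [h, ← G.jac i hi b]
      abel
    exact LinearMap.congr_fun key v
  · intro v
    set n := G.nZ i
    set n' := G.nZ' i
    have hn := G.eqvt_nZ i
    have hn' := hn.inv (G.nZ_mul i) (G.nZ'_mul i)
    have hsq : G.eta i r * G.eta i r = 1 := by rcases G.eta_unit i r with e | e <;> rw [e] <;> norm_num
    have hD : dmat D (G.w i r) 1 = G.eta i r • (n * dmat D r 1 * n') := by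
      rw [G.nZ_dmat_one, smul_mul_assoc, smul_smul, hsq, one_smul, mul_assoc, G.nZ_mul, mul_one]
    have e1 : n' * adv D ℤ v = adv D ℤ (n'.mulVec v) * n' := hn' v
    have e2 : n * dmat D r 1 * n' * adv D ℤ v =
        adv D ℤ ((n * dmat D r 1 * n').mulVec v) + adv D ℤ v * (n * dmat D r 1 * n') := by
      calc n * dmat D r 1 * n' * adv D ℤ v
          = n * (dmat D r 1 * adv D ℤ (n'.mulVec v)) * n' := by
            rw [mul_assoc, e1]; simp only [mul_assoc]
        _ = n * adv D ℤ ((dmat D r 1).mulVec (n'.mulVec v)) * n' +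
              n * adv D ℤ (n'.mulVec v) * (dmat D r 1 * n') := by
            rw [hr]; simp only [mul_add, add_mul, mul_assoc]
        _ = _ := by
            rw [hn, hn, Matrix.mulVec_mulVec, Matrix.mulVec_mulVec, Matrix.mulVec_mulVec,
              G.nZ_mul, Matrix.one_mulVec]
            simp only [mul_assoc, n, n', G.nZ_mul, mul_one]
    rw [hD, Matrix.smul_mulVec, ← advL_apply ℤ (_ • _), map_smul, advL_apply, smul_mul_assoc,
      e2, smul_add, mul_smul_comm]

theorem eqvt_xg {R : Type*} [CommRing R] (r : Fin D.nroots) (t : R) : Eqvt (xg R r t) := by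
  refine eqvt_of_single fun b => ?_
  set v : D.Idx → ℤ := Pi.single b 1
  set d := dmat D r 1
  set a0 := adv D ℤ v
  set a1 := adv D ℤ (d.mulVec v)
  set a2 := adv D ℤ ((dmat D r 2).mulVec v)
  set a3 := adv D ℤ ((dmat D r 3).mulVec v)
  have hd := G.der r
  have j0 : d * a0 = a1 + a0 * d := hd v
  have j1 : d * a1 = 2 • a2 + a1 * d := by
    rw [hd, Matrix.mulVec_mulVec, G.pow_one, Matrix.smul_mulVec, ← advL_apply ℤ (_ • _),
      map_nsmul, advL_apply]
  have j2 : d * a2 = 3 • a3 + a2 * d := by
    rw [hd, Matrix.mulVec_mulVec, G.pow_two, Matrix.smul_mulVec, ← advL_apply ℤ (_ • _),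
      map_nsmul, advL_apply]
  have j3 : d * a3 = a3 * d := by
    rw [hd, Matrix.mulVec_mulVec, G.pow_three, Matrix.zero_mulVec, ← advL_apply, map_zero, zero_add]
  have p1 : d * d = 2 • dmat D r 2 := G.pow_one r
  have p2 : d * dmat D r 2 = 3 • dmat D r 3 := G.pow_two r
  have p3 : d * dmat D r 3 = 0 := G.pow_three r
  have k2 : dmat D r 2 * a0 = a2 + a1 * d + a0 * dmat D r 2 := by
    refine nsmul_cancel two_ne_zero ?_
    rw [← smul_mul_assoc, ← p1, mul_assoc, j0, mul_add, j1, ← mul_assoc, j0, add_mul, mul_assoc a0,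
      p1, mul_smul_comm]
    module
  have k3 : dmat D r 3 * a0 = a3 + a2 * d + a1 * dmat D r 2 + a0 * dmat D r 3 := by
    refine nsmul_cancel three_ne_zero ?_
    rw [← smul_mul_assoc, ← p2, mul_assoc, k2]
    simp only [mul_add, ← mul_assoc, j0, j1, j2, add_mul, smul_mul_assoc]
    simp only [mul_assoc, p1, p2, mul_smul_comm]
    module
  have k4 : a3 * d + a2 * dmat D r 2 + a1 * dmat D r 3 = 0 := by
    refine nsmul_cancel (n := 4) four_ne_zero ?_
    have := congrArg (d * ·) k3
    simp only [← mul_assoc, p3, zero_mul, mul_add, j0, j1, j2, j3, add_mul, smul_mul_assoc] at this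
    simp only [mul_assoc, p1, p2, p3, mul_zero, mul_smul_comm] at this
    rw [smul_zero]
    linear_combination (norm := module) -this
  have k5 : a3 * dmat D r 2 + a2 * dmat D r 3 = 0 := by
    refine nsmul_cancel (n := 5) (by norm_num) ?_
    have := congrArg (d * ·) k4
    simp only [← mul_assoc, mul_add, j1, j2, j3, add_mul, smul_mul_assoc, mul_zero] at this
    simp only [mul_assoc, p1, p2, p3, mul_zero, mul_smul_comm] at this
    rw [smul_zero]
    linear_combination (norm := module) this
  have k6 : a3 * dmat D r 3 = 0 := by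
    refine nsmul_cancel (n := 6) (by norm_num) ?_
    have := congrArg (d * ·) k5
    simp only [← mul_assoc, mul_add, j2, j3, add_mul, smul_mul_assoc, mul_zero] at this
    simp only [mul_assoc, p2, p3, mul_zero, mul_smul_comm] at this
    rw [smul_zero]
    linear_combination (norm := module) this
  set φ : Matrix D.Idx D.Idx ℤ →+* Matrix D.Idx D.Idx R := (Int.castRingHom R).mapMatrix
  have hφ : ∀ w : D.Idx → ℤ, φ (adv D ℤ w) = adv D R (fun c => (w c : R)) := fun w =>
    adv_map (Int.castRingHom R) w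
  have hv : (fun c => (v c : R)) = Pi.single b 1 := by
    funext c; by_cases hc : c = b
    · subst hc; simp [v]
    · simp [v, hc]
  have hcol : ∀ k, (dR R r k).mulVec (Pi.single b 1) = fun c => (((dmat D r k).mulVec v) c : R) := by
    intro k; funext c; simp [dR, v]
  have e1 : dR R r 1 * φ a0 = φ a1 + φ a0 * dR R r 1 := by
    have := congrArg φ j0; simp only [map_mul, map_add, map_zero] at this; exact this
  have e2 : dR R r 2 * φ a0 = φ a2 + φ a1 * dR R r 1 + φ a0 * dR R r 2 := by
    have := congrArg φ k2; simp only [map_mul, map_add, map_zero] at this; exact this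
  have e3 : dR R r 3 * φ a0 = φ a3 + φ a2 * dR R r 1 + φ a1 * dR R r 2 + φ a0 * dR R r 3 := by
    have := congrArg φ k3; simp only [map_mul, map_add, map_zero] at this; exact this
  have e4 : φ a3 * dR R r 1 + φ a2 * dR R r 2 + φ a1 * dR R r 3 = 0 := by
    have := congrArg φ k4; simp only [map_mul, map_add, map_zero] at this; exact this
  have e5 : φ a3 * dR R r 2 + φ a2 * dR R r 3 = 0 := by
    have := congrArg φ k5; simp only [map_mul, map_add, map_zero] at this; exact this
  have e6 : φ a3 * dR R r 3 = 0 := by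
    have := congrArg φ k6; simp only [map_mul, map_add, map_zero] at this; exact this
  have f0 : adv D R (Pi.single b 1) = φ a0 := by rw [hφ, hv]
  have fk : ∀ k, adv D R ((dR R r k).mulVec (Pi.single b 1)) =
      φ (adv D ℤ ((dmat D r k).mulVec v)) := fun k => by rw [hcol, hφ]
  simp only [xg_eq, Matrix.add_mulVec, Matrix.smul_mulVec, Matrix.one_mulVec, ← advL_apply,
    map_add, map_smul]
  simp only [advL_apply, fk, f0, add_mul, mul_add, one_mul, mul_one, smul_mul_assoc, mul_smul_comm,
    smul_smul]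
  simp only [e1, e2, e3, a1, a2, a3, d] at e4 e5 e6 ⊢
  linear_combination (norm := module) -(t ^ 4 • e4) - t ^ 5 • e5 - t ^ 6 • e6

theorem eqvt_nR {R : Type*} [CommRing R] (i : Fin D.rank) :
    Eqvt ((G.nZ i).map (Int.cast : ℤ → R)) :=
  (G.eqvt_nZ i).map (Int.castRingHom R)

end Good

end CfsgLib.Lie.Chev
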