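import Cfsg.Agent.Lib.Lie.Chev.Comm
import Cfsg.Agent.Lib.Lie.Chev.Api

/-!
# A datum with the commutator formula
-/

set_option autoImplicit false

namespace CfsgLib.Lie.Chev

open Cfsg.Lie
open scoped MatrixGroups

variable {D : ChevalleyDatum}

/-- a verified datum together with the certificate of the commutator formula -/
structure Full (D : ChevalleyDatum) where
  G : Good D
  cert : ∃ f : Fast, RowsOK D f ∧ chkComm D f = true

namespace Full

variable (C : Full D)

include C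

theorem keys : KeysOK D := by
  obtain ⟨f, -, hc⟩ := C.cert
  unfold chkComm at hc
  simp only [Bool.and_eq_true] at hc
  exact keysOK hc.1

theorem commAt {R : Type*} [CommRing R] (r s : Fin D.nroots) (hsr : s ≠ r) (hsn : s ≠ C.G.negr r)
    (t u : R) : CommAt D r s t u := by
  obtain ⟨f, h, hc⟩ := C.cert
  exact C.G.commAt_of_check h hc r s hsr hsn t u

/-- the roots of a chain are `s + k r`, with non-zero coefficients -/
theorem chain_root {r s : Fin D.nroots} {k : ℕ} {x : ℕ × ℤ}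
    (hx : (D.chainEntry r.val s.val)[k]? = some x) :
    x.2 ≠ 0 ∧ ∃ h : x.1 < D.nroots, C.G.rho ⟨x.1, h⟩ = C.G.rho s + ((k : ℤ) + 1) • C.G.rho r := by
  obtain ⟨f, hf, -⟩ := C.cert
  have hlt := (chainEntry_bound hf r.isLt hx).1
  have hklen : k < 3 := by
    have h1 := chainEntry_length C.G.shape r.isLt s.val
    have h2 := (List.getElem?_eq_some_iff.1 hx).1
    omega
  have hne : x.2 ≠ 0 := by
    revert hx
    unfold ChevalleyDatum.chainEntry
    cases hfind : (D.chain.getD r.val #[]).toList.find? (fun e => decide (e.1 = s.val)) with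
    | none => simp
    | some e =>
      intro hx
      exact (C.keys r.val r.isLt e (List.mem_of_find?_eq_some hfind)).2 x (List.mem_of_getElem? hx)
  have hspec : ¬ (s.val = r.val ∨ s.val = D.negIdx.getD r.val 0) := fun h => by
    rw [chainEntry_special C.keys r.isLt h] at hx
    simp at hx
  simp only [not_or] at hspec
  refine ⟨hne, hlt, ?_⟩
  have hact : act D r.val (k + 1) (D.rank + s.val) = [(D.rank + x.1, x.2)] := by
    rw [act, if_neg (by omega), Nat.add_sub_cancel_left, if_neg hspec.1, if_neg hspec.2,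
      Nat.add_sub_cancel, hx]
  have hd : dmat D r (k + 1) (Sum.inr ⟨x.1, hlt⟩) (Sum.inr s) ≠ 0 := by
    simp only [dmat, Matrix.of_apply, if_neg (Nat.succ_ne_zero k), pos, hact, coef_cons, coef_nil,
      if_true, add_zero]
    exact hne
  have := C.G.weight_eq r (k + 1) _ _ hd (by omega)
  simpa [weight] using this

theorem chainRoot_spec {r s : Fin D.nroots} {k x : ℕ} (hk : 1 ≤ k)
    (hx : D.chainRoot r.val s.val k = some x) :
    ∃ h : x < D.nroots, C.G.rho ⟨x, h⟩ = C.G.rho s + (k : ℤ) • C.G.rho r := by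
  obtain ⟨e, he, rfl⟩ := Option.map_eq_some_iff.1 hx
  obtain ⟨-, h, hr⟩ := C.chain_root he
  refine ⟨h, hr.trans ?_⟩
  rw [show ((k - 1 : ℕ) : ℤ) + 1 = (k : ℤ) by omega]

/-- the roots in the commutator formula are `i r + j s` -/
theorem commTerms_weight {r s : Fin D.nroots} {c : ℕ × ℤ × ℕ × ℕ}
    (hc : c ∈ D.commTerms r.val s.val) :
    1 ≤ c.2.2.1 ∧ 1 ≤ c.2.2.2 ∧ ∃ h : c.1 < D.nroots,
      C.G.rho ⟨c.1, h⟩ = (c.2.2.1 : ℤ) • C.G.rho r + (c.2.2.2 : ℤ) • C.G.rho s := by
  simp only [ChevalleyDatum.commTerms, List.mem_filterMap] at hc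
  obtain ⟨a, ha, hac⟩ := hc
  obtain ⟨x, hx, rfl⟩ := Option.map_eq_some_iff.1 hac
  simp only [List.mem_cons, List.not_mem_nil, or_false] at ha
  rcases ha with rfl | rfl | rfl | rfl | rfl | rfl | rfl <;>
    refine ⟨by norm_num, by norm_num, ?_⟩ <;> simp only at hx ⊢
  · obtain ⟨h, e⟩ := C.chainRoot_spec le_rfl hx; exact ⟨h, e.trans (by push_cast; module)⟩
  · obtain ⟨h, e⟩ := C.chainRoot_spec (by norm_num) hx; exact ⟨h, e.trans (by push_cast; module)⟩
  · obtain ⟨h, e⟩ := C.chainRoot_spec (by norm_num) hx; exact ⟨h, e.trans (by push_cast; module)⟩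
  · obtain ⟨h, e⟩ := C.chainRoot_spec (by norm_num) hx; exact ⟨h, e.trans (by push_cast; module)⟩
  · obtain ⟨h, e⟩ := C.chainRoot_spec (by norm_num) hx; exact ⟨h, e.trans (by push_cast; module)⟩
  · obtain ⟨y, hy, hy'⟩ := Option.bind_eq_some_iff.1 hx
    obtain ⟨hy1, ey⟩ := C.chainRoot_spec (by norm_num) hy
    obtain ⟨h, e⟩ := C.chainRoot_spec (r := ⟨y, hy1⟩) (s := s) le_rfl hy'
    exact ⟨h, e.trans (by rw [ey]; push_cast; module)⟩
  · obtain ⟨y, hy, hy'⟩ := Option.bind_eq_some_iff.1 hx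
    obtain ⟨hy1, ey⟩ := C.chainRoot_spec (by norm_num) hy
    obtain ⟨h, e⟩ := C.chainRoot_spec (r := ⟨y, hy1⟩) (s := r) le_rfl hy'
    exact ⟨h, e.trans (by rw [ey]; push_cast; module)⟩

/-- the commutator formula in the general linear group, in the form `x_r(-t) x_s(u) x_r(t) = x_s(u) w` -/
theorem conj_xu {K : Type*} [Field K] (r s : Fin D.nroots) (hsr : s ≠ r) (hsn : s ≠ C.G.negr r)
    (t u : K) : ∃ l : List (Fin D.nroots × K),
      (∀ p ∈ l, ∃ i j : ℕ, 1 ≤ i ∧ 1 ≤ j ∧
        C.G.rho p.1 = (i : ℤ) • C.G.rho r + (j : ℤ) • C.G.rho s) ∧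
      (C.G.xu r t)⁻¹ * C.G.xu s u * C.G.xu r t =
        C.G.xu s u * (l.map fun p => C.G.xu p.1 p.2).prod := by
  have h := C.commAt r s hsr hsn t u
  unfold CommAt at h
  refine ⟨(D.commTerms r.val s.val).pmap
    (fun c hc => ((⟨c.1, hc⟩ : Fin D.nroots), (c.2.1 : K) * (-t) ^ c.2.2.1 * u ^ c.2.2.2))
    (fun c hc => (C.commTerms_weight hc).2.2.1), ?_, ?_⟩
  · intro p hp
    obtain ⟨c, hc, rfl⟩ := List.mem_pmap.1 hp
    obtain ⟨h1, h2, h3, h4⟩ := C.commTerms_weight hc
    exact ⟨_, _, h1, h2, h4⟩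
  · rw [mul_assoc, inv_mul_eq_iff_eq_mul]
    apply Units.ext
    simp only [Units.val_mul, Good.coe_xu, h, mul_assoc]
    congr 2
    rw [← Units.coeHom_apply, map_list_prod, wordR, cwR, List.map_map, List.map_map,
      List.map_pmap]
    congr 1
    refine List.ext_getElem (by simp) fun i h1 h2 => ?_
    simp only [List.getElem_map, List.getElem_pmap, Function.comp_apply, Units.coeHom_apply,
      Good.coe_xu, xN]
    rw [dif_pos, mul_assoc]
    exact (C.commTerms_weight (List.getElem_mem _)).2.2.1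

end Full

end CfsgLib.Lie.Chev
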