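import Cfsg.Agent.Lib.Lie.Chev.Coef

/-!
# The facts about a Chevalley datum that are verified by computation on the tables

Everything else about the Chevalley groups is deduced from these.
-/

set_option autoImplicit false

namespace CfsgLib.Lie.Chev

open Cfsg.Lie

variable (D : ChevalleyDatum)

/-- the Cartan integer `A_{p_i, s}` -/
def cart (i : Fin D.rank) (s : Fin D.nroots) : ℤ := D.cartan i.val s.val

/-- the adjoint action of a basis vector -/
def adb : D.Idx → Matrix D.Idx D.Idx ℤ
  | Sum.inl i => Matrix.diagonal (Sum.elim (fun _ => 0) fun s => cart D i s)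
  | Sum.inr r => dmat D r 1

/-- the adjoint action of a vector over a commutative ring -/
def adv (R : Type*) [CommRing R] (v : D.Idx → R) : Matrix D.Idx D.Idx R :=
  ∑ b, v b • (adb D b).map (Int.cast : ℤ → R)

/-- the weight of a basis vector -/
def weight (rho : Fin D.nroots → Fin D.rank → ℤ) : D.Idx → Fin D.rank → ℤ :=
  Sum.elim (fun _ => 0) rho

/-- the matrix of `n_{p_i}(1)` in the form of a signed permutation of the root vectors -/
def nmat (i : Fin D.rank) (pi : Fin D.nroots) (w : Fin D.nroots → Fin D.nroots)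
    (eta : Fin D.nroots → ℤ) : Matrix D.Idx D.Idx ℤ :=
  Matrix.of fun row col =>
    match row, col with
    | Sum.inl j', Sum.inl j =>
        (if j' = j then 1 else 0) - (if j' = i then cart D j pi else 0)
    | Sum.inr s', Sum.inr s => if s' = w s then eta s else 0
    | _, _ => 0

/-- the verified facts -/
structure Good where
  shape : Shape D
  /-- the coordinates of the roots on the fundamental roots -/
  rho : Fin D.nroots → Fin D.rank → ℤ
  /-- the negative of a root -/
  negr : Fin D.nroots → Fin D.nroots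
  negr_val : ∀ r, (negr r).val = D.neg r.val
  rho_negr : ∀ r, rho (negr r) = - rho r
  /-- the fundamental roots -/
  simp' : Fin D.rank → Fin D.nroots
  simp_val : ∀ i, (simp' i).val = D.simple i.val
  rho_simp : ∀ i, rho (simp' i) = Pi.single i 1
  cart_eq : ∀ i s, cart D i s = ∑ j, rho s j * cart D i (simp' j)
  cart_simp : ∀ i, cart D i (simp' i) = 2
  /-- integer weights that order the roots -/
  base : ℤ
  order : ∀ r s : Fin D.nroots, r < s →
    ∑ j : Fin D.rank, rho r j * base ^ (D.rank - 1 - j.val) <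
      ∑ j : Fin D.rank, rho s j * base ^ (D.rank - 1 - j.val)
  posroot : ∀ r : Fin D.nroots, D.IsPosRoot r.val ↔
    0 < ∑ j : Fin D.rank, rho r j * base ^ (D.rank - 1 - j.val)
  negroot : ∀ r : Fin D.nroots, D.IsNegRoot r.val ↔
    ∑ j : Fin D.rank, rho r j * base ^ (D.rank - 1 - j.val) < 0
  rho_sign : ∀ r : Fin D.nroots, (∀ j, 0 ≤ rho r j) ∨ (∀ j, rho r j ≤ 0)
  pow_one : ∀ r, dmat D r 1 * dmat D r 1 = 2 • dmat D r 2
  pow_two : ∀ r, dmat D r 1 * dmat D r 2 = 3 • dmat D r 3
  pow_three : ∀ r, dmat D r 1 * dmat D r 3 = 0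
  weight_eq : ∀ r k i j, dmat D r k i j ≠ 0 → k < 4 →
    weight D rho i = weight D rho j + (k : ℤ) • rho r
  /-- the simple reflections on the roots -/
  w : Fin D.rank → Fin D.nroots → Fin D.nroots
  w_reflect : ∀ i s, (w i s).val = D.reflectRoot i.val s.val
  w_w : ∀ i s, w i (w i s) = s
  rho_w : ∀ i s, rho (w i s) = rho s - cart D i s • Pi.single i 1
  /-- the signs of `n_{p_i}(1)` -/
  eta : Fin D.rank → Fin D.nroots → ℤ
  eta_unit : ∀ i s, eta i s = 1 ∨ eta i s = -1
  eta_w : ∀ i s, eta i s * eta i (w i s) = (-1) ^ (cart D i s).natAbs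
  eta_negr : ∀ i s, eta i s * eta i (negr s) = 1
  eta_simp : ∀ i, eta i (simp' i) = -1
  nword : ∀ i, xg ℤ (simp' i) 1 * xg ℤ (negr (simp' i)) (-1) * xg ℤ (simp' i) 1 =
    nmat D i (simp' i) (w i) (eta i)
  equiv : ∀ i b, nmat D i (simp' i) (w i) (eta i) * adb D b =
    adv D ℤ (fun c => nmat D i (simp' i) (w i) (eta i) c b) * nmat D i (simp' i) (w i) (eta i)
  /-- the chosen representatives of the orbits of roots -/
  reps : Finset (Fin D.rank)
  jac : ∀ i ∈ reps, ∀ b, dmat D (simp' i) 1 * adb D b - adb D b * dmat D (simp' i) 1 =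
    adv D ℤ (fun c => dmat D (simp' i) 1 c b)
  orbit : ∀ P : Fin D.nroots → Prop, (∀ i ∈ reps, P (simp' i)) →
    (∀ i r, P r → P (w i r)) → ∀ r, P r
  base_pos : 0 < base
  coroot_simp : ∀ i j : Fin D.rank,
    (D.coroot.getD (simp' i).val #[]).getD j.val 0 = if j = i then 1 else 0
  coroot_gcd : ∀ r : Fin D.nroots, ∃ c : Fin D.rank → ℤ,
    ∑ j, c j * (D.coroot.getD r.val #[]).getD j.val 0 = 1

end CfsgLib.Lie.Chev
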