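import Cfsg.Agent.Lib.Lie.Chev.AutStd
import Cfsg.Agent.Lib.Lie.Chev.Tw.Aut
import Cfsg.Agent.Lib.Lie.Chev.Tw.DataE6
import Cfsg.Agent.Lib.Lie.Chev.Tw.DataD4
import Cfsg.Agent.Lib.Lie.Chev.Tw.DataD4t
import Cfsg.Agent.Lib.Lie.Chev.Tw.DataF4
import Cfsg.Agent.Lib.Lie.Chev.Tw.DataG2
import Cfsg.Agent.Lib.Lie.Chev.CommD4
import Cfsg.Agent.Lib.Lie.Chev.CommE6
import Cfsg.Agent.Lib.Lie.Chev.CommF4
import Cfsg.Agent.Lib.Lie.Chev.CommG2

/-!
# Which symmetries of the diagram come from automorphisms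
-/

set_option autoImplicit false
set_option maxRecDepth 100000

namespace CfsgLib.Lie.Chev

open Cfsg.Lie
open scoped MatrixGroups

universe u

variable {D : ChevalleyDatum} {f : Fast} {E : EmbData}

/-- the table sends the fundamental roots and their negatives as the node permutation prescribes -/
def NodeOK (D : ChevalleyDatum) (E : EmbData) (π : Fin D.rank → Fin D.rank) : Prop :=
  ∀ i : Fin D.rank, E.eps.get (D.simple i.val) = false ∧
    E.p.get (D.simple i.val) = D.simple (π i).val ∧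
    E.eps.get (D.neg (D.simple i.val)) = false ∧
    E.p.get (D.neg (D.simple i.val)) = D.neg (D.simple (π i).val) ∧
    E.lam.get (D.neg (D.simple i.val)) = E.lam.get (D.simple i.val)

noncomputable instance (D : ChevalleyDatum) (E : EmbData) (π : Fin D.rank → Fin D.rank) :
    Decidable (NodeOK D E π) := by unfold NodeOK; infer_instance

namespace Full

variable (C : Full D) {K : Type u} [Field K]

theorem mem_range_of_emb (h : Emb C.G f E) {φ : ↥(D.group K) ≃* ↥(D.group K)}
    (hφ : ∀ r t, φ ⟨C.G.xu r t, C.G.xu_mem _ _⟩ =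
      ⟨C.G.xu (h.proot r) ((sgnB (E.eps.get r.val) : K) * t ^ E.lam.get r.val), C.G.xu_mem _ _⟩)
    (π : Equiv.Perm (Fin D.rank)) (hn : NodeOK D E π)
    (τ : Fin D.rank → K ≃+* K) (hτ : ∀ (i : Fin D.rank) (t : K), τ i t = t ^ E.lam.get (D.simple i.val)) :
    π ∈ (C.nodeHom (K := K)).range := by
  have hstd : C.IsStd φ π τ := by
    intro i t
    obtain ⟨h1, h2, h3, h4, h5⟩ := hn i
    refine ⟨(hφ _ t).trans (Subtype.ext ?_), (hφ _ t).trans (Subtype.ext ?_)⟩
    · show C.G.xu _ _ = C.G.xu _ _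
      rw [C.G.simp_val, h1, sgnB, cond_false, Int.cast_one, one_mul, hτ]
      congr 1
      refine Fin.ext ?_
      show E.p.get (C.G.simp' i).val = (C.G.simp' (π i)).val
      rw [C.G.simp_val, C.G.simp_val, h2]
    · show C.G.xu _ _ = C.G.xu _ _
      rw [← C.G.neg_val, C.G.simp_val, h3, h5, sgnB, cond_false, Int.cast_one, one_mul, hτ]
      congr 1
      refine Fin.ext ?_
      show E.p.get (C.G.negr (C.G.simp' i)).val = (C.G.negr (C.G.simp' (π i))).val
      rw [← C.G.neg_val, ← C.G.neg_val, C.G.simp_val, C.G.simp_val, h4]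
  exact ⟨⟨φ, π, τ, hstd⟩, hstd.nodeHom_eq⟩

/-- the permutation of an outer pair of root lengths forces an additive power map -/
theorem add_pow_of_swap {π : Equiv.Perm (Fin D.rank)} (hπ : π ∈ (C.nodeHom (K := K)).range)
    (i j : Fin D.rank) {m : ℕ} (hm : m ≠ 0) (h1 : D.cartan j.val (D.simple i.val) = -1)
    (h2 : D.cartan (π j).val (D.simple (π i).val) = -(m : ℤ)) (x : K) : (x + 1) ^ m = x ^ m + 1 := by
  obtain ⟨⟨φ, π', σ, h⟩, rfl⟩ := hπ
  rw [h.nodeHom_eq] at h2
  have key : ∀ t, σ i t = σ j t ^ m := by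
    intro t
    rcases eq_or_ne t 0 with rfl | ht
    · simp [hm]
    · have r := h.rel j i (Units.mk0 t ht)
      rw [cart, C.G.simp_val, h1, cart, C.G.simp_val, h2, zpow_neg_one, map_inv₀, Units.val_mk0,
        zpow_neg, inv_inj, zpow_natCast] at r
      exact r
  obtain ⟨y, rfl⟩ := (σ j).surjective x
  rw [← map_one (σ j), ← map_add, ← key, ← key, map_add, map_one, map_one]

end Full

theorem exists_pow_ringAut {K : Type u} [Field K] [Finite K] (p : ℕ) [Fact p.Prime] [CharP K p] (e : ℕ)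
    (he : e = 1 ∨ e = p) : ∃ τ : K ≃+* K, ∀ t, τ t = t ^ e := by
  rcases he with rfl | rfl
  · exact ⟨RingEquiv.refl K, fun t => (pow_one t).symm⟩
  · exact ⟨frobeniusEquiv K e, fun t => frobenius_def e t⟩

namespace GraphEx

variable {K : Type u} [Field K]

theorem mem_E6 (C : Full chevE6) :
    ∀ π : Equiv.Perm (Fin chevE6.rank), NodeOK chevE6 graphE6 π →
      π ∈ (C.nodeHom (K := K)).range := by
  intro π hπ
  have h : Emb C.G fastE6 graphE6 := ⟨checksE6, chk_graphE6⟩
  obtain ⟨α, hα⟩ := h.exists_aut_of_all (K := K) rfl (fun a => by revert a; decide +kernel)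
    (fun a => by revert a; decide +kernel) (h.proot_surjective (by decide +kernel)) (by decide +kernel)
  have hl : ∀ i : Fin chevE6.rank, graphE6.lam.get (chevE6.simple i.val) = 1 := by decide +kernel
  exact C.mem_range_of_emb h hα π hπ (fun _ => RingEquiv.refl K) fun i t => by rw [hl, pow_one]; rfl

theorem mem_D4 (C : Full chevD4) :
    ∀ π : Equiv.Perm (Fin chevD4.rank), NodeOK chevD4 graphD4 π →
      π ∈ (C.nodeHom (K := K)).range := by
  intro π hπ
  have h : Emb C.G fastD4 graphD4 := ⟨checksD4, chk_graphD4⟩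
  obtain ⟨α, hα⟩ := h.exists_aut_of_all (K := K) rfl (fun a => by revert a; decide +kernel)
    (fun a => by revert a; decide +kernel) (h.proot_surjective (by decide +kernel)) (by decide +kernel)
  have hl : ∀ i : Fin chevD4.rank, graphD4.lam.get (chevD4.simple i.val) = 1 := by decide +kernel
  exact C.mem_range_of_emb h hα π hπ (fun _ => RingEquiv.refl K) fun i t => by rw [hl, pow_one]; rfl

theorem mem_D4t (C : Full chevD4) :
    ∀ π : Equiv.Perm (Fin chevD4.rank), NodeOK chevD4 graphD4t π →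
      π ∈ (C.nodeHom (K := K)).range := by
  intro π hπ
  have h : Emb C.G fastD4 graphD4t := ⟨checksD4, chk_graphD4t⟩
  obtain ⟨α, hα⟩ := h.exists_aut_of_all (K := K) rfl (fun a => by revert a; decide +kernel)
    (fun a => by revert a; decide +kernel) (h.proot_surjective (by decide +kernel)) (by decide +kernel)
  have hl : ∀ i : Fin chevD4.rank, graphD4t.lam.get (chevD4.simple i.val) = 1 := by decide +kernel
  exact C.mem_range_of_emb h hα π hπ (fun _ => RingEquiv.refl K) fun i t => by rw [hl, pow_one]; rfl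

theorem mem_F4 [Finite K] [CharP K 2] (C : Full chevF4) :
    ∀ π : Equiv.Perm (Fin chevF4.rank), NodeOK chevF4 graphF4 π →
      π ∈ (C.nodeHom (K := K)).range := by
  intro π hπ
  haveI : Fact (Nat.Prime 2) := ⟨Nat.prime_two⟩
  have hperf : ∀ y : K, ∃ x : K, x ^ 2 = y := fun y => (bijective_frobenius K 2).2 y
  have h : Emb C.G fastF4 graphF4 := ⟨checksF4, chk_graphF4⟩
  obtain ⟨α, hα⟩ := h.exists_aut_of_witness (K := K) 2 rfl connectedF4 (fun L _ _ => inDerF4 _)
    (h.proot_surjective (by decide +kernel)) ⟨0, by decide +kernel⟩ (Sum.inr ⟨1, by decide +kernel⟩)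
    (Sum.inr ⟨24, by decide +kernel⟩) (by decide +kernel) (by decide +kernel) hperf
  have hl : ∀ i : Fin chevF4.rank, graphF4.lam.get (chevF4.simple i.val) = 1 ∨
      graphF4.lam.get (chevF4.simple i.val) = 2 := by decide +kernel
  choose τ hτ using fun i => exists_pow_ringAut (K := K) 2 _ (hl i)
  exact C.mem_range_of_emb h hα π hπ τ hτ

theorem mem_G2 [Finite K] [CharP K 3] (C : Full chevG2) :
    ∀ π : Equiv.Perm (Fin chevG2.rank), NodeOK chevG2 graphG2 π →
      π ∈ (C.nodeHom (K := K)).range := by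
  intro π hπ
  haveI : Fact (Nat.Prime 3) := ⟨Nat.prime_three⟩
  have hperf : ∀ y : K, ∃ x : K, x ^ 3 = y := fun y => (bijective_frobenius K 3).2 y
  have h : Emb C.G fastG2 graphG2 := ⟨checksG2, chk_graphG2⟩
  obtain ⟨α, hα⟩ := h.exists_aut_of_witness (K := K) 3 rfl connectedG2 (fun L _ ha => inDerG2 _ ha)
    (h.proot_surjective (by decide +kernel)) ⟨0, by decide +kernel⟩ (Sum.inr ⟨1, by decide +kernel⟩)
    (Sum.inr ⟨6, by decide +kernel⟩) (by decide +kernel) (by decide +kernel) hperf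
  have hl : ∀ i : Fin chevG2.rank, graphG2.lam.get (chevG2.simple i.val) = 1 ∨
      graphG2.lam.get (chevG2.simple i.val) = 3 := by decide +kernel
  choose τ hτ using fun i => exists_pow_ringAut (K := K) 3 _ (hl i)
  exact C.mem_range_of_emb h hα π hπ τ hτ

end GraphEx

end CfsgLib.Lie.Chev
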