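import Cfsg.Agent.Lib.Lie.Chev.Vec2

/-!
# From the certificates to the facts: roots, weights, divided powers, reflections
-/

set_option autoImplicit false

namespace CfsgLib.Lie.Chev

open Cfsg.Lie

variable {D : ChevalleyDatum} {f : Fast}

/-- the coordinates of the roots read off the tables -/
noncomputable def rhoD (D : ChevalleyDatum) (f : Fast) (r : Fin D.nroots) (j : Fin D.rank) : ℤ :=
  (f.rho.get r.val).getD j.val 0

/-- the negative root -/
def negD (h : RowsOK D f) (r : Fin D.nroots) : Fin D.nroots :=
  ⟨D.negIdx.getD r.val 0, h.neg_lt r.val r.isLt⟩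

/-- the fundamental root -/
def simpD (h : RowsOK D f) (i : Fin D.rank) : Fin D.nroots :=
  ⟨D.simpleIdx.getD i.val 0, h.simples_lt i.val i.isLt⟩

theorem negs_eq (h : RowsOK D f) (r : Fin D.nroots) : f.negs.get r.val = (negD h r).val :=
  h.negs r.val r.isLt

theorem simples_eq (h : RowsOK D f) (i : Fin D.rank) : f.simples.get i.val = (simpD h i).val :=
  h.simples i.val i.isLt

theorem cartF_cart (h : RowsOK D f) (i : Fin D.rank) (s : Fin D.nroots) :
    cartF f i.val s.val = cart D i s :=
  cartF_eq h i.isLt s.isLt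

/-- the consequences of `chkRoots` -/
structure RootsOK (h : RowsOK D f) : Prop where
  len : ∀ r : Fin D.nroots, (f.rho.get r.val).length = D.rank
  rho_neg : ∀ r, rhoD D f (negD h r) = - rhoD D f r
  sign : ∀ r, (∀ j, 0 ≤ rhoD D f r j) ∨ (∀ j, rhoD D f r j ≤ 0)
  order : ∀ r s : Fin D.nroots, r < s →
    ∑ j : Fin D.rank, rhoD D f r j * (f.base : ℤ) ^ (D.rank - 1 - j.val) <
      ∑ j : Fin D.rank, rhoD D f s j * (f.base : ℤ) ^ (D.rank - 1 - j.val)
  posr : ∀ r : Fin D.nroots, D.IsPosRoot r.val ↔
    0 < ∑ j : Fin D.rank, rhoD D f r j * (f.base : ℤ) ^ (D.rank - 1 - j.val)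
  negr : ∀ r : Fin D.nroots, D.IsNegRoot r.val ↔
    ∑ j : Fin D.rank, rhoD D f r j * (f.base : ℤ) ^ (D.rank - 1 - j.val) < 0
  gcd : ∀ r : Fin D.nroots, ∃ c : Fin D.rank → ℤ,
    ∑ j, c j * (D.coroot.getD r.val #[]).getD j.val 0 = 1
  simp_unit : ∀ i, rhoD D f (simpD h i) = Pi.single i 1
  two : ∀ i, cart D i (simpD h i) = 2
  lin : ∀ i s, cart D i s = ∑ j, rhoD D f s j * cart D i (simpD h j)
  basepos : 0 < f.base
  corsimp : ∀ i j : Fin D.rank,
    (D.coroot.getD (simpD h i).val #[]).getD j.val 0 = if j = i then 1 else 0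

theorem rootsOK (h : RowsOK D f) (hc : chkRoots D f = true) : RootsOK h := by
  simp only [chkRoots, Bool.and_eq_true] at hc
  obtain ⟨⟨hr, hb0⟩, hi⟩ := hc
  have R := fun (r : Fin D.nroots) => by
    have := allLt_spec hr r.val r.isLt
    simp only [Bool.and_eq_true, Bool.or_eq_true, Nat.beq_eq, beq_iff_eq, decide_eq_true_eq] at this
    exact this
  have I := fun (i : Fin D.rank) => by
    have := allLt_spec hi i.val i.isLt
    simp only [Bool.and_eq_true, beq_iff_eq] at this
    exact this.2
  have hcor := fun (i : Fin D.rank) => by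
    have := allLt_spec hi i.val i.isLt
    simp only [Bool.and_eq_true, beq_iff_eq] at this
    exact this.1
  have hlen : ∀ r : Fin D.nroots, (f.rho.get r.val).length = D.rank := fun r => (R r).1.1.1.1.1.1.1
  have hw : ∀ r : Fin D.nroots, wcode f.base (f.rho.get r.val) =
      ∑ j : Fin D.rank, rhoD D f r j * (f.base : ℤ) ^ (D.rank - 1 - j.val) :=
    fun r => wcode_fin _ (hlen r)
  have hall : ∀ (r : Fin D.nroots) (P : ℤ → Prop),
      (∀ e ∈ f.cor.get r.val, P e.2) ↔ (∀ c ∈ (D.coroot.getD r.val #[]).toList, P c) := by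
    intro r P
    rw [h.cor r.val r.isLt]
    have hsz := h.corsize r.val r.isLt
    constructor
    · intro H c hc
      obtain ⟨j, hj, rfl⟩ := List.getElem_of_mem hc
      have hj' : j < D.rank := by rw [← hsz]; simpa using hj
      have := H (j, _) (List.mem_map.2 ⟨j, List.mem_range.2 hj', rfl⟩)
      rw [Array.getD_eq_getD_getElem?, Array.getElem?_eq_getElem (by omega), Option.getD_some] at this
      simpa [Array.getElem_toList] using this
    · intro H e he
      obtain ⟨j, hj, rfl⟩ := List.mem_map.1 he
      rw [List.mem_range] at hj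
      simp only
      rw [Array.getD_eq_getD_getElem?, Array.getElem?_eq_getElem (by omega), Option.getD_some]
      exact H _ (by simp [Array.mem_toList_iff])
  constructor
  · exact hlen
  · intro r
    funext j
    have := (R r).1.1.1.1.1.1.2
    rw [negs_eq h r] at this
    simp only [rhoD, this, Pi.neg_apply]
    rw [List.getD_eq_getElem _ _ (by rw [List.length_map, hlen]; exact j.isLt), List.getElem_map,
      List.getD_eq_getElem _ _ (by rw [hlen]; exact j.isLt)]
  · intro r
    rcases (R r).1.1.1.1.1.2 with H | H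
    · left
      intro j
      rw [List.all_eq_true] at H
      simp only [rhoD]
      rw [List.getD_eq_getElem _ _ (by rw [hlen]; exact j.isLt)]
      simpa using H _ (List.getElem_mem _)
    · right
      intro j
      rw [List.all_eq_true] at H
      simp only [rhoD]
      rw [List.getD_eq_getElem _ _ (by rw [hlen]; exact j.isLt)]
      simpa using H _ (List.getElem_mem _)
  · intro r s hrs
    rw [← hw, ← hw]
    refine lt_of_lt_next (g := fun m => wcode f.base (f.rho.get m)) (n := D.nroots) ?_ hrs s.isLt
    intro m hm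
    rcases (R ⟨m, by omega⟩).1.1.1.1.2 with H | H
    · exact absurd H (by simp only; omega)
    · exact H
  · intro r
    rw [← hw]
    have := (R r).1.1.1.2
    rw [Bool.eq_iff_iff, List.all_eq_true] at this
    simp only [decide_eq_true_eq] at this
    rw [← this, ChevalleyDatum.IsPosRoot]
    exact ⟨fun H => (hall r fun c => 0 ≤ c).2 H.2,
      fun H => ⟨r.isLt, (hall r fun c => 0 ≤ c).1 H⟩⟩
  · intro r
    rw [← hw]
    have := (R r).1.1.2
    rw [Bool.eq_iff_iff, List.all_eq_true] at this
    simp only [decide_eq_true_eq] at this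
    rw [← this, ChevalleyDatum.IsNegRoot]
    exact ⟨fun H => (hall r fun c => c ≤ 0).2 H.2,
      fun H => ⟨r.isLt, (hall r fun c => c ≤ 0).1 H⟩⟩
  · intro r
    refine ⟨fun j => (f.bez.get r.val).getD j.val 0, ?_⟩
    have h1 := (R r).1.2
    have h2 := (R r).2
    rw [h.cor r.val r.isLt, List.map_map, dot_range _ h2] at h1
    exact h1
  · intro i
    funext j
    have := (I i).1.1
    rw [simples_eq h i] at this
    simp only [rhoD, this, getD_unit i j]
  · intro i
    have := (I i).1.2
    rw [simples_eq h i, cartF_cart h] at this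
    exact this
  · intro i s
    have := allLt_spec (I i).2 s.val s.isLt
    simp only [beq_iff_eq] at this
    rw [cartF_cart h] at this
    rw [this, dot_range _ (hlen s)]
    refine Finset.sum_congr rfl fun j _ => ?_
    rw [simples_eq h j, cartF_cart h]
    rfl
  · exact Nat.blt_eq.mp hb0
  · intro i j
    have := congrArg (fun v => List.getD v j.val (0, (0 : ℤ))) (hcor i)
    rw [simples_eq h i, h.cor _ (simpD h i).isLt] at this
    rw [List.getD_eq_getElem _ _ (by rw [List.length_map, List.length_range]; exact j.isLt),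
      List.getD_eq_getElem _ _ (by rw [List.length_map, List.length_range]; exact j.isLt)] at this
    simp only [List.getElem_map, List.getElem_range, Prod.mk.injEq, true_and] at this
    rw [this]
    by_cases e : j = i
    · rw [if_pos e, natBeq_true (congrArg Fin.val e), cond_true]
    · rw [if_neg e, natBeq_false (fun x => e (Fin.ext x)), cond_false]

/-- the reflection read off the tables -/
noncomputable def wD (f : Fast) (h : ∀ i : Fin D.rank, ∀ s : Fin D.nroots, wF f i.val s.val < D.nroots)
    (i : Fin D.rank) (s : Fin D.nroots) : Fin D.nroots :=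
  ⟨wF f i.val s.val, h i s⟩

/-- the sign read off the tables -/
noncomputable def etaD (D : ChevalleyDatum) (f : Fast) (i : Fin D.rank) (s : Fin D.nroots) : ℤ :=
  etaF f i.val s.val

theorem etaF_unit (f : Fast) (i s : ℕ) : etaF f i s = 1 ∨ etaF f i s = -1 := by
  unfold etaF
  cases Nat.beq (digit (f.tw.get i) s / 1024) 0 with
  | false => exact Or.inr rfl
  | true => exact Or.inl rfl

theorem nF_inR (h : RowsOK D f) (hw : ∀ i : Fin D.rank, ∀ s : Fin D.nroots, wF f i.val s.val < D.nroots)
    (i : Fin D.rank) {b : ℕ} (hb : b < D.rank + D.nroots) : InR D (nF D f i.val b) := by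
  intro e he
  unfold nF at he
  by_cases hbl : b < D.rank
  · rw [natBlt_true hbl, cond_true] at he
    simp only [List.mem_cons, List.not_mem_nil, or_false] at he
    rcases he with rfl | rfl
    · exact hb
    · have := i.isLt; simp only; omega
  · rw [natBlt_false hbl, cond_false, List.mem_singleton] at he
    subst he
    have := hw i ⟨b - D.rank, by omega⟩
    simp only at this ⊢
    omega

theorem hasCols_nmat (h : RowsOK D f)
    (hw : ∀ i : Fin D.rank, ∀ s : Fin D.nroots, wF f i.val s.val < D.nroots) (i : Fin D.rank) :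
    HasCols (nmat D i (simpD h i) (wD f hw i) (etaD D f i)) (fun b => nF D f i.val b) := by
  intro row col
  simp only [nF]
  rcases col with j | s
  · have hj : j.val < D.rank := j.isLt
    rw [natBlt_true (show pos D (Sum.inl j) < D.rank from hj), cond_true, coef_cons, coef_cons,
      coef_nil, add_zero]
    rcases row with j' | s'
    · simp only [nmat, Matrix.of_apply, pos]
      rw [simples_eq h i, cartF_cart h j (simpD h i)]
      have e1 : (j.val = j'.val) = (j' = j) := propext ⟨fun e => Fin.ext e.symm, fun e => by rw [e]⟩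
      have e2 : (i.val = j'.val) = (j' = i) := propext ⟨fun e => Fin.ext e.symm, fun e => by rw [e]⟩
      simp only [e1, e2]
      split_ifs <;> ring
    · have h1 : ¬ (j.val = D.rank + s'.val) := by omega
      have h2 : ¬ (i.val = D.rank + s'.val) := by have := i.isLt; omega
      simp [nmat, pos, h1, h2]
  · have hs : ¬ (pos D (Sum.inr s) < D.rank) := by simp [pos]
    rw [natBlt_false hs, cond_false, coef_pair]
    rcases row with j' | s'
    · have h1 : ¬ (D.rank + wF f i.val (pos D (Sum.inr s) - D.rank) = j'.val) := by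
        have := j'.isLt; omega
      simp only [nmat, Matrix.of_apply]
      rw [if_neg]
      exact h1
    · simp only [nmat, Matrix.of_apply, pos, Nat.add_sub_cancel_left, wD, etaD]
      by_cases e : s'.val = wF f i.val s.val
      · simp [Fin.ext_iff, e]
      · simp [Fin.ext_iff, e, Ne.symm e]

/-- the consequences of `chkN` -/
structure NOK (h : RowsOK D f) : Prop where
  wlt : ∀ (i : Fin D.rank) (s : Fin D.nroots), wF f i.val s.val < D.nroots
  ww : ∀ i s, wD f wlt i (wD f wlt i s) = s
  rho_w : ∀ i s, rhoD D f (wD f wlt i s) = rhoD D f s - cart D i s • Pi.single i 1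
  eta_w : ∀ i s, etaD D f i s * etaD D f i (wD f wlt i s) = (-1) ^ (cart D i s).natAbs
  eta_neg : ∀ i s, etaD D f i s * etaD D f i (negD h s) = 1
  eta_simp : ∀ i, etaD D f i (simpD h i) = -1
  word : ∀ i, xg ℤ (simpD h i) 1 * xg ℤ (negD h (simpD h i)) (-1) * xg ℤ (simpD h i) 1 =
    nmat D i (simpD h i) (wD f wlt i) (etaD D f i)

theorem nOK (h : RowsOK D f) (hR : RootsOK h) (hc : chkN D f = true) : NOK h := by
  have C := fun (i : Fin D.rank) => by
    have := allLt_spec (by unfold chkN at hc; exact hc) i.val i.isLt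
    simp only [Bool.and_eq_true, beq_iff_eq] at this
    exact this
  have S := fun (i : Fin D.rank) (s : Fin D.nroots) => by
    have := allLt_spec (C i).1.1 s.val s.isLt
    simp only [Bool.and_eq_true, beq_iff_eq, Nat.beq_eq, Nat.blt_eq] at this
    exact this
  have hw : ∀ (i : Fin D.rank) (s : Fin D.nroots), wF f i.val s.val < D.nroots :=
    fun i s => (S i s).1.1.1.1
  refine ⟨hw, ?_, ?_, ?_, ?_, ?_, ?_⟩
  · intro i s
    exact Fin.ext (S i s).1.1.1.2
  · intro i s
    have := (S i s).1.1.2
    funext j
    simp only [rhoD, wD, this, Pi.sub_apply, Pi.smul_apply, smul_eq_mul]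
    rw [getD_addMul _ _ _ (by simp [hR.len s]), getD_unit i j, cartF_cart h]
    ring
  · intro i s
    have := (S i s).1.2
    rw [cartF_cart h] at this
    exact this
  · intro i s
    have := (S i s).2
    rw [negs_eq h s] at this
    exact this
  · intro i
    have := (C i).1.2
    rw [simples_eq h i] at this
    exact this
  · intro i
    have hp := (simpD h i).isLt
    have hm := (negD h (simpD h i)).isLt
    rw [Matrix.mul_assoc]
    refine ((hasCols_xg _ 1).mul ((hasCols_xg _ (-1)).mul (hasCols_xg _ 1)
        fun c hc' => xA_inR h hp 1 hc') fun c hc' => ?_).ext (hasCols_nmat h hw i) ?_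
    · exact (xA_inR h hp 1 hc').bindv' fun d hd => xA_inR h hm (-1) hd
    · intro b hb j
      have := eqv_spec (allLt_spec (C i).2 b hb) j
      rw [simples_eq h i, negs_eq h, xF_eq h hp 1 hb,
        bindv_congr (xA_inR h hp 1 hb) (fun d hd => xF_eq h hm (-1) hd),
        bindv_congr ((xA_inR h hp 1 hb).bindv' fun d hd => xA_inR h hm (-1) hd)
          (fun d hd => xF_eq h hp 1 hd)] at this
      exact this

theorem pow_OK (h : RowsOK D f) (hc : chkPow D f = true) (r : Fin D.nroots) :
    dmat D r 1 * dmat D r 1 = 2 • dmat D r 2 ∧ dmat D r 1 * dmat D r 2 = 3 • dmat D r 3 ∧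
      dmat D r 1 * dmat D r 3 = 0 := by
  have hr := r.isLt
  have C : ∀ b < D.rank + D.nroots, ∀ j,
      coef (bindv (act D r.val 1 b) (act D r.val 1)) j = coef (scale 2 (act D r.val 2 b)) j ∧
      coef (bindv (act D r.val 2 b) (act D r.val 1)) j = coef (scale 3 (act D r.val 3 b)) j ∧
      coef (bindv (act D r.val 3 b) (act D r.val 1)) j = 0 := by
    intro b hb j
    have hc' := by unfold chkPow at hc; exact allLt_spec (allLt_spec hc r.val hr) b hb
    cases hd : Nat.beq (digit (f.t1.get r.val) b + digit (f.t2.get r.val) b + digit (f.t3.get r.val) b) 0 with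
    | true =>
      rw [act_eq_nil_of_digits h hr hb hd le_rfl (by norm_num),
        act_eq_nil_of_digits h hr hb hd (show 1 ≤ 2 by norm_num) (by norm_num),
        act_eq_nil_of_digits h hr hb hd (show 1 ≤ 3 by norm_num) le_rfl]
      simp [bindv_nil, coef_scale]
    | false =>
      rw [hd, cond_false] at hc'
      simp only [Bool.and_eq_true] at hc'
      have e : ∀ k, 1 ≤ k → k ≤ 3 → actF f r.val k b = act D r.val k b := fun k h1 h2 =>
        actF_eq h hr h1 h2 hb
      have e1 : ∀ k, bindv (act D r.val k b) (actF f r.val 1) = bindv (act D r.val k b) (act D r.val 1) :=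
        fun k => bindv_congr (act_inR h hr k b) fun c hc2 => actF_eq h hr le_rfl (by norm_num) hc2
      have a1 := eqv_spec hc'.1.1 j
      have a2 := eqv_spec hc'.1.2 j
      have a3 := eqv_spec hc'.2 j
      rw [e 1 le_rfl (by norm_num), e 2 (by norm_num) (by norm_num), e1] at a1
      rw [e 2 (by norm_num) (by norm_num), e 3 (by norm_num) le_rfl, e1] at a2
      rw [e 3 (by norm_num) le_rfl, e1, coef_nil] at a3
      exact ⟨a1, a2, a3⟩
  refine ⟨?_, ?_, ?_⟩
  · refine ((hasCols_dmat r one_ne_zero).mul (hasCols_dmat r one_ne_zero)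
      fun c _ => act_inR h hr 1 c).ext ((hasCols_dmat r two_ne_zero).nsmul 2) fun b hb j => ?_
    exact (C b hb j).1
  · refine ((hasCols_dmat r one_ne_zero).mul (hasCols_dmat r two_ne_zero)
      fun c _ => act_inR h hr 2 c).ext ((hasCols_dmat r three_ne_zero).nsmul 3) fun b hb j => ?_
    exact (C b hb j).2.1
  · refine ((hasCols_dmat r one_ne_zero).mul (hasCols_dmat r three_ne_zero)
      fun c _ => act_inR h hr 3 c).ext (g := fun _ => []) (fun _ _ => rfl) fun b hb j => ?_
    exact (C b hb j).2.2

theorem rhoF_weight (c : D.Idx) (j : Fin D.rank) :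
    (rhoF D f (pos D c)).getD j.val 0 = weight D (rhoD D f) c j := by
  rcases c with i | s
  · rw [rhoF, natBlt_true (show pos D (Sum.inl i) < D.rank from i.isLt), cond_true, getD_zeros]
    rfl
  · rw [rhoF, natBlt_false (show ¬ pos D (Sum.inr s) < D.rank by simp [pos]), cond_false]
    simp [weight, pos, rhoD]

theorem weight_OK (h : RowsOK D f) (hR : RootsOK h) (hc : chkWeight D f = true) (r : Fin D.nroots)
    (k : ℕ) (i j : D.Idx) (hne : dmat D r k i j ≠ 0) (hk : k < 4) :
    weight D (rhoD D f) i = weight D (rhoD D f) j + (k : ℤ) • rhoD D f r := by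
  by_cases hk0 : k = 0
  · subst hk0
    have hij : i = j := by
      by_contra hij
      exact hne (by rw [dmat_zero, Matrix.one_apply_ne hij])
    subst hij; simp
  · have hb := pos_lt D j
    rw [hasCols_dmat r hk0] at hne
    simp only at hne
    obtain ⟨e, he, he1, he2⟩ := exists_of_coef_ne_zero hne
    have hc' := by unfold chkWeight at hc; exact allLt_spec (allLt_spec hc r.val r.isLt) _ hb
    cases hd : Nat.beq (digit (f.t1.get r.val) (pos D j) + digit (f.t2.get r.val) (pos D j) +
        digit (f.t3.get r.val) (pos D j)) 0 with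
    | true =>
      rw [act_eq_nil_of_digits h r.isLt hb hd (Nat.pos_of_ne_zero hk0) (by omega)] at he
      simp at he
    | false =>
      rw [hd, cond_false] at hc'
      have h3 := allLt_spec hc' (k - 1) (by omega)
      rw [show k - 1 + 1 = k by omega, actF_eq h r.isLt (Nat.pos_of_ne_zero hk0) (by omega) hb,
        List.all_eq_true] at h3
      have h4 := h3 e he
      simp only [Bool.and_eq_true, Bool.or_eq_true, beq_iff_eq, he2, false_or] at h4
      funext l
      rw [← rhoF_weight (f := f) i l, ← he1, h4.2, Pi.add_apply, ← rhoF_weight (f := f) j l,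
        getD_addMul _ _ _ ?_]
      · simp only [Pi.smul_apply, smul_eq_mul, rhoD]
        rw [show ((k - 1 : ℕ) : ℤ) + 1 = (k : ℤ) by omega]
      · rcases j with a | a
        · rw [rhoF, natBlt_true (show pos D (Sum.inl a) < D.rank from a.isLt), cond_true,
            List.length_replicate, hR.len r]
        · rw [rhoF, natBlt_false (show ¬ pos D (Sum.inr a) < D.rank by simp [pos]), cond_false,
            hR.len r, show pos D (Sum.inr a) - D.rank = a.val by simp [pos], hR.len a]

theorem chainRoot_getD (h : RowsOK D f) {r : ℕ} (hr : r < D.nroots) {s : ℕ} (hs : s < D.nroots)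
    {k : ℕ} (hk : k = 1 ∨ k = 2 ∨ k = 3) (h1 : s ≠ r) (h2 : s ≠ D.negIdx.getD r 0) :
    chainEndF D f r s k = (D.chainRoot r s k).getD s := by
  have hd : cond (Nat.beq k 1) (digit (f.t1.get r) (D.rank + s))
      (cond (Nat.beq k 2) (digit (f.t2.get r) (D.rank + s)) (digit (f.t3.get r) (D.rank + s))) =
      codeAt D r k (D.negIdx.getD r 0) (D.chain.getD r #[]).toList s := by
    rcases hk with rfl | rfl | rfl
    · rw [natBeq_true rfl, cond_true, h.t1 r hr, digit_packRow h hr _ hs]
    · rw [natBeq_false (show 2 ≠ 1 by norm_num), cond_false, natBeq_true rfl, cond_true, h.t2 r hr,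
        digit_packRow h hr _ hs]
    · rw [natBeq_false (show 3 ≠ 1 by norm_num), cond_false, natBeq_false (show 3 ≠ 2 by norm_num),
        cond_false, h.t3 r hr, digit_packRow h hr _ hs]
  unfold chainEndF
  simp only [hd]
  unfold codeAt ChevalleyDatum.chainRoot ChevalleyDatum.chainEntry
  rw [if_neg h1, if_neg h2]
  cases hf : (D.chain.getD r #[]).toList.find? (fun e => decide (e.1 = s)) with
  | none => simp
  | some e =>
    simp only
    cases hx : e.2.toList[k - 1]? with
    | none => simp
    | some x =>
      obtain ⟨-, hb⟩ := h.ent r hr e (List.mem_of_find?_eq_some hf)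
      obtain ⟨hb1, hb2⟩ := hb x (List.mem_of_getElem? hx)
      have hsm := h.small
      simp only [encode, Option.map_some, Option.getD_some]
      rw [natBeq_false (by omega), cond_false]
      omega

theorem reflect_OK (h : RowsOK D f) (hN : NOK h) (hc : chkReflect D f = true) (i : Fin D.rank)
    (s : Fin D.nroots) : (wD f hN.wlt i s).val = D.reflectRoot i.val s.val := by
  have C := allLt_spec (by unfold chkReflect at hc; exact hc) i.val i.isLt
  simp only [Bool.and_eq_true, Nat.beq_eq] at C
  obtain ⟨hnn, C⟩ := C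
  have S := allLt_spec C s.val s.isLt
  simp only [Bool.and_eq_true, Nat.beq_eq, Nat.blt_eq] at S
  obtain ⟨⟨hc1, hc2⟩, hS⟩ := S
  have hA : cart D i s = (digit (f.tA.get i.val) s.val : ℤ) - 8 := by
    rw [← cartF_cart h, cartF, Int.subNatNat_eq_coe]
    norm_num
  rw [simples_eq h i, negs_eq h] at hnn hS
  rw [show f.negs.get (negD h (simpD h i)).val = (negD h (negD h (simpD h i))).val from negs_eq h _] at hnn
  show wF f i.val s.val = _
  rw [hS]
  unfold ChevalleyDatum.reflectRoot ChevalleyDatum.simple ChevalleyDatum.neg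
  simp only [show D.cartan i.val s.val = cart D i s from rfl, hA]
  by_cases e1 : s.val = (simpD h i).val
  · rw [natBeq_true e1, cond_true, if_pos (show s.val = D.simpleIdx.getD i.val 0 from e1)]
    rfl
  rw [natBeq_false e1, cond_false, if_neg (show ¬ s.val = D.simpleIdx.getD i.val 0 from e1)]
  by_cases e2 : s.val = (negD h (simpD h i)).val
  · rw [natBeq_true e2, cond_true,
      if_pos (show s.val = D.negIdx.getD (D.simpleIdx.getD i.val 0) 0 from e2)]
    rfl
  rw [natBeq_false e2, cond_false,
    if_neg (show ¬ s.val = D.negIdx.getD (D.simpleIdx.getD i.val 0) 0 from e2)]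
  generalize hcdef : digit (f.tA.get i.val) s.val = c at hc1 hc2 hA hS ⊢
  by_cases hp : 8 < c
  · rw [natBlt_true hp, cond_true, if_pos (by omega)]
    rw [chainRoot_getD h (negD h (simpD h i)).isLt s.isLt (by omega) e2
      (by show s.val ≠ (negD h (negD h (simpD h i))).val; rw [hnn]; exact e1)]
    rw [show ((c : ℤ) - 8).toNat = c - 8 by omega]
    rfl
  rw [natBlt_false hp, cond_false, if_neg (by omega)]
  by_cases hn : c < 8
  · rw [natBlt_true hn, cond_true, if_pos (by omega)]
    rw [chainRoot_getD h (simpD h i).isLt s.isLt (by omega) e1 e2]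
    rw [show (-((c : ℤ) - 8)).toNat = 8 - c by omega]
    rfl
  rw [natBlt_false hn, cond_false, if_neg (by omega)]

end CfsgLib.Lie.Chev
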