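import Cfsg.Agent.Lib.Lie.Chev.Mk1

/-!
# From the certificates to the facts: equivariance, the Jacobi identity, orbits; the structure `Good`
-/

set_option autoImplicit false

namespace CfsgLib.Lie.Chev

open Cfsg.Lie

variable {D : ChevalleyDatum} {f : Fast}

theorem NOK.negD_negD {h : RowsOK D f} (hR : RootsOK h) (r : Fin D.nroots) :
    negD h (negD h r) = r := by
  have e : rhoD D f (negD h (negD h r)) = rhoD D f r := by
    rw [hR.rho_neg, hR.rho_neg, neg_neg]
  rcases lt_trichotomy (negD h (negD h r)) r with l | l | l
  · have := hR.order _ _ l; rw [e] at this; exact absurd this (lt_irrefl _)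
  · exact l
  · have := hR.order _ _ l; rw [e] at this; exact absurd this (lt_irrefl _)

theorem nF_inl (h : RowsOK D f) (i : Fin D.rank) {j : ℕ} (hj : j < D.rank) :
    nF D f i.val j = [(j, 1), (i.val, - D.cartan j (simpD h i).val)] := by
  rw [nF, natBlt_true hj, cond_true, simples_eq h i, cartF_eq h hj (simpD h i).isLt]

theorem nF_inr (i : Fin D.rank) (s : ℕ) :
    nF D f i.val (D.rank + s) = [(D.rank + wF f i.val s, etaF f i.val s)] := by
  rw [nF, natBlt_false (by omega), cond_false, Nat.add_sub_cancel_left]

theorem adA_root (r b : ℕ) : adA D (D.rank + r) b = act D r 1 b := by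
  rw [adA, if_neg (by omega), Nat.add_sub_cancel_left]

theorem adA_h {j : ℕ} (hj : j < D.rank) (s : ℕ) :
    adA D j (D.rank + s) = [(D.rank + s, D.cartan j s)] := by
  rw [adA, if_pos hj, if_neg (by omega), Nat.add_sub_cancel_left]

theorem adA_hh {j k : ℕ} (hj : j < D.rank) (hk : k < D.rank) : adA D j k = [] := by
  rw [adA, if_pos hj, if_pos hk]

theorem act_h (r : ℕ) {j : ℕ} (hj : j < D.rank) :
    act D r 1 j = [(D.rank + r, - D.cartan j r)] := by
  rw [act, if_pos hj, if_pos rfl]
  rfl

theorem act_self (r : ℕ) : act D r 1 (D.rank + r) = [] := by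
  rw [act, if_neg (by omega), Nat.add_sub_cancel_left, if_pos rfl]

theorem act_neg (h : RowsOK D f) {r : ℕ} (hr : r < D.nroots) :
    act D r 1 (D.rank + D.negIdx.getD r 0) = f.cor.get r := by
  rw [act, if_neg (by omega), Nat.add_sub_cancel_left, if_neg (h.neg_ne r hr), if_pos rfl, if_pos rfl,
    h.cor r hr]

theorem act_off (h : RowsOK D f) {r s : ℕ} (hr : r < D.nroots) (h1 : s ≠ r)
    (h2 : s ≠ D.negIdx.getD r 0) :
    act D r 1 (D.rank + s) = [] ∨ ∃ e ∈ (D.chain.getD r #[]).toList, ∃ x : ℕ × ℤ,
      e.1 = s ∧ x.1 < D.nroots ∧ x.2.natAbs ≤ 7 ∧ act D r 1 (D.rank + s) = [(D.rank + x.1, x.2)] ∧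
      (s < D.nroots → digit (f.t1.get r) (D.rank + s) = encode [(D.rank + x.1, x.2)]) := by
  have hact : act D r 1 (D.rank + s) = match (D.chainEntry r s)[0]? with
      | none => []
      | some e => [(D.rank + e.1, e.2)] := by
    rw [act, if_neg (by omega), Nat.add_sub_cancel_left, if_neg h1, if_neg h2]
    rfl
  rw [hact]
  unfold ChevalleyDatum.chainEntry
  cases hf : (D.chain.getD r #[]).toList.find? (fun e => decide (e.1 = s)) with
  | none => exact Or.inl rfl
  | some e =>
    cases hx : e.2.toList[0]? with
    | none => left; simp only [hx]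
    | some x =>
      right
      have he := List.mem_of_find?_eq_some hf
      obtain ⟨-, hb⟩ := h.ent r hr e he
      obtain ⟨hb1, hb2⟩ := hb x (List.mem_of_getElem? hx)
      refine ⟨e, he, x, by simpa using List.find?_some hf, hb1, hb2, by simp only [hx], fun hs => ?_⟩
      rw [h.t1 r hr, digit_packRow h hr 1 hs, codeAt, if_neg h1, if_neg h2, hf]
      simp only [Nat.sub_self, hx]

theorem chain_move (h : RowsOK D f) (hR : RootsOK h) (hN : NOK h) (hc : chkEquiv D f = true)
    (i : Fin D.rank) (r s : Fin D.nroots) (h1 : s ≠ r) (h2 : s ≠ negD h r)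
    {x : ℕ} {y : ℤ} (hx : x < D.nroots) (hxy : act D r.val 1 (D.rank + s.val) = [(D.rank + x, y)]) :
    act D (wD f hN.wlt i r).val 1 (D.rank + (wD f hN.wlt i s).val) =
      [(D.rank + wF f i.val x, etaF f i.val x * etaF f i.val r.val * etaF f i.val s.val * y)] := by
  have h1' : s.val ≠ r.val := fun e => h1 (Fin.ext e)
  have h2' : s.val ≠ D.negIdx.getD r.val 0 := fun e => h2 (Fin.ext e)
  rcases act_off h r.isLt h1' h2' with H | ⟨e, he, z, he1, hz1, hz2, H, Hd⟩
  · rw [H] at hxy; simp at hxy
  · rw [H, List.cons.injEq] at hxy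
    obtain ⟨ez1, ez2⟩ := Prod.mk.injEq _ _ _ _ ▸ hxy.1
    have ez : z.1 = x := by omega
    subst ez ez2
    have C := by unfold chkEquiv at hc; exact allLt_spec (allLt_spec hc i.val i.isLt) r.val r.isLt
    simp only [Bool.and_eq_true] at C
    have C' := allList_spec C.2 e he
    rw [he1] at C'
    have hc0 := Hd s.isLt
    have hsm := h.small
    have hzt : (z.2 + 8).toNat ≠ 0 := by omega
    rw [hc0] at C'
    simp only [encode] at C'
    rw [natBeq_false (by omega), natBeq_false (by omega)] at C'
    simp only [Bool.or_self, cond_false, Nat.beq_eq] at C'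
    rw [show (D.rank + z.1 + 1 + 1024 * (z.2 + 8).toNat) % 1024 - 1 - D.rank = z.1 by omega] at C'
    have hwx := hN.wlt i ⟨z.1, hx⟩
    simp only at hwx
    have hη := etaF_unit f i.val
    rw [← actF_eq h (wD f hN.wlt i r).isLt le_rfl (by norm_num)
      (by have := (wD f hN.wlt i s).isLt; omega)]
    simp only [actF, wD]
    rw [C', moveCode]
    set g := etaF f i.val z.1 * etaF f i.val r.val * etaF f i.val s.val with hg
    have hgu : g = 1 ∨ g = -1 := by
      rcases hη z.1 with a | a <;> rcases hη r.val with b | b <;> rcases hη s.val with c | c <;>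
        simp [hg, a, b, c]
    have e3 : D.rank + wF f i.val z.1 + 1 + 1024 *
        cond (Nat.beq (cond (intBeq g 1) 0 1) 0)
          ((D.rank + z.1 + 1 + 1024 * (z.2 + 8).toNat) / 1024)
          (16 - (D.rank + z.1 + 1 + 1024 * (z.2 + 8).toNat) / 1024) =
        encode [(D.rank + wF f i.val z.1, g * z.2)] := by
      rw [show (D.rank + z.1 + 1 + 1024 * (z.2 + 8).toNat) / 1024 = (z.2 + 8).toNat by omega]
      simp only [encode]
      rcases hgu with hg1 | hg1 <;> rw [hg1]
      · rw [show intBeq 1 1 = true from rfl, cond_true, show Nat.beq 0 0 = true from rfl, cond_true,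
          one_mul]
      · rw [show intBeq (-1) 1 = false from rfl, cond_false, show Nat.beq 1 0 = false from rfl,
          cond_false]
        omega
    rw [e3, decode_encode (by omega) (by rcases hgu with a | a <;> rw [a] <;> omega)]

theorem wD_neg (h : RowsOK D f) (hN : NOK h) (hc : chkEquiv D f = true) (i : Fin D.rank)
    (r : Fin D.nroots) : wD f hN.wlt i (negD h r) = negD h (wD f hN.wlt i r) ∧
      ∀ j, coef (bindv (f.cor.get r.val) (nF D f i.val)) j =
        coef (f.cor.get (wD f hN.wlt i r).val) j := by
  have C := by unfold chkEquiv at hc; exact allLt_spec (allLt_spec hc i.val i.isLt) r.val r.isLt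
  simp only [Bool.and_eq_true, Nat.beq_eq] at C
  refine ⟨Fin.ext ?_, fun j => eqv_spec C.1.2 j⟩
  have := C.1.1
  rw [negs_eq h r, show wF f i.val r.val = (wD f hN.wlt i r).val from rfl, negs_eq h] at this
  exact this

theorem cart_w (h : RowsOK D f) (hR : RootsOK h) (hN : NOK h) (i j : Fin D.rank) (s : Fin D.nroots) :
    cart D j (wD f hN.wlt i s) = cart D j s - cart D i s * cart D j (simpD h i) := by
  rw [hR.lin j (wD f hN.wlt i s), hR.lin j s, hN.rho_w i s]
  simp only [Pi.sub_apply, Pi.smul_apply, smul_eq_mul, sub_mul, Finset.sum_sub_distrib]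
  congr 1
  rw [Finset.sum_eq_single i]
  · simp
  · intro b _ hb; simp [Pi.single_apply, hb]
  · simp

theorem cart_w_self (h : RowsOK D f) (hR : RootsOK h) (hN : NOK h) (i : Fin D.rank)
    (s : Fin D.nroots) : cart D i (wD f hN.wlt i s) = - cart D i s := by
  rw [cart_w h hR hN, hR.two]; ring

theorem equiv_OK (h : RowsOK D f) (hR : RootsOK h) (hN : NOK h) (hc : chkEquiv D f = true)
    (i : Fin D.rank) (b : D.Idx) :
    nmat D i (simpD h i) (wD f hN.wlt i) (etaD D f i) * adb D b =
      adv D ℤ (fun c => nmat D i (simpD h i) (wD f hN.wlt i) (etaD D f i) c b) *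
        nmat D i (simpD h i) (wD f hN.wlt i) (etaD D f i) := by
  have hnR : ∀ c < D.rank + D.nroots, InR D (nF D f i.val c) := fun c hc' => nF_inR h hN.wlt i hc'
  have hcols := hasCols_nmat h hN.wlt i
  have hv : HasCols (adv D ℤ fun c => nmat D i (simpD h i) (wD f hN.wlt i) (etaD D f i) c b)
      (fun a => bindv (nF D f i.val (pos D b)) fun c => adA D c a) := by
    intro row col
    rw [show (fun c => nmat D i (simpD h i) (wD f hN.wlt i) (etaD D f i) c b) =
      fun c => coef (nF D f i.val (pos D b)) (pos D c) from funext fun c => hcols c b]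
    exact adv_apply (hnR _ (pos_lt D b)) row col
  refine (hcols.mul (hasCols_adb b) fun c hc' => adA_inR h (pos_lt D b) hc').ext
    (hv.mul hcols hnR) fun a ha j => ?_
  have swap : coef (bindv (nF D f i.val a) fun y => bindv (nF D f i.val (pos D b)) fun c => adA D c y) j =
      lin (nF D f i.val a) fun y => lin (nF D f i.val (pos D b)) fun c => coef (adA D c y) j := by
    rw [coef_bindv]; exact lin_congr fun e _ => coef_bindv _ _ _
  rw [swap, coef_bindv]
  obtain ⟨a', rfl⟩ := exists_pos D ha
  rcases b with k | r
  · have hk : k.val < D.rank := k.isLt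
    rcases a' with l | s
    · have hl : l.val < D.rank := l.isLt
      simp only [pos]
      rw [adA_hh hk hl, lin_nil, nF_inl h i hk, nF_inl h i hl]
      simp [adA_hh hk hl, adA_hh hk i.isLt, adA_hh i.isLt hl, adA_hh i.isLt i.isLt]
    · simp only [pos]
      rw [adA_h hk, nF_inl h i hk, nF_inr]
      simp only [lin_cons, lin_nil, add_zero, nF_inr, coef_pair]
      rw [adA_h hk, adA_h i.isLt]
      simp only [coef_pair]
      have e1 := cart_w h hR hN i k s
      have e2 := cart_w_self h hR hN i s
      simp only [cart, wD] at e1 e2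
      split_ifs
      · rw [e1, e2]; ring
      · ring
  · rcases a' with l | s
    · have hl : l.val < D.rank := l.isLt
      simp only [pos]
      rw [adA_root, act_h _ hl, nF_inl h i hl, nF_inr]
      simp only [lin_cons, lin_nil, add_zero, nF_inr, coef_pair, adA_root]
      rw [act_h _ hl, act_h _ i.isLt]
      simp only [coef_pair]
      have e1 := cart_w h hR hN i l r
      have e2 := cart_w_self h hR hN i r
      simp only [cart, wD] at e1 e2
      split_ifs
      · rw [e1, e2]; ring
      · ring
    · simp only [pos]
      rw [adA_root, nF_inr, nF_inr]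
      simp only [lin_cons, lin_nil, add_zero, adA_root]
      show lin (act D r.val 1 (D.rank + s.val)) _ =
        etaF f i.val s.val * (etaF f i.val r.val *
          coef (act D (wD f hN.wlt i r).val 1 (D.rank + (wD f hN.wlt i s).val)) j)
      by_cases h1 : s = r
      · subst h1; rw [act_self, act_self]; simp
      by_cases h2 : s = negD h r
      · subst h2
        rw [show (negD h r).val = D.negIdx.getD r.val 0 from rfl, act_neg h r.isLt]
        rw [show D.negIdx.getD r.val 0 = (negD h r).val from rfl, (wD_neg h hN hc i r).1,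
          show (negD h (wD f hN.wlt i r)).val = D.negIdx.getD (wD f hN.wlt i r).val 0 from rfl,
          act_neg h (wD f hN.wlt i r).isLt, ← coef_bindv, (wD_neg h hN hc i r).2 j, ← mul_assoc]
        have := hN.eta_neg i r
        simp only [etaD] at this
        rw [mul_comm (etaF f i.val (negD h r).val), this, one_mul]
      rcases act_off h r.isLt (fun e => h1 (Fin.ext e)) (fun e => h2 (Fin.ext e)) with
        H | ⟨e, -, z, -, hz1, -, H, -⟩
      · rw [H, lin_nil]
        have h1' : wD f hN.wlt i s ≠ wD f hN.wlt i r := fun e => h1 (by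
          have := congrArg (wD f hN.wlt i) e; rwa [hN.ww, hN.ww] at this)
        have h2' : wD f hN.wlt i s ≠ negD h (wD f hN.wlt i r) := by
          rw [← (wD_neg h hN hc i r).1]
          exact fun e => h2 (by
            have := congrArg (wD f hN.wlt i) e; rwa [hN.ww, hN.ww] at this)
        rcases act_off h (wD f hN.wlt i r).isLt (fun e => h1' (Fin.ext e))
            (fun e => h2' (Fin.ext e)) with H' | ⟨e, -, z, -, hz1, -, H', -⟩
        · rw [H']; simp
        · have := chain_move h hR hN hc i (wD f hN.wlt i r) (wD f hN.wlt i s) h1' h2' hz1 H'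
          rw [hN.ww, hN.ww, H] at this
          simp at this
      · rw [chain_move h hR hN hc i r s h1 h2 hz1 H, H]
        simp only [lin_cons, lin_nil, add_zero, nF_inr, coef_pair]
        rcases etaF_unit f i.val s.val with u | u <;> rcases etaF_unit f i.val r.val with v | v <;>
          simp only [u, v] <;> split_ifs <;> ring

theorem jac_OK (h : RowsOK D f) (hc : chkJac D f = true) (i : Fin D.rank) (hi : i.val ∈ f.reps)
    (b : D.Idx) : dmat D (simpD h i) 1 * adb D b - adb D b * dmat D (simpD h i) 1 =
      adv D ℤ (fun c => dmat D (simpD h i) 1 c b) := by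
  set p := (simpD h i).val with hp
  have hpl : p < D.nroots := (simpD h i).isLt
  unfold chkJac at hc
  have C := List.all_eq_true.1 hc i.val hi
  simp only [Bool.and_eq_true] at C
  have L := (hasCols_dmat (simpD h i) one_ne_zero).mul (hasCols_adb b)
    (fun c hc' => adA_inR h (pos_lt D b) hc')
  have R := (hasCols_adb b).mul (hasCols_dmat (simpD h i) one_ne_zero)
    (fun c _ => act_inR h hpl 1 c)
  ext row col
  rw [Matrix.sub_apply, L row col, R row col,
    show (fun c => dmat D (simpD h i) 1 c b) = fun c => coef (act D p 1 (pos D b)) (pos D c) from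
      funext fun c => hasCols_dmat (simpD h i) one_ne_zero c b,
    adv_apply (act_inR h hpl 1 _)]
  simp only [← hp]
  set a := pos D col
  set bb := pos D b
  have hb : bb < D.rank + D.nroots := pos_lt D b
  have ha : a < D.rank + D.nroots := pos_lt D col
  have C' := allLt_spec (allLt_spec C.2 bb hb) a ha
  rw [simples_eq h i, ← hp] at C'
  have hP : D.rank + p < D.rank + D.nroots := by omega
  have key : ∀ y, coef (bindv (adA D bb a) (act D p 1)) y =
      coef (bindv (act D p 1 bb) fun c => adA D c a) y +
        coef (bindv (act D p 1 a) (adA D bb)) y := by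
    intro y
    have full : eqv (bindv (adF D f bb a) (adF D f (D.rank + p)))
          (bindv (adF D f (D.rank + p) bb) (fun c => adF D f c a) ++
            bindv (adF D f (D.rank + p) a) (adF D f bb)) = true →
        coef (bindv (adA D bb a) (act D p 1)) y =
          coef (bindv (act D p 1 bb) fun c => adA D c a) y +
            coef (bindv (act D p 1 a) (adA D bb)) y := by
      intro e
      have := eqv_spec e y
      rw [coef_append, adF_eq h hb ha, adF_eq h hP hb, adF_eq h hP ha,
        bindv_congr (adA_inR h hb ha) (fun c hc' => (adF_eq h hP hc').trans (adA_root p c)),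
        bindv_congr (adA_inR h hP hb) (fun c hc' => adF_eq h hc' ha),
        bindv_congr (adA_inR h hP ha) (fun c hc' => adF_eq h hb hc'), adA_root, adA_root] at this
      exact this
    by_cases hh : bb < D.rank ∨ a < D.rank
    · apply full
      rcases hh with hh | hh
      · rw [natBlt_true hh, Bool.true_or, cond_true] at C'; exact C'
      · rw [natBlt_true hh, Bool.or_true, cond_true] at C'; exact C'
    · rw [natBlt_false (fun e => hh (Or.inl e)), natBlt_false (fun e => hh (Or.inr e)),
        Bool.or_self, cond_false] at C'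
      cases hd : Nat.beq (digit (f.t1.get (bb - D.rank)) a +
          digit (f.t1.get (D.rank + p - D.rank)) a + digit (f.t1.get (D.rank + p - D.rank)) bb) 0 with
      | false => rw [hd, cond_false] at C'; exact full C'
      | true =>
        rw [Nat.beq_eq, Nat.add_sub_cancel_left] at hd
        have e1 : act D p 1 a = [] := by
          rw [← actF_eq h hpl le_rfl (by norm_num) ha]
          simp only [actF]; rw [show digit (f.t1.get p) a = 0 by omega]; rfl
        have e2 : act D p 1 bb = [] := by
          rw [← actF_eq h hpl le_rfl (by norm_num) hb]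
          simp only [actF]; rw [show digit (f.t1.get p) bb = 0 by omega]; rfl
        have e3 : adA D bb a = [] := by
          rw [adA, if_neg (fun e => hh (Or.inl e)),
            ← actF_eq h (show bb - D.rank < D.nroots by omega) le_rfl (by norm_num) ha]
          simp only [actF]; rw [show digit (f.t1.get (bb - D.rank)) a = 0 by omega]; rfl
        rw [e1, e2, e3]
        simp [bindv_nil]
  rw [key]
  ring

theorem orbit_OK (h : RowsOK D f) (hN : NOK h) (hc : chkOrbit D f = true) (hj : chkJac D f = true)
    (P : Fin D.nroots → Prop) (h0 : ∀ i : Fin D.rank, i.val ∈ f.reps → P (simpD h i))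
    (hstep : ∀ i r, P r → P (wD f hN.wlt i r)) : ∀ r, P r := by
  have C := allLt_spec (show allLt D.nroots _ = true by unfold chkOrbit at hc; exact hc)
  have H : ∀ m (r : Fin D.nroots), (f.parent.get r.val).1 = m → P r := by
    intro m
    induction m using Nat.strong_induction_on with
    | _ m ih =>
      intro r hm
      have C' := C r.val r.isLt
      by_cases h0' : (f.parent.get r.val).1 = 0
      · simp only [h0', show Nat.beq 0 0 = true from rfl, cond_true, List.any_eq_true,
          Nat.beq_eq] at C'
        obtain ⟨i, hi, e⟩ := C'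
        unfold chkJac at hj
        have hir := List.all_eq_true.1 hj i hi
        simp only [Bool.and_eq_true, Nat.blt_eq] at hir
        have := h0 ⟨i, hir.1⟩ hi
        rwa [show simpD h ⟨i, hir.1⟩ = r from Fin.ext ((h.simples i hir.1).symm.trans e.symm)] at this
      · simp only [natBeq_false h0', cond_false, Bool.and_eq_true, Nat.blt_eq, Nat.beq_eq] at C'
        obtain ⟨⟨⟨h1, h2⟩, h3⟩, h4⟩ := C'
        have := hstep ⟨_, h1⟩ ⟨_, h2⟩ (ih _ (hm ▸ h4) ⟨_, h2⟩ rfl)
        rwa [show wD f hN.wlt ⟨_, h1⟩ ⟨_, h2⟩ = r from Fin.ext h3] at this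
  exact fun r => H _ r rfl

/-- all checks -/
structure Checks (D : ChevalleyDatum) (f : Fast) : Prop where
  rows : chkRows D f = true
  roots : chkRoots D f = true
  wt : chkWeight D f = true
  pw : chkPow D f = true
  nw : chkN D f = true
  eqvr : chkEquiv D f = true
  jacobi : chkJac D f = true
  orb : chkOrbit D f = true
  refl' : chkReflect D f = true

/-- the verified structure of a datum that passes the checks -/
noncomputable def Checks.good (c : Checks D f) : Good D :=
  have h := rowsOK c.rows
  have hR := rootsOK h c.roots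
  have hN := nOK h hR c.nw
  { shape := h.shape
    rho := rhoD D f
    negr := negD h
    negr_val := fun _ => rfl
    rho_negr := hR.rho_neg
    simp' := simpD h
    simp_val := fun _ => rfl
    rho_simp := hR.simp_unit
    cart_eq := hR.lin
    cart_simp := hR.two
    base := (f.base : ℤ)
    order := hR.order
    posroot := hR.posr
    negroot := hR.negr
    rho_sign := hR.sign
    pow_one := fun r => (pow_OK h c.pw r).1
    pow_two := fun r => (pow_OK h c.pw r).2.1
    pow_three := fun r => (pow_OK h c.pw r).2.2
    weight_eq := fun r k i j => weight_OK h hR c.wt r k i j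
    w := wD f hN.wlt
    w_reflect := reflect_OK h hN c.refl'
    w_w := hN.ww
    rho_w := hN.rho_w
    eta := etaD D f
    eta_unit := fun i s => etaF_unit f i.val s.val
    eta_w := hN.eta_w
    eta_negr := hN.eta_neg
    eta_simp := hN.eta_simp
    nword := hN.word
    equiv := equiv_OK h hR hN c.eqvr
    reps := Finset.univ.filter fun i => i.val ∈ f.reps
    jac := fun i hi => jac_OK h c.jacobi i (Finset.mem_filter.1 hi).2
    orbit := fun P h0 hs =>
      orbit_OK h hN c.orb c.jacobi P (fun i hi => h0 i (Finset.mem_filter.2 ⟨Finset.mem_univ i, hi⟩)) hs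
    base_pos := Int.natCast_pos.2 hR.basepos
    coroot_simp := hR.corsimp
    coroot_gcd := hR.gcd }

end CfsgLib.Lie.Chev
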