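import Cfsg.Agent.Lib.Lie.Chev.GraphEx
import Cfsg.Agent.Lib.Lie.Chev.DiagSym
import Cfsg.Agent.Lib.Lie.Chev.FullAll
import Cfsg.Agent.Lib.AutPSL.Field

/-!
# Orders of outer automorphism groups of the exceptional Chevalley groups
-/

set_option autoImplicit false
set_option maxRecDepth 100000

namespace CfsgLib.Lie.Chev.OutCount

open Cfsg.Lie
open scoped MatrixGroups

variable {K : Type*} [Field K]

/-- the exchange of the two nodes of type G₂ -/
def flipG2 : Equiv.Perm (Fin chevG2.rank) :=
  Equiv.swap ⟨0, by decide +kernel⟩ ⟨1, by decide +kernel⟩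

/-- the reversal of the diagram of type F₄ -/
def flipF4 : Equiv.Perm (Fin chevF4.rank) :=
  Equiv.swap ⟨0, by decide +kernel⟩ ⟨3, by decide +kernel⟩ *
    Equiv.swap ⟨1, by decide +kernel⟩ ⟨2, by decide +kernel⟩

/-- the symmetry of the diagram of type E₆ -/
def flipE6 : Equiv.Perm (Fin chevE6.rank) :=
  Equiv.swap ⟨0, by decide +kernel⟩ ⟨5, by decide +kernel⟩ *
    Equiv.swap ⟨2, by decide +kernel⟩ ⟨4, by decide +kernel⟩

theorem range_eq_one {D : ChevalleyDatum} (C : Full D)
    (h : ∀ π ∈ (C.nodeHom (K := K)).range, π = 1) : Nat.card ↥(C.nodeHom (K := K)).range = 1 :=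
  Subgroup.card_eq_one.2 (eq_bot_iff.2 fun π hπ => Subgroup.mem_bot.2 (h π hπ))

theorem range_eq_two {D : ChevalleyDatum} (C : Full D)
    (hD : D ∈ [chevG2, chevB2, chevD4, chevF4, chevE6, chevE7, chevE8])
    (hlen : (symLists D D.rank).length ≤ 2) {π : Equiv.Perm (Fin D.rank)}
    (hπ : π ∈ (C.nodeHom (K := K)).range) (hne : π ≠ 1) :
    Nat.card ↥(C.nodeHom (K := K)).range = 2 := by
  haveI : Nontrivial ↥(C.nodeHom (K := K)).range :=
    ⟨⟨⟨π, hπ⟩, 1, fun e => hne (congrArg Subtype.val e)⟩⟩
  have h1 := C.card_range_le (K := K) hD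
  have h2 := Finite.one_lt_card (α := ↥(C.nodeHom (K := K)).range)
  omega

theorem eq_one_of_single {D : ChevalleyDatum} (C : Full D)
    (hD : D ∈ [chevG2, chevB2, chevD4, chevF4, chevE6, chevE7, chevE8])
    (hlist : symLists D D.rank = [List.range D.rank]) (π : Equiv.Perm (Fin D.rank))
    (hπ : π ∈ (C.nodeHom (K := K)).range) : π = 1 := by
  have h := permList_mem (C.range_symm hD hπ)
  rw [hlist, List.mem_singleton] at h
  refine permList_injective (h.trans ?_)
  exact List.ext_getElem (by simp [permList]) fun i h1 h2 => by simp [permList]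

theorem card_out_exc [Fintype K] {p f : ℕ} [Fact p.Prime] (hF : Fintype.card K = p ^ f)
    {D : ChevalleyDatum} (C : Full D)
    (hD : D ∈ [chevG2, chevB2, chevD4, chevF4, chevE6, chevE7, chevE8])
    (T : KerData D.rank) (hT : T.Ok (cmat D)) {r : ℕ}
    (hr : Nat.card ↥(C.nodeHom (K := K)).range = r) :
    Nat.card (Cfsg.Out ↥(D.group K)) = Nat.gcd T.d (p ^ f - 1) ^ T.k * (r * f) := by
  rw [C.card_out_eq hD T hT, hr, CfsgLib.AutPSL.card_ringAut hF, hF]

theorem char_eq {p : ℕ} [Fact p.Prime] [CharP K p] {n : ℕ} (hn : n.Prime) (h : (n : K) = 0) : p = n :=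
  ((Nat.prime_dvd_prime_iff_eq Fact.out hn).1 ((CharP.cast_eq_zero_iff K p n).1 h))

theorem card_G2 [Fintype K] (p f : ℕ) [Fact p.Prime] [CharP K p] (hF : Fintype.card K = p ^ f)
    (hq : 3 ≤ p ^ f) :
    Nat.card (Cfsg.Out ↥(chevG2.group K)) = if p = 3 then 2 * f else f := by
  classical
  have hD : chevG2 ∈ [chevG2, chevB2, chevD4, chevF4, chevE6, chevE7, chevE8] := by simp
  let C : Full chevG2 := fullOf hD
  have hlist : symLists chevG2 chevG2.rank = [[0, 1], [1, 0]] := by decide +kernel
  by_cases hp : p = 3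
  · subst hp
    rw [if_pos rfl]
    have hr : Nat.card ↥(C.nodeHom (K := K)).range = 2 :=
      range_eq_two C hD (by rw [hlist]; simp)
        (GraphEx.mem_G2 C flipG2 (by decide +kernel)) (by decide +kernel)
    rw [card_out_exc hF C hD kerG2 kerG2_ok hr]
    simp [kerG2]
  · rw [if_neg hp]
    have hr : Nat.card ↥(C.nodeHom (K := K)).range = 1 := range_eq_one C fun π hπ => by
      have h := permList_mem (C.range_symm hD hπ)
      rw [hlist] at h
      simp only [List.mem_cons, List.not_mem_nil, or_false] at h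
      rcases h with h | h
      · exact permList_injective (h.trans (by decide +kernel))
      · exfalso
        have hd : ∀ π : Equiv.Perm (Fin chevG2.rank), permList π = [1, 0] →
            chevG2.cartan 1 (chevG2.simple 0) = -1 ∧
              chevG2.cartan (π ⟨1, (by decide +kernel)⟩).val (chevG2.simple (π ⟨0, (by decide +kernel)⟩).val) = -3 := by
          decide +kernel
        have hadd := fun x : K => C.add_pow_of_swap hπ ⟨0, (by decide +kernel)⟩ ⟨1, (by decide +kernel)⟩ (m := 3) (by norm_num)
          (hd π h).1 (by exact_mod_cast (hd π h).2) x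
        have h6 : (2 : K) * 3 = 0 := by linear_combination hadd 1
        rcases mul_eq_zero.1 h6 with h2 | h3
        · obtain ⟨x, hx0, hx1⟩ : ∃ x : K, x ≠ 0 ∧ x ≠ 1 := by
            by_contra hno
            simp only [not_exists, not_and, not_not] at hno
            have : Fintype.card K ≤ ({0, 1} : Finset K).card :=
              Finset.card_le_card (s := Finset.univ) fun x _ => by
                simp only [Finset.mem_insert, Finset.mem_singleton]
                exact (eq_or_ne x 0).imp id (hno x)
            rw [Finset.card_pair (zero_ne_one (α := K)), hF] at this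
            omega
          have hx : x * (x - 1) = 0 := by
            linear_combination (hadd x) - (x ^ 2 + 2 * x) * h2
          rcases mul_eq_zero.1 hx with e | e
          · exact hx0 e
          · exact hx1 (sub_eq_zero.1 e)
        · exact hp (char_eq Nat.prime_three (by exact_mod_cast h3))
    rw [card_out_exc hF C hD kerG2 kerG2_ok hr]
    simp [kerG2]

theorem card_F4 [Fintype K] (p f : ℕ) [Fact p.Prime] [CharP K p] (hF : Fintype.card K = p ^ f) :
    Nat.card (Cfsg.Out ↥(chevF4.group K)) = Nat.gcd 2 p * f := by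
  classical
  have hD : chevF4 ∈ [chevG2, chevB2, chevD4, chevF4, chevE6, chevE7, chevE8] := by simp
  let C : Full chevF4 := fullOf hD
  have hlist : symLists chevF4 chevF4.rank = [[0, 1, 2, 3], [3, 2, 1, 0]] := by decide +kernel
  by_cases hp : p = 2
  · subst hp
    have hr : Nat.card ↥(C.nodeHom (K := K)).range = 2 :=
      range_eq_two C hD (by rw [hlist]; simp)
        (GraphEx.mem_F4 C flipF4 (by decide +kernel)) (by decide +kernel)
    rw [card_out_exc hF C hD kerF4 kerF4_ok hr]
    simp [kerF4]
  · have hg : Nat.gcd 2 p = 1 := by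
      rw [← Nat.coprime_iff_gcd_eq_one, Nat.coprime_primes Nat.prime_two Fact.out]; exact Ne.symm hp
    rw [hg, one_mul]
    have hr : Nat.card ↥(C.nodeHom (K := K)).range = 1 := range_eq_one C fun π hπ => by
      have h := permList_mem (C.range_symm hD hπ)
      rw [hlist] at h
      simp only [List.mem_cons, List.not_mem_nil, or_false] at h
      rcases h with h | h
      · exact permList_injective (h.trans (by decide +kernel))
      · exfalso
        have hd : ∀ π : Equiv.Perm (Fin chevF4.rank), permList π = [3, 2, 1, 0] →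
            chevF4.cartan 2 (chevF4.simple 1) = -1 ∧
              chevF4.cartan (π ⟨2, (by decide +kernel)⟩).val (chevF4.simple (π ⟨1, (by decide +kernel)⟩).val) = -2 := by
          decide +kernel
        have hadd := C.add_pow_of_swap hπ ⟨1, (by decide +kernel)⟩ ⟨2, (by decide +kernel)⟩ (m := 2) (by norm_num)
          (hd π h).1 (by exact_mod_cast (hd π h).2) (1 : K)
        exact hp (char_eq (K := K) Nat.prime_two (by push_cast; linear_combination hadd))
    rw [card_out_exc hF C hD kerF4 kerF4_ok hr]
    simp [kerF4]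

theorem card_E6 [Fintype K] (p f : ℕ) [Fact p.Prime] (hF : Fintype.card K = p ^ f) :
    Nat.card (Cfsg.Out ↥(chevE6.group K)) = 2 * Nat.gcd 3 (p ^ f - 1) * f := by
  classical
  have hD : chevE6 ∈ [chevG2, chevB2, chevD4, chevF4, chevE6, chevE7, chevE8] := by simp
  let C : Full chevE6 := fullOf hD
  have hlist : (symLists chevE6 chevE6.rank).length ≤ 2 := by decide +kernel
  have hr : Nat.card ↥(C.nodeHom (K := K)).range = 2 :=
    range_eq_two C hD hlist
      (GraphEx.mem_E6 C flipE6 (by decide +kernel)) (by decide +kernel)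
  rw [card_out_exc hF C hD kerE6 kerE6_ok hr]
  simp only [kerE6, pow_one]
  ring

theorem card_E7 [Fintype K] (p f : ℕ) [Fact p.Prime] (hF : Fintype.card K = p ^ f) :
    Nat.card (Cfsg.Out ↥(chevE7.group K)) = Nat.gcd 2 (p ^ f - 1) * f := by
  have hD : chevE7 ∈ [chevG2, chevB2, chevD4, chevF4, chevE6, chevE7, chevE8] := by simp
  let C : Full chevE7 := fullOf hD
  have hr : Nat.card ↥(C.nodeHom (K := K)).range = 1 :=
    range_eq_one C (eq_one_of_single C hD (by decide +kernel))
  rw [card_out_exc hF C hD kerE7 kerE7_ok hr]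
  simp [kerE7]

theorem card_E8 [Fintype K] (p f : ℕ) [Fact p.Prime] (hF : Fintype.card K = p ^ f) :
    Nat.card (Cfsg.Out ↥(chevE8.group K)) = f := by
  have hD : chevE8 ∈ [chevG2, chevB2, chevD4, chevF4, chevE6, chevE7, chevE8] := by simp
  let C : Full chevE8 := fullOf hD
  have hr : Nat.card ↥(C.nodeHom (K := K)).range = 1 :=
    range_eq_one C (eq_one_of_single C hD (by decide +kernel))
  rw [card_out_exc hF C hD kerE8 kerE8_ok hr]
  simp [kerE8]

end CfsgLib.Lie.Chev.OutCount
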