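import Cfsg.Agent.Lib.Lie.Chev.Cent
import Cfsg.Agent.Lib.Lie.Chev.Unip2

/-!
# Pairs of conjugates of the highest root subgroup
-/

set_option autoImplicit false

namespace CfsgLib.Lie.Chev

open Cfsg.Lie
open scoped MatrixGroups

variable {D : ChevalleyDatum} {K : Type*} [Field K]

instance decIsPosRootNat (r : ℕ) : Decidable (D.IsPosRoot r) := by
  unfold ChevalleyDatum.IsPosRoot; infer_instance

/-- searches a product of simple reflections that makes both roots positive -/
def canPos (D : ChevalleyDatum) : ℕ → ℕ → ℕ → Bool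
  | 0, a, b => decide (D.IsPosRoot a) && decide (D.IsPosRoot b)
  | k + 1, a, b => (decide (D.IsPosRoot a) && decide (D.IsPosRoot b)) ||
      (List.range D.rank).any fun i =>
        decide (D.cartan i b < 0) && decide (a ≠ D.simple i) &&
          canPos D k (D.reflectRoot i a) (D.reflectRoot i b)

namespace Good

variable (G : Good D)

include G

theorem exists_conj_pos : ∀ (k : ℕ) (a b : Fin D.nroots), canPos D k a.val b.val = true →
    ∃ n : GL D.Idx K, ∀ t, n * G.xu a t * n⁻¹ ∈ D.posUnipotent K ∧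
      n * G.xu b t * n⁻¹ ∈ D.posUnipotent K := by
  intro k
  induction k with
  | zero =>
    intro a b h
    simp only [canPos, Bool.and_eq_true, decide_eq_true_eq] at h
    exact ⟨1, fun t => by simp [G.xu_mem_U h.1 t, G.xu_mem_U h.2 t]⟩
  | succ k ih =>
    intro a b h
    simp only [canPos, Bool.or_eq_true, Bool.and_eq_true, decide_eq_true_eq, List.any_eq_true,
      List.mem_range] at h
    rcases h with h | ⟨i, hi, -, hk⟩
    · exact ⟨1, fun t => by simp [G.xu_mem_U h.1 t, G.xu_mem_U h.2 t]⟩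
    · rw [show i = (⟨i, hi⟩ : Fin D.rank).val from rfl, ← G.w_reflect, ← G.w_reflect] at hk
      obtain ⟨n, hn⟩ := ih _ _ hk
      refine ⟨n * G.nU ⟨i, hi⟩, fun t => ?_⟩
      have key : ∀ s, n * G.nU ⟨i, hi⟩ * G.xu s t * (n * G.nU ⟨i, hi⟩)⁻¹ =
          n * G.xu (G.w ⟨i, hi⟩ s) ((G.eta ⟨i, hi⟩ s : K) * t) * n⁻¹ := fun s => by
        rw [mul_assoc n, G.nU_xu]; group
      rw [key, key]
      exact ⟨(hn _).1, (hn _).2⟩

end Good

namespace Full

variable (C : Full D)

include C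

theorem last_central {θ r : Fin D.nroots} (hθ : θ.val + 1 = D.nroots) (hp : D.IsPosRoot θ.val)
    (hr : D.IsPosRoot r.val) (t u : K) : Commute (C.G.xu r t) (C.G.xu θ u) := by
  by_cases e : r = θ
  · subst e
    rw [Commute, SemiconjBy, ← C.G.xu_add, ← C.G.xu_add, add_comm]
  obtain ⟨l, hl, he⟩ := C.conj_xu r θ (Ne.symm e) (C.pos_ne_negr hr hp) t u
  rcases l with _ | ⟨p, l⟩
  · rw [List.map_nil, List.prod_nil, mul_one, mul_assoc, inv_mul_eq_iff_eq_mul] at he
    exact he.symm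
  · obtain ⟨i, j, hi, hj, hq⟩ := hl p (List.mem_cons_self ..)
    obtain ⟨-, -, h⟩ := C.rho_combo_index hr hp hi hj hq
    have := p.1.isLt
    omega

theorem conj_root_le {n : GL D.Idx K} {r s : Fin D.nroots}
    (h : ∀ t, ∃ t', n * C.G.xu r t * n⁻¹ = C.G.xu s t') :
    (D.rootSubgroup K r.val).map (MulAut.conj n).toMonoidHom ≤ D.rootSubgroup K s.val := by
  rw [C.G.rootSubgroup_closure, MonoidHom.map_closure, Subgroup.closure_le]
  rintro - ⟨g, ⟨t, rfl⟩, rfl⟩
  obtain ⟨t', ht'⟩ := h t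
  simpa [ht'] using C.G.xu_mem_rootSubgroup s t'

theorem conj_root_eq {n : GL D.Idx K} {π : Equiv.Perm (Fin D.nroots)} (hn : C.G.NPerm n π)
    (r : Fin D.nroots) :
    (D.rootSubgroup K r.val).map (MulAut.conj n).toMonoidHom = D.rootSubgroup K (π r).val := by
  refine le_antisymm (C.conj_root_le fun t => ?_) ?_
  · obtain ⟨c, hc⟩ := hn r; exact ⟨_, hc t⟩
  · obtain ⟨c, hc⟩ := hn r
    rw [C.G.rootSubgroup_closure (π r), Subgroup.closure_le]
    rintro g ⟨t, rfl⟩
    refine ⟨C.G.xu r ((c : K)⁻¹ * t), C.G.xu_mem_rootSubgroup r _, ?_⟩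
    simp [hc]

theorem borel_root_last {θ : Fin D.nroots} (hθ : θ.val + 1 = D.nroots) (hp : D.IsPosRoot θ.val)
    {b : GL D.Idx K} (hb : b ∈ D.borelSubgroup K) :
    (D.rootSubgroup K θ.val).map (MulAut.conj b).toMonoidHom = D.rootSubgroup K θ.val := by
  obtain ⟨u, hu, h, hh, rfl⟩ := C.G.mem_borel_iff.1 hb
  have hc : ∀ t, u * C.G.xu θ t = C.G.xu θ t * u := fun t => by
    have hle : D.posUnipotent K ≤ Subgroup.centralizer {C.G.xu θ t} := by
      rw [C.G.posUnipotent_eq_closure, Subgroup.closure_le]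
      rintro g ⟨r, a, hr, rfl⟩
      exact Subgroup.mem_centralizer_singleton_iff.2 (C.last_central hθ hp hr a t).eq
    exact Subgroup.mem_centralizer_singleton_iff.1 (hle hu)
  obtain ⟨a, ha⟩ := C.G.H_conj_xu hh θ
  have key : ∀ t, u * h * C.G.xu θ t * (u * h)⁻¹ = C.G.xu θ ((a : K) * t) := fun t => by
    rw [show u * h * C.G.xu θ t * (u * h)⁻¹ = u * (h * C.G.xu θ t * h⁻¹) * u⁻¹ by group, ha, hc]
    group
  refine le_antisymm (C.conj_root_le fun t => ⟨_, key t⟩) ?_
  conv_lhs => rw [C.G.rootSubgroup_closure]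
  rw [Subgroup.closure_le]
  rintro g ⟨t, rfl⟩
  exact ⟨_, C.G.xu_mem_rootSubgroup θ ((a : K)⁻¹ * t), (key _).trans (by simp)⟩

/-- two conjugates of the highest root subgroup -/
theorem root_pair [Fintype K] [CharP K 2] {θ : Fin D.nroots} (hθ : θ.val + 1 = D.nroots)
    (hp : D.IsPosRoot θ.val)
    (hchk : ∀ r : Fin D.nroots, r ≠ C.G.negr θ → canPos D D.nroots θ.val r.val = true)
    {g : GL D.Idx K} (hg : g ∈ D.group K) :
    IsPGroup 2 ↥(D.rootSubgroup K θ.val ⊔
        (D.rootSubgroup K θ.val).map (MulAut.conj g).toMonoidHom) ∨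
      ∃ h ∈ D.group K, (D.rootSubgroup K θ.val ⊔
        (D.rootSubgroup K θ.val).map (MulAut.conj g).toMonoidHom).map (MulAut.conj h).toMonoidHom =
        D.rootSubgroup K θ.val ⊔ D.rootSubgroup K (C.G.negr θ).val := by
  obtain ⟨b, hb, n, hn, π, hπ, u, hu, rfl⟩ := C.refined_exists hg
  set X := D.rootSubgroup K θ.val
  have hu' := C.borel_root_last hθ hp (Subgroup.mem_sup_left (C.G.Uinv_le π hu))
  have hb' := C.borel_root_last hθ hp hb
  have e : X ⊔ X.map (MulAut.conj (b * n * u)).toMonoidHom =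
      (X ⊔ D.rootSubgroup K (π θ).val).map (MulAut.conj b).toMonoidHom := by
    rw [Subgroup.map_sup, hb', show (MulAut.conj (b * n * u)).toMonoidHom =
      (MulAut.conj b).toMonoidHom.comp ((MulAut.conj n).toMonoidHom.comp
        (MulAut.conj u).toMonoidHom) from MonoidHom.ext fun x => by simp [mul_assoc],
      ← Subgroup.map_map, ← Subgroup.map_map, hu', C.conj_root_eq hπ]
  rw [e]
  by_cases hr : π θ = C.G.negr θ
  · right
    refine ⟨b⁻¹, inv_mem (C.G.borel_le_group hb), ?_⟩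
    rw [Subgroup.map_map, hr, show (MulAut.conj b⁻¹).toMonoidHom.comp (MulAut.conj b).toMonoidHom =
      MonoidHom.id _ from MonoidHom.ext fun x => by simp [mul_assoc], Subgroup.map_id]
  · left
    refine IsPGroup.map ?_ _
    obtain ⟨m, hm⟩ := C.G.exists_conj_pos (K := K) D.nroots θ (π θ) (hchk _ hr)
    have h2 : IsPGroup 2 ↥(D.posUnipotent K) := by
      obtain ⟨k, -, hk⟩ := FiniteField.card K 2
      refine IsPGroup.of_card (n := (k : ℕ) * (D.nroots / 2)) ?_
      rw [C.posUnipotent_card, hk, pow_mul]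
    refine (h2.map (MulAut.conj m⁻¹).toMonoidHom).to_le (sup_le ?_ ?_)
    all_goals
      simp only [X, C.G.rootSubgroup_closure, Subgroup.closure_le]
      rintro g ⟨t, rfl⟩
    · exact ⟨_, (hm t).1, by simp [mul_assoc]⟩
    · exact ⟨_, (hm t).2, by simp [mul_assoc]⟩

end Full

end CfsgLib.Lie.Chev
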