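import Cfsg.Agent.Lib.Lie.Chev.FullAll
import Cfsg.Agent.Lib.Lie.Chev.Bruhat
import Cfsg.Agent.Lib.Lie.Chev.Tw.Levi

/-!
# Standard parabolic subgroups and their Levi decomposition
-/

set_option autoImplicit false
set_option maxRecDepth 100000

namespace CfsgLib.Lie.Chev

open Cfsg.Lie
open scoped MatrixGroups

variable {D : ChevalleyDatum}

/-- the coefficient of a coroot -/
def crc (D : ChevalleyDatum) (r j : ℕ) : ℤ := (D.coroot.getD r #[]).getD j 0

/-- supports of roots, along descending chains of reflections -/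
def chkSupp (D : ChevalleyDatum) : Bool :=
  (List.range D.nroots).all fun r =>
    ((List.range D.rank).all fun j => decide (crc D (D.neg r) j = 0 ↔ crc D r j = 0)) &&
    (!(decide (D.IsPosRoot r)) || (List.range D.rank).any fun i => D.simple i == r ||
      (let s := D.reflectRoot i r
       Nat.blt s r && decide (D.IsPosRoot s) &&
        (List.range D.rank).all fun j => decide (crc D r j ≠ 0 ↔ (j = i ∨ crc D s j ≠ 0))))

theorem chkSupp_all
    (hD : D ∈ [chevG2, chevB2, chevD4, chevF4, chevE6, chevE7, chevE8]) : chkSupp D = true := by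
  simp only [List.mem_cons, List.not_mem_nil, or_false] at hD
  rcases hD with rfl | rfl | rfl | rfl | rfl | rfl | rfl <;> decide +kernel

open scoped Classical in
/-- the nodes in the set -/
noncomputable def nodesIn (D : ChevalleyDatum) (J : Set ℕ) : Finset (Fin D.rank) :=
  Finset.univ.filter fun i => i.val ∈ J

theorem mem_nodesIn {J : Set ℕ} {i : Fin D.rank} : i ∈ nodesIn D J ↔ i.val ∈ J := by
  simp [nodesIn]

namespace Full

variable {K : Type*} [Field K] (C : Full D) (hchk : chkSupp D = true)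

include hchk

theorem supp_step {r : Fin D.nroots} (hr : D.IsPosRoot r.val) :
    (∃ i : Fin D.rank, r = C.G.simp' i) ∨ ∃ (i : Fin D.rank) (k : ℕ), 0 < k ∧
      (C.G.w i r).val < r.val ∧ D.IsPosRoot (C.G.w i r).val ∧
      C.G.rho r = C.G.rho (C.G.w i r) + (k : ℤ) • Pi.single i 1 ∧
      ∀ j : Fin D.rank, crc D r.val j.val ≠ 0 ↔ (j = i ∨ crc D (C.G.w i r).val j.val ≠ 0) := by
  have h := List.all_eq_true.1 hchk r.val (List.mem_range.2 r.isLt)
  simp only [hr, decide_true, Bool.not_true, Bool.false_or, List.any_eq_true, Bool.or_eq_true,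
    Bool.and_eq_true, beq_iff_eq, decide_eq_true_eq, List.mem_range, List.all_eq_true,
    Nat.blt_eq] at h
  obtain ⟨-, i, hi, h | ⟨⟨hlt, hp⟩, hs⟩⟩ := h
  · exact Or.inl ⟨⟨i, hi⟩, Fin.ext (by rw [C.G.simp_val]; exact h.symm)⟩
  · rw [← C.G.w_reflect ⟨i, hi⟩ r] at hlt hp hs
    have hw := C.G.rho_w ⟨i, hi⟩ r
    have hA : 0 < cart D ⟨i, hi⟩ r := by
      have h1 := C.G.ht_lt (Fin.lt_def.2 hlt)
      rw [hw, sub_eq_add_neg, ← neg_smul, C.G.ht_add, C.G.ht_smul] at h1
      nlinarith [C.G.ht_single_pos ⟨i, hi⟩]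
    refine Or.inr ⟨⟨i, hi⟩, (cart D ⟨i, hi⟩ r).toNat, by omega, hlt, hp, ?_, fun j => ?_⟩
    · rw [hw, Int.toNat_of_nonneg hA.le, sub_add_cancel]
    · rw [hs j.val j.isLt]
      exact or_congr_left ⟨fun e => Fin.ext e, fun e => congrArg Fin.val e⟩

theorem crc_pos : ∀ n : ℕ, ∀ r : Fin D.nroots, r.val = n → D.IsPosRoot r.val →
    ∀ j : Fin D.rank, crc D r.val j.val = 0 ↔ C.G.rho r j = 0 := by
  intro n
  induction n using Nat.strong_induction_on with
  | _ n ih =>
    intro r hn hr j
    rcases C.supp_step hchk hr with ⟨i, rfl⟩ | ⟨i, k, hk, hlt, hp, e, hs⟩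
    · rw [crc, C.G.coroot_simp, C.G.rho_simp]
      by_cases h : j = i
      · subst h; simp
      · simp [h]
    · have h2 := ih _ (hn ▸ hlt) _ rfl hp j
      have h3 := C.G.rho_nonneg hp j
      rw [← not_iff_not]
      refine (hs j).trans ?_
      simp only [ne_eq, h2, e, Pi.add_apply, Pi.smul_apply, smul_eq_mul]
      by_cases h : j = i
      · subst h
        simp only [true_or, Pi.single_eq_same, true_iff]
        omega
      · simp [h]

theorem inRootSub_iff (J : Set ℕ) (r : Fin D.nroots) :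
    D.InRootSub J r.val ↔ InJ C.G (nodesIn D J) r := by
  have key : ∀ j : Fin D.rank, crc D r.val j.val = 0 ↔ C.G.rho r j = 0 := by
    intro j
    by_cases hr : D.IsPosRoot r.val
    · exact C.crc_pos hchk _ r rfl hr j
    · have h1 := C.crc_pos hchk _ (C.G.negr r) rfl ((C.G.negr_pos_iff r).2 hr) j
      have h2 := List.all_eq_true.1 hchk r.val (List.mem_range.2 r.isLt)
      simp only [Bool.and_eq_true, List.all_eq_true, List.mem_range, decide_eq_true_eq] at h2
      rw [← h2.1 j.val j.isLt, ← C.G.negr_val, h1, C.G.rho_negr, Pi.neg_apply, neg_eq_zero]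
  refine ⟨fun h m hm => (key m).1 (h.2 m.val m.isLt fun hJ => hm (mem_nodesIn.2 hJ)),
    fun h => ⟨r.isLt, fun i hi hiJ => (key ⟨i, hi⟩).2 (h ⟨i, hi⟩ fun hm => hiJ (mem_nodesIn.1 hm))⟩⟩

/-- root subgroups of the subsystem, from fundamental ones -/
theorem xu_mem_of_inJ {M : Subgroup (GL D.Idx K)} {J : Finset (Fin D.rank)}
    (hp : ∀ i ∈ J, ∀ t, C.G.xu (C.G.simp' i) t ∈ M) (hn : ∀ i ∈ J, C.G.nU i ∈ M)
    {r : Fin D.nroots} (hr : InJ C.G J r) (t : K) : C.G.xu r t ∈ M := by
  have hw : ∀ i ∈ J, ∀ s, (∀ t, C.G.xu s t ∈ M) → ∀ t, C.G.xu (C.G.w i s) t ∈ M := by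
    intro i hi s hs t
    have h1 := mul_mem (mul_mem (hn i hi) (hs ((C.G.eta i s : K) * t))) (inv_mem (hn i hi))
    rw [C.G.nU_xu, mul_inv_cancel_right, ← mul_assoc] at h1
    rcases C.G.eta_unit i s with e | e <;> simpa [e] using h1
  have hpos : ∀ n : ℕ, ∀ r : Fin D.nroots, r.val = n → D.IsPosRoot r.val → InJ C.G J r →
      ∀ t, C.G.xu r t ∈ M := by
    intro n
    induction n using Nat.strong_induction_on with
    | _ n ih =>
      intro r hn' hr' hJ t
      rcases C.supp_step hchk hr' with ⟨i, rfl⟩ | ⟨i, k, hk, hlt, hp', e, -⟩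
      · refine hp i ?_ t
        by_contra h
        have := hJ i h
        rw [C.G.rho_simp, Pi.single_eq_same] at this
        exact one_ne_zero this
      · have hz : ∀ m, m ∉ J → C.G.rho (C.G.w i r) m = 0 ∧ m ≠ i := by
          intro m hm
          have h1 := hJ m hm
          rw [e, Pi.add_apply, Pi.smul_apply, smul_eq_mul] at h1
          have h3 := C.G.rho_nonneg hp' m
          by_cases hmi : m = i
          · subst hmi; rw [Pi.single_eq_same] at h1; omega
          · rw [Pi.single_eq_of_ne hmi, mul_zero, add_zero] at h1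
            exact ⟨h1, hmi⟩
        have hiJ : i ∈ J := by_contra fun h => (hz i h).2 rfl
        have := hw i hiJ _ (ih _ (hn' ▸ hlt) _ rfl hp' fun m hm => (hz m hm).1) t
        rwa [C.G.w_w] at this
  by_cases hr' : D.IsPosRoot r.val
  · exact hpos _ r rfl hr' hr t
  · -- the negatives are reached by the same reflections
    have hneg : ∀ n : ℕ, ∀ r : Fin D.nroots, r.val = n → D.IsPosRoot r.val → InJ C.G J r →
        ∀ t, C.G.xu (C.G.negr r) t ∈ M := by
      intro n
      induction n using Nat.strong_induction_on with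
      | _ n ih =>
        intro r hn' hr' hJ t
        rcases C.supp_step hchk hr' with ⟨i, rfl⟩ | ⟨i, k, hk, hlt, hp', e, -⟩
        · have hiJ : i ∈ J := by
            by_contra h
            have := hJ i h
            rw [C.G.rho_simp, Pi.single_eq_same] at this
            exact one_ne_zero this
          rw [← C.G.w_simp]
          exact hw i hiJ _ (hp i hiJ) t
        · have hz : ∀ m, m ∉ J → C.G.rho (C.G.w i r) m = 0 ∧ m ≠ i := by
            intro m hm
            have h1 := hJ m hm
            rw [e, Pi.add_apply, Pi.smul_apply, smul_eq_mul] at h1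
            have h3 := C.G.rho_nonneg hp' m
            by_cases hmi : m = i
            · subst hmi; rw [Pi.single_eq_same] at h1; omega
            · rw [Pi.single_eq_of_ne hmi, mul_zero, add_zero] at h1
              exact ⟨h1, hmi⟩
          have hiJ : i ∈ J := by_contra fun h => (hz i h).2 rfl
          have := hw i hiJ _ (ih _ (hn' ▸ hlt) _ rfl hp' fun m hm => (hz m hm).1) t
          rwa [C.G.w_negr, C.G.w_w] at this
    have := hneg _ (C.G.negr r) rfl ((C.G.negr_pos_iff r).2 hr') (C.G.inJ_negr hr) t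
    rwa [C.G.negr_negr] at this

end Full

end CfsgLib.Lie.Chev
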