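import Cfsg.Agent.Lib.Lie.Chev.StCount
import Cfsg.Agent.Lib.Lie.Chev.PoinF4

/-!
The orders of the parabolic subgroups and two small parabolic Weyl groups of type F4.
-/

set_option autoImplicit false
set_option maxRecDepth 100000

namespace CfsgLib.Lie.Chev

open Cfsg.Lie
open scoped MatrixGroups

variable {D : ChevalleyDatum} {K : Type*} [Field K] [Fintype K]

namespace Full

variable (C : Full D)

include C

/-- the order of a parabolic subgroup -/
theorem card_PJ_eq (hchk : chkSupp D = true) (J : Finset (Fin D.rank)) :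
    Nat.card ↥(C.PJ (K := K) J) = Nat.card ↥(D.borelSubgroup K) * Psum C.G J (Fintype.card K) := by
  classical
  letI : Fintype (C.Wset J ∅) := Fintype.ofFinite _
  have hle : C.PG (K := K) ∅ ≤ C.PG J := fun x hx => by
    have hx' : (x : GL D.Idx K) ∈ C.PJ (K := K) (∅ : Finset (Fin D.rank)) := hx
    rw [C.PJ_empty] at hx'
    exact C.borel_le_PJ J hx'
  let f : ↥(C.PG (K := K) J) ⧸ (C.PG (K := K) ∅).subgroupOf (C.PG J) → C.Cos (K := K) J ∅ :=
    fun q => ⟨QuotientGroup.mk q.out.1, q.out.1, q.out.2, rfl⟩
  have hf : Function.Bijective f := by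
    refine ⟨fun q q' h => ?_, ?_⟩
    · rw [← QuotientGroup.out_eq' q, ← QuotientGroup.out_eq' q']
      exact QuotientGroup.eq.2 (Subgroup.mem_subgroupOf.2 (QuotientGroup.eq.1 (congrArg Subtype.val h)))
    · rintro ⟨x, g, hg, rfl⟩
      obtain ⟨h, hh⟩ := QuotientGroup.mk_out_eq_mul ((C.PG (K := K) ∅).subgroupOf (C.PG J)) ⟨g, hg⟩
      refine ⟨QuotientGroup.mk ⟨g, hg⟩, Subtype.ext ?_⟩
      show QuotientGroup.mk (QuotientGroup.mk (⟨g, hg⟩ : ↥(C.PG (K := K) J))).out.1 = QuotientGroup.mk g
      rw [hh]
      refine QuotientGroup.eq.2 ?_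
      have := Subgroup.mem_subgroupOf.1 h.2
      simpa [mul_assoc] using inv_mem this
  have h1 := ((C.PG (K := K) ∅).subgroupOf (C.PG J)).card_mul_index
  rw [Subgroup.index_eq_card, Nat.card_eq_of_bijective f hf,
    C.card_Cos hchk (Finset.empty_subset J), Nat.card_congr (Subgroup.subgroupOfEquivOfLe hle).toEquiv,
    PG, Nat.card_congr (Subgroup.subgroupOfEquivOfLe C.PJ_le_group).toEquiv, C.PJ_empty,
    PG, Nat.card_congr (Subgroup.subgroupOfEquivOfLe C.PJ_le_group).toEquiv] at h1
  rw [← h1]
  congr 1
  rw [Psum, Finset.sum_subtype (Finset.univ.filter (· ∈ WJ C.G J)) (p := fun w => w ∈ WJ C.G J)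
    (by simp) fun π => Fintype.card K ^ ninv C.G π]
  exact Fintype.sum_equiv (Equiv.subtypeEquivRight fun w => by simp [Up]) _ _ fun _ => rfl

end Full

/-- data for the nodes 0 and 3 of type F4, over the node 0 -/
def stepF4_03 : Step where
  I := [0, 3]
  J := [0]
  m := 2
  P := (.node 1 (.leaf 0x2f002e002d002c002b002a0029002800270026002500240023002200210020001f001e001d001c001b001a0019001800170016001500140013001200110010000f000e000d000c000b000a0009000800070006000500040003000200010000) (.leaf 0x2e002f002d002c002b0029002a002800270025002600230024002200210020001e001f001c001d001b0019001a001700180015001600140012001300100011000f000e000d000b000c0009000a000800070005000600040003000200000001))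
  par := (.node 1 (.leaf (0, 0)) (.leaf (3, 0)))
  nx := (.node 1 (.leaf [(0, 1), (1, 0)]) (.leaf [(1, 1), (0, 0)]))
  N := [0, 1]

theorem chkStepF4_03 : chkStep chevF4 fastF4 stepF4_03 = true := by decide +kernel

/-- data for the node 0 of type F4 -/
def stepF4_00 : Step where
  I := [0]
  J := []
  m := 2
  P := (.node 1 (.leaf 0x2f002e002d002c002b002a0029002800270026002500240023002200210020001f001e001d001c001b001a0019001800170016001500140013001200110010000f000e000d000c000b000a0009000800070006000500040003000200010000) (.leaf 0x2f002e002d00280020001f001e002c002700260025001d001c001b000e002b002a0029002400230022001a00190018001700160015000d000c000b0006000500040021001400130012000a00090008000300110010000f0007000200010000))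
  par := (.node 1 (.leaf (0, 0)) (.leaf (0, 0)))
  nx := (.node 1 (.leaf [(1, 0)]) (.leaf [(0, 0)]))
  N := [0, 1]

theorem chkStepF4_00 : chkStep chevF4 fastF4 stepF4_00 = true := by decide +kernel

theorem PsumF4_03 {R : Type*} [CommSemiring R] (G : Good chevF4) (q : R) :
    Psum G (idxSet chevF4 [0, 3]) q = (1 + q) * (1 + q) := by
  have h := G.Psum_of_chk (S := stepF4_03) (G.w_eq_wF checksF4) (G.simples_eq' checksF4) chkStepF4_03 q
  have h' := G.Psum_of_chk (S := stepF4_00) (G.w_eq_wF checksF4) (G.simples_eq' checksF4) chkStepF4_00 q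
  rw [show stepF4_00.I = [0] from rfl, show idxSet chevF4 stepF4_00.J = ∅ from by decide +kernel,
    G.Psum_empty] at h'
  rw [show stepF4_03.I = [0, 3] from rfl, show stepF4_03.J = [0] from rfl, h'] at h
  rw [h]
  simp only [stepF4_03, stepF4_00, List.map_cons, List.map_nil, List.sum_cons, List.sum_nil]
  ring

theorem PsumF4_12 {R : Type*} [CommSemiring R] (G : Good chevF4) (q : R) :
    Psum G (idxSet chevF4 [1, 2]) q = (1 + q) * (1 + q) * (1 + q * q) := by
  have h := G.Psum_of_chk (S := stepF4_1) (G.w_eq_wF checksF4) (G.simples_eq' checksF4) chkStepF4_1 q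
  have h' := G.Psum_of_chk (S := stepF4_0) (G.w_eq_wF checksF4) (G.simples_eq' checksF4) chkStepF4_0 q
  rw [show stepF4_0.I = [2] from rfl, show idxSet chevF4 stepF4_0.J = ∅ from by decide +kernel,
    G.Psum_empty] at h'
  rw [show stepF4_1.I = [1, 2] from rfl, show stepF4_1.J = [2] from rfl, h'] at h
  rw [h]
  simp only [stepF4_1, stepF4_0, List.map_cons, List.map_nil, List.sum_cons, List.sum_nil]
  ring

end CfsgLib.Lie.Chev
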