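import Cfsg.Agent.Lib.Lie.Chev.Poincare
import Cfsg.Agent.Lib.Lie.Chev.Mk2

/-!
# A certificate for one step of the factorisation of the length generating function

The coset representatives are given as packed permutations of the roots.
-/

set_option autoImplicit false

namespace CfsgLib.Lie.Chev

open Cfsg.Lie

/-- the data of one step -/
structure Step where
  I : List ℕ
  J : List ℕ
  m : ℕ
  P : Tree ℕ
  par : Tree (ℕ × ℕ)
  nx : Tree (List (ℕ × ℕ))
  N : List ℕ

/-- the image of `r` under the `k`-th representative -/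
noncomputable def Step.img (S : Step) (k r : ℕ) : ℕ := digit (S.P.get k) r

/-- membership, by recursion only -/
noncomputable def memB (l : List ℕ) (a : ℕ) : Bool :=
  List.rec false (fun e _ ih => cond (Nat.beq e a) true ih) l

theorem memB_spec {l : List ℕ} {a : ℕ} (h : memB l a = true) : a ∈ l := by
  induction l with
  | nil => exact absurd h (by simp [memB])
  | cons e l ih =>
    change cond (Nat.beq e a) true (memB l a) = true at h
    cases he : Nat.beq e a with
    | true => exact List.mem_cons.2 (Or.inl (Nat.eq_of_beq_eq_true he).symm)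
    | false => rw [he, cond_false] at h; exact List.mem_cons_of_mem _ (ih h)

/-- the number of positive roots sent to negative ones -/
noncomputable def countNeg (S : Step) (h k : ℕ) : ℕ → ℕ :=
  Nat.rec 0 fun i acc => cond (Nat.blt (S.img k (h + i)) h) 1 0 + acc

/-- the checks on one step -/
noncomputable def chkStep (D : ChevalleyDatum) (f : Fast) (S : Step) : Bool :=
  let h := D.nroots / 2
  allList S.I (fun i => Nat.blt i D.rank) &&
  allList S.J (fun j => Nat.blt j D.rank && memB S.I j) &&
  Nat.blt 0 S.m && Nat.beq S.N.length S.m &&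
  (allLt S.m fun k => allLt D.nroots fun r => Nat.blt (S.img k r) D.nroots) &&
  (allLt D.nroots fun r => Nat.beq (S.img 0 r) r) &&
  (allLt S.m fun k => cond (Nat.beq k 0) true
    (memB S.I (S.par.get k).1 && Nat.blt (S.par.get k).2 k &&
      allLt D.nroots fun r => Nat.beq (wF f (S.par.get k).1 (S.img (S.par.get k).2 r)) (S.img k r))) &&
  (allLt S.m fun k => Nat.beq (S.nx.get k).length S.I.length &&
    allList (S.I.zip (S.nx.get k)) fun x => Nat.blt x.2.1 S.m &&
      cond (Nat.beq x.2.2 0)
        (allLt D.nroots fun r => Nat.beq (wF f x.1 (S.img k r)) (S.img x.2.1 r))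
        (memB S.J (x.2.2 - 1) && allLt D.nroots fun r =>
          Nat.beq (wF f x.1 (S.img k r)) (S.img x.2.1 (wF f (x.2.2 - 1) r)))) &&
  (allLt S.m fun k => allList S.J fun j => Nat.ble h (S.img k (f.simples.get j))) &&
  (allLt S.m fun k => Nat.beq (countNeg S h k (D.nroots - h)) (S.N.getD k 0)) &&
  (allLt S.m fun k => allLt k fun k' =>
    !(allLt D.nroots fun r => Nat.beq (S.img k r) (S.img k' r)))

theorem allLt_eq_true {n : ℕ} {f : ℕ → Bool} (h : ∀ i < n, f i = true) : allLt n f = true := by
  induction n with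
  | zero => rfl
  | succ n ih =>
    show cond (f n) (allLt n f) false = true
    rw [h n (Nat.lt_succ_self n), cond_true]
    exact ih fun i hi => h i (Nat.lt_succ_of_lt hi)

/-- a list of root indices as a set of fundamental roots -/
def idxSet (D : ChevalleyDatum) (l : List ℕ) : Finset (Fin D.rank) :=
  Finset.univ.filter fun i => i.val ∈ l

namespace Good

variable {D : ChevalleyDatum} {f : Fast} (G : Good D)

include G

theorem pos_iff_half (r : Fin D.nroots) : D.IsPosRoot r.val ↔ D.nroots / 2 ≤ r.val := by
  classical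
  set P := Finset.univ.filter fun r : Fin D.nroots => D.IsPosRoot r.val
  have hP2 : 2 * P.card = D.nroots := by
    have e : P.card = (Finset.univ.filter fun r : Fin D.nroots => ¬ D.IsPosRoot r.val).card := by
      refine Finset.card_nbij' G.negr G.negr (fun r hr => ?_) (fun r hr => ?_) (fun r _ => G.negr_negr r)
        (fun r _ => G.negr_negr r)
      · simp only [P, Finset.coe_filter, Finset.mem_univ, true_and, Set.mem_setOf_eq] at hr ⊢
        exact fun h => (G.negr_pos_iff r).1 h hr
      · simp only [P, Finset.coe_filter, Finset.mem_univ, true_and, Set.mem_setOf_eq] at hr ⊢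
        exact (G.negr_pos_iff r).2 hr
    have := Finset.card_filter_add_card_filter_not (s := (Finset.univ : Finset (Fin D.nroots)))
      fun r : Fin D.nroots => D.IsPosRoot r.val
    rw [Finset.card_univ, Fintype.card_fin] at this
    change P.card + _ = _ at this
    omega
  have up : ∀ r s : Fin D.nroots, D.IsPosRoot r.val → r.val ≤ s.val → D.IsPosRoot s.val := by
    intro r s hr hrs
    rcases Nat.lt_or_eq_of_le hrs with l | l
    · rw [G.isPosRoot_iff] at hr ⊢
      exact hr.trans (G.ht_lt l)
    · exact l ▸ hr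
  constructor
  · intro hr
    by_contra hlt
    have hsub : Finset.Ici r ⊆ P := fun s hs => by
      simp only [P, Finset.mem_filter, Finset.mem_univ, true_and]
      exact up r s hr (Fin.le_def.1 (Finset.mem_Ici.1 hs))
    have := Finset.card_le_card hsub
    rw [Fin.card_Ici] at this
    omega
  · intro hr
    by_contra hn
    have hsub : P ⊆ Finset.Ioi r := fun s hs => by
      simp only [P, Finset.mem_filter, Finset.mem_univ, true_and] at hs
      rw [Finset.mem_Ioi]
      by_contra hle
      exact hn (up s r hs (Fin.le_def.1 (not_lt.1 hle)))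
    have := Finset.card_le_card hsub
    rw [Fin.card_Ioi] at this
    omega

theorem countNeg_eq (S : Step) {k : ℕ} (π : Equiv.Perm (Fin D.nroots))
    (hπ : ∀ r : Fin D.nroots, (π r).val = S.img k r.val) :
    countNeg S (D.nroots / 2) k (D.nroots - D.nroots / 2) = ninv G π := by
  classical
  set h := D.nroots / 2
  have e : ∀ n, countNeg S h k n = ((Finset.range n).filter fun i => S.img k (h + i) < h).card := by
    intro n
    induction n with
    | zero => rfl
    | succ n ih =>
      show cond (Nat.blt (S.img k (h + n)) h) 1 0 + countNeg S h k n = _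
      rw [Finset.range_add_one, Finset.filter_insert, ih]
      by_cases hlt : S.img k (h + n) < h
      · rw [natBlt_true hlt, cond_true, if_pos hlt, Finset.card_insert_of_notMem (by simp)]
        omega
      · rw [natBlt_false hlt, cond_false, if_neg hlt, zero_add]
  rw [e, ninv]
  symm
  refine Finset.card_bij (fun r _ => r.val - h) ?_ ?_ ?_
  · intro r hr
    simp only [Finset.mem_filter, Finset.mem_univ, true_and, G.pos_iff_half, not_le] at hr
    rw [hπ] at hr
    simp only [Finset.mem_filter, Finset.mem_range]
    rw [show h + (r.val - h) = r.val by omega]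
    exact ⟨by omega, hr.2⟩
  · intro r hr s hs e
    simp only [Finset.mem_filter, Finset.mem_univ, true_and, G.pos_iff_half] at hr hs
    exact Fin.ext (by omega)
  · intro i hi
    simp only [Finset.mem_filter, Finset.mem_range] at hi
    refine ⟨⟨h + i, by omega⟩, ?_, by simp⟩
    simp only [Finset.mem_filter, Finset.mem_univ, true_and, G.pos_iff_half, not_le]
    rw [hπ]
    exact ⟨by omega, hi.2⟩

theorem Psum_of_chk (hw : ∀ i s, (G.w i s).val = wF f i.val s.val)
    (hs : ∀ i, f.simples.get i.val = (G.simp' i).val) {S : Step} (hc : chkStep D f S = true)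
    {R : Type*} [CommSemiring R] (q : R) :
    Psum G (idxSet D S.I) q = (S.N.map fun a => q ^ a).sum * Psum G (idxSet D S.J) q := by
  classical
  simp only [chkStep, Bool.and_eq_true, Nat.blt_eq, Nat.beq_eq] at hc
  obtain ⟨⟨⟨⟨⟨⟨⟨⟨⟨⟨hI, hJ⟩, hm⟩, hN⟩, hlt⟩, h0⟩, hpar⟩, hnx⟩, hpos⟩, hcnt⟩, hdist⟩ := hc
  have hIlt : ∀ i ∈ S.I, i < D.rank := fun i hi => Nat.blt_eq.mp (allList_spec hI i hi)
  have hJ' : ∀ j ∈ S.J, j < D.rank ∧ j ∈ S.I := fun j hj => by
    have := allList_spec hJ j hj
    simp only [Bool.and_eq_true, Nat.blt_eq] at this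
    exact ⟨this.1, memB_spec this.2⟩
  have hex : ∀ k, k < S.m → ∃ π ∈ WJ G (idxSet D S.I), ∀ r : Fin D.nroots, (π r).val = S.img k r.val := by
    intro k
    induction k using Nat.strong_induction_on with
    | _ k ih =>
      intro hk
      by_cases hk0 : k = 0
      · subst hk0
        exact ⟨1, one_mem _, fun r => (Nat.eq_of_beq_eq_true (allLt_spec h0 r.val r.isLt)).symm⟩
      · have := allLt_spec hpar k hk
        rw [natBeq_false hk0, cond_false] at this
        simp only [Bool.and_eq_true, Nat.blt_eq] at this
        obtain ⟨⟨hi, hk'⟩, he⟩ := this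
        have hi' := memB_spec hi
        obtain ⟨π, hπ, hπr⟩ := ih _ hk' (hk'.trans hk)
        refine ⟨G.sP ⟨_, hIlt _ hi'⟩ * π,
          mul_mem (G.sP_mem_WJ (by simp [idxSet, hi'])) hπ, fun r => ?_⟩
        rw [Equiv.Perm.mul_apply, sP_apply, hw, hπr]
        exact Nat.eq_of_beq_eq_true (allLt_spec he r.val r.isLt)
  let u : Fin S.m → Equiv.Perm (Fin D.nroots) := fun k => (hex k.val k.isLt).choose
  have hu : ∀ k r, (u k r).val = S.img k.val r.val := fun k => (hex k.val k.isLt).choose_spec.2
  have huW : ∀ k, u k ∈ WJ G (idxSet D S.I) := fun k => (hex k.val k.isLt).choose_spec.1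
  have hinj : Function.Injective u := by
    intro a b e
    by_contra hne
    rcases Nat.lt_or_gt_of_ne (fun h => hne (Fin.ext h)) with l | l
    · have := allLt_spec (allLt_spec hdist b.val b.isLt) a.val l
      rw [allLt_eq_true (fun r hr => natBeq_true (by rw [← hu b ⟨r, hr⟩, ← hu a ⟨r, hr⟩, e]))] at this
      exact Bool.false_ne_true this
    · have := allLt_spec (allLt_spec hdist a.val a.isLt) b.val l
      rw [allLt_eq_true (fun r hr => natBeq_true (by rw [← hu b ⟨r, hr⟩, ← hu a ⟨r, hr⟩, e]))] at this
      exact Bool.false_ne_true this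
  have hcl' : ∀ (k : Fin S.m) (i : Fin D.rank), i ∈ idxSet D S.I → (∃ k', G.sP i * u k = u k') ∨
      ∃ j ∈ idxSet D S.J, ∃ k', G.sP i * u k = u k' * G.sP j := by
    intro k i hi
    simp only [idxSet, Finset.mem_filter, Finset.mem_univ, true_and] at hi
    have := allLt_spec hnx k.val k.isLt
    simp only [Bool.and_eq_true, Nat.beq_eq] at this
    obtain ⟨hl, hz⟩ := this
    obtain ⟨a, ha, hai⟩ := List.getElem_of_mem hi
    have hmem : (i.val, (S.nx.get k.val)[a]'(by omega)) ∈ S.I.zip (S.nx.get k.val) := by
      rw [List.mem_iff_getElem]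
      exact ⟨a, by rw [List.length_zip]; omega, by rw [List.getElem_zip, hai]⟩
    have hx := allList_spec hz _ hmem
    generalize (S.nx.get k.val)[a]'(by omega) = x at hx
    simp only [Bool.and_eq_true, Nat.blt_eq] at hx
    obtain ⟨hk', hcase⟩ := hx
    by_cases hj0 : x.2 = 0
    · rw [natBeq_true hj0, cond_true] at hcase
      exact Or.inl ⟨⟨x.1, hk'⟩, Equiv.ext fun r => Fin.ext (by
        rw [Equiv.Perm.mul_apply, sP_apply, hw, hu, hu]
        exact Nat.eq_of_beq_eq_true (allLt_spec hcase r.val r.isLt))⟩
    · rw [natBeq_false hj0, cond_false] at hcase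
      simp only [Bool.and_eq_true] at hcase
      have hjm := memB_spec hcase.1
      refine Or.inr ⟨⟨x.2 - 1, (hJ' _ hjm).1⟩, by simp [idxSet, hjm], ⟨x.1, hk'⟩,
        Equiv.ext fun r => Fin.ext ?_⟩
      rw [Equiv.Perm.mul_apply, Equiv.Perm.mul_apply, sP_apply, hw, hu, hu, sP_apply, hw]
      exact Nat.eq_of_beq_eq_true (allLt_spec hcase.2 r.val r.isLt)
  rw [G.Psum_step (I := idxSet D S.I) (J := idxSet D S.J) ?hsub u hinj huW ⟨⟨0, hm⟩, ?hone⟩ ?hpo ?hcl q]
  case hsub =>
    intro j hj
    simp only [idxSet, Finset.mem_filter, Finset.mem_univ, true_and] at hj ⊢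
    exact (hJ' _ hj).2
  case hone =>
    exact Equiv.ext fun r => Fin.ext ((hu _ r).trans (Nat.eq_of_beq_eq_true (allLt_spec h0 r.val r.isLt)))
  case hpo =>
    intro k j hj
    simp only [idxSet, Finset.mem_filter, Finset.mem_univ, true_and] at hj
    rw [G.pos_iff_half, hu]
    have := allList_spec (allLt_spec hpos k.val k.isLt) j.val hj
    rw [hs] at this
    exact Nat.le_of_ble_eq_true this
  case hcl => exact fun k i hi => hcl' k i hi
  · congr 1
    have e : S.N = List.ofFn fun k : Fin S.m => ninv G (u k) := by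
      refine List.ext_getElem (by simp [hN]) fun i h1 h2 => ?_
      rw [List.getElem_ofFn, ← G.countNeg_eq S (u ⟨i, by omega⟩) (hu _),
        Nat.eq_of_beq_eq_true (allLt_spec hcnt i (by omega)), List.getD_eq_getElem _ _ h1]
    rw [e, List.map_ofFn, List.sum_ofFn]
    rfl

/-- the reflections of any verified structure are the tabulated ones -/
theorem w_eq_wF (c : Checks D f) (i : Fin D.rank) (s : Fin D.nroots) :
    (G.w i s).val = wF f i.val s.val :=
  (G.w_reflect i s).trans (c.good.w_reflect i s).symm

theorem simples_eq' (c : Checks D f) (i : Fin D.rank) : f.simples.get i.val = (G.simp' i).val :=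
  ((rowsOK c.rows).simples i.val i.isLt).trans (G.simp_val i).symm

end Good

end CfsgLib.Lie.Chev
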