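import Cfsg.Agent.Lib.Lie.Chev.FullAll
import Cfsg.Agent.Lib.Lie.Chev.Borel
import Cfsg.Prelude.Def_ChevAutomorphisms

/-!
# Generation by the monomial subgroup and fundamental root subgroups
-/

set_option autoImplicit false
set_option maxRecDepth 100000

namespace CfsgLib.Lie.Chev

open Cfsg.Lie
open scoped MatrixGroups

variable {D : ChevalleyDatum}

/-- one step in the graph of nodes with conjugate fundamental roots -/
def nodeStep (D : ChevalleyDatum) (S : List ℕ) : List ℕ :=
  S ++ (List.range D.rank).filter fun j => !(S.contains j) &&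
    S.any fun i => D.reflectRoot i (D.reflectRoot j (D.simple i)) == D.simple j

/-- the closure -/
def nodeReach (D : ChevalleyDatum) (S : List ℕ) : List ℕ := (nodeStep D)^[D.rank] S

/-- a word applied to a root number -/
def reflectWord (D : ChevalleyDatum) (l : List ℕ) (r : ℕ) : ℕ := l.foldl (fun x k => D.reflectRoot k x) r

/-- certificates of commutators reaching the long roots -/
def longCert : List (ℕ × List ℕ × List ℕ × ℕ) :=
  [(0, [0, 1], [1], 1), (0, [1], [0], 1), (0, [1, 2, 1], [0, 1], 2)]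

/-- the long nodes obtained from `S` -/
def longFrom (D : ChevalleyDatum) (S : List ℕ) : List ℕ :=
  longCert.filterMap fun (i, lb, ls, j) =>
    if S.contains i && decide (i < D.rank) && decide (j < D.rank) && lb.all (fun k => decide (k < D.rank))
        && ls.all (fun k => decide (k < D.rank)) then
      match D.commTerms (D.simple i) (reflectWord D lb (D.simple i)) with
      | [(s, z, 1, 1)] =>
          if (z.natAbs == 2 && D.rank != 2 || (z.natAbs == 2 && D.nroots == 8) ||
              (z.natAbs == 3 && D.nroots == 12)) && reflectWord D ls s == D.simple j then some j else none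
      | _ => none
    else none

/-- everything is reached from a short node -/
def chkShort (D : ChevalleyDatum) : Bool :=
  (List.range D.rank).all fun i => D.isLong (D.simple i) ||
    (let S := nodeReach D [i]
     (List.range D.rank).all fun j => (nodeReach D (S ++ longFrom D S)).contains j)

/-- everything is reached from a short and a long node -/
def chkShortLong (D : ChevalleyDatum) : Bool :=
  (List.range D.rank).all fun i => D.isLong (D.simple i) ||
    (List.range D.rank).all fun j => !(D.isLong (D.simple j)) ||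
      (List.range D.rank).all fun k => (nodeReach D [i, j]).contains k

namespace Full

variable {K : Type*} [Field K] (C : Full D)

include C

/-- the root element lies in `M` for every parameter -/
def InM (_C : Full D) (M : Subgroup (GL D.Idx K)) (r : ℕ) : Prop :=
  ∃ h : r < D.nroots, ∀ t : K, _C.G.xu ⟨r, h⟩ t ∈ M

variable {M : Subgroup (GL D.Idx K)} (hN : D.monomialSubgroup K ≤ M)

include hN

theorem inM_w {i r : ℕ} (hi : i < D.rank) (h : C.InM M r) : C.InM M (D.reflectRoot i r) := by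
  obtain ⟨hr, h⟩ := h
  have e := C.G.w_reflect ⟨i, hi⟩ ⟨r, hr⟩
  refine ⟨e ▸ Fin.isLt _, fun t => ?_⟩
  have hn : C.G.nU ⟨i, hi⟩ ∈ M := hN (C.G.nU_mem_monomial (K := K) ⟨i, hi⟩)
  have h1 := mul_mem (mul_mem hn (h ((C.G.eta ⟨i, hi⟩ ⟨r, hr⟩ : K) * t))) (inv_mem hn)
  rw [C.G.nU_xu, mul_inv_cancel_right, ← mul_assoc] at h1
  have h2 : (C.G.eta ⟨i, hi⟩ ⟨r, hr⟩ : K) * (C.G.eta ⟨i, hi⟩ ⟨r, hr⟩ : K) = 1 := by
    rcases C.G.eta_unit ⟨i, hi⟩ ⟨r, hr⟩ with e' | e' <;> simp [e']
  rw [h2, one_mul] at h1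
  have e3 : C.G.w ⟨i, hi⟩ ⟨r, hr⟩ = ⟨D.reflectRoot i r, e ▸ Fin.isLt _⟩ := Fin.ext e
  rwa [e3] at h1

theorem inM_word : ∀ (l : List ℕ) (r : ℕ), (∀ k ∈ l, k < D.rank) → C.InM M r →
    C.InM M (reflectWord D l r) := by
  intro l
  induction l with
  | nil => exact fun _ _ h => h
  | cons k l ih =>
    intro r hk h
    exact ih _ (fun x hx => hk x (List.mem_cons_of_mem _ hx)) (C.inM_w hN (hk k (by simp)) h)

theorem inM_step {S : List ℕ} (hS : ∀ i ∈ S, i < D.rank ∧ C.InM M (D.simple i)) :
    ∀ i ∈ nodeStep D S, i < D.rank ∧ C.InM M (D.simple i) := by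
  intro j hj
  rcases List.mem_append.1 hj with h | h
  · exact hS j h
  · simp only [List.mem_filter, List.mem_range, Bool.and_eq_true, List.any_eq_true, beq_iff_eq] at h
    obtain ⟨hjr, -, i, hi, e⟩ := h
    refine ⟨hjr, ?_⟩
    rw [← e]
    exact C.inM_w hN (hS i hi).1 (C.inM_w hN hjr (hS i hi).2)

theorem inM_reach {S : List ℕ} (hS : ∀ i ∈ S, i < D.rank ∧ C.InM M (D.simple i)) :
    ∀ i ∈ nodeReach D S, i < D.rank ∧ C.InM M (D.simple i) := by
  suffices h : ∀ (n : ℕ) (S : List ℕ), (∀ i ∈ S, i < D.rank ∧ C.InM M (D.simple i)) →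
      ∀ i ∈ (nodeStep D)^[n] S, i < D.rank ∧ C.InM M (D.simple i) from h D.rank S hS
  intro n
  induction n with
  | zero => exact fun S hS => by simpa using hS
  | succ n ih => exact fun S hS i hi => ih _ (C.inM_step hN hS) i (by simpa [Function.iterate_succ_apply] using hi)

theorem inM_long {S : List ℕ} (hS : ∀ i ∈ S, i < D.rank ∧ C.InM M (D.simple i))
    (h2 : D.rank ≠ 2 ∨ D.nroots = 8 → D.nroots ≠ 12 → (2 : K) ≠ 0) (h3 : D.nroots = 12 → (3 : K) ≠ 0)
    (hG2 : D.nroots = 12 → D.rank = 2) :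
    ∀ i ∈ longFrom D S, i < D.rank ∧ C.InM M (D.simple i) := by
  intro j hj
  simp only [longFrom, List.mem_filterMap] at hj
  obtain ⟨⟨i, lb, ls, j'⟩, -, hj⟩ := hj
  simp only at hj
  split_ifs at hj with hc
  simp only [Bool.and_eq_true, List.contains_iff_mem, decide_eq_true_eq, List.all_eq_true] at hc
  obtain ⟨⟨⟨⟨hiS, hir⟩, hjr⟩, hlb⟩, hls⟩ := hc
  split at hj
  · rename_i s z hterm
    split_ifs at hj with hz
    obtain rfl := Option.some.inj hj
    simp only [Bool.and_eq_true, Bool.or_eq_true, beq_iff_eq, bne_iff_ne] at hz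
    obtain ⟨hz, hword⟩ := hz
    refine ⟨hjr, hword ▸ C.inM_word hN ls s hls ?_⟩
    obtain ⟨ha, hA⟩ := (hS i hiS).2
    obtain ⟨hb, hB⟩ := C.inM_word hN lb _ hlb (hS i hiS).2
    set a : Fin D.nroots := ⟨D.simple i, ha⟩
    set b : Fin D.nroots := ⟨_, hb⟩
    have hmem : (s, z, 1, 1) ∈ D.commTerms a.val b.val := by
      show _ ∈ D.commTerms (D.simple i) (reflectWord D lb (D.simple i))
      rw [hterm]; simp
    obtain ⟨-, -, hs, hrho⟩ := C.commTerms_weight hmem
    simp only [Nat.cast_one, one_smul] at hrho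
    have hab : b ≠ a := fun e => by
      rw [e] at hrho
      obtain ⟨φ, hφ⟩ := C.G.primitive ⟨s, hs⟩
      rw [hrho] at hφ
      have h' : 2 * ∑ l, φ l * C.G.rho a l = 1 := by
        rw [← hφ, Finset.mul_sum]
        exact Finset.sum_congr rfl fun l _ => by simp; ring
      omega
    have hab' : b ≠ C.G.negr a := fun e => by
      rw [e, C.G.rho_negr, add_neg_cancel] at hrho
      exact C.G.rho_ne_zero _ hrho
    have hzK : (z : K) ≠ 0 := by
      intro h0
      rcases hz with (⟨hz, hr⟩ | ⟨hz, hn⟩) | ⟨hz, hn⟩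
      · have hn : D.nroots ≠ 12 := fun e => hr (hG2 e)
        rcases Int.natAbs_eq_iff.1 hz with e | e <;> rw [e] at h0 <;> simp at h0 <;>
          exact h2 (Or.inl hr) hn h0
      · have hn' : D.nroots ≠ 12 := by omega
        rcases Int.natAbs_eq_iff.1 hz with e | e <;> rw [e] at h0 <;> simp at h0 <;>
          exact h2 (Or.inr hn) hn' h0
      · rcases Int.natAbs_eq_iff.1 hz with e | e <;> rw [e] at h0 <;> simp at h0 <;> exact h3 hn h0
    refine ⟨hs, fun v => ?_⟩
    set t : K := -(v / (z : K))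
    have hcm := C.commAt a b hab hab' t (1 : K)
    unfold CommAt at hcm
    rw [cwR, show D.commTerms a.val b.val = [(s, z, 1, 1)] from hterm, List.map_cons, List.map_nil,
      wordR_cons, wordR_nil, mul_one, xN, dif_pos hs] at hcm
    have hval : (z : K) * (-t) ^ 1 * (1 : K) ^ 1 = v := by
      simp [t]; field_simp
    simp only [hval] at hcm
    have e : C.G.xu b 1 * C.G.xu a t = C.G.xu a t * C.G.xu b 1 * C.G.xu ⟨s, hs⟩ v := Units.ext hcm
    have e2 : C.G.xu ⟨s, hs⟩ v = (C.G.xu b (1 : K))⁻¹ * (C.G.xu a t)⁻¹ * (C.G.xu b 1 * C.G.xu a t) := by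
      rw [e]; group
    rw [e2]
    exact mul_mem (mul_mem (inv_mem (hB 1)) (inv_mem (hA t))) (mul_mem (hB 1) (hA t))
  · exact absurd hj (by simp)

/-- all fundamental root subgroups generate with `N` -/
theorem group_le_of_simples (h : ∀ i < D.rank, C.InM M (D.simple i)) : D.group K ≤ M := by
  rw [C.G.group_eq, Subgroup.closure_le]
  rintro g ⟨r, t, rfl⟩
  have : C.InM M r.val := C.G.orbit (fun r => C.InM M r.val)
    (fun i _ => by rw [C.G.simp_val]; exact h i.val i.isLt)
    (fun i r hr => by rw [C.G.w_reflect]; exact C.inM_w hN i.isLt hr) r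
  exact this.2 t

omit hN in
theorem inM_rootSubgroup {i : ℕ} (hi : i < D.rank) (hX : D.rootSubgroup K (D.simple i) ≤ M) :
    C.InM M (D.simple i) :=
  ⟨C.G.simple_lt hi, fun t => hX (Subgroup.subset_closure ⟨t, (C.G.x_eq_xu ⟨_, _⟩ t).symm⟩)⟩

end Full

end CfsgLib.Lie.Chev
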