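import Cfsg.Agent.Lib.Lie.Chev.Cert

/-!
# The Boolean certificates give the facts in `Good`
-/

set_option autoImplicit false

namespace CfsgLib.Lie.Chev

open Cfsg.Lie

/-! ### digits -/

theorem natBeq_true {a b : ℕ} (h : a = b) : Nat.beq a b = true := by
  subst h; exact Nat.beq_refl a

theorem natBeq_false {a b : ℕ} (h : a ≠ b) : Nat.beq a b = false := by
  cases hb : Nat.beq a b with
  | false => rfl
  | true => exact absurd (Nat.eq_of_beq_eq_true hb) h

theorem digit_eq (row b : ℕ) : digit row b = row / 2 ^ (16 * b) % 65536 := by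
  show Nat.land (Nat.shiftRight row (16 * b)) (2 ^ 16 - 1) = _
  rw [show Nat.land (Nat.shiftRight row (16 * b)) (2 ^ 16 - 1) =
    (row >>> (16 * b)) &&& (2 ^ 16 - 1) from rfl, Nat.and_two_pow_sub_one_eq_mod,
    Nat.shiftRight_eq_div_pow]

theorem digit_zero {c R : ℕ} (h : c < 65536) : digit (c + 65536 * R) 0 = c := by
  rw [digit_eq]; simp; omega

theorem digit_succ {c R b : ℕ} (h : c < 65536) :
    digit (c + 65536 * R) (b + 1) = digit R b := by
  rw [digit_eq, digit_eq, show 16 * (b + 1) = 16 + 16 * b by ring, pow_add, ← Nat.div_div_eq_div_mul,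
    show (2 : ℕ) ^ 16 = 65536 by norm_num]
  congr 2
  omega

theorem encode_lt {x : ℕ} {y : ℤ} (hx : x + 1 < 1023) (hy : y.natAbs ≤ 7) :
    encode [(x, y)] < 65536 := by
  simp only [encode]; omega

theorem decode_encode {x : ℕ} {y : ℤ} (hx : x + 1 < 1023) (hy : y.natAbs ≤ 7)
    (cor : List (ℕ × ℤ)) : decode cor (encode [(x, y)]) = [(x, y)] := by
  simp only [encode, decode]
  have h1 : x + 1 + 1024 * (y + 8).toNat ≠ 0 := by omega
  have h2 : x + 1 + 1024 * (y + 8).toNat ≠ 1023 := by omega
  have h3 : Nat.beq (x + 1 + 1024 * (y + 8).toNat) 0 = false :=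
    natBeq_false h1
  have h4 : Nat.beq (x + 1 + 1024 * (y + 8).toNat) 1023 = false :=
    natBeq_false h2
  rw [h3, h4]
  simp only [cond_false, List.cons.injEq, Prod.mk.injEq, and_true]
  refine ⟨by omega, ?_⟩
  rw [Int.subNatNat_eq_coe]
  omega

theorem increasing_spec : ∀ {l : List ℕ}, increasing l = true → l.Pairwise (· < ·) := by
  intro l
  induction l with
  | nil => intro; exact List.Pairwise.nil
  | cons a l ih =>
    intro h
    cases l with
    | nil => exact List.pairwise_singleton _ _
    | cons b l =>
      simp only [increasing, Bool.and_eq_true, Nat.blt_eq] at h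
      have := ih h.2
      refine List.pairwise_cons.2 ⟨fun x hx => ?_, this⟩
      rcases List.mem_cons.1 hx with rfl | hx
      · exact h.1
      · exact lt_trans h.1 ((List.pairwise_cons.1 this).1 x hx)

variable {D : ChevalleyDatum} {f : Fast}

/-- what the sweep should produce at position `s` -/
noncomputable def codeAt (D : ChevalleyDatum) (r k ng : ℕ) (l : List (ℕ × Array (ℕ × ℤ))) (s : ℕ) : ℕ :=
  if s = r then 0 else if s = ng then
    (if k = 1 then 1023 else if k = 2 then encode [(D.rank + r, -1)] else 0)
  else match l.find? (fun e => e.1 = s) with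
    | none => 0
    | some e => match e.2.toList[k - 1]? with
      | none => 0
      | some x => encode [(D.rank + x.1, x.2)]

theorem dropKey_cons (s : ℕ) (e : ℕ × Array (ℕ × ℤ)) (l : List (ℕ × Array (ℕ × ℤ))) :
    dropKey s (e :: l) = cond (Nat.beq e.1 s) l (e :: l) := rfl

theorem sweep_succ (D : ChevalleyDatum) (r k ng m s : ℕ) (l : List (ℕ × Array (ℕ × ℤ))) :
    sweep D r k ng (m + 1) s l =
      cond (Nat.beq s r) 0
        (cond (Nat.beq s ng)
          (cond (Nat.beq k 1) 1023 (cond (Nat.beq k 2) (encode [(D.rank + r, -1)]) 0))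
          (headCode D.rank k s l)) +
        65536 * sweep D r k ng m (s + 1) (dropKey s l) := rfl

theorem sweep_digit {r k ng : ℕ} {l0 : List (ℕ × Array (ℕ × ℤ))}
    (hlt : ∀ s, codeAt D r k ng l0 s < 65536) :
    ∀ (m s : ℕ) (l : List (ℕ × Array (ℕ × ℤ))), (l.map Prod.fst).Pairwise (· < ·) →
      (∀ e ∈ l, s ≤ e.1) →
      (∀ s', s ≤ s' → l0.find? (fun e => decide (e.1 = s')) = l.find? fun e => decide (e.1 = s')) →
      ∀ j < m, digit (sweep D r k ng m s l) j = codeAt D r k ng l0 (s + j) := by
  intro m
  induction m with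
  | zero => intro s l _ _ _ j hj; omega
  | succ m ih =>
    intro s l hl hge hfind j hj
    have hhead : cond (Nat.beq s r) 0
        (cond (Nat.beq s ng)
          (cond (Nat.beq k 1) 1023 (cond (Nat.beq k 2) (encode [(D.rank + r, -1)]) 0))
          (headCode D.rank k s l)) = codeAt D r k ng l0 s := by
      unfold codeAt
      rw [hfind s le_rfl]
      by_cases h1 : s = r
      · rw [natBeq_true h1, cond_true, if_pos h1]
      · rw [natBeq_false h1, cond_false, if_neg h1]
        by_cases h2 : s = ng
        · rw [natBeq_true h2, cond_true, if_pos h2]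
          by_cases h3 : k = 1
          · rw [natBeq_true h3, cond_true, if_pos h3]
          · rw [natBeq_false h3, cond_false, if_neg h3]
            by_cases h4 : k = 2
            · rw [natBeq_true h4, cond_true, if_pos h4]
            · rw [natBeq_false h4, cond_false, if_neg h4]
        · rw [natBeq_false h2, cond_false, if_neg h2]
          cases l with
          | nil => simp [headCode]
          | cons e l =>
            simp only [headCode]
            by_cases he : e.1 = s
            · rw [natBeq_true he, cond_true, List.find?_cons_of_pos (by simpa using he)]; rfl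
            · have hn : l.find? (fun x => decide (x.1 = s)) = none := by
                rw [List.find?_eq_none]
                intro x hx
                simp only [decide_eq_true_eq]
                rw [List.map_cons, List.pairwise_cons] at hl
                have := hl.1 x.1 (List.mem_map_of_mem hx)
                have := hge e List.mem_cons_self
                omega
              rw [natBeq_false he, cond_false]
              simp [he, hn]
    rw [sweep_succ, hhead]
    cases j with
    | zero => rw [digit_zero (hlt s), Nat.add_zero]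
    | succ j =>
      rw [digit_succ (hlt s), show s + (j + 1) = s + 1 + j by omega]
      cases l with
      | nil => exact ih (s + 1) [] hl (by simp) (fun s' hs' => hfind s' (by omega)) j (by omega)
      | cons e l =>
        have h0 := hge e List.mem_cons_self
        have hl' := hl
        rw [List.map_cons, List.pairwise_cons] at hl'
        rw [dropKey_cons]
        by_cases he : e.1 = s
        · rw [natBeq_true he, cond_true]
          refine ih (s + 1) l hl'.2 (fun x hx => ?_) (fun s' hs' => ?_) j (by omega)
          · have := hl'.1 x.1 (List.mem_map_of_mem hx)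
            omega
          · rw [hfind s' (by omega)]
            have : ¬ e.1 = s' := by omega
            simp [this]
        · rw [natBeq_false he, cond_false]
          refine ih (s + 1) (e :: l) hl (fun x hx => ?_) (fun s' hs' => hfind s' (by omega)) j (by omega)
          rcases List.mem_cons.1 hx with rfl | hx
          · omega
          · have := hl'.1 x.1 (List.mem_map_of_mem hx)
            omega

theorem horner_digit (c : ℕ → ℕ) (R : ℕ) : ∀ (l : List ℕ), (∀ i ∈ l, c i < 65536) →
    (∀ b, (hb : b < l.length) → digit (l.foldr (fun i acc => c i + 65536 * acc) R) b = c l[b]) ∧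
    (∀ b, digit (l.foldr (fun i acc => c i + 65536 * acc) R) (l.length + b) = digit R b) := by
  intro l
  induction l with
  | nil => intro; exact ⟨fun b hb => absurd hb (by simp), by simp⟩
  | cons a l ih =>
    intro h
    obtain ⟨h1, h2⟩ := ih fun i hi => h i (List.mem_cons_of_mem _ hi)
    refine ⟨fun b hb => ?_, fun b => ?_⟩
    · cases b with
      | zero => simpa using digit_zero (h a List.mem_cons_self)
      | succ b =>
        rw [List.foldr_cons, digit_succ (h a List.mem_cons_self), h1 b (by simpa using hb)]
        simp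
    · rw [List.foldr_cons, List.length_cons, show l.length + 1 + b = l.length + b + 1 by omega,
        digit_succ (h a List.mem_cons_self), h2]

/-- the consequences of `chkRows` -/
structure RowsOK (D : ChevalleyDatum) (f : Fast) : Prop where
  small : D.rank + D.nroots < 1000
  t1 : ∀ r < D.nroots, f.t1.get r = packRow D r 1
  t2 : ∀ r < D.nroots, f.t2.get r = packRow D r 2
  t3 : ∀ r < D.nroots, f.t3.get r = packRow D r 3
  cor : ∀ r < D.nroots, f.cor.get r =
    (List.range D.rank).map fun i => (i, (D.coroot.getD r #[]).getD i 0)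
  negs : ∀ r < D.nroots, f.negs.get r = D.negIdx.getD r 0
  neg_lt : ∀ r < D.nroots, D.negIdx.getD r 0 < D.nroots
  neg_ne : ∀ r < D.nroots, D.negIdx.getD r 0 ≠ r
  keys : ∀ r < D.nroots, ((D.chain.getD r #[]).toList.map Prod.fst).Pairwise (· < ·)
  corsize : ∀ r < D.nroots, (D.coroot.getD r #[]).size = D.rank
  ent : ∀ r < D.nroots, ∀ e ∈ (D.chain.getD r #[]).toList,
    e.2.size ≤ 3 ∧ ∀ x ∈ e.2.toList, x.1 < D.nroots ∧ x.2.natAbs ≤ 7
  tA : ∀ i < D.rank, f.tA.get i = packA D i
  Asize : ∀ i < D.rank, (D.cartanSR.getD i #[]).size = D.nroots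
  Abound : ∀ i < D.rank, ∀ a ∈ (D.cartanSR.getD i #[]).toList, a.natAbs ≤ 7
  simples : ∀ i < D.rank, f.simples.get i = D.simpleIdx.getD i 0
  simples_lt : ∀ i < D.rank, D.simpleIdx.getD i 0 < D.nroots

theorem rowsOK (h : chkRows D f = true) : RowsOK D f := by
  simp only [chkRows, Bool.and_eq_true, Nat.blt_eq] at h
  obtain ⟨⟨hs, hr⟩, hi⟩ := h
  have hr' := fun r hr0 => by
    have := allLt_spec hr r hr0
    simp only [Bool.and_eq_true, Nat.beq_eq, Nat.blt_eq, beq_iff_eq, List.all_eq_true,
      Bool.not_eq_true', ← Bool.not_eq_true, Nat.ble_eq] at this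
    exact this
  have hi' := fun i hi0 => by
    have := allLt_spec hi i hi0
    simp only [Bool.and_eq_true, Nat.beq_eq, Nat.blt_eq, List.all_eq_true, Nat.ble_eq] at this
    exact this
  constructor
  · exact hs
  · intro r hr0; exact (hr' r hr0).1.1.1.1.1.1.1.1.1
  · intro r hr0; exact (hr' r hr0).1.1.1.1.1.1.1.1.2
  · intro r hr0; exact (hr' r hr0).1.1.1.1.1.1.1.2
  · intro r hr0; exact (hr' r hr0).1.1.1.1.1.1.2
  · intro r hr0; exact (hr' r hr0).1.1.1.1.1.2
  · intro r hr0
    rw [← (hr' r hr0).1.1.1.1.1.2]
    exact (hr' r hr0).1.1.1.1.2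
  · intro r hr0
    rw [← (hr' r hr0).1.1.1.1.1.2]
    exact (hr' r hr0).1.1.1.2
  · intro r hr0; exact increasing_spec (hr' r hr0).1.1.2
  · intro r hr0; exact (hr' r hr0).1.2
  · intro r hr0 e he
    obtain ⟨⟨h1, h2⟩, -⟩ := (hr' r hr0).2 e he
    exact ⟨by omega, h1⟩
  · intro i hi0; exact (hi' i hi0).1.1.1.1
  · intro i hi0; exact (hi' i hi0).1.1.1.2
  · intro i hi0; exact (hi' i hi0).1.1.2
  · intro i hi0; exact (hi' i hi0).1.2
  · intro i hi0
    rw [← (hi' i hi0).1.2]
    exact (hi' i hi0).2

theorem RowsOK.shape (h : RowsOK D f) : Shape D where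
  neg_lt := h.neg_lt
  neg_ne := h.neg_ne
  keys r hr := (h.keys r hr).imp ne_of_lt
  len r hr e he := (h.ent r hr e he).1

theorem RowsOK.abound (h : RowsOK D f) {i : ℕ} (hi : i < D.rank) (s : ℕ) :
    ((D.cartanSR.getD i #[]).getD s 0).natAbs ≤ 7 := by
  by_cases hs : s < (D.cartanSR.getD i #[]).size
  · rw [Array.getD_eq_getD_getElem?, Array.getElem?_eq_getElem hs, Option.getD_some]
    exact h.Abound i hi _ (by simp)
  · rw [Array.getD_eq_getD_getElem?, Array.getElem?_eq_none (not_lt.1 hs)]
    simp

theorem codeAt_spec (h : RowsOK D f) {r : ℕ} (hr : r < D.nroots) (k s : ℕ) :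
    codeAt D r k (D.negIdx.getD r 0) (D.chain.getD r #[]).toList s < 65536 ∧
    decode ((List.range D.rank).map fun i => (i, (D.coroot.getD r #[]).getD i 0))
      (codeAt D r k (D.negIdx.getD r 0) (D.chain.getD r #[]).toList s) =
      act D r k (D.rank + s) := by
  have hsm := h.small
  have e1 : D.rank + s - D.rank = s := by omega
  unfold act codeAt ChevalleyDatum.chainEntry
  rw [if_neg (show ¬ D.rank + s < D.rank by omega), e1]
  by_cases h1 : s = r
  · simp [h1, decode]
  · rw [if_neg h1, if_neg h1]
    by_cases h2 : s = D.negIdx.getD r 0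
    · rw [if_pos h2, if_pos h2]
      by_cases h3 : k = 1
      · rw [if_pos h3, if_pos h3]
        exact ⟨by norm_num, rfl⟩
      · rw [if_neg h3, if_neg h3]
        by_cases h4 : k = 2
        · rw [if_pos h4, if_pos h4]
          exact ⟨encode_lt (by omega) (by simp), decode_encode (by omega) (by simp) _⟩
        · simp [h4, decode]
    · rw [if_neg h2, if_neg h2]
      cases hf : (D.chain.getD r #[]).toList.find? (fun e => decide (e.1 = s)) with
      | none => simp [decode]
      | some e =>
        simp only
        cases hx : e.2.toList[k - 1]? with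
        | none => simp [decode]
        | some x =>
          obtain ⟨-, hb⟩ := h.ent r hr e (List.mem_of_find?_eq_some hf)
          obtain ⟨hb1, hb2⟩ := hb x (List.mem_of_getElem? hx)
          exact ⟨encode_lt (by omega) hb2, decode_encode (by omega) hb2 _⟩

theorem packRow_spec (h : RowsOK D f) {r : ℕ} (hr : r < D.nroots) (k : ℕ) {b : ℕ}
    (hb : b < D.rank + D.nroots) :
    decode ((List.range D.rank).map fun i => (i, (D.coroot.getD r #[]).getD i 0))
      (digit (packRow D r k) b) = act D r k b := by
  have hsm := h.small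
  have hc : ∀ i ∈ List.range D.rank,
      (cond (Nat.beq k 1) (encode [(D.rank + r, - (D.cartanSR.getD i #[]).getD r 0)]) 0) < 65536 := by
    intro i hi
    cases Nat.beq k 1 with
    | false => simp
    | true =>
      simp only [cond_true]
      exact encode_lt (by omega) (by simpa using h.abound (List.mem_range.1 hi) r)
  obtain ⟨p1, p2⟩ := horner_digit
    (fun i => cond (Nat.beq k 1) (encode [(D.rank + r, - (D.cartanSR.getD i #[]).getD r 0)]) 0)
    (sweep D r k (D.negIdx.getD r 0) D.nroots 0 (D.chain.getD r #[]).toList)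
    (List.range D.rank) hc
  by_cases hbl : b < D.rank
  · rw [packRow, p1 b (by simpa using hbl)]
    simp only [List.getElem_range, act, if_pos hbl]
    by_cases hk : k = 1
    · rw [show Nat.beq k 1 = true from natBeq_true hk, cond_true, if_pos hk]
      exact decode_encode (by omega) (by simpa using h.abound hbl r) _
    · rw [show Nat.beq k 1 = false from natBeq_false hk, cond_false, if_neg hk]
      simp [decode]
  · obtain ⟨s, rfl⟩ : ∃ s, b = D.rank + s := ⟨b - D.rank, by omega⟩
    rw [packRow]
    have := p2 s
    rw [List.length_range] at this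
    rw [this, sweep_digit (l0 := (D.chain.getD r #[]).toList) (fun x => (codeAt_spec h hr k x).1)
      D.nroots 0 _ (h.keys r hr) (fun e _ => Nat.zero_le _) (fun _ _ => rfl) s (by omega),
      Nat.zero_add]
    exact (codeAt_spec h hr k s).2

theorem actF_eq (h : RowsOK D f) {r k b : ℕ} (hr : r < D.nroots) (hk : 1 ≤ k) (hk' : k ≤ 3)
    (hb : b < D.rank + D.nroots) : actF f r k b = act D r k b := by
  rcases (show k = 1 ∨ k = 2 ∨ k = 3 by omega) with rfl | rfl | rfl <;>
    simp only [actF, h.cor r hr, h.t1 r hr, h.t2 r hr, h.t3 r hr] <;>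
    exact packRow_spec h hr _ hb

theorem cartF_eq (h : RowsOK D f) {i s : ℕ} (hi : i < D.rank) (hs : s < D.nroots) :
    cartF f i s = D.cartan i s := by
  have hsz : s < (D.cartanSR.getD i #[]).toList.length := by
    rw [Array.length_toList, h.Asize i hi]; exact hs
  have key : ∀ (l : List ℤ), (∀ a ∈ l, a.natAbs ≤ 7) → ∀ j (hj : j < l.length),
      digit (l.foldr (fun a acc => (a + 8).toNat + 65536 * acc) 0) j = (l[j] + 8).toNat := by
    intro l
    induction l with
    | nil => intro _ j hj; simp at hj
    | cons a l ih =>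
      intro hl j hj
      have ha := hl a List.mem_cons_self
      rw [List.foldr_cons]
      cases j with
      | zero => exact digit_zero (by omega)
      | succ j =>
        rw [digit_succ (by omega), ih (fun x hx => hl x (List.mem_cons_of_mem _ hx)) j (by simpa using hj)]
        simp
  rw [cartF, h.tA i hi, packA, key _ (h.Abound i hi) s hsz, Int.subNatNat_eq_coe,
    ChevalleyDatum.cartan,
    Array.getD_eq_getD_getElem? (xs := D.cartanSR.getD i #[]),
    Array.getElem?_eq_getElem (by simpa using hsz), Option.getD_some, Array.getElem_toList]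
  have := h.Abound i hi _ (List.getElem_mem hsz)
  rw [Array.getElem_toList] at this
  omega

end CfsgLib.Lie.Chev
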