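import Cfsg.Agent.Lib.Lie.Chev.StCosets
import Cfsg.Agent.Lib.Lie.Chev.Unip2

/-!
# The alternating sum on the Borel subgroup
-/

set_option autoImplicit false

namespace CfsgLib.Lie.Chev

open Cfsg.Lie
open scoped MatrixGroups

variable {D : ChevalleyDatum} {K : Type*} [Field K]

namespace Full

variable (C : Full D)

/-- alternating sums over sets of descents collapse -/
theorem alt_sum_filter {ι R : Type*} [DecidableEq ι] [CommRing R] {α : Type*} (W : Finset α)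
    (J : Finset ι) (P : α → ι → Prop) [∀ a, DecidablePred (P a)] (F : α → R)
    [∀ L : Finset ι, DecidablePred fun w => ∀ j ∈ L, P w j]
    [∀ L : Finset ι, DecidablePred fun w => ∀ j ∈ L, ¬ P w j] :
    ∑ L ∈ J.powerset, (-1 : R) ^ L.card * ∑ w ∈ W.filter (fun w => ∀ j ∈ L, P w j), F w =
      ∑ w ∈ W.filter (fun w => ∀ j ∈ J, ¬ P w j), F w := by
  simp only [Finset.mul_sum, Finset.sum_filter]
  rw [Finset.sum_comm]
  refine Finset.sum_congr rfl fun w _ => ?_
  simp only [mul_ite, mul_zero]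
  rw [← Finset.sum_filter]
  have e : (J.powerset.filter fun L => ∀ j ∈ L, P w j) = (J.filter (P w)).powerset := by
    ext L
    simp only [Finset.mem_filter, Finset.mem_powerset]
    exact ⟨fun h j hj => Finset.mem_filter.2 ⟨h.1 hj, h.2 j hj⟩,
      fun h => ⟨fun j hj => (Finset.mem_filter.1 (h hj)).1, fun j hj => (Finset.mem_filter.1 (h hj)).2⟩⟩
  rw [e, ← Finset.sum_mul]
  have h2 : (∑ L ∈ (J.filter (P w)).powerset, (-1 : R) ^ L.card) =
      if J.filter (P w) = ∅ then 1 else 0 := by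
    have h := congrArg (Int.cast : ℤ → R) (Finset.sum_powerset_neg_one_pow_card (x := J.filter (P w)))
    push_cast at h
    rw [h]
  rw [h2]
  by_cases h : ∀ j ∈ J, ¬ P w j
  · rw [if_pos (Finset.filter_eq_empty_iff.2 h), if_pos h, one_mul]
  · rw [if_neg (fun e => h (Finset.filter_eq_empty_iff.1 e)), if_neg h, zero_mul]

section finite

variable [Finite K]

/-- the alternating sum for the parabolic subgroup `P_J` -/
noncomputable def stJ (J : Finset (Fin D.rank)) (g : ↥(D.group K)) : ℤ :=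
  ∑ L ∈ J.powerset, (-1 : ℤ) ^ L.card * (C.cfix J L g : ℤ)

theorem stJ_borel (hchk : chkSupp D = true) (J : Finset (Fin D.rank)) {b : ↥(D.group K)}
    (hb : (b : GL D.Idx K) ∈ D.borelSubgroup K) :
    C.stJ J b = C.fcell (C.G.wtop J) (b : GL D.Idx K) := by
  classical
  have h1 : ∀ L ∈ J.powerset, (C.cfix J L b : ℤ) =
      ∑ w ∈ (Finset.univ.filter fun w => w ∈ WJ C.G J).filter
        (fun w => ∀ j ∈ L, D.IsPosRoot (w (C.G.simp' j)).val), (C.fcell w (b : GL D.Idx K) : ℤ) := by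
    intro L hL
    rw [C.cfix_borel hchk (Finset.mem_powerset.1 hL) hb, Nat.cast_sum, Finset.filter_filter,
      Finset.sum_subtype (Finset.univ.filter fun w => w ∈ WJ C.G J ∧ ∀ j ∈ L, D.IsPosRoot (w (C.G.simp' j)).val)
        (p := fun w => w ∈ WJ C.G J ∧ Up C.G L w) (fun w => by simp [Up])
        fun w => (C.fcell w (b : GL D.Idx K) : ℤ)]
  rw [stJ, Finset.sum_congr rfl fun L hL => by rw [h1 L hL]]
  refine (alt_sum_filter _ J (fun w j => D.IsPosRoot (w (C.G.simp' j)).val)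
    fun w => (C.fcell w (b : GL D.Idx K) : ℤ)).trans ?_
  rw [Finset.sum_eq_single (C.G.wtop J)]
  · intro w hw hne
    simp only [Finset.mem_filter, Finset.mem_univ, true_and] at hw
    exact absurd (C.G.down_unique hw.1 (C.G.wtop_mem J) hw.2 (C.G.wtop_down J)) hne
  · intro h
    refine absurd ?_ h
    simp only [Finset.mem_filter, Finset.mem_univ, true_and]
    exact ⟨C.G.wtop_mem J, C.G.wtop_down J⟩

end finite

theorem Ukeep_wtop_inv (J : Finset (Fin D.rank)) :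
    (Ukeep C.G (C.G.wtop J)⁻¹ : Subgroup (GL D.Idx K)) = UR C.G J := by
  have h : ∀ r : Fin D.nroots, D.IsPosRoot r.val →
      (D.IsPosRoot ((C.G.wtop J)⁻¹ r).val ↔ ¬ InJ C.G J r) := by
    intro r hr
    have hi := inv_mem (C.G.wtop_mem J)
    by_cases hJ : InJ C.G J r
    · refine iff_of_false (fun hp => ?_) (not_not.2 hJ)
      have h2 := C.G.down_sign (C.G.WJ_le J (C.G.wtop_mem J)) (C.G.wtop_down J) (C.G.inJ_image hi hJ)
      rw [show C.G.wtop J ((C.G.wtop J)⁻¹ r) = r from Equiv.apply_symm_apply _ _] at h2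
      exact h2.1 hr hp
    · exact iff_of_true ((C.G.outside_image hi hJ).2.2 hr) hJ
  apply le_antisymm <;> rw [Ukeep, UR] <;> refine Subgroup.closure_mono ?_
  · rintro g ⟨r, t, ⟨h1, h2⟩, rfl⟩
    exact ⟨r, t, ⟨h1, (h r h1).1 h2⟩, rfl⟩
  · rintro g ⟨r, t, ⟨h1, h2⟩, rfl⟩
    exact ⟨r, t, ⟨h1, (h r h1).2 h2⟩, rfl⟩

theorem UR_normal_PJ {J : Finset (Fin D.rank)} {p v : GL D.Idx K} (hp : p ∈ C.PJ J)
    (hv : v ∈ (UR C.G J : Subgroup (GL D.Idx K))) : p * v * p⁻¹ ∈ (UR C.G J : Subgroup (GL D.Idx K)) :=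
  (Subgroup.mem_normalizer_iff.1 (C.PJ_le_normalizer hp) v).1 hv

theorem card_UR_mul [Fintype K] (J : Finset (Fin D.rank)) :
    Nat.card (UR C.G J : Subgroup (GL D.Idx K)) * Fintype.card K ^ ninv C.G (C.G.wtop J) =
      Fintype.card K ^ (D.nroots / 2) := by
  classical
  have hW := C.G.WJ_le J (inv_mem (C.G.wtop_mem J))
  have hn := C.nr_perm (K := K) hW
  rw [← C.posUnipotent_card, ← C.G.ninv_inv _ (C.G.negr_WJ (C.G.WJ_le J (C.G.wtop_mem J))),
    ← C.card_Uinv hn, ← Nat.card_prod, ← C.Ukeep_wtop_inv J]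
  refine Nat.card_eq_of_bijective (fun x => ⟨(x.1 : GL D.Idx K) * x.2,
    mul_mem (C.G.Ukeep_le _ x.1.2) (C.G.Uinv_le _ x.2.2)⟩) ⟨?_, ?_⟩
  · rintro ⟨a, b⟩ ⟨a', b'⟩ h
    have e : (a : GL D.Idx K) * b = a' * b' := congrArg Subtype.val h
    have h1 : (a' : GL D.Idx K)⁻¹ * a = 1 := by
      refine Subgroup.mem_bot.1 (C.G.Ukeep_inf_Uinv hn ▸ Subgroup.mem_inf.2
        ⟨mul_mem (inv_mem a'.2) a.2, ?_⟩)
      rw [show (a' : GL D.Idx K)⁻¹ * a = b' * (b : GL D.Idx K)⁻¹ by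
        rw [eq_mul_inv_iff_mul_eq, mul_assoc, e, inv_mul_cancel_left]]
      exact mul_mem b'.2 (inv_mem b.2)
    rw [inv_mul_eq_one] at h1
    rw [h1] at e
    exact Prod.ext (Subtype.ext h1.symm) (Subtype.ext (mul_left_cancel e))
  · rintro ⟨g, hg⟩
    obtain ⟨a, ha, b, hb, rfl⟩ := C.exists_keep_mul_inv _ hg
    exact ⟨(⟨a, ha⟩, ⟨b, hb⟩), rfl⟩

/-- on `U`, the alternating sum is a multiple of the indicator of the radical -/
theorem fcell_top_U [Fintype K] (J : Finset (Fin D.rank)) {g : GL D.Idx K}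
    (hg : g ∈ D.posUnipotent K) [Decidable (g ∈ (UR C.G J : Subgroup (GL D.Idx K)))] :
    C.fcell (C.G.wtop J) g =
      if g ∈ (UR C.G J : Subgroup (GL D.Idx K)) then Fintype.card K ^ ninv C.G (C.G.wtop J) else 0 := by
  classical
  have hwJ := C.G.wtop_mem J
  have hW := C.G.WJ_le J hwJ
  have hn := C.nr_perm (K := K) hW
  have hninv := Good.NPerm.inv C.G hn
  set n := C.nr (K := K) (C.G.wtop J)
  split
  · next hgR =>
    have hall : ∀ u : (Uinv C.G (C.G.wtop J)⁻¹ : Subgroup (GL D.Idx K)), C.Cond (C.G.wtop J) g u := by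
      intro u
      have h1 : (u : GL D.Idx K)⁻¹ * g * u ∈ (UR C.G J : Subgroup (GL D.Idx K)) := by
        have := C.UR_normal_PJ (inv_mem (C.borel_le_PJ J (Subgroup.mem_sup_left (C.G.Uinv_le _ u.2)))) hgR
        rwa [inv_inv] at this
      have h2 := C.UR_normal_PJ (inv_mem (C.nr_mem_PJ (K := K) hwJ)) h1
      rw [inv_inv] at h2
      exact Subgroup.mem_sup_left (C.G.UR_le_U h2)
    rw [fcell, Nat.card_congr (Equiv.subtypeUnivEquiv hall), C.card_Uinv hninv,
      C.G.ninv_inv _ (C.G.negr_WJ hW)]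
  · next hgR =>
    rw [fcell, Nat.card_eq_zero]
    refine Or.inl ⟨fun ⟨u, hu⟩ => hgR ?_⟩
    set y := (u : GL D.Idx K)⁻¹ * g * u
    have hy : y ∈ D.posUnipotent K :=
      mul_mem (mul_mem (inv_mem (C.G.Uinv_le _ u.2)) hg) (C.G.Uinv_le _ u.2)
    obtain ⟨v, hv, a, ha, e⟩ := C.exists_inv_keep (C.G.wtop J)⁻¹ hy
    have h1 : n⁻¹ * v * n ∈ D.borelSubgroup K := by
      have h2 : n⁻¹ * a * n ∈ D.borelSubgroup K := Subgroup.mem_sup_left (C.conj_keep_U hn ha)
      have h3 : n⁻¹ * v * n = n⁻¹ * y * n * (n⁻¹ * a * n)⁻¹ := by rw [e]; group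
      rw [h3]
      exact mul_mem hu (inv_mem h2)
    have h2 := C.G.conj_Uinv hninv v hv
    rw [inv_inv] at h2
    have h4 : n⁻¹ * v * n = 1 :=
      Subgroup.mem_bot.1 (C.G.B_inf_V (K := K) ▸ Subgroup.mem_inf.2 ⟨h1, h2⟩)
    have hv1 : v = 1 := by
      calc v = n * (n⁻¹ * v * n) * n⁻¹ := by group
        _ = 1 := by rw [h4]; group
    rw [hv1, one_mul] at e
    have := C.UR_normal_PJ (C.borel_le_PJ J (Subgroup.mem_sup_left (C.G.Uinv_le _ u.2)))
      (show y ∈ (UR C.G J : Subgroup (GL D.Idx K)) by rw [e, ← C.Ukeep_wtop_inv J]; exact ha)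
    simpa [y, mul_assoc] using this

section invariant

/-- translation of cosets inside `P_J` -/
noncomputable def cosSmul {J L : Finset (Fin D.rank)} {a : ↥(D.group K)} (ha : a ∈ C.PG J) :
    C.Cos (K := K) J L ≃ C.Cos (K := K) J L where
  toFun x := ⟨a • x.1, by
    obtain ⟨g, hg, e⟩ := x.2
    exact ⟨a * g, mul_mem ha hg, by rw [← e]; rfl⟩⟩
  invFun x := ⟨a⁻¹ • x.1, by
    obtain ⟨g, hg, e⟩ := x.2
    exact ⟨a⁻¹ * g, mul_mem (inv_mem ha) hg, by rw [← e]; rfl⟩⟩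
  left_inv x := Subtype.ext (inv_smul_smul a x.1)
  right_inv x := Subtype.ext (smul_inv_smul a x.1)

theorem cfix_conj {J L : Finset (Fin D.rank)} {a : ↥(D.group K)} (ha : a ∈ C.PG J)
    (g : ↥(D.group K)) : C.cfix J L (a * g * a⁻¹) = C.cfix J L g := by
  symm
  refine Nat.card_congr ((C.cosSmul ha).subtypeEquiv fun x => ?_)
  show g • x.1 = x.1 ↔ (a * g * a⁻¹) • (a • x.1) = a • x.1
  rw [smul_smul, inv_mul_cancel_right, ← smul_smul]
  exact (smul_left_cancel_iff a).symm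

theorem stJ_conj [Finite K] {J : Finset (Fin D.rank)} {a : ↥(D.group K)} (ha : a ∈ C.PG J)
    (g : ↥(D.group K)) : C.stJ J (a * g * a⁻¹) = C.stJ J g :=
  Finset.sum_congr rfl fun L _ => by rw [C.cfix_conj ha]

end invariant

end Full

end CfsgLib.Lie.Chev
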