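import Cfsg.Agent.Lib.Lie.Chev.StAlt
import Cfsg.Agent.Lib.Lie.Chev.SylowU

/-!
# The number of `p`-elements of a finite Chevalley group
-/

set_option autoImplicit false

namespace CfsgLib.Lie.Chev

open Cfsg.Lie
open scoped MatrixGroups

variable {D : ChevalleyDatum} {K : Type*} [Field K] [Fintype K]

namespace Full

variable (C : Full D) (p : ℕ)

/-- the `p`-elements of `P_J` -/
abbrev PEl (J : Finset (Fin D.rank)) : Type _ :=
  {g : ↥(D.group K) // g ∈ C.PG J ∧ ∃ k : ℕ, orderOf g = p ^ k}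

theorem card_Cos (hchk : chkSupp D = true) {J L : Finset (Fin D.rank)} (hLJ : L ⊆ J)
    [Fintype (C.Wset J L)] :
    Nat.card (C.Cos (K := K) J L) = ∑ w : C.Wset J L, Fintype.card K ^ ninv C.G w.1 := by
  classical
  rw [← Nat.card_eq_of_bijective _ (C.cosetOf_bijective (K := K) hchk hLJ), Nat.card_sigma]
  refine Finset.sum_congr rfl fun w _ => ?_
  have hW := C.G.WJ_le J w.2.1
  rw [C.card_Uinv (Good.NPerm.inv C.G (C.nr_perm (K := K) hW)), C.G.ninv_inv _ (C.G.negr_WJ hW)]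

theorem conj_into_U [Fact p.Prime] [CharP K p] {J : Finset (Fin D.rank)} {g : ↥(D.group K)}
    (hg : g ∈ C.PG J) (hp : ∃ k : ℕ, orderOf g = p ^ k) :
    ∃ a ∈ C.PG (K := K) J, ((a * g * a⁻¹ : ↥(D.group K)) : GL D.Idx K) ∈ D.posUnipotent K := by
  classical
  obtain ⟨S, hS⟩ := C.exists_sylow (F := K) p
  set U := (D.posUnipotent K).subgroupOf (D.group K)
  have hUP : U ≤ C.PG (K := K) J := fun x hx => C.borel_le_PJ J (Subgroup.mem_sup_left hx)
  have hUp : IsPGroup p U := hS ▸ S.2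
  have hidx : ¬ p ∣ U.index := hS ▸ Sylow.not_dvd_index S
  set U' := U.subgroupOf (C.PG (K := K) J)
  have hU'p : IsPGroup p U' := hUp.of_equiv (Subgroup.subgroupOfEquivOfLe hUP).symm
  have hidx' : ¬ p ∣ U'.index := fun h => hidx (h.trans (Subgroup.relIndex_dvd_index_of_le hUP))
  let S' : Sylow p ↥(C.PG (K := K) J) := hU'p.toSylow hidx'
  obtain ⟨k, hk⟩ := hp
  let g' : ↥(C.PG (K := K) J) := ⟨g, hg⟩
  have hgp : IsPGroup p (Subgroup.zpowers g') := by
    refine IsPGroup.of_card (n := k) ?_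
    rw [Nat.card_zpowers, ← hk, ← Subgroup.orderOf_coe g']
  obtain ⟨Q, hQ⟩ := hgp.exists_le_sylow
  obtain ⟨a, ha⟩ := MulAction.exists_smul_eq ↥(C.PG (K := K) J) Q S'
  refine ⟨a.1, a.2, ?_⟩
  have h1 : g' ∈ (Q : Subgroup ↥(C.PG (K := K) J)) := hQ (Subgroup.mem_zpowers g')
  have h2 : a * g' * a⁻¹ ∈ (S' : Subgroup ↥(C.PG (K := K) J)) := by
    rw [← ha, Sylow.coe_subgroup_smul]
    exact Subgroup.smul_mem_pointwise_smul _ (MulAut.conj a) _ h1
  exact h2

theorem sum_stJ_pEl [Fact p.Prime] [CharP K p] (hchk : chkSupp D = true) (J : Finset (Fin D.rank))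
    [Fintype (C.PEl (K := K) p J)] :
    ∑ g : C.PEl (K := K) p J, C.stJ J g.1 = (Fintype.card K : ℤ) ^ (D.nroots / 2) := by
  classical
  have hval : ∀ g : C.PEl (K := K) p J, C.stJ J g.1 =
      if ((g.1 : GL D.Idx K) ∈ (UR C.G J : Subgroup (GL D.Idx K))) then
        ((Fintype.card K ^ ninv C.G (C.G.wtop J) : ℕ) : ℤ) else 0 := by
    rintro ⟨g, hg, hp⟩
    obtain ⟨a, ha, hu⟩ := C.conj_into_U p hg hp
    have e : C.stJ J g = C.stJ J (a * g * a⁻¹) := (C.stJ_conj ha g).symm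
    rw [e, C.stJ_borel hchk J (Subgroup.mem_sup_left hu), C.fcell_top_U J hu]
    have hiff : ((a * g * a⁻¹ : ↥(D.group K)) : GL D.Idx K) ∈ (UR C.G J : Subgroup (GL D.Idx K)) ↔
        (g : GL D.Idx K) ∈ (UR C.G J : Subgroup (GL D.Idx K)) := by
      constructor
      · intro h
        have h1 := C.UR_normal_PJ (inv_mem (show (a : GL D.Idx K) ∈ C.PJ J from ha)) h
        simpa [mul_assoc] using h1
      · intro h
        have h1 := C.UR_normal_PJ (show (a : GL D.Idx K) ∈ C.PJ J from ha) h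
        simpa using h1
    simp only [hiff]
    split <;> simp
  rw [Finset.sum_congr rfl fun g _ => hval g, ← Finset.sum_filter, Finset.sum_const, nsmul_eq_mul]
  have hcard : (Finset.univ.filter fun g : C.PEl (K := K) p J =>
      (g.1 : GL D.Idx K) ∈ (UR C.G J : Subgroup (GL D.Idx K))).card =
      Nat.card (UR C.G J : Subgroup (GL D.Idx K)) := by
    rw [← Fintype.card_subtype, ← Nat.card_eq_fintype_card]
    obtain ⟨n, -, hn⟩ := FiniteField.card K p
    have hpg : IsPGroup p (D.posUnipotent K) :=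
      IsPGroup.of_card (n := (n : ℕ) * (D.nroots / 2)) (by rw [C.posUnipotent_card, hn, ← pow_mul])
    refine Nat.card_eq_of_bijective (fun g => ⟨(g.1.1 : GL D.Idx K), g.2⟩) ⟨?_, ?_⟩
    · intro g g' h
      exact Subtype.ext (Subtype.ext (Subtype.ext (congrArg Subtype.val h :)))
    · rintro ⟨u, hu⟩
      have huU := C.G.UR_le_U hu
      obtain ⟨k, hk⟩ := (IsPGroup.iff_orderOf (p := p)).1 hpg ⟨u, huU⟩
      refine ⟨⟨⟨⟨u, C.G.posUnipotent_le_group huU⟩, C.borel_le_PJ J (Subgroup.mem_sup_left huU), k, ?_⟩, hu⟩, rfl⟩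
      rw [Subgroup.orderOf_mk] at hk ⊢
      exact hk
  rw [hcard, ← Nat.cast_mul, C.card_UR_mul, Nat.cast_pow]

theorem sum_cfix_pEl {J L : Finset (Fin D.rank)} (hLJ : L ⊆ J) [Fintype (C.PEl (K := K) p J)] :
    ∑ g : C.PEl (K := K) p J, C.cfix J L g.1 =
      Nat.card (C.Cos (K := K) J L) * Nat.card (C.PEl (K := K) p L) := by
  classical
  haveI : Fintype (C.Cos (K := K) J L) := Fintype.ofFinite _
  simp only [cfix]
  rw [← Nat.card_sigma, ← Nat.card_prod]
  refine Nat.card_congr (((Equiv.subtypeProdEquivSigmaSubtype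
      (fun (g : C.PEl (K := K) p J) (x : C.Cos (K := K) J L) => g.1 • x.1 = x.1)).symm.trans
    ((Equiv.prodComm _ _).subtypeEquiv (q := fun y => y.2.1 • y.1.1 = y.1.1) fun y => Iff.rfl)).trans
    ((Equiv.subtypeProdEquivSigmaSubtype
      (fun (x : C.Cos (K := K) J L) (g : C.PEl (K := K) p J) => g.1 • x.1 = x.1)).trans
      ((Equiv.sigmaCongrRight fun x => ?_).trans (Equiv.sigmaEquivProd _ _))))
  choose a ha he using x.2
  have hiff : ∀ g : ↥(D.group K), g • x.1 = x.1 ↔ a⁻¹ * g * a ∈ C.PG L := by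
    intro g
    rw [← he, MulAction.Quotient.smul_mk, eq_comm, QuotientGroup.eq, smul_eq_mul, mul_assoc]
  have hord : ∀ c y : ↥(D.group K), orderOf (c * y * c⁻¹) = orderOf y :=
    fun c y => (MulAut.conj c).orderOf_eq y
  exact
  { toFun := fun g => ⟨a⁻¹ * g.1.1 * a, (hiff _).1 g.2, by
      obtain ⟨k, hk⟩ := g.1.2.2
      exact ⟨k, by rw [← hk]; have := hord a⁻¹ g.1.1; rwa [inv_inv] at this⟩⟩
    invFun := fun g => ⟨⟨a * g.1 * a⁻¹, mul_mem (mul_mem ha (C.PJ_mono hLJ g.2.1)) (inv_mem ha), by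
      obtain ⟨k, hk⟩ := g.2.2
      exact ⟨k, by rw [← hk]; exact hord a g.1⟩⟩, (hiff _).2 (by
          rw [show a⁻¹ * (a * g.1 * a⁻¹) * a = g.1 by group]; exact g.2.1)⟩
    left_inv := fun g => Subtype.ext (Subtype.ext (show a * (a⁻¹ * g.1.1 * a) * a⁻¹ = g.1.1 by group))
    right_inv := fun g => Subtype.ext (show a⁻¹ * (a * g.1 * a⁻¹) * a = g.1 by group) }

theorem weyl_identity (J : Finset (Fin D.rank)) (q : ℤ) [∀ L, Fintype (C.Wset J L)] :
    ∑ L ∈ J.powerset, (-1 : ℤ) ^ L.card *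
      ((∑ w : C.Wset J L, q ^ ninv C.G w.1) * q ^ ninv C.G (C.G.wtop L)) = 1 := by
  classical
  have h1 : ∀ L ∈ J.powerset, (∑ w : C.Wset J L, q ^ ninv C.G w.1) * q ^ ninv C.G (C.G.wtop L) =
      ∑ x ∈ (Finset.univ.filter fun x => x ∈ WJ C.G J).filter
        (fun x => ∀ j ∈ L, ¬ D.IsPosRoot (x (C.G.simp' j)).val), q ^ ninv C.G x := by
    intro L hL
    rw [Finset.mem_powerset] at hL
    rw [Finset.sum_mul]
    refine Finset.sum_bij (fun w _ => w.1 * C.G.wtop L) (fun w _ => ?_) (fun w _ w' _ h => ?_)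
      (fun x hx => ?_) (fun w _ => ?_)
    · simp only [Finset.mem_filter, Finset.mem_univ, true_and]
      refine ⟨mul_mem w.2.1 (C.G.WJ_mono hL (C.G.wtop_mem L)), ?_⟩
      refine (C.G.down_iff (mul_mem (C.G.WJ_le J w.2.1) (C.G.WJ_le L (C.G.wtop_mem L)))).2 ?_
      rw [mul_inv_cancel_right]
      exact w.2.2
    · exact Subtype.ext (mul_right_cancel h)
    · simp only [Finset.mem_filter, Finset.mem_univ, true_and] at hx
      exact ⟨⟨x * (C.G.wtop L)⁻¹, mul_mem hx.1 (inv_mem (C.G.WJ_mono hL (C.G.wtop_mem L))),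
        (C.G.down_iff (C.G.WJ_le J hx.1)).1 hx.2⟩, Finset.mem_univ _, inv_mul_cancel_right _ _⟩
    · rw [← pow_add, C.G.up_mul_ninv (C.G.WJ_le J w.2.1) w.2.2 (C.G.wtop_mem L)]
  rw [Finset.sum_congr rfl fun L hL => by rw [h1 L hL]]
  refine (alt_sum_filter _ J (fun x j => ¬ D.IsPosRoot (x (C.G.simp' j)).val)
    fun x => q ^ ninv C.G x).trans ?_
  rw [Finset.sum_eq_single 1]
  · simp [ninv]
  · intro x hx hne
    simp only [Finset.mem_filter, Finset.mem_univ, true_and, not_not] at hx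
    have hx1 : x = 1 := C.G.eq_one_of_up_mul (J := J) (one_mem _) (fun j _ => C.G.simp_pos j) hx.1
      (by rw [one_mul]; exact hx.2)
    exact absurd hx1 hne
  · intro h
    refine absurd ?_ h
    simp only [Finset.mem_filter, Finset.mem_univ, true_and, not_not]
    exact ⟨one_mem _, fun j _ => C.G.simp_pos j⟩

theorem card_pEl [Fact p.Prime] [CharP K p] (hchk : chkSupp D = true) :
    ∀ J : Finset (Fin D.rank), Nat.card (C.PEl (K := K) p J) =
      Fintype.card K ^ (D.nroots / 2 + ninv C.G (C.G.wtop J)) := by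
  intro J
  induction hn : J.card using Nat.strong_induction_on generalizing J with
  | _ n ih =>
  classical
  haveI : Fintype (C.PEl (K := K) p J) := Fintype.ofFinite _
  haveI : ∀ L, Fintype (C.Wset J L) := fun L => Fintype.ofFinite _
  set q := Fintype.card K with hq
  have h1 := C.sum_stJ_pEl (K := K) p hchk J
  simp only [stJ] at h1
  rw [Finset.sum_comm] at h1
  have h2 : ∀ L ∈ J.powerset, ∑ g : C.PEl (K := K) p J, (-1 : ℤ) ^ L.card * (C.cfix J L g.1 : ℤ) =
      (-1 : ℤ) ^ L.card * ((∑ w : C.Wset J L, (q : ℤ) ^ ninv C.G w.1) *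
        (Nat.card (C.PEl (K := K) p L) : ℤ)) := by
    intro L hL
    rw [← Finset.mul_sum, ← Nat.cast_sum, C.sum_cfix_pEl p (Finset.mem_powerset.1 hL),
      C.card_Cos hchk (Finset.mem_powerset.1 hL)]
    push_cast
    rfl
  rw [Finset.sum_congr rfl h2] at h1
  have h3 := congrArg (fun z : ℤ => (q : ℤ) ^ (D.nroots / 2) * z) (C.weyl_identity J (q : ℤ))
  simp only [mul_one, Finset.mul_sum] at h3
  have hJ : J ∈ J.powerset := Finset.mem_powerset_self J
  have hrest : ∀ L ∈ J.powerset.erase J,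
      (-1 : ℤ) ^ L.card * ((∑ w : C.Wset J L, (q : ℤ) ^ ninv C.G w.1) *
        (Nat.card (C.PEl (K := K) p L) : ℤ)) =
      (q : ℤ) ^ (D.nroots / 2) * ((-1 : ℤ) ^ L.card *
        ((∑ w : C.Wset J L, (q : ℤ) ^ ninv C.G w.1) * (q : ℤ) ^ ninv C.G (C.G.wtop L))) := by
    intro L hL
    rw [Finset.mem_erase, Finset.mem_powerset] at hL
    rw [ih L.card (hn ▸ Finset.card_lt_card (lt_of_le_of_ne hL.2 hL.1)) L rfl, Nat.cast_pow, pow_add]
    ring
  rw [← Finset.add_sum_erase _ _ hJ] at h1 h3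
  rw [Finset.sum_congr rfl hrest] at h1
  have hA : (∑ w : C.Wset J J, (q : ℤ) ^ ninv C.G w.1) = 1 := by
    rw [Fintype.sum_eq_single (⟨1, one_mem _, fun j _ => C.G.simp_pos j⟩ : C.Wset J J)]
    · simp [ninv]
    · rintro ⟨w, hw, hu⟩ hne
      have hw1 : w = 1 := C.G.eq_one_of_up_mul (J := J) (one_mem _)
        (fun j _ => C.G.simp_pos j) hw (by rwa [one_mul])
      exact absurd (Subtype.ext hw1) hne
  rw [hA, one_mul] at h1 h3
  have h4 : (-1 : ℤ) ^ J.card * (Nat.card (C.PEl (K := K) p J) : ℤ) =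
      (-1 : ℤ) ^ J.card * ((q : ℤ) ^ (D.nroots / 2) * (q : ℤ) ^ ninv C.G (C.G.wtop J)) := by
    linear_combination h1 - h3
  have h5 := mul_left_cancel₀ (pow_ne_zero _ (by norm_num)) h4
  rw [← pow_add] at h5
  exact_mod_cast h5

end Full

end CfsgLib.Lie.Chev
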