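import Cfsg.Agent.Lib.Lie.Chev.StSemiWeyl
import Cfsg.Agent.Lib.Lie.Chev.StChar
import Cfsg.Agent.Lib.Lie.Chev.BorelTits
import Cfsg.Agent.Lib.Coprime.SchurZassenhaus

/-!
# The Steinberg character on semisimple elements

For a semisimple `g` in `P_J`, conjugate into no smaller parabolic subgroup inside `P_J`, the sum of
the character over the coset `g U_J` counts double cosets, and the semisimple elements of the coset
are the conjugates of `g` under `U_J`.
-/

set_option autoImplicit false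
set_option maxHeartbeats 800000

namespace CfsgLib.Lie.Chev

open Cfsg Cfsg.Lie
open scoped MatrixGroups

section abstract

variable {G X : Type*} [Group G] [MulAction G X]

theorem card_coset_fix_orbit [Finite G] [Fintype X] (U : Subgroup G) [Fintype U] (g : G) (x₀ : X)
    (S : Finset X) (hS : ∀ x, x ∈ S ↔ x ∈ MulAction.orbit U x₀)
    (h : ∀ x ∈ S, g⁻¹ • x ∈ S) [∀ x : X, DecidablePred fun u : U => (g * (u : G)) • x = x] :
    ∑ x ∈ S, (Finset.univ.filter fun u : U => (g * (u : G)) • x = x).card = Nat.card U := by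
  classical
  have key : ∀ x ∈ S, (Finset.univ.filter fun u : U => (g * (u : G)) • x = x).card =
      Nat.card (MulAction.stabilizer U x₀) := by
    intro x hx
    obtain ⟨u₁, h1⟩ := (hS x).1 hx
    obtain ⟨u₂, h2⟩ := (hS _).1 (h x hx)
    rw [← Fintype.card_subtype, ← Nat.card_eq_fintype_card]
    refine Nat.card_congr
      ((((Equiv.mulRight u₁).trans (Equiv.mulLeft u₂⁻¹)).subtypeEquiv fun u => ?_))
    show (g * (u : G)) • x = x ↔ u₂⁻¹ * (u * u₁) ∈ MulAction.stabilizer U x₀
    rw [MulAction.mem_stabilizer_iff, mul_smul, mul_smul u₂⁻¹, inv_smul_eq_iff, mul_smul,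
      show u₁ • x₀ = x from h1, show u₂ • x₀ = g⁻¹ • x from h2, eq_inv_smul_iff]
    exact Iff.rfl
  rw [Finset.sum_congr rfl key, Finset.sum_const, smul_eq_mul,
    ← Nat.card_congr (MulAction.orbitProdStabilizerEquivGroup U x₀), Nat.card_prod]
  congr 1
  rw [← Nat.card_eq_finsetCard S]
  exact Nat.card_congr (Equiv.subtypeEquivRight hS)

/-- the elements of order prime to `p` in a coset of a normalised `p`-subgroup are conjugate -/
theorem exists_conj_of_coset [Finite G] {p : ℕ} [Fact p.Prime] {U : Subgroup G} (hU : IsPGroup p U)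
    {g u : G} (hg : g ∈ Subgroup.normalizer (U : Set G)) (hgp : ¬ p ∣ orderOf g) (hu : u ∈ U)
    (hup : ¬ p ∣ orderOf (g * u)) : ∃ v ∈ U, g * u = v * g * v⁻¹ := by
  classical
  have hp : p.Prime := Fact.out
  obtain ⟨k, hk⟩ := IsPGroup.iff_card.1 hU
  have hcop : ∀ n : ℕ, ¬ p ∣ n → (Nat.card U).Coprime n := fun n hn => by
    rw [hk]; exact ((hp.coprime_iff_not_dvd).2 hn).pow_left k
  have htriv : ∀ x : G, x ∈ U → ∀ n : ℕ, ¬ p ∣ n → x ^ n = 1 → x = 1 := by
    intro x hx n hn he
    have h1 : orderOf x ∣ Nat.card U := by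
      rw [← Subgroup.orderOf_mk x hx]; exact orderOf_dvd_natCard _
    exact orderOf_eq_one_iff.1 (Nat.eq_one_of_dvd_coprimes (hcop n hn) h1 (orderOf_dvd_of_pow_eq_one he))
  have hcong : ∀ n : ℕ, (g ^ n)⁻¹ * (g * u) ^ n ∈ U := by
    intro n
    induction n with
    | zero => simp
    | succ n ih =>
      rw [pow_succ, pow_succ, show (g ^ n * g)⁻¹ * ((g * u) ^ n * (g * u)) =
        g⁻¹ * ((g ^ n)⁻¹ * (g * u) ^ n) * g * u by group]
      exact mul_mem ((Subgroup.mem_normalizer_iff''.1 hg _).1 ih) hu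
  have hord : orderOf (g * u) = orderOf g := by
    apply Nat.dvd_antisymm
    · refine orderOf_dvd_of_pow_eq_one (htriv _ ?_ _ hup ?_)
      · have h := hcong (orderOf g)
        rwa [pow_orderOf_eq_one, inv_one, one_mul] at h
      · rw [← pow_mul, mul_comm, pow_mul, pow_orderOf_eq_one, one_pow]
    · refine orderOf_dvd_of_pow_eq_one (htriv _ ?_ _ hgp ?_)
      · have h := hcong (orderOf (g * u))
        rw [pow_orderOf_eq_one, mul_one] at h
        exact inv_mem_iff.1 h
      · rw [← pow_mul, mul_comm, pow_mul, pow_orderOf_eq_one, one_pow]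
  have hsolv : Group.IsSolvable (Subgroup.zpowers g) ∨ Group.IsSolvable U :=
    Or.inl inferInstance
  obtain ⟨v, hv, he⟩ := CfsgLib.Coprime.sz_conj_in (N := U) (Subgroup.zpowers_le.2 hg)
    (by rw [Nat.card_zpowers]; exact hcop _ hgp)
    (Subgroup.zpowers_le.2 (Subgroup.mul_mem_sup (Subgroup.mem_zpowers g) hu))
    (by rw [Nat.card_zpowers, Nat.card_zpowers, hord]) hsolv
  have h1 : v * (g * u) * v⁻¹ ∈ Subgroup.zpowers g := by
    rw [← he, CfsgLib.Coprime.mem_conjBy, show v⁻¹ * (v * (g * u) * v⁻¹) * v = g * u by group]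
    exact Subgroup.mem_zpowers _
  have h2 : g⁻¹ * (v * (g * u) * v⁻¹) ∈ U := by
    rw [show g⁻¹ * (v * (g * u) * v⁻¹) = (g⁻¹ * v * g) * u * v⁻¹ by group]
    exact mul_mem (mul_mem ((Subgroup.mem_normalizer_iff''.1 hg v).1 hv) hu) (inv_mem hv)
  have h4 := Subgroup.mul_mem _ (Subgroup.inv_mem _ (Subgroup.mem_zpowers g)) h1
  obtain ⟨i, hi⟩ := Subgroup.mem_zpowers_iff.1 h4
  have h3 : g⁻¹ * (v * (g * u) * v⁻¹) = 1 := by
    refine htriv _ h2 (orderOf g) hgp ?_
    rw [← hi, ← zpow_natCast, ← zpow_mul, mul_comm, zpow_mul, zpow_natCast, pow_orderOf_eq_one,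
      one_zpow]
  refine ⟨v⁻¹, inv_mem hv, ?_⟩
  rw [inv_mul_eq_one] at h3
  rw [inv_inv]
  calc g * u = v⁻¹ * (v * (g * u) * v⁻¹) * v := by group
    _ = v⁻¹ * g * v := by rw [← h3]

/-- a class function vanishing on elements of order divisible by `p`, summed over a coset -/
theorem value_of_coset_sum [Finite G] {p : ℕ} [Fact p.Prime] {U : Subgroup G} [Fintype U]
    (hU : IsPGroup p U) {g : G} (hg : g ∈ Subgroup.normalizer (U : Set G)) (hgp : ¬ p ∣ orderOf g)
    (F : G → ℂ) (hcl : ∀ x y : G, F (y * x * y⁻¹) = F x) (hsing : ∀ x, p ∣ orderOf x → F x = 0)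
    (c : ℂ) (hsum : ∑ u : U, F (g * (u : G)) = c * (Nat.card U : ℂ)) :
    F g = c * (Nat.card ↥(U ⊓ Subgroup.centralizer {g}) : ℂ) := by
  classical
  let φ : U → U := fun v => ⟨g⁻¹ * ((v : G) * g * (v : G)⁻¹), by
    rw [show g⁻¹ * ((v : G) * g * (v : G)⁻¹) = (g⁻¹ * v * g) * (v : G)⁻¹ by group]
    exact mul_mem ((Subgroup.mem_normalizer_iff''.1 hg _).1 v.2) (inv_mem v.2)⟩
  have hφ : ∀ v, g * (φ v : G) = (v : G) * g * (v : G)⁻¹ := fun v => mul_inv_cancel_left _ _
  have hfib : ∀ u : U, ((Finset.univ.filter fun v => φ v = u).card : ℂ) * F (g * (u : G)) =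
      (Nat.card ↥(U ⊓ Subgroup.centralizer {g}) : ℂ) * F (g * (u : G)) := by
    intro u
    by_cases hs : p ∣ orderOf (g * (u : G))
    · rw [hsing _ hs, mul_zero, mul_zero]
    obtain ⟨v₀, hv₀, e⟩ := exists_conj_of_coset hU hg hgp u.2 hs
    congr 2
    rw [← Fintype.card_subtype, ← Nat.card_eq_fintype_card]
    have hiff : ∀ v : U, φ v = u ↔ v₀⁻¹ * (v : G) ∈ Subgroup.centralizer {g} := by
      intro v
      rw [Subtype.ext_iff, Subgroup.mem_centralizer_singleton_iff]
      constructor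
      · intro h
        have h1 : (v : G) * g * (v : G)⁻¹ = v₀ * g * v₀⁻¹ := by rw [← hφ, h, e]
        calc v₀⁻¹ * (v : G) * g = v₀⁻¹ * ((v : G) * g * (v : G)⁻¹) * v := by group
          _ = g * (v₀⁻¹ * v) := by rw [h1]; group
      · intro h
        apply mul_left_cancel (a := g)
        rw [hφ, e]
        calc (v : G) * g * (v : G)⁻¹ = v₀ * (v₀⁻¹ * (v : G) * g) * (v : G)⁻¹ := by group
          _ = v₀ * g * v₀⁻¹ := by rw [h]; group
    exact Nat.card_congr
      { toFun := fun v => ⟨v₀⁻¹ * (v.1 : G), U.mul_mem (U.inv_mem hv₀) v.1.2, (hiff _).1 v.2⟩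
        invFun := fun c => ⟨⟨v₀ * c.1, U.mul_mem hv₀ c.2.1⟩, (hiff _).2 (by
          rw [inv_mul_cancel_left]; exact c.2.2)⟩
        left_inv := fun v => Subtype.ext (Subtype.ext (mul_inv_cancel_left _ _))
        right_inv := fun c => Subtype.ext (inv_mul_cancel_left _ _) }
  have h1 : ∑ v : U, F (g * (φ v : G)) = (Nat.card U : ℂ) * F g := by
    rw [Finset.sum_congr rfl fun v _ => by rw [hφ, hcl], Finset.sum_const, nsmul_eq_mul,
      Finset.card_univ, Nat.card_eq_fintype_card]
  rw [← Finset.sum_fiberwise' (g := φ) Finset.univ fun u : U => F (g * (u : G))] at h1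
  simp only [Finset.sum_const, nsmul_eq_mul] at h1
  rw [Finset.sum_congr rfl fun u _ => hfib u, ← Finset.mul_sum, hsum] at h1
  have h0 : (Nat.card U : ℂ) ≠ 0 := Nat.cast_ne_zero.2 Nat.card_pos.ne'
  refine mul_left_cancel₀ h0 ?_
  linear_combination -h1

end abstract

namespace Full

variable {D : ChevalleyDatum} {K : Type*} [Field K] (C : Full D)

theorem fixedPointCharacter_conj {G : Type*} [Group G] (H : Subgroup G) (x y : G) :
    fixedPointCharacter H (y * x * y⁻¹) = fixedPointCharacter H x := by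
  simp only [fixedPointCharacter]
  congr 1
  symm
  refine Nat.card_congr ((MulAction.toPerm y).subtypeEquiv fun c => ?_)
  show x • c = c ↔ (y * x * y⁻¹) • (y • c) = y • c
  rw [smul_smul, inv_mul_cancel_right, mul_smul, smul_left_cancel_iff]

variable [Fintype K]

/-- fixed cosets of `P_L` summed over the coset `g U_J` -/
theorem sum_fix_coset (hchk : chkSupp D = true) {J : Finset (Fin D.rank)} {g : ↥(D.group K)}
    (hg : g ∈ C.PG J)
    (hmin : ∀ a ∈ C.PG J, ∀ M ⊆ J, a * g * a⁻¹ ∈ C.PG M → M = J)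
    (L : Finset (Fin D.rank)) [Fintype ↥((UR C.G J).subgroupOf (D.group K))] :
    ∑ u : ↥((UR C.G J).subgroupOf (D.group K)),
      Nat.card (MulAction.fixedBy (↥(D.group K) ⧸ C.PG (K := K) L) (g * (u : ↥(D.group K)))) =
      (absorbSet C.G J L).card * Nat.card ↥((UR C.G J).subgroupOf (D.group K)) := by
  classical
  set U : Subgroup ↥(D.group K) := (UR C.G J).subgroupOf (D.group K) with hU
  haveI : Fintype (↥(D.group K) ⧸ C.PG (K := K) L) := Fintype.ofFinite _
  let X := ↥(D.group K) ⧸ C.PG (K := K) L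
  let dd : X → Equiv.Perm (Fin D.nroots) := fun x => (C.inDouble_exists J L x.out.2).choose.1
  have hdd : ∀ x : X, C.InDouble J L (x.out : GL D.Idx K) (dd x) ∧ dd x ∈ C.G.Wg ∧
      Up C.G L (dd x) ∧ Up C.G J (dd x)⁻¹ := fun x =>
    ⟨(C.inDouble_exists J L x.out.2).choose_spec, (C.inDouble_exists J L x.out.2).choose.2⟩
  let base : Equiv.Perm (Fin D.nroots) → ↥(D.group K) := fun d =>
    ⟨C.nr d, C.G.monomial_le_group (C.nr_mem d)⟩
  have hUP : ∀ M : Finset (Fin D.rank), U ≤ C.PG M := fun M y hy =>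
    C.borel_le_PJ M (Subgroup.mem_sup_left (C.G.UR_le_U hy))
  have hrep : ∀ x : X, ∃ a ∈ C.PG (K := K) J, x = a • (QuotientGroup.mk (base (dd x)) : X) := by
    intro x
    obtain ⟨h, hh, k, hk, e⟩ := C.inDouble_rep (d := ⟨dd x, (hdd x).2⟩) (hdd x).1
    refine ⟨⟨h, C.PJ_le_group hh⟩, hh, ?_⟩
    rw [MulAction.Quotient.smul_mk]
    conv_lhs => rw [← QuotientGroup.out_eq' x]
    refine QuotientGroup.eq.2 ?_
    show (x.out : GL D.Idx K)⁻¹ * (h * C.nr (dd x)) ∈ C.PJ L
    rw [e, show (h * C.nr (dd x) * k)⁻¹ * (h * C.nr (dd x)) = k⁻¹ by group]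
    exact inv_mem hk
  -- a fixed coset belongs to an absorbing double coset
  have hsupp : ∀ (x : X) (u : U), (g * (u : ↥(D.group K))) • x = x → suppJ C.G J (dd x) ⊆ L := by
    intro x u hx
    obtain ⟨a, ha, e⟩ := hrep x
    rw [e, smul_smul, MulAction.Quotient.smul_mk, MulAction.Quotient.smul_mk, eq_comm,
      QuotientGroup.eq] at hx
    set q := a⁻¹ * g * a * (a⁻¹ * (u : ↥(D.group K)) * a) with hq
    have hqJ : q ∈ C.PG J := mul_mem (mul_mem (mul_mem (inv_mem ha) hg) ha)
      (mul_mem (mul_mem (inv_mem ha) (hUP J u.2)) ha)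
    have hq2 : (base (dd x))⁻¹ * q * base (dd x) ∈ C.PG L := by
      have e2 : (base (dd x))⁻¹ * q * base (dd x) =
          (a • base (dd x))⁻¹ * ((g * (u : ↥(D.group K)) * a) • base (dd x)) := by
        simp only [smul_eq_mul, hq]; group
      rw [e2]; exact hx
    have hqM : q ∈ C.PG (J.filter fun j => InJ C.G L ((dd x)⁻¹ (C.G.simp' j))) :=
      C.mem_PJ_filter (p := (q : GL D.Idx K)) (hdd x).2.1 (hdd x).2.2.2 hqJ hq2
    have hu' : a⁻¹ * (u : ↥(D.group K)) * a ∈ U := by
      show (a⁻¹ * (u : ↥(D.group K)) * a : ↥(D.group K)).1 ∈ UR C.G J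
      have := C.UR_normal_PJ (inv_mem (show (a : GL D.Idx K) ∈ C.PJ J from ha)) u.2
      rwa [inv_inv] at this
    have h2 : a⁻¹ * g * a⁻¹⁻¹ ∈ C.PG (J.filter fun j => InJ C.G L ((dd x)⁻¹ (C.G.simp' j))) := by
      rw [inv_inv, show a⁻¹ * g * a = q * (a⁻¹ * (u : ↥(D.group K)) * a)⁻¹ by rw [hq]; group]
      exact mul_mem hqM (inv_mem (hUP _ hu'))
    have h3 := hmin _ (inv_mem ha) _ (Finset.filter_subset _ _) h2
    rw [C.G.suppJ_subset_iff]
    intro j hj
    rw [← h3] at hj
    exact (Finset.mem_filter.1 hj).2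
  -- the double coset of an absorbing representative is one orbit of `U`
  have horbit : ∀ d ∈ absorbSet C.G J L, ∀ x : X,
      dd x = d ↔ x ∈ MulAction.orbit U (QuotientGroup.mk (base d) : X) := by
    intro d hd x
    simp only [absorbSet, Finset.mem_filter, Finset.mem_univ, true_and] at hd
    constructor
    · rintro rfl
      obtain ⟨a, ha, e⟩ := hrep x
      have ha' : (a : GL D.Idx K) ∈ (UR C.G J : Subgroup (GL D.Idx K)) ⊔
          (D.diagonalSubgroup K ⊔ LJ C.G J) := by rw [C.UR_sup_levi hchk]; exact ha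
      rw [← SetLike.mem_coe, Subgroup.coe_mul_of_right_le_normalizer_left _ _
        (le_trans (by rw [← C.UR_sup_levi hchk]; exact le_sup_right) C.PJ_le_normalizer),
        Set.mem_mul] at ha'
      · obtain ⟨v, hv, l, hl, hvl⟩ := ha'
        have hvG : v ∈ D.group K := C.G.posUnipotent_le_group (C.G.UR_le_U hv)
        refine ⟨⟨⟨v, hvG⟩, Subgroup.mem_subgroupOf.2 hv⟩, ?_⟩
        refine Eq.trans ?_ e.symm
        show (⟨v, hvG⟩ : ↥(D.group K)) • (QuotientGroup.mk (base (dd x)) : X) = _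
        rw [MulAction.Quotient.smul_mk, MulAction.Quotient.smul_mk, QuotientGroup.eq]
        show (v * C.nr (dd x))⁻¹ * ((a : GL D.Idx K) * C.nr (dd x)) ∈ C.PJ L
        rw [← hvl, show (v * C.nr (dd x))⁻¹ * (v * l * C.nr (dd x)) =
          (C.nr (dd x))⁻¹ * l * C.nr (dd x) by group]
        exact C.conj_levi_mem_PJ hchk hd.1 hd.2.2.2 hl
    · rintro ⟨v, rfl⟩
      set x := v • (QuotientGroup.mk (base d) : X) with hx
      have hk : (((v : ↥(D.group K)) * base d)⁻¹ * x.out : ↥(D.group K)) ∈ C.PG L := by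
        rw [← QuotientGroup.eq, QuotientGroup.out_eq']
        exact (MulAction.Quotient.smul_mk (C.PG L) (v : ↥(D.group K)) (base d)).symm
      have hin : C.InDouble J L (base d : GL D.Idx K) d := by
        refine ⟨1, one_mem _, 1, one_mem _, ?_⟩
        rw [one_mul, mul_one]
        exact C.inCell_nr hd.1
      have h := C.inDouble_mul (show ((v : ↥(D.group K)) : GL D.Idx K) ∈ C.PJ J from hUP J v.2) hk hin
      rw [← Subgroup.coe_mul] at h
      change C.InDouble J L (((v : ↥(D.group K)) * base d *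
        (((v : ↥(D.group K)) * base d)⁻¹ * x.out) : ↥(D.group K)) : GL D.Idx K) d at h
      rw [mul_inv_cancel_left] at h
      exact congrArg Subtype.val (C.inDouble_unique (d := ⟨dd x, (hdd x).2⟩)
        (d' := ⟨d, hd.1, hd.2.2.1, hd.2.1⟩) (hdd x).1 h)
  have hswap : ∑ u : U, Nat.card (MulAction.fixedBy X (g * (u : ↥(D.group K)))) =
      ∑ x : X, (Finset.univ.filter fun u : U => (g * (u : ↥(D.group K))) • x = x).card := by
    simp only [MulAction.fixedBy, Nat.card_eq_fintype_card, Set.coe_setOf, Fintype.card_subtype,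
      Finset.card_filter]
    exact Finset.sum_comm
  refine Eq.trans (b := ∑ x : X, (Finset.univ.filter fun u : U => (g * (u : ↥(D.group K))) • x = x).card)
    (by convert hswap) ?_
  rw [← Finset.sum_fiberwise Finset.univ dd,
    ← Finset.sum_subset (Finset.subset_univ (absorbSet C.G J L))]
  · rw [Finset.card_eq_sum_ones, Finset.sum_mul]
    refine Finset.sum_congr rfl fun d hd => ?_
    rw [one_mul]
    refine card_coset_fix_orbit U g (QuotientGroup.mk (base d)) _ (fun x => ?_) fun x hx => ?_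
    · simp only [Finset.mem_filter, Finset.mem_univ, true_and]
      exact horbit d hd x
    · simp only [Finset.mem_filter, Finset.mem_univ, true_and] at hx ⊢
      obtain ⟨a, ha, e⟩ := hrep x
      rw [hx] at e
      obtain ⟨h, hh, k, hk, e'⟩ : ∃ h ∈ C.PG (K := K) J, ∃ k ∈ C.PG (K := K) L,
          (g⁻¹ • x).out = h * base d * k := by
        refine ⟨g⁻¹ * a, mul_mem (inv_mem hg) ha,
          (g⁻¹ * a * base d)⁻¹ * (g⁻¹ • x).out, ?_, (mul_inv_cancel_left _ _).symm⟩
        rw [← QuotientGroup.eq, QuotientGroup.out_eq', e, smul_smul, MulAction.Quotient.smul_mk]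
        rfl
      simp only [absorbSet, Finset.mem_filter, Finset.mem_univ, true_and] at hd
      have hin : C.InDouble J L (base d : GL D.Idx K) d := by
        refine ⟨1, one_mem _, 1, one_mem _, ?_⟩
        rw [one_mul, mul_one]
        exact C.inCell_nr hd.1
      have hmul := C.inDouble_mul (show (h : GL D.Idx K) ∈ C.PJ J from hh)
        (show (k : GL D.Idx K) ∈ C.PJ L from hk) hin
      rw [← Subgroup.coe_mul, ← Subgroup.coe_mul, ← e'] at hmul
      exact congrArg Subtype.val (C.inDouble_unique (d := ⟨dd _, (hdd _).2⟩)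
        (d' := ⟨d, hd.1, hd.2.2.1, hd.2.1⟩) (hdd _).1 hmul)
  · intro d _ hd
    refine Finset.sum_eq_zero fun x hx => ?_
    rw [Finset.card_eq_zero, Finset.filter_eq_empty_iff]
    intro u _ hu
    simp only [Finset.mem_filter, Finset.mem_univ, true_and] at hx
    subst hx
    exact hd (Finset.mem_filter.2 ⟨Finset.mem_univ _, (hdd x).2.1, (hdd x).2.2.2, (hdd x).2.2.1,
      hsupp x u hu⟩)

/-- the value at a semisimple element which lies in no smaller parabolic subgroup of `P_J` -/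
theorem steinberg_minimal (hchk : chkSupp D = true) (p : ℕ) [Fact p.Prime] [CharP K p]
    {J : Finset (Fin D.rank)} {g : ↥(D.group K)} (hg : g ∈ C.PG J) (hgp : ¬ p ∣ orderOf g)
    (hmin : ∀ a ∈ C.PG J, ∀ M ⊆ J, a * g * a⁻¹ ∈ C.PG M → M = J) :
    D.steinbergCharacter K g = (-1 : ℂ) ^ (keepS C.G (C.G.dTop J)).card *
      (Nat.card ↥((UR C.G J).subgroupOf (D.group K) ⊓ Subgroup.centralizer {g}) : ℂ) := by
  classical
  set U : Subgroup ↥(D.group K) := (UR C.G J).subgroupOf (D.group K) with hU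
  haveI : Fintype U := Fintype.ofFinite _
  have hUp : IsPGroup p U := by
    obtain ⟨S, hS⟩ := C.exists_sylow (F := K) p
    refine S.2.to_le fun y hy => ?_
    rw [hS]
    exact C.G.UR_le_U hy
  have hgN : g ∈ Subgroup.normalizer (U : Set ↥(D.group K)) := by
    rw [Subgroup.mem_normalizer_iff]
    intro y
    exact Subgroup.mem_normalizer_iff.1 (C.PJ_le_normalizer hg) (y : GL D.Idx K)
  refine value_of_coset_sum hUp hgN hgp _ (fun x y => ?_)
    (fun x hx => C.steinberg_pSingular hchk p x hx) _ ?_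
  · simp only [C.steinbergCharacter_eq, fixedPointCharacter_conj]
  · simp only [C.steinbergCharacter_eq, fixedPointCharacter]
    rw [Finset.sum_comm]
    simp only [← Finset.mul_sum, ← Nat.cast_sum]
    rw [Finset.sum_congr rfl fun L _ => by rw [C.sum_fix_coset hchk hg hmin L]]
    have hs := congrArg (Int.cast : ℤ → ℂ) (C.G.sum_absorbSet J)
    push_cast at hs
    rw [← hs, Finset.sum_mul]
    refine Finset.sum_congr rfl fun L _ => ?_
    push_cast
    ring

include C in
/-- **The Steinberg character at a semisimple element** -/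
theorem steinberg_semisimple (hchk : chkSupp D = true) (p : ℕ) [Fact p.Prime] [CharP K p]
    (g : ↥(D.group K)) (hgp : ¬ p ∣ orderOf g) :
    D.steinbergCharacter K g =
        ((p ^ (Nat.card ↥(Subgroup.centralizer ({g} : Set ↥(D.group K)))).factorization p : ℕ) : ℂ) ∨
      D.steinbergCharacter K g =
        -((p ^ (Nat.card ↥(Subgroup.centralizer ({g} : Set ↥(D.group K)))).factorization p : ℕ) : ℂ) := by
  classical
  set Z := Subgroup.centralizer ({g} : Set ↥(D.group K)) with hZ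
  obtain ⟨Q⟩ : Nonempty (Sylow p ↥Z) := inferInstance
  set Q' : Subgroup ↥(D.group K) := (Q : Subgroup ↥Z).map Z.subtype with hQ'
  have hQp : IsPGroup p Q' := Q.2.map _
  have hQZ : ∀ y ∈ Q', y * g = g * y := by
    rintro _ ⟨y, -, rfl⟩
    exact Subgroup.mem_centralizer_singleton_iff.1 y.2
  have hQc : Nat.card Q' = p ^ (Nat.card Z).factorization p := by
    rw [hQ', Subgroup.card_map_of_injective Z.subtype_injective, Q.card_eq_multiplicity]
  obtain ⟨x, I, hQI, hgI⟩ : ∃ x : ↥(D.group K), ∃ I : Finset (Fin D.rank),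
      (∀ y ∈ Q', x * y * x⁻¹ ∈ (UR C.G I).subgroupOf (D.group K)) ∧ x * g * x⁻¹ ∈ C.PG I := by
    by_cases hQ1 : Q' = ⊥
    · refine ⟨1, Finset.univ, fun y hy => ?_, ?_⟩
      · rw [hQ1, Subgroup.mem_bot] at hy
        simp [hy]
      · show ((1 * g * 1⁻¹ : ↥(D.group K)) : GL D.Idx K) ∈ C.PJ Finset.univ
        rw [C.PJ_univ]
        exact Subtype.prop _
    · obtain ⟨x, hx, I, -, h1, h2⟩ := C.borel_tits (K := K) p (Q'.map (D.group K).subtype)
        (Subgroup.map_subtype_le _) (hQp.map _) (fun h => hQ1 ((Subgroup.map_eq_bot_iff_of_injective _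
          (D.group K).subtype_injective).1 h))
      refine ⟨⟨x, hx⟩, I, fun y hy => h1 _ ⟨y, hy, rfl⟩, h2 (g : GL D.Idx K) g.2 ?_⟩
      rintro _ ⟨y, hy, rfl⟩
      refine ⟨y, hy, ?_⟩
      have e : g * y * g⁻¹ = y := by rw [← hQZ y hy, mul_inv_cancel_right]
      exact congrArg (Subtype.val) e.symm
  set g₁ := x * g * x⁻¹ with hg1
  obtain ⟨J, hJ, hJmin⟩ := Finset.exists_min_image
    (I.powerset.filter fun M => ∃ a ∈ C.PG (K := K) I, a * g₁ * a⁻¹ ∈ C.PG M) Finset.card
    ⟨I, Finset.mem_filter.2 ⟨Finset.mem_powerset_self I, 1, one_mem _, by simpa using hgI⟩⟩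
  rw [Finset.mem_filter, Finset.mem_powerset] at hJ
  obtain ⟨hJI, a, ha, hga⟩ := hJ
  set g₂ := a * g₁ * a⁻¹ with hg2
  have hmin : ∀ b ∈ C.PG (K := K) J, ∀ M ⊆ J, b * g₂ * b⁻¹ ∈ C.PG M → M = J := by
    intro b hb M hM hbM
    refine Finset.eq_of_subset_of_card_le hM (hJmin M (Finset.mem_filter.2
      ⟨Finset.mem_powerset.2 (hM.trans hJI), b * a, mul_mem (C.PJ_mono hJI hb) ha, ?_⟩))
    rwa [show b * a * g₁ * (b * a)⁻¹ = b * g₂ * b⁻¹ by rw [hg2]; group]
  set t := a * x with ht
  have htg : g₂ = t * g * t⁻¹ := by rw [hg2, hg1, ht]; group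
  have hord : orderOf g₂ = orderOf g := by rw [htg]; exact (MulAut.conj t).orderOf_eq g
  have hval := C.steinberg_minimal hchk p hga (hord ▸ hgp) hmin
  have hconj : D.steinbergCharacter K g₂ = D.steinbergCharacter K g := by
    rw [htg]; simp only [C.steinbergCharacter_eq, fixedPointCharacter_conj]
  set W := (UR C.G J).subgroupOf (D.group K) ⊓ Subgroup.centralizer {g₂} with hW
  have hcard : Nat.card W = p ^ (Nat.card Z).factorization p := by
    have hWp : IsPGroup p W := by
      obtain ⟨S, hS⟩ := C.exists_sylow (F := K) p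
      refine S.2.to_le fun y hy => ?_
      rw [hS]
      exact C.G.UR_le_U hy.1
    obtain ⟨k, hk⟩ := IsPGroup.iff_card.1 hWp
    have hmemZ : ∀ y : W, t⁻¹ * (y : ↥(D.group K)) * t ∈ Z := by
      intro y
      have h := Subgroup.mem_centralizer_singleton_iff.1 y.2.2
      rw [htg] at h
      rw [hZ, Subgroup.mem_centralizer_singleton_iff]
      calc t⁻¹ * (y : ↥(D.group K)) * t * g = t⁻¹ * ((y : ↥(D.group K)) * (t * g * t⁻¹)) * t := by group
        _ = g * (t⁻¹ * (y : ↥(D.group K)) * t) := by rw [h]; group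
    have hdvd : Nat.card W ∣ Nat.card Z := by
      refine Subgroup.card_dvd_of_injective
        (((MulAut.conj t⁻¹).toMonoidHom.comp W.subtype).codRestrict Z fun y => ?_) fun y z h => ?_
      · simpa using hmemZ y
      · exact Subtype.ext ((MulAut.conj t⁻¹).injective (congrArg Subtype.val h :))
    have hle : p ^ (Nat.card Z).factorization p ≤ Nat.card W := by
      rw [← hQc]
      refine Nat.card_le_card_of_injective (fun y : Q' => (⟨t * y * t⁻¹, ?_, ?_⟩ : W)) ?_
      · show ((t * (y : ↥(D.group K)) * t⁻¹ : ↥(D.group K)) : GL D.Idx K) ∈ UR C.G J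
        have h1 := C.UR_normal_PJ (show (a : GL D.Idx K) ∈ C.PJ I from ha) (hQI y y.2)
        refine (Subgroup.closure_mono ?_ : (UR C.G I : Subgroup (GL D.Idx K)) ≤ UR C.G J) ?_
        · rintro _ ⟨r, s, ⟨hr, hrI⟩, rfl⟩
          exact ⟨r, s, ⟨hr, fun h => hrI fun m hm => h m fun h' => hm (hJI h')⟩, rfl⟩
        · have e : ((t * (y : ↥(D.group K)) * t⁻¹ : ↥(D.group K)) : GL D.Idx K) =
              (a : GL D.Idx K) * ((x * (y : ↥(D.group K)) * x⁻¹ : ↥(D.group K)) : GL D.Idx K) *
                (a : GL D.Idx K)⁻¹ := by simp [ht, mul_assoc]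
          rw [e]
          exact h1
      · show t * (y : ↥(D.group K)) * t⁻¹ ∈ Subgroup.centralizer {g₂}
        rw [Subgroup.mem_centralizer_singleton_iff, htg]
        calc t * (y : ↥(D.group K)) * t⁻¹ * (t * g * t⁻¹) = t * ((y : ↥(D.group K)) * g) * t⁻¹ := by group
          _ = t * g * t⁻¹ * (t * (y : ↥(D.group K)) * t⁻¹) := by rw [hQZ y y.2]; group
      · intro y z h
        exact Subtype.ext (mul_left_cancel (mul_right_cancel (congrArg Subtype.val h :)))
    rw [hk] at hdvd hle ⊢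
    have h1 := ((Fact.out : p.Prime).pow_dvd_iff_le_factorization Nat.card_pos.ne').1 hdvd
    exact le_antisymm (Nat.pow_le_pow_right (Fact.out : p.Prime).pos h1) hle
  rw [hconj, hcard] at hval
  rcases neg_one_pow_eq_or ℂ (keepS C.G (C.G.dTop J)).card with h | h
  · left; rw [hval, h, one_mul]
  · right; rw [hval, h, neg_one_mul]

end Full

end CfsgLib.Lie.Chev
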