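import Cfsg.Agent.Lib.Lie.Chev.StAlt
import Cfsg.Agent.Lib.Lie.Chev.ParabCent

/-!
# Parabolic double cosets that absorb a Levi subgroup

The sets of double coset representatives `d` with `J ⊆ d(L)`, alternating over `L`, leave a single
element, and `P_J ∩ d P_L d⁻¹` lies in the parabolic subgroup of `J ∩ d(L)`.
-/

set_option autoImplicit false

namespace CfsgLib.Lie.Chev

open Cfsg.Lie
open scoped MatrixGroups

variable {D : ChevalleyDatum}

open Classical in
/-- the fundamental roots occurring in `d⁻¹` of the fundamental roots of `J` -/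
noncomputable def suppJ (G : Good D) (J : Finset (Fin D.rank)) (d : Equiv.Perm (Fin D.nroots)) :
    Finset (Fin D.rank) :=
  Finset.univ.filter fun m => ∃ j ∈ J, G.rho (d⁻¹ (G.simp' j)) m ≠ 0

open Classical in
/-- the fundamental roots kept positive by `d` -/
noncomputable def keepS (G : Good D) (d : Equiv.Perm (Fin D.nroots)) : Finset (Fin D.rank) :=
  Finset.univ.filter fun m => D.IsPosRoot (d (G.simp' m)).val

open Classical in
/-- the representatives `d` of `(J, L)` double cosets with `J ⊆ d(L)` -/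
noncomputable def absorbSet (G : Good D) (J L : Finset (Fin D.rank)) :
    Finset (Equiv.Perm (Fin D.nroots)) :=
  Finset.univ.filter fun d => d ∈ G.Wg ∧ Up G J d⁻¹ ∧ Up G L d ∧ suppJ G J d ⊆ L

namespace Good

variable (G : Good D)

include G

theorem mem_suppJ {J : Finset (Fin D.rank)} {d : Equiv.Perm (Fin D.nroots)} {m : Fin D.rank} :
    m ∈ suppJ G J d ↔ ∃ j ∈ J, G.rho (d⁻¹ (G.simp' j)) m ≠ 0 := by simp [suppJ]

theorem mem_keepS {d : Equiv.Perm (Fin D.nroots)} {m : Fin D.rank} :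
    m ∈ keepS G d ↔ D.IsPosRoot (d (G.simp' m)).val := by simp [keepS]

theorem suppJ_subset_iff {J L : Finset (Fin D.rank)} {d : Equiv.Perm (Fin D.nroots)} :
    suppJ G J d ⊆ L ↔ ∀ j ∈ J, InJ G L (d⁻¹ (G.simp' j)) := by
  refine ⟨fun h j hj m hm => ?_, fun h m hm => ?_⟩
  · by_contra hne
    exact hm (h (G.mem_suppJ.2 ⟨j, hj, hne⟩))
  · obtain ⟨j, hj, hne⟩ := G.mem_suppJ.1 hm
    by_contra hmL
    exact hne (h j hj m hmL)

theorem rho_Wg {w : Equiv.Perm (Fin D.nroots)} (hw : w ∈ G.Wg) (r : Fin D.nroots) (m : Fin D.rank) :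
    G.rho (w r) m = ∑ i, G.rho r i * G.rho (w (G.simp' i)) m := by
  obtain ⟨l, rfl⟩ := G.exists_pw hw
  rw [G.rho_pw l r, Finset.sum_apply]
  rfl

theorem outR_Wg {w : Equiv.Perm (Fin D.nroots)} (hw : w ∈ G.Wg) (J : Finset (Fin D.rank))
    (r : Fin D.nroots) : outR G J (w r) = ∑ i, G.rho r i * outR G J (w (G.simp' i)) := by
  simp only [outR, Finset.mul_sum]
  rw [Finset.sum_comm]
  exact Finset.sum_congr rfl fun m _ => G.rho_Wg hw r m

theorem outR_neg {J : Finset (Fin D.rank)} {r : Fin D.nroots} (hr : ¬ D.IsPosRoot r.val)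
    (hJ : ¬ InJ G J r) : outR G J r < 0 := by
  have h := G.outR_pos (J := J) ((G.negr_pos_iff r).2 hr) fun h => hJ fun m hm => by
    have := h m hm
    rwa [G.rho_negr, Pi.neg_apply, neg_eq_zero] at this
  simp only [outR, G.rho_negr, Pi.neg_apply, Finset.sum_neg_distrib] at h ⊢
  omega

/-- the representative with `suppJ = keepS` -/
noncomputable def dTop (J : Finset (Fin D.rank)) : Equiv.Perm (Fin D.nroots) :=
  (G.wtop J)⁻¹ * G.wtop Finset.univ

theorem dTop_mem (J : Finset (Fin D.rank)) : G.dTop J ∈ G.Wg :=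
  mul_mem (inv_mem (G.WJ_le J (G.wtop_mem J))) (G.WJ_le _ (G.wtop_mem _))

theorem up_dTop (J : Finset (Fin D.rank)) : Up G J (G.dTop J)⁻¹ := by
  intro j hj
  rw [dTop, mul_inv_rev, inv_inv, Equiv.Perm.mul_apply]
  exact (G.down_sign (inv_mem (G.WJ_le _ (G.wtop_mem _))) G.wtop_univ_inv (G.inJ_univ _)).2
    (G.wtop_down J j hj)

theorem dTop_keep (J : Finset (Fin D.rank)) (m : Fin D.rank) :
    D.IsPosRoot (G.dTop J (G.simp' m)).val ↔ InJ G J (G.dTop J (G.simp' m)) := by
  set s := G.dTop J (G.simp' m) with hs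
  have hneg : ¬ D.IsPosRoot (G.wtop J s).val := by
    rw [hs, dTop, Equiv.Perm.mul_apply,
      show G.wtop J ((G.wtop J)⁻¹ (G.wtop Finset.univ (G.simp' m))) = G.wtop Finset.univ (G.simp' m)
        from Equiv.apply_symm_apply _ _]
    exact G.wtop_down _ m (Finset.mem_univ m)
  refine ⟨fun hp => ?_, fun hin => ?_⟩
  · by_contra hc
    exact hneg ((G.outside_image (G.wtop_mem J) hc).2.2 hp)
  · by_contra hc
    exact hneg ((G.down_sign (G.WJ_le J (G.wtop_mem J)) (G.wtop_down J) hin).2 hc)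

theorem suppJ_dTop (J : Finset (Fin D.rank)) : suppJ G J (G.dTop J) = keepS G (G.dTop J) := by
  classical
  have hd := G.dTop_mem J
  apply Finset.Subset.antisymm
  · intro m hm
    obtain ⟨j, hj, hne⟩ := G.mem_suppJ.1 hm
    rw [G.mem_keepS]
    by_contra hneg
    set r := (G.dTop J)⁻¹ (G.simp' j) with hr
    have hrp : D.IsPosRoot r.val := G.up_dTop J j hj
    have h := G.outR_Wg hd J r
    rw [hr, show G.dTop J ((G.dTop J)⁻¹ (G.simp' j)) = G.simp' j from Equiv.apply_symm_apply _ _,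
      G.outR_zero (G.inJ_simp_self hj), ← hr] at h
    have hle : ∀ i ∈ Finset.univ, G.rho r i * outR G J (G.dTop J (G.simp' i)) ≤ 0 := by
      intro i _
      refine mul_nonpos_of_nonneg_of_nonpos (G.rho_nonneg hrp i) ?_
      by_cases hp : InJ G J (G.dTop J (G.simp' i))
      · exact (G.outR_zero hp).le
      · exact (G.outR_neg (fun h => hp ((G.dTop_keep J i).1 h)) hp).le
    have h0 := (Finset.sum_eq_zero_iff_of_nonpos hle).1 h.symm m (Finset.mem_univ m)
    rcases mul_eq_zero.1 h0 with h1 | h1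
    · exact hne h1
    · have := G.outR_neg (J := J) hneg fun hin => hneg ((G.dTop_keep J m).2 hin)
      omega
  · intro m hm
    rw [G.mem_keepS] at hm
    have hin := (G.dTop_keep J m).1 hm
    have h := G.rho_Wg (inv_mem hd) (G.dTop J (G.simp' m)) m
    rw [show (G.dTop J)⁻¹ (G.dTop J (G.simp' m)) = G.simp' m from Equiv.symm_apply_apply _ _,
      G.rho_simp, Pi.single_eq_same] at h
    obtain ⟨i, -, hi⟩ := Finset.exists_ne_zero_of_sum_ne_zero (h ▸ one_ne_zero)
    refine G.mem_suppJ.2 ⟨i, ?_, right_ne_zero_of_mul hi⟩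
    by_contra hiJ
    exact left_ne_zero_of_mul hi (hin i hiJ)

theorem eq_dTop {J : Finset (Fin D.rank)} {d : Equiv.Perm (Fin D.nroots)} (hd : d ∈ G.Wg)
    (hu : Up G J d⁻¹) (he : suppJ G J d = keepS G d) : d = G.dTop J := by
  classical
  have hwJ := G.WJ_le J (G.wtop_mem J)
  have hdown : Down G Finset.univ (G.wtop J * d) := by
    intro l _
    rw [Equiv.Perm.mul_apply]
    by_cases hl : l ∈ keepS G d
    · have hp := G.mem_keepS.1 hl
      obtain ⟨j, hj, hne⟩ := G.mem_suppJ.1 (he ▸ hl)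
      have hin : InJ G J (d (G.simp' l)) := by
        intro m hm
        have hrp : D.IsPosRoot (d⁻¹ (G.simp' j)).val := hu j hj
        have h := G.rho_Wg hd (d⁻¹ (G.simp' j)) m
        rw [show d (d⁻¹ (G.simp' j)) = G.simp' j from d.apply_symm_apply _,
          (G.inJ_simp_self hj) m hm] at h
        have hge : ∀ i ∈ Finset.univ,
            0 ≤ G.rho (d⁻¹ (G.simp' j)) i * G.rho (d (G.simp' i)) m := by
          intro i _
          by_cases hi : G.rho (d⁻¹ (G.simp' j)) i = 0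
          · rw [hi, zero_mul]
          · have hiS : i ∈ keepS G d := he ▸ G.mem_suppJ.2 ⟨j, hj, hi⟩
            exact mul_nonneg (G.rho_nonneg hrp i) (G.rho_nonneg (G.mem_keepS.1 hiS) m)
        have h0 := (Finset.sum_eq_zero_iff_of_nonneg hge).1 h.symm l (Finset.mem_univ l)
        exact (mul_eq_zero.1 h0).resolve_left hne
      intro h
      exact ((G.down_sign hwJ (G.wtop_down J) hin).1 h) hp
    · rw [G.mem_keepS] at hl
      have hin : ¬ InJ G J (d (G.simp' l)) := by
        intro hin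
        have h := G.up_sign (inv_mem hd) hu hin
        rw [show d⁻¹ (d (G.simp' l)) = G.simp' l from d.symm_apply_apply _] at h
        exact hl (h.1 (G.simp_pos l))
      exact fun h => hl ((G.outside_image (G.wtop_mem J) hin).2.1 h)
  have hm : G.wtop J * d ∈ WJ G Finset.univ := G.WJ_univ.symm ▸ mul_mem hwJ hd
  rw [dTop, ← G.down_unique hm (G.wtop_mem _) hdown (G.wtop_down _), inv_mul_cancel_left]

theorem interval_alt {ι : Type*} [Fintype ι] [DecidableEq ι] (A B : Finset ι) :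
    ∑ L ∈ (Finset.univ : Finset ι).powerset,
      (if A ⊆ L ∧ L ⊆ B then (-1 : ℤ) ^ L.card else 0) =
      if A = B then (-1 : ℤ) ^ A.card else 0 := by
  rw [← Finset.sum_filter]
  by_cases hAB : A ⊆ B
  · have e : ∑ L ∈ ((Finset.univ : Finset ι).powerset.filter fun L => A ⊆ L ∧ L ⊆ B),
        (-1 : ℤ) ^ L.card = ∑ T ∈ (B \ A).powerset, (-1 : ℤ) ^ A.card * (-1 : ℤ) ^ T.card := by
      refine Finset.sum_bij' (fun L _ => L \ A) (fun T _ => A ∪ T) ?_ ?_ ?_ ?_ ?_
      · intro L hL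
        simp only [Finset.mem_filter] at hL
        exact Finset.mem_powerset.2 (Finset.sdiff_subset_sdiff hL.2.2 (Finset.Subset.refl _))
      · intro T hT
        rw [Finset.mem_powerset] at hT
        simp only [Finset.mem_filter, Finset.mem_powerset]
        exact ⟨Finset.subset_univ _, Finset.subset_union_left,
          Finset.union_subset hAB (hT.trans Finset.sdiff_subset)⟩
      · intro L hL
        simp only [Finset.mem_filter] at hL
        exact Finset.union_sdiff_of_subset hL.2.1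
      · intro T hT
        rw [Finset.mem_powerset] at hT
        exact Finset.union_sdiff_cancel_left (Finset.disjoint_sdiff.mono_right hT)
      · intro L hL
        simp only [Finset.mem_filter] at hL
        rw [← pow_add, add_comm, Finset.card_sdiff_add_card_eq_card hL.2.1]
    rw [e, ← Finset.mul_sum, Finset.sum_powerset_neg_one_pow_card]
    by_cases h : A = B
    · rw [if_pos h, if_pos (by rw [h, Finset.sdiff_self]), mul_one]
    · rw [if_neg h, if_neg (fun h' => h (hAB.antisymm (Finset.sdiff_eq_empty_iff_subset.1 h'))),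
        mul_zero]
  · rw [if_neg fun h => hAB h.subset]
    refine Finset.sum_eq_zero fun L hL => ?_
    simp only [Finset.mem_filter] at hL
    exact absurd (hL.2.1.trans hL.2.2) hAB

/-- the alternating sum of the numbers of absorbing double cosets -/
theorem sum_absorbSet (J : Finset (Fin D.rank)) :
    ∑ L ∈ (Finset.univ : Finset (Fin D.rank)).powerset,
      (-1 : ℤ) ^ L.card * ((absorbSet G J L).card : ℤ) = (-1 : ℤ) ^ (keepS G (G.dTop J)).card := by
  classical
  have h1 : ∀ L : Finset (Fin D.rank), (-1 : ℤ) ^ L.card * ((absorbSet G J L).card : ℤ) =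
      ∑ d ∈ Finset.univ.filter (fun d => d ∈ G.Wg ∧ Up G J d⁻¹),
        if suppJ G J d ⊆ L ∧ L ⊆ keepS G d then (-1 : ℤ) ^ L.card else 0 := by
    intro L
    rw [← Finset.sum_filter, Finset.sum_const, nsmul_eq_mul, mul_comm]
    congr 3
    ext d
    simp only [absorbSet, Finset.mem_filter, Finset.mem_univ, true_and, and_assoc]
    have hk : L ⊆ keepS G d ↔ Up G L d := ⟨fun h j hj => G.mem_keepS.1 (h hj),
      fun h j hj => G.mem_keepS.2 (h j hj)⟩
    rw [hk]
    tauto
  rw [Finset.sum_congr rfl fun L _ => h1 L, Finset.sum_comm,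
    Finset.sum_congr rfl fun d _ => G.interval_alt (suppJ G J d) (keepS G d),
    Finset.sum_eq_single (G.dTop J)]
  · rw [if_pos (G.suppJ_dTop J), G.suppJ_dTop J]
  · intro d hd hne
    simp only [Finset.mem_filter, Finset.mem_univ, true_and] at hd
    exact if_neg fun h => hne (G.eq_dTop hd.1 hd.2 h)
  · intro h
    exact absurd (Finset.mem_filter.2 ⟨Finset.mem_univ _, G.dTop_mem J, G.up_dTop J⟩) h

end Good

namespace Full

variable {K : Type*} [Field K] (C : Full D)

/-- `W_J ∩ d W_L d⁻¹` is generated by fundamental reflections -/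
theorem mem_WJ_filter {J L : Finset (Fin D.rank)} {d w : Equiv.Perm (Fin D.nroots)}
    (hd : d ∈ C.G.Wg) (hu : Up C.G J d⁻¹) [DecidablePred fun j => InJ C.G L (d⁻¹ (C.G.simp' j))]
    (hw : w ∈ WJ C.G J) (ha : d⁻¹ * w * d ∈ WJ C.G L) :
    w ∈ WJ C.G (J.filter fun j => InJ C.G L (d⁻¹ (C.G.simp' j))) := by
  induction hn : ninv C.G w using Nat.strong_induction_on generalizing w with
  | _ n ih =>
  by_cases h1 : ∀ j ∈ J, D.IsPosRoot (w (C.G.simp' j)).val
  · have e : w = 1 := C.G.eq_one_of_up_mul (J := J) (one_mem _) (fun j _ => C.G.simp_pos j) hw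
      (by rw [one_mul]; exact h1)
    rw [e]
    exact one_mem _
  · push Not at h1
    obtain ⟨j, hj, hneg⟩ := h1
    have hwW := C.G.WJ_le J hw
    set r := d⁻¹ (C.G.simp' j) with hr
    have hrp : D.IsPosRoot r.val := hu j hj
    have har : ¬ D.IsPosRoot ((d⁻¹ * w * d) r).val := by
      rw [hr, Equiv.Perm.mul_apply, Equiv.Perm.mul_apply,
        show d (d⁻¹ (C.G.simp' j)) = C.G.simp' j from d.apply_symm_apply _]
      intro h
      exact hneg ((C.G.up_sign (inv_mem hd) hu (C.G.inJ_image hw (C.G.inJ_simp_self hj))).1 h)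
    have hrL : InJ C.G L r := by
      by_contra hc
      exact har ((C.G.outside_image ha hc).2.2 hrp)
    obtain ⟨c, hc, l, hl, e⟩ := C.G.exists_inJ_orbit L hrL
    have hyj : (d * c) (C.G.simp' l) = C.G.simp' j := by
      rw [Equiv.Perm.mul_apply, ← e, hr]
      exact d.apply_symm_apply _
    have hconj := C.conj_sP ℚ (mul_mem hd (C.G.WJ_le L hc)) hyj
    have hlt : ninv C.G (w * C.G.sP j) < n := hn ▸ C.G.ninv_mul_sP_lt hwW hneg
    have h2 := ih _ hlt (mul_mem hw (C.G.sP_mem_WJ hj)) (by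
      rw [← hconj, show d⁻¹ * (w * (d * c * C.G.sP l * (d * c)⁻¹)) * d =
        (d⁻¹ * w * d) * (c * C.G.sP l * c⁻¹) by group]
      exact mul_mem ha (mul_mem (mul_mem hc (C.G.sP_mem_WJ hl)) (inv_mem hc))) rfl
    have hjM : C.G.sP j ∈ WJ C.G (J.filter fun j => InJ C.G L (d⁻¹ (C.G.simp' j))) :=
      C.G.sP_mem_WJ (Finset.mem_filter.2 ⟨hj, hrL⟩)
    have h3 := mul_mem h2 hjM
    rwa [mul_assoc, C.G.sP_mul_self, mul_one] at h3


/-- left translation of a cell of `W_J` by a representative -/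
theorem inCell_rep_mul {J : Finset (Fin D.rank)} {d w : Equiv.Perm (Fin D.nroots)} {p : GL D.Idx K}
    (hd : d ∈ C.G.Wg) (hu : Up C.G J d⁻¹) (hw : w ∈ WJ C.G J) (hp : C.InCell p w) :
    C.InCell ((C.nr d)⁻¹ * p) (d⁻¹ * w) := by
  obtain ⟨b, hb, n, hn, hnw, c, hc, rfl⟩ := hp
  obtain ⟨u, hu', h, hh, rfl⟩ := C.G.mem_borel_iff.1 hb
  obtain ⟨v, hv, a, ha, rfl⟩ := C.exists_inv_keep w⁻¹ hu'
  have hdp := Good.NPerm.inv C.G (C.nr_perm (K := K) hd)
  have hle : (Uinv C.G w⁻¹ : Subgroup (GL D.Idx K)) ≤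
      (D.posUnipotent K).comap (MulAut.conj (C.nr d)⁻¹).toMonoidHom := by
    rw [Uinv, Subgroup.closure_le]
    rintro _ ⟨r, t, ⟨hr, hneg⟩, rfl⟩
    obtain ⟨e, he⟩ := hdp r
    show (C.nr d)⁻¹ * C.G.xu r t * (C.nr d)⁻¹⁻¹ ∈ D.posUnipotent K
    rw [he]
    refine C.G.xu_mem_U ?_ _
    have hin : InJ C.G J r := by
      by_contra hc
      exact hneg ((C.G.outside_image (inv_mem hw) hc).2.2 hr)
    exact (C.G.up_sign (inv_mem hd) hu hin).2 hr
  have h1 : (C.nr d)⁻¹ * v * C.nr d ∈ D.borelSubgroup K := by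
    have h' := hle hv
    rw [Subgroup.mem_comap] at h'
    exact Subgroup.mem_sup_left (by simpa using h')
  have h2 : n⁻¹ * a * n ∈ D.borelSubgroup K := Subgroup.mem_sup_left (C.conj_keep_U hnw ha)
  have h3 : n⁻¹ * h * n ∈ D.borelSubgroup K := Subgroup.mem_sup_right
    ((Subgroup.mem_normalizer_iff''.1 (C.G.monomial_le_normalizer hn) h).1 hh)
  exact ⟨_, h1, (C.nr d)⁻¹ * n, mul_mem (inv_mem (C.nr_mem d)) hn, Good.NPerm.mul C.G hdp hnw,
    n⁻¹ * a * n * (n⁻¹ * h * n) * c, mul_mem (mul_mem h2 h3) hc, by group⟩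

/-- `P_J ∩ d P_L d⁻¹` lies in the parabolic subgroup of `J ∩ d(L)` -/
theorem mem_PJ_filter {J L : Finset (Fin D.rank)} {d : Equiv.Perm (Fin D.nroots)} {p : GL D.Idx K}
    (hd : d ∈ C.G.Wg) (hu : Up C.G J d⁻¹) [DecidablePred fun j => InJ C.G L (d⁻¹ (C.G.simp' j))]
    (hp : p ∈ C.PJ J) (hq : (C.nr d)⁻¹ * p * C.nr d ∈ C.PJ L) :
    p ∈ C.PJ (J.filter fun j => InJ C.G L (d⁻¹ (C.G.simp' j))) := by
  obtain ⟨w, hw, hcell⟩ := C.cell_of_mem_PJ hp
  obtain ⟨a, ha, h1⟩ := C.inCell_mul_PJ (inv_mem hq) (C.inCell_nr (K := K) hd)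
  have h2 := C.inCell_inv h1
  rw [show (C.nr d * ((C.nr d)⁻¹ * p * C.nr d)⁻¹)⁻¹ = (C.nr d)⁻¹ * p by group] at h2
  have e := C.inCell_unique (C.inCell_rep_mul hd hu hw hcell) h2
  refine C.mem_PJ_of_cell (C.mem_WJ_filter hd hu hw ?_) hcell
  rw [e, mul_inv_rev, inv_mul_cancel_right]
  exact inv_mem ha

/-- if `J ⊆ d(L)` then the Levi subgroup of `J` fixes the coset of `d` -/
theorem conj_levi_mem_PJ (hchk : chkSupp D = true) {J L : Finset (Fin D.rank)}
    {d : Equiv.Perm (Fin D.nroots)} (hd : d ∈ C.G.Wg) (hs : suppJ C.G J d ⊆ L) {p : GL D.Idx K}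
    (hp : p ∈ D.diagonalSubgroup K ⊔ LJ C.G J) : (C.nr d)⁻¹ * p * C.nr d ∈ C.PJ L := by
  have hle : D.diagonalSubgroup K ⊔ LJ C.G J ≤
      (C.PJ L).comap (MulAut.conj (C.nr d)⁻¹).toMonoidHom := by
    refine sup_le ?_ ?_
    · intro h hh
      show (C.nr d)⁻¹ * h * (C.nr d)⁻¹⁻¹ ∈ C.PJ L
      rw [inv_inv]
      exact C.borel_le_PJ L (Subgroup.mem_sup_right
        ((Subgroup.mem_normalizer_iff''.1 (C.G.monomial_le_normalizer (C.nr_mem d)) h).1 hh))
    · rw [LJ, Subgroup.closure_le]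
      rintro _ ⟨r, t, hr, rfl⟩
      obtain ⟨e, he⟩ := Good.NPerm.inv C.G (C.nr_perm (K := K) hd) r
      show (C.nr d)⁻¹ * C.G.xu r t * (C.nr d)⁻¹⁻¹ ∈ C.PJ L
      rw [he]
      refine C.LJ_le_PJ hchk (Subgroup.subset_closure ⟨_, _, ?_, rfl⟩)
      intro m hm
      rw [C.G.rho_Wg (inv_mem hd)]
      refine Finset.sum_eq_zero fun i _ => ?_
      by_cases hi : i ∈ J
      · rw [(C.G.suppJ_subset_iff.1 hs i hi) m hm, mul_zero]
      · rw [hr i hi, zero_mul]
  have := hle hp
  rw [Subgroup.mem_comap] at this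
  simpa using this

end Full

end CfsgLib.Lie.Chev
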