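import Cfsg.Agent.Lib.Lie.Chev.TwoGen

/-!
# Certificates for two generation of the Chevalley groups
-/

set_option autoImplicit false
set_option maxRecDepth 100000

namespace CfsgLib.Lie.Chev.TwoGen

open Cfsg.Lie

/-- certificate for `chevG2` -/
def certG2 : List (ℕ × ℕ × ℕ) :=
  [(5,0,12), (10,5,12), (11,10,12), (6,11,12), (1,6,12), (3,2,12), (7,3,12), (9,7,12), (8,9,12), (4,8,12)]

/-- certificate for `chevB2` -/
def certB2 : List (ℕ × ℕ × ℕ) :=
  [(5,1,8), (6,5,8), (2,6,8), (3,0,8), (7,3,8), (4,7,8)]

/-- certificate for `chevD4` -/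
def certD4 : List (ℕ × ℕ × ℕ) :=
  [(18,1,24), (14,18,24), (22,14,24), (5,22,24), (9,5,24), (21,10,24), (15,21,24), (13,15,24), (2,13,24), (8,2,24),
  (0,1,9), (6,0,24), (19,6,24), (23,19,24), (17,23,24), (4,17,24), (3,1,13), (7,3,24), (11,7,24), (20,11,24),
  (16,20,24), (12,16,24)]

/-- certificates for `chevD4` over two elements -/
def certD4TwoA : List (ℕ × ℕ × ℕ) :=
  [(18,1,24), (14,18,24), (22,14,24), (5,22,24), (9,5,24), (0,1,9), (6,0,24), (19,6,24), (23,19,24), (17,23,24),
  (4,17,24)]

/-- certificates for `chevD4` over two elements -/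
def certD4TwoB : List (ℕ × ℕ × ℕ) :=
  [(18,1,24), (14,18,24), (22,14,24), (5,22,24), (9,5,24), (8,2,24), (10,8,24), (21,10,24), (15,21,24), (13,15,24),
  (0,1,9), (6,0,24), (19,6,24), (23,19,24), (17,23,24), (4,17,24), (3,1,13), (7,3,24), (11,7,24), (20,11,24),
  (16,20,24), (12,16,24)]

/-- certificate for `chevF4` -/
def certF4 : List (ℕ × ℕ × ℕ) :=
  [(8,7,48), (18,8,48), (34,18,48), (37,34,48), (44,37,48), (40,44,48), (39,40,48), (29,39,48), (13,29,48), (10,13,48),
  (3,10,48), (15,0,48), (21,15,48), (41,21,48), (45,41,48), (46,45,48), (47,46,48), (32,47,48), (26,32,48), (6,26,48),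
  (2,6,48), (1,2,48), (5,0,32), (17,5,48), (4,17,48), (16,4,48), (22,16,48), (23,22,48), (42,23,48), (30,42,48),
  (43,30,48), (31,43,48), (25,31,48), (24,25,48), (9,0,39), (19,9,48), (11,19,48), (33,11,48), (27,33,48), (35,27,48),
  (38,35,48), (28,38,48), (36,28,48), (14,36,48), (20,14,48), (12,20,48)]

/-- certificates for `chevF4` over two elements -/
def certF4TwoA : List (ℕ × ℕ × ℕ) :=
  [(15,0,48), (21,15,48), (41,21,48), (45,41,48), (46,45,48), (47,46,48), (32,47,48), (26,32,48), (6,26,48), (2,6,48),
  (1,2,48), (5,0,32), (17,5,48), (4,17,48), (16,4,48), (22,16,48), (23,22,48), (42,23,48), (30,42,48), (43,30,48),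
  (31,43,48), (25,31,48), (24,25,48)]

/-- certificates for `chevF4` over two elements -/
def certF4TwoB : List (ℕ × ℕ × ℕ) :=
  [(15,0,48), (21,15,48), (41,21,48), (45,41,48), (46,45,48), (47,46,48), (32,47,48), (26,32,48), (6,26,48), (2,6,48),
  (1,2,48), (18,8,48), (34,18,48), (37,34,48), (44,37,48), (40,44,48), (39,40,48), (29,39,48), (13,29,48), (10,13,48),
  (3,10,48), (7,3,48), (5,0,32), (17,5,48), (4,17,48), (16,4,48), (22,16,48), (23,22,48), (42,23,48), (30,42,48),
  (43,30,48), (31,43,48), (25,31,48), (24,25,48), (9,0,39), (19,9,48), (11,19,48), (33,11,48), (27,33,48), (35,27,48),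
  (38,35,48), (28,38,48), (36,28,48), (14,36,48), (20,14,48), (12,20,48)]

/-- certificate for `chevE6` -/
def certE6 : List (ℕ × ℕ × ℕ) :=
  [(26,5,72), (57,26,72), (50,57,72), (64,50,72), (69,64,72), (54,69,72), (40,54,72), (38,40,72), (9,38,72), (3,9,72),
  (18,3,72), (1,0,72), (16,1,72), (30,16,72), (61,30,72), (67,61,72), (71,67,72), (70,71,72), (55,70,72), (41,55,72),
  (10,41,72), (4,10,72), (19,0,64), (32,19,72), (34,32,72), (35,34,72), (63,35,72), (43,63,72), (48,43,72), (60,48,72),
  (15,60,72), (29,15,72), (24,29,72), (12,24,72), (22,0,67), (46,22,72), (58,46,72), (51,58,72), (65,51,72), (44,65,72),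
  (49,44,72), (25,49,72), (13,25,72), (20,13,72), (6,20,72), (27,6,72), (2,3,34), (17,2,72), (31,17,72), (33,31,72),
  (62,33,72), (68,62,72), (53,68,72), (66,53,72), (45,66,72), (14,45,72), (21,14,72), (7,21,72), (8,0,53), (28,8,72),
  (23,28,72), (11,23,72), (56,11,72), (42,56,72), (47,42,72), (59,47,72), (52,59,72), (39,52,72), (37,39,72), (36,37,72)]

/-- certificate for `chevE6` over two elements -/
def certE6Two : List (ℕ × ℕ × ℕ) :=
  [(17,2,72), (31,17,72), (33,31,72), (62,33,72), (68,62,72), (53,68,72), (66,53,72), (45,66,72), (14,45,72), (21,14,72),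
  (7,21,72), (9,2,45), (3,9,72), (18,3,72), (5,18,72), (26,5,72), (57,26,72), (50,57,72), (64,50,72), (69,64,72),
  (54,69,72), (40,54,72), (38,40,72), (4,2,38), (0,4,72), (1,0,72), (16,1,72), (30,16,72), (61,30,72), (67,61,72),
  (71,67,72), (70,71,72), (55,70,72), (41,55,72), (10,41,72), (8,0,53), (28,8,72), (23,28,72), (11,23,72), (56,11,72),
  (42,56,72), (47,42,72), (59,47,72), (52,59,72), (39,52,72), (37,39,72), (36,37,72), (19,0,64), (32,19,72), (34,32,72),
  (35,34,72), (63,35,72), (43,63,72), (48,43,72), (60,48,72), (15,60,72), (29,15,72), (24,29,72), (12,24,72), (22,0,67),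
  (46,22,72), (58,46,72), (51,58,72), (65,51,72), (44,65,72), (49,44,72), (25,49,72), (13,25,72), (20,13,72), (6,20,72),
  (27,6,72)]

/-- certificate for `chevE7` -/
def certE7 : List (ℕ × ℕ × ℕ) :=
  [(2,1,126), (7,2,126), (33,7,126), (53,33,126), (99,53,126), (109,99,126), (119,109,126), (125,119,126), (124,125,126), (123,124,126),
  (118,123,126), (92,118,126), (72,92,126), (26,72,126), (16,26,126), (6,16,126), (0,6,126), (8,3,126), (34,8,126), (54,34,126),
  (57,54,126), (100,57,126), (110,100,126), (120,110,126), (115,120,126), (122,115,126), (117,122,126), (91,117,126), (71,91,126), (68,71,126),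
  (25,68,126), (15,25,126), (5,15,126), (10,5,126), (17,0,109), (48,17,126), (94,48,126), (83,94,126), (103,83,126), (112,103,126),
  (121,112,126), (116,121,126), (90,116,126), (108,90,126), (77,108,126), (31,77,126), (42,31,126), (22,42,126), (13,22,126), (4,13,126),
  (9,4,126), (35,9,126), (11,0,103), (36,11,126), (55,36,126), (58,55,126), (60,58,126), (101,60,126), (111,101,126), (87,111,126),
  (106,87,126), (114,106,126), (89,114,126), (70,89,126), (67,70,126), (65,67,126), (24,65,126), (14,24,126), (38,14,126), (19,38,126),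
  (18,0,110), (49,18,126), (43,49,126), (78,43,126), (95,78,126), (84,95,126), (104,84,126), (113,104,126), (88,113,126), (107,88,126),
  (76,107,126), (82,76,126), (47,82,126), (30,47,126), (41,30,126), (21,41,126), (12,21,126), (37,12,126), (20,0,112), (50,20,126),
  (44,50,126), (27,44,126), (93,27,126), (73,93,126), (79,73,126), (96,79,126), (85,96,126), (105,85,126), (75,105,126), (81,75,126),
  (98,81,126), (32,98,126), (52,32,126), (46,52,126), (29,46,126), (40,29,126), (23,0,115), (51,23,126), (45,51,126), (28,45,126),
  (39,28,126), (56,39,126), (59,56,126), (61,59,126), (62,61,126), (102,62,126), (74,102,126), (80,74,126), (97,80,126), (86,97,126),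
  (69,86,126), (66,69,126), (64,66,126), (63,64,126)]

/-- certificate for `chevE7` over two elements -/
def certE7Two : List (ℕ × ℕ × ℕ) :=
  [(8,3,126), (34,8,126), (54,34,126), (57,54,126), (100,57,126), (110,100,126), (120,110,126), (115,120,126), (122,115,126), (117,122,126),
  (91,117,126), (71,91,126), (68,71,126), (25,68,126), (15,25,126), (5,15,126), (10,5,126), (6,3,68), (0,6,126), (1,0,126),
  (2,1,126), (7,2,126), (33,7,126), (53,33,126), (99,53,126), (109,99,126), (119,109,126), (125,119,126), (124,125,126), (123,124,126),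
  (118,123,126), (92,118,126), (72,92,126), (26,72,126), (16,26,126), (17,0,109), (48,17,126), (94,48,126), (83,94,126), (103,83,126),
  (112,103,126), (121,112,126), (116,121,126), (90,116,126), (108,90,126), (77,108,126), (31,77,126), (42,31,126), (22,42,126), (13,22,126),
  (4,13,126), (9,4,126), (35,9,126), (11,0,103), (36,11,126), (55,36,126), (58,55,126), (60,58,126), (101,60,126), (111,101,126),
  (87,111,126), (106,87,126), (114,106,126), (89,114,126), (70,89,126), (67,70,126), (65,67,126), (24,65,126), (14,24,126), (38,14,126),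
  (19,38,126), (18,0,110), (49,18,126), (43,49,126), (78,43,126), (95,78,126), (84,95,126), (104,84,126), (113,104,126), (88,113,126),
  (107,88,126), (76,107,126), (82,76,126), (47,82,126), (30,47,126), (41,30,126), (21,41,126), (12,21,126), (37,12,126), (20,0,112),
  (50,20,126), (44,50,126), (27,44,126), (93,27,126), (73,93,126), (79,73,126), (96,79,126), (85,96,126), (105,85,126), (75,105,126),
  (81,75,126), (98,81,126), (32,98,126), (52,32,126), (46,52,126), (29,46,126), (40,29,126), (23,0,115), (51,23,126), (45,51,126),
  (28,45,126), (39,28,126), (56,39,126), (59,56,126), (61,59,126), (62,61,126), (102,62,126), (74,102,126), (80,74,126), (97,80,126),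
  (86,97,126), (69,86,126), (66,69,126), (64,66,126), (63,64,126)]

/-- certificate for `chevE8` -/
def certE8 : List (ℕ × ℕ × ℕ) :=
  [(7,6,240), (14,7,240), (8,14,240), (16,8,240), (22,16,240), (37,22,240), (79,37,240), (106,79,240), (110,106,240), (170,110,240),
  (185,170,240), (205,185,240), (227,205,240), (219,227,240), (233,219,240), (232,233,240), (225,232,240), (231,225,240), (223,231,240), (217,223,240),
  (202,217,240), (160,202,240), (133,160,240), (129,133,240), (69,129,240), (54,69,240), (34,54,240), (12,34,240), (20,12,240), (15,0,240),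
  (21,15,240), (36,21,240), (78,36,240), (105,78,240), (169,105,240), (184,169,240), (204,184,240), (226,204,240), (234,226,240), (235,234,240),
  (236,235,240), (237,236,240), (238,237,240), (239,238,240), (224,239,240), (218,224,240), (203,218,240), (161,203,240), (134,161,240), (70,134,240),
  (55,70,240), (35,55,240), (13,35,240), (5,13,240), (4,5,240), (3,4,240), (2,3,240), (1,2,240), (11,0,160), (19,11,240),
  (25,19,240), (9,25,240), (17,9,240), (23,17,240), (38,23,240), (80,38,240), (56,80,240), (99,56,240), (163,99,240), (147,163,240),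
  (174,147,240), (188,174,240), (207,188,240), (228,207,240), (220,228,240), (214,220,240), (230,214,240), (222,230,240), (216,222,240), (201,216,240),
  (159,201,240), (183,159,240), (140,183,240), (76,140,240), (92,76,240), (65,92,240), (51,65,240), (32,51,240), (30,0,201), (43,30,240),
  (83,43,240), (58,83,240), (46,58,240), (84,46,240), (108,84,240), (112,108,240), (115,112,240), (117,115,240), (172,117,240), (187,172,240),
  (152,187,240), (178,152,240), (191,178,240), (209,191,240), (196,209,240), (156,196,240), (181,156,240), (193,181,240), (155,193,240), (131,155,240),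
  (127,131,240), (124,127,240), (122,124,240), (67,122,240), (52,67,240), (87,52,240), (61,87,240), (48,61,240), (24,0,193), (39,24,240),
  (26,39,240), (40,26,240), (81,40,240), (107,81,240), (111,107,240), (114,111,240), (171,114,240), (186,171,240), (206,186,240), (194,206,240),
  (210,194,240), (229,210,240), (221,229,240), (215,221,240), (200,215,240), (213,200,240), (199,213,240), (158,199,240), (132,158,240), (128,132,240),
  (125,128,240), (68,125,240), (53,68,240), (33,53,240), (45,33,240), (29,45,240), (10,29,240), (18,10,240), (28,0,199), (42,28,240),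
  (27,42,240), (41,27,240), (82,41,240), (57,82,240), (100,57,240), (93,100,240), (141,93,240), (164,141,240), (148,164,240), (175,148,240),
  (189,175,240), (208,189,240), (195,208,240), (211,195,240), (197,211,240), (212,197,240), (198,212,240), (157,198,240), (182,157,240), (139,182,240),
  (146,139,240), (98,146,240), (75,98,240), (91,75,240), (64,91,240), (50,64,240), (31,50,240), (44,31,240), (47,0,216), (85,47,240),
  (59,85,240), (101,59,240), (94,101,240), (71,94,240), (162,71,240), (135,162,240), (142,135,240), (165,142,240), (149,165,240), (176,149,240),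
  (190,176,240), (153,190,240), (179,153,240), (192,179,240), (154,192,240), (180,154,240), (138,180,240), (145,138,240), (168,145,240), (77,168,240),
  (104,77,240), (97,104,240), (74,97,240), (90,74,240), (63,90,240), (49,63,240), (86,49,240), (60,86,240), (62,0,223), (102,62,240),
  (95,102,240), (72,95,240), (88,72,240), (109,88,240), (113,109,240), (116,113,240), (118,116,240), (119,118,240), (173,119,240), (136,173,240),
  (143,136,240), (166,143,240), (150,166,240), (177,150,240), (137,177,240), (144,137,240), (167,144,240), (151,167,240), (130,151,240), (126,130,240),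
  (123,126,240), (121,123,240), (120,121,240), (66,120,240), (103,66,240), (96,103,240), (73,96,240), (89,73,240)]

/-- certificate for `chevE8` over two elements -/
def certE8Two : List (ℕ × ℕ × ℕ) :=
  [(15,0,240), (21,15,240), (36,21,240), (78,36,240), (105,78,240), (169,105,240), (184,169,240), (204,184,240), (226,204,240), (234,226,240),
  (235,234,240), (236,235,240), (237,236,240), (238,237,240), (239,238,240), (224,239,240), (218,224,240), (203,218,240), (161,203,240), (134,161,240),
  (70,134,240), (55,70,240), (35,55,240), (13,35,240), (5,13,240), (4,5,240), (3,4,240), (2,3,240), (1,2,240), (12,0,161),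
  (20,12,240), (6,20,240), (7,6,240), (14,7,240), (8,14,240), (16,8,240), (22,16,240), (37,22,240), (79,37,240), (106,79,240),
  (110,106,240), (170,110,240), (185,170,240), (205,185,240), (227,205,240), (219,227,240), (233,219,240), (232,233,240), (225,232,240), (231,225,240),
  (223,231,240), (217,223,240), (202,217,240), (160,202,240), (133,160,240), (129,133,240), (69,129,240), (54,69,240), (34,54,240), (11,0,160),
  (19,11,240), (25,19,240), (9,25,240), (17,9,240), (23,17,240), (38,23,240), (80,38,240), (56,80,240), (99,56,240), (163,99,240),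
  (147,163,240), (174,147,240), (188,174,240), (207,188,240), (228,207,240), (220,228,240), (214,220,240), (230,214,240), (222,230,240), (216,222,240),
  (201,216,240), (159,201,240), (183,159,240), (140,183,240), (76,140,240), (92,76,240), (65,92,240), (51,65,240), (32,51,240), (30,0,201),
  (43,30,240), (83,43,240), (58,83,240), (46,58,240), (84,46,240), (108,84,240), (112,108,240), (115,112,240), (117,115,240), (172,117,240),
  (187,172,240), (152,187,240), (178,152,240), (191,178,240), (209,191,240), (196,209,240), (156,196,240), (181,156,240), (193,181,240), (155,193,240),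
  (131,155,240), (127,131,240), (124,127,240), (122,124,240), (67,122,240), (52,67,240), (87,52,240), (61,87,240), (48,61,240), (24,0,193),
  (39,24,240), (26,39,240), (40,26,240), (81,40,240), (107,81,240), (111,107,240), (114,111,240), (171,114,240), (186,171,240), (206,186,240),
  (194,206,240), (210,194,240), (229,210,240), (221,229,240), (215,221,240), (200,215,240), (213,200,240), (199,213,240), (158,199,240), (132,158,240),
  (128,132,240), (125,128,240), (68,125,240), (53,68,240), (33,53,240), (45,33,240), (29,45,240), (10,29,240), (18,10,240), (28,0,199),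
  (42,28,240), (27,42,240), (41,27,240), (82,41,240), (57,82,240), (100,57,240), (93,100,240), (141,93,240), (164,141,240), (148,164,240),
  (175,148,240), (189,175,240), (208,189,240), (195,208,240), (211,195,240), (197,211,240), (212,197,240), (198,212,240), (157,198,240), (182,157,240),
  (139,182,240), (146,139,240), (98,146,240), (75,98,240), (91,75,240), (64,91,240), (50,64,240), (31,50,240), (44,31,240), (47,0,216),
  (85,47,240), (59,85,240), (101,59,240), (94,101,240), (71,94,240), (162,71,240), (135,162,240), (142,135,240), (165,142,240), (149,165,240),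
  (176,149,240), (190,176,240), (153,190,240), (179,153,240), (192,179,240), (154,192,240), (180,154,240), (138,180,240), (145,138,240), (168,145,240),
  (77,168,240), (104,77,240), (97,104,240), (74,97,240), (90,74,240), (63,90,240), (49,63,240), (86,49,240), (60,86,240), (62,0,223),
  (102,62,240), (95,102,240), (72,95,240), (88,72,240), (109,88,240), (113,109,240), (116,113,240), (118,116,240), (119,118,240), (173,119,240),
  (136,173,240), (143,136,240), (166,143,240), (150,166,240), (177,150,240), (137,177,240), (144,137,240), (167,144,240), (151,167,240), (130,151,240),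
  (126,130,240), (123,126,240), (121,123,240), (120,121,240), (66,120,240), (103,66,240), (96,103,240), (73,96,240), (89,73,240)]

theorem two_genG2 {K : Type*} [Field K] [Finite K] (hK : ∃ x : K, x ≠ 0 ∧ x ≠ 1) :
    ∃ a b : ↥(chevG2.group K), Subgroup.closure ({a, b} : Set ↥(chevG2.group K)) = ⊤ := by
  exact two_gen_large (fullOf (by simp)) hK (List.finRange _) ⟨1, by decide +kernel⟩
      ⟨0, by decide +kernel⟩ ⟨1, by decide +kernel⟩ ⟨2, by decide +kernel⟩ ⟨4, by decide +kernel⟩ 1 certG2
      (by decide +kernel) (by decide +kernel) (by decide +kernel) (by decide +kernel) (by decide +kernel)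
      (by decide +kernel) (by decide +kernel)

theorem two_genB2 {K : Type*} [Field K] [Finite K] (hK : ∃ x : K, x ≠ 0 ∧ x ≠ 1) :
    ∃ a b : ↥(chevB2.group K), Subgroup.closure ({a, b} : Set ↥(chevB2.group K)) = ⊤ := by
  exact two_gen_large (fullOf (by simp)) hK (List.finRange _) ⟨1, by decide +kernel⟩
      ⟨1, by decide +kernel⟩ ⟨2, by decide +kernel⟩ ⟨0, by decide +kernel⟩ ⟨4, by decide +kernel⟩ 1 certB2
      (by decide +kernel) (by decide +kernel) (by decide +kernel) (by decide +kernel) (by decide +kernel)
      (by decide +kernel) (by decide +kernel)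

theorem two_genD4 {K : Type*} [Field K] [Finite K] :
    ∃ a b : ↥(chevD4.group K), Subgroup.closure ({a, b} : Set ↥(chevD4.group K)) = ⊤ := by
  by_cases hK : ∃ x : K, x ≠ 0 ∧ x ≠ 1
  · exact two_gen_large (fullOf (by simp)) hK (List.finRange _) ⟨0, by decide +kernel⟩
      ⟨1, by decide +kernel⟩ ⟨9, by decide +kernel⟩ ⟨10, by decide +kernel⟩ ⟨8, by decide +kernel⟩ 1 certD4
      (by decide +kernel) (by decide +kernel) (by decide +kernel) (by decide +kernel) (by decide +kernel)
      (by decide +kernel) (by decide +kernel)
  have h2 : ∀ t : K, t = 0 ∨ t = 1 := fun t => by simpa [or_iff_not_imp_left] using fun h0 => not_not.1 fun h1 => hK ⟨t, h0, h1⟩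
  refine two_gen_two' (fullOf (by simp)) h2 (List.finRange _) ⟨1, by decide +kernel⟩
    ⟨7, by decide +kernel⟩ ⟨5, by decide +kernel⟩ ⟨2, by decide +kernel⟩ certD4TwoA certD4TwoB ?_ (by decide +kernel) ?_ ?_
    (by decide +kernel) (by decide +kernel) (by decide +kernel)
  · simp only [Ne, Fin.ext_iff, Good.negr_val]; decide +kernel
  · rw [Good.negr_val]; decide +kernel
  · rw [Good.negr_val]; decide +kernel

theorem two_genF4 {K : Type*} [Field K] [Finite K] :
    ∃ a b : ↥(chevF4.group K), Subgroup.closure ({a, b} : Set ↥(chevF4.group K)) = ⊤ := by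
  by_cases hK : ∃ x : K, x ≠ 0 ∧ x ≠ 1
  · exact two_gen_large (fullOf (by simp)) hK (List.finRange _) ⟨0, by decide +kernel⟩
      ⟨7, by decide +kernel⟩ ⟨3, by decide +kernel⟩ ⟨0, by decide +kernel⟩ ⟨6, by decide +kernel⟩ 3 certF4
      (by decide +kernel) (by decide +kernel) (by decide +kernel) (by decide +kernel) (by decide +kernel)
      (by decide +kernel) (by decide +kernel)
  have h2 : ∀ t : K, t = 0 ∨ t = 1 := fun t => by simpa [or_iff_not_imp_left] using fun h0 => not_not.1 fun h1 => hK ⟨t, h0, h1⟩
  refine two_gen_two' (fullOf (by simp)) h2 (List.finRange _) ⟨0, by decide +kernel⟩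
    ⟨10, by decide +kernel⟩ ⟨21, by decide +kernel⟩ ⟨8, by decide +kernel⟩ certF4TwoA certF4TwoB ?_ (by decide +kernel) ?_ ?_
    (by decide +kernel) (by decide +kernel) (by decide +kernel)
  · simp only [Ne, Fin.ext_iff, Good.negr_val]; decide +kernel
  · rw [Good.negr_val]; decide +kernel
  · rw [Good.negr_val]; decide +kernel

theorem two_genE6 {K : Type*} [Field K] [Finite K] :
    ∃ a b : ↥(chevE6.group K), Subgroup.closure ({a, b} : Set ↥(chevE6.group K)) = ⊤ := by
  by_cases hK : ∃ x : K, x ≠ 0 ∧ x ≠ 1
  · exact two_gen_large (fullOf (by simp)) hK (List.finRange _) ⟨0, by decide +kernel⟩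
      ⟨5, by decide +kernel⟩ ⟨18, by decide +kernel⟩ ⟨0, by decide +kernel⟩ ⟨10, by decide +kernel⟩ 2 certE6
      (by decide +kernel) (by decide +kernel) (by decide +kernel) (by decide +kernel) (by decide +kernel)
      (by decide +kernel) (by decide +kernel)
  have h2 : ∀ t : K, t = 0 ∨ t = 1 := fun t => by simpa [or_iff_not_imp_left] using fun h0 => not_not.1 fun h1 => hK ⟨t, h0, h1⟩
  exact two_gen_two (fullOf (by simp)) h2 (List.finRange _) ⟨2, by decide +kernel⟩ certE6Two (by decide +kernel)

theorem two_genE7 {K : Type*} [Field K] [Finite K] :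
    ∃ a b : ↥(chevE7.group K), Subgroup.closure ({a, b} : Set ↥(chevE7.group K)) = ⊤ := by
  by_cases hK : ∃ x : K, x ≠ 0 ∧ x ≠ 1
  · exact two_gen_large (fullOf (by simp)) hK (List.finRange _) ⟨0, by decide +kernel⟩
      ⟨1, by decide +kernel⟩ ⟨0, by decide +kernel⟩ ⟨3, by decide +kernel⟩ ⟨25, by decide +kernel⟩ 4 certE7
      (by decide +kernel) (by decide +kernel) (by decide +kernel) (by decide +kernel) (by decide +kernel)
      (by decide +kernel) (by decide +kernel)
  have h2 : ∀ t : K, t = 0 ∨ t = 1 := fun t => by simpa [or_iff_not_imp_left] using fun h0 => not_not.1 fun h1 => hK ⟨t, h0, h1⟩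
  exact two_gen_two (fullOf (by simp)) h2 (List.finRange _) ⟨3, by decide +kernel⟩ certE7Two (by decide +kernel)

theorem two_genE8 {K : Type*} [Field K] [Finite K] :
    ∃ a b : ↥(chevE8.group K), Subgroup.closure ({a, b} : Set ↥(chevE8.group K)) = ⊤ := by
  by_cases hK : ∃ x : K, x ≠ 0 ∧ x ≠ 1
  · exact two_gen_large (fullOf (by simp)) hK (List.finRange _) ⟨0, by decide +kernel⟩
      ⟨6, by decide +kernel⟩ ⟨20, by decide +kernel⟩ ⟨0, by decide +kernel⟩ ⟨13, by decide +kernel⟩ 6 certE8
      (by decide +kernel) (by decide +kernel) (by decide +kernel) (by decide +kernel) (by decide +kernel)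
      (by decide +kernel) (by decide +kernel)
  have h2 : ∀ t : K, t = 0 ∨ t = 1 := fun t => by simpa [or_iff_not_imp_left] using fun h0 => not_not.1 fun h1 => hK ⟨t, h0, h1⟩
  exact two_gen_two (fullOf (by simp)) h2 (List.finRange _) ⟨0, by decide +kernel⟩ certE8Two (by decide +kernel)

end CfsgLib.Lie.Chev.TwoGen
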