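import Cfsg.Agent.Lib.Lie.Chev.Sound

/-!
# Sparse vectors as columns of matrices
-/

set_option autoImplicit false

namespace CfsgLib.Lie.Chev

open Cfsg.Lie

/-- the linear form attached to a sparse vector -/
def lin (v : List (ℕ × ℤ)) (g : ℕ → ℤ) : ℤ := (v.map fun e => e.2 * g e.1).sum

@[simp] theorem lin_nil (g : ℕ → ℤ) : lin [] g = 0 := rfl

@[simp] theorem lin_cons (e : ℕ × ℤ) (v : List (ℕ × ℤ)) (g : ℕ → ℤ) :
    lin (e :: v) g = e.2 * g e.1 + lin v g := by simp [lin]

theorem lin_congr {v : List (ℕ × ℤ)} {g g' : ℕ → ℤ} (h : ∀ e ∈ v, g e.1 = g' e.1) :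
    lin v g = lin v g' := by
  simp only [lin]
  congr 1
  exact List.map_congr_left fun e he => by rw [h e he]

theorem bindv_nil (f : ℕ → List (ℕ × ℤ)) : bindv [] f = [] := rfl

theorem bindv_cons (e : ℕ × ℤ) (v : List (ℕ × ℤ)) (f : ℕ → List (ℕ × ℤ)) :
    bindv (e :: v) f = scale e.2 (f e.1) ++ bindv v f := rfl

theorem coef_scale (c : ℤ) (v : List (ℕ × ℤ)) (j : ℕ) : coef (scale c v) j = c * coef v j := by
  induction v with
  | nil => simp [scale]
  | cons e v ih =>
    simp only [scale, List.map_cons, coef_cons] at ih ⊢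
    rw [ih]
    split_ifs <;> ring

theorem coef_bindv (v : List (ℕ × ℤ)) (f : ℕ → List (ℕ × ℤ)) (j : ℕ) :
    coef (bindv v f) j = lin v (fun c => coef (f c) j) := by
  induction v with
  | nil => simp [bindv_nil]
  | cons e v ih => rw [bindv_cons, coef_append, coef_scale, ih, lin_cons]

theorem coef_eq_zero_of_not_mem {v : List (ℕ × ℤ)} {j : ℕ} (h : ∀ e ∈ v, e.1 ≠ j) :
    coef v j = 0 := by
  induction v with
  | nil => rfl
  | cons e v ih =>
    rw [coef_cons, if_neg (h e List.mem_cons_self), ih fun x hx => h x (List.mem_cons_of_mem _ hx)]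
    rfl

theorem exists_of_coef_ne_zero {v : List (ℕ × ℤ)} {j : ℕ} (h : coef v j ≠ 0) :
    ∃ e ∈ v, e.1 = j ∧ e.2 ≠ 0 := by
  induction v with
  | nil => simp at h
  | cons e v ih =>
    rw [coef_cons] at h
    by_cases he : e.1 = j ∧ e.2 ≠ 0
    · exact ⟨e, List.mem_cons_self, he⟩
    · have : (if e.1 = j then e.2 else 0) = 0 := by
        split_ifs with h1
        · by_contra h2; exact he ⟨h1, h2⟩
        · rfl
      rw [this, zero_add] at h
      obtain ⟨x, hx, h'⟩ := ih h
      exact ⟨x, List.mem_cons_of_mem _ hx, h'⟩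

theorem eqv_spec {v w : List (ℕ × ℤ)} (h : eqv v w = true) (j : ℕ) : coef v j = coef w j := by
  simp only [eqv, Bool.and_eq_true] at h
  by_cases hv : ∃ e ∈ v, e.1 = j
  · obtain ⟨e, he, rfl⟩ := hv
    have := intBeq_spec (allList_spec h.1 e he)
    rwa [coefR_eq, coefR_eq] at this
  · by_cases hw : ∃ e ∈ w, e.1 = j
    · obtain ⟨e, he, rfl⟩ := hw
      have := intBeq_spec (allList_spec h.2 e he)
      rwa [coefR_eq, coefR_eq] at this
    · simp only [not_exists, not_and] at hv hw
      rw [coef_eq_zero_of_not_mem hv, coef_eq_zero_of_not_mem hw]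

variable (D : ChevalleyDatum)

/-- all positions of the vector are in range -/
def InR (v : List (ℕ × ℤ)) : Prop := ∀ e ∈ v, e.1 < D.rank + D.nroots

theorem exists_pos {x : ℕ} (h : x < D.rank + D.nroots) : ∃ c : D.Idx, pos D c = x := by
  by_cases hx : x < D.rank
  · exact ⟨Sum.inl ⟨x, hx⟩, rfl⟩
  · exact ⟨Sum.inr ⟨x - D.rank, by omega⟩, by simp only [pos]; omega⟩

variable {D}

theorem InR.append {v w : List (ℕ × ℤ)} (hv : InR D v) (hw : InR D w) : InR D (v ++ w) :=
  fun e he => (List.mem_append.1 he).elim (hv e) (hw e)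

theorem InR.scale' {v : List (ℕ × ℤ)} (hv : InR D v) (c : ℤ) : InR D (scale c v) := by
  intro e he
  simp only [scale, List.mem_map] at he
  obtain ⟨x, hx, rfl⟩ := he
  exact hv x hx

theorem InR.bindv' {v : List (ℕ × ℤ)} {f : ℕ → List (ℕ × ℤ)} (hv : InR D v)
    (hf : ∀ c < D.rank + D.nroots, InR D (f c)) : InR D (bindv v f) := by
  induction v with
  | nil => intro e he; simp [bindv_nil] at he
  | cons e v ih =>
    rw [bindv_cons]
    exact (InR.scale' (hf e.1 (hv e List.mem_cons_self)) e.2).append
      (ih fun x hx => hv x (List.mem_cons_of_mem _ hx))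

theorem sum_coef_mul {v : List (ℕ × ℤ)} (hv : InR D v) (g : ℕ → ℤ) :
    ∑ c : D.Idx, coef v (pos D c) * g (pos D c) = lin v g := by
  induction v with
  | nil => simp
  | cons e v ih =>
    obtain ⟨c0, hc0⟩ := exists_pos D (hv e List.mem_cons_self)
    simp only [coef_cons, add_mul, Finset.sum_add_distrib]
    rw [ih fun x hx => hv x (List.mem_cons_of_mem _ hx), lin_cons]
    congr 1
    rw [Finset.sum_eq_single c0]
    · rw [hc0]; simp
    · intro b _ hb
      have : e.1 ≠ pos D b := fun h => hb (pos_injective D (by rw [← h, hc0]))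
      simp [this]
    · intro h; exact absurd (Finset.mem_univ _) h

/-- columns given by sparse vectors -/
def HasCols (M : Matrix D.Idx D.Idx ℤ) (f : ℕ → List (ℕ × ℤ)) : Prop :=
  ∀ row col : D.Idx, M row col = coef (f (pos D col)) (pos D row)

theorem HasCols.mul {M N : Matrix D.Idx D.Idx ℤ} {f g : ℕ → List (ℕ × ℤ)} (hM : HasCols M f)
    (hN : HasCols N g) (hg : ∀ c < D.rank + D.nroots, InR D (g c)) :
    HasCols (M * N) (fun b => bindv (g b) f) := by
  intro row col
  rw [Matrix.mul_apply, coef_bindv, ← sum_coef_mul (hg _ (pos_lt D col)) fun c => coef (f c) (pos D row)]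
  exact Finset.sum_congr rfl fun c _ => by rw [hM, hN]; ring

theorem HasCols.ext {M N : Matrix D.Idx D.Idx ℤ} {f g : ℕ → List (ℕ × ℤ)} (hM : HasCols M f)
    (hN : HasCols N g) (h : ∀ b < D.rank + D.nroots, ∀ j, coef (f b) j = coef (g b) j) : M = N := by
  ext row col
  rw [hM, hN, h _ (pos_lt D col)]

variable (D)

/-- the adjoint action of basis positions, from the datum -/
def adA (a b : ℕ) : List (ℕ × ℤ) :=
  if a < D.rank then (if b < D.rank then [] else [(b, D.cartan a (b - D.rank))])
  else act D (a - D.rank) 1 b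

variable {D}

theorem hasCols_adb (c : D.Idx) : HasCols (adb D c) (fun b => adA D (pos D c) b) := by
  intro row col
  rcases c with i | r
  · have hi : i.val < D.rank := i.isLt
    show Matrix.diagonal _ row col = coef (adA D i.val (pos D col)) (pos D row)
    rw [adA, if_pos hi, Matrix.diagonal_apply]
    rcases col with j | s
    · have hj : j.val < D.rank := j.isLt
      rw [if_pos (show pos D (Sum.inl j) < D.rank from hj), coef_nil]
      split_ifs with h
      · subst h; rfl
      · rfl
    · have hs : ¬ (D.rank + s.val < D.rank) := by omega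
      rw [if_neg (show ¬ pos D (Sum.inr s) < D.rank from hs)]
      by_cases h : row = Sum.inr s
      · subst h; simp [cart, coef_cons, pos]
      · have h' : ¬ (pos D (Sum.inr s) = pos D row) := fun e => h (pos_injective D e.symm)
        rw [if_neg h, coef_cons, if_neg h', coef_nil, add_zero]
  · have hr : ¬ (D.rank + r.val < D.rank) := by omega
    simp [adA, pos, hr, adb, dmat]

theorem adv_apply {v : List (ℕ × ℤ)} (hv : InR D v) (row col : D.Idx) :
    adv D ℤ (fun c => coef v (pos D c)) row col =
      coef (bindv v fun c => adA D c (pos D col)) (pos D row) := by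
  rw [coef_bindv, ← sum_coef_mul hv fun c => coef (adA D c (pos D col)) (pos D row)]
  simp only [adv, Matrix.sum_apply, Matrix.smul_apply, Matrix.map_apply, smul_eq_mul]
  exact Finset.sum_congr rfl fun c _ => by rw [hasCols_adb c]; rfl

theorem hasCols_dmat (r : Fin D.nroots) {k : ℕ} (hk : k ≠ 0) :
    HasCols (dmat D r k) (fun b => act D r.val k b) := by
  intro row col
  simp [dmat, hk]

theorem act_inR {f : Fast} (h : RowsOK D f) {r : ℕ} (hr : r < D.nroots) (k b : ℕ) :
    InR D (act D r k b) := by
  intro e he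
  unfold act at he
  split_ifs at he with h1 h2 h3 h4 h5 h6
  · simp at he; subst he; simp only; omega
  · simp at he
  · simp at he
  · simp only [List.mem_map, List.mem_range] at he
    obtain ⟨i, hi, rfl⟩ := he
    simp only; omega
  · simp at he; subst he; simp only; omega
  · simp at he
  · revert he
    unfold ChevalleyDatum.chainEntry
    cases hf : (D.chain.getD r #[]).toList.find? (fun e => decide (e.1 = b - D.rank)) with
    | none => simp
    | some x =>
      simp only
      cases hx : x.2.toList[k - 1]? with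
      | none => simp
      | some y =>
        intro he
        simp only [List.mem_singleton] at he
        subst he
        have := ((h.ent r hr x (List.mem_of_find?_eq_some hf)).2 y (List.mem_of_getElem? hx)).1
        simp only
        omega

theorem adA_inR {f : Fast} (h : RowsOK D f) {a b : ℕ} (ha : a < D.rank + D.nroots)
    (hb : b < D.rank + D.nroots) : InR D (adA D a b) := by
  unfold adA
  split_ifs with h1 h2
  · intro e he; simp at he
  · intro e he
    simp only [List.mem_singleton] at he
    subst he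
    exact hb
  · exact act_inR h (by omega) 1 b

theorem natBlt_true {a b : ℕ} (h : a < b) : Nat.blt a b = true := by
  rw [Nat.blt_eq]; exact h

theorem natBlt_false {a b : ℕ} (h : ¬ a < b) : Nat.blt a b = false := by
  cases hb : Nat.blt a b with
  | false => rfl
  | true => rw [Nat.blt_eq] at hb; exact absurd hb h

theorem adF_eq {f : Fast} (h : RowsOK D f) {a b : ℕ} (ha : a < D.rank + D.nroots)
    (hb : b < D.rank + D.nroots) : adF D f a b = adA D a b := by
  simp only [adF, adA]
  by_cases h1 : a < D.rank
  · rw [natBlt_true h1, cond_true, if_pos h1]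
    by_cases h2 : b < D.rank
    · rw [natBlt_true h2, cond_true, if_pos h2]
    · rw [natBlt_false h2, cond_false, if_neg h2, cartF_eq h h1 (by omega)]
  · rw [natBlt_false h1, cond_false, if_neg h1, actF_eq h (by omega) le_rfl (by omega) hb]

end CfsgLib.Lie.Chev
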