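import Cfsg.Agent.Lib.Lie.Chev.Vec

/-!
# Lists of coefficients, and the columns of the matrices that occur in the certificates
-/

set_option autoImplicit false

namespace CfsgLib.Lie.Chev

open Cfsg.Lie

theorem dot_range' : ∀ (v : List ℤ) (g : ℕ → ℤ) (a n : ℕ), v.length = n →
    dot v ((List.range' a n).map g) = ∑ j ∈ Finset.range n, v.getD j 0 * g (a + j) := by
  intro v g
  induction v with
  | nil => intro a n h; subst h; simp [dot]
  | cons x v ih =>
    intro a n h
    subst h
    rw [List.length_cons, List.range'_succ, List.map_cons, dot, ih (a + 1) v.length rfl,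
      Finset.sum_range_succ']
    rw [add_comm]
    congr 1
    exact Finset.sum_congr rfl fun j _ => by
      rw [List.getD_cons_succ, show a + (j + 1) = a + 1 + j by omega]

theorem dot_range {v : List ℤ} {n : ℕ} (g : ℕ → ℤ) (h : v.length = n) :
    dot v ((List.range n).map g) = ∑ j : Fin n, v.getD j.val 0 * g j.val := by
  rw [List.range_eq_range', dot_range' v g 0 n h,
    Fin.sum_univ_eq_sum_range (fun j => v.getD j 0 * g j)]
  simp

theorem length_addMul : ∀ (v : List ℤ) (k : ℤ) (u : List ℤ), v.length = u.length →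
    (addMul v k u).length = v.length := by
  intro v k
  induction v with
  | nil => intro u _; simp [addMul]
  | cons x v ih =>
    intro u h
    cases u with
    | nil => simp at h
    | cons y u => simp [addMul, ih u (by simpa using h)]

theorem getD_addMul : ∀ (v : List ℤ) (k : ℤ) (u : List ℤ), v.length = u.length → ∀ j,
    (addMul v k u).getD j 0 = v.getD j 0 + k * u.getD j 0 := by
  intro v k
  induction v with
  | nil => intro u h j; cases u <;> simp_all [addMul]
  | cons x v ih =>
    intro u h j
    cases u with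
    | nil => simp at h
    | cons y u =>
      cases j with
      | zero => simp [addMul]
      | succ j => simpa [addMul] using ih u (by simpa using h) j

theorem getD_unit {n : ℕ} (i j : Fin n) :
    ((List.range n).map fun m => cond (Nat.beq m i.val) (1 : ℤ) 0).getD j.val 0 =
      (Pi.single i 1 : Fin n → ℤ) j := by
  rw [List.getD_eq_getElem _ _ (by simp), List.getElem_map, List.getElem_range, Pi.single_apply]
  by_cases h : j = i
  · rw [if_pos h, natBeq_true (congrArg Fin.val h), cond_true]
  · rw [if_neg h, natBeq_false (fun e => h (Fin.ext e)), cond_false]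

theorem getD_zeros (n j : ℕ) : (List.replicate n (0 : ℤ)).getD j 0 = 0 := by
  by_cases h : j < n
  · rw [List.getD_eq_getElem _ _ (by simpa using h), List.getElem_replicate]
  · rw [List.getD_eq_default _ _ (by simpa using h)]

theorem wcode_eq (B : ℤ) : ∀ (v : List ℤ),
    wcode B v = ∑ j ∈ Finset.range v.length, v.getD j 0 * B ^ (v.length - 1 - j) := by
  intro v
  induction v with
  | nil => simp [wcode]
  | cons x v ih =>
    rw [wcode, ih, List.length_cons, Finset.sum_range_succ', add_comm]
    congr 1
    · refine Finset.sum_congr rfl fun j _ => ?_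
      rw [List.getD_cons_succ, show v.length + 1 - 1 - (j + 1) = v.length - 1 - j by omega]

theorem wcode_fin (B : ℤ) {v : List ℤ} {n : ℕ} (h : v.length = n) :
    wcode B v = ∑ j : Fin n, v.getD j.val 0 * B ^ (n - 1 - j.val) := by
  rw [wcode_eq, h, Fin.sum_univ_eq_sum_range (fun j => v.getD j 0 * B ^ (n - 1 - j))]

theorem lt_of_lt_next {g : ℕ → ℤ} {n : ℕ} (h : ∀ r, r + 1 < n → g r < g (r + 1)) :
    ∀ {r s : ℕ}, r < s → s < n → g r < g s := by
  intro r s hrs
  induction s with
  | zero => omega
  | succ s ih =>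
    intro hs
    rcases Nat.lt_succ_iff_lt_or_eq.1 hrs with h' | h'
    · exact (ih h' (by omega)).trans (h s hs)
    · subst h'; exact h r hs

/-! ### columns -/

variable {D : ChevalleyDatum}

theorem bindv_congr {v : List (ℕ × ℤ)} {f g : ℕ → List (ℕ × ℤ)} (hv : InR D v)
    (h : ∀ c < D.rank + D.nroots, f c = g c) : bindv v f = bindv v g := by
  induction v with
  | nil => rfl
  | cons e v ih =>
    rw [bindv_cons, bindv_cons, h _ (hv e List.mem_cons_self),
      ih fun x hx => hv x (List.mem_cons_of_mem _ hx)]

theorem HasCols.nsmul {M : Matrix D.Idx D.Idx ℤ} {f : ℕ → List (ℕ × ℤ)} (hM : HasCols M f) (c : ℕ) :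
    HasCols (c • M) (fun b => scale c (f b)) := by
  intro row col
  rw [coef_scale, Matrix.smul_apply, hM, nsmul_eq_mul]

theorem coef_pair (x : ℕ) (y : ℤ) (j : ℕ) : coef [(x, y)] j = if x = j then y else 0 := by
  simp [coef_cons]

/-- columns of `x_r(t)` over `ℤ` -/
noncomputable def xA (D : ChevalleyDatum) (r : ℕ) (t : ℤ) (b : ℕ) : List (ℕ × ℤ) :=
  (b, 1) :: (scale t (act D r 1 b) ++ scale (t ^ 2) (act D r 2 b) ++ scale (t ^ 3) (act D r 3 b))

theorem hasCols_xg (r : Fin D.nroots) (t : ℤ) :
    HasCols (xg ℤ r t) (fun b => xA D r.val t b) := by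
  intro row col
  rw [xg_apply]
  simp only [xA, coef_cons, coef_append, coef_scale, Int.cast_eq]
  by_cases h : row = col
  · subst h; simp only [if_true]; ring
  · rw [if_neg h, if_neg fun e => h (pos_injective D e).symm]; ring

theorem xA_inR {f : Fast} (h : RowsOK D f) {r : ℕ} (hr : r < D.nroots) (t : ℤ) {b : ℕ}
    (hb : b < D.rank + D.nroots) : InR D (xA D r t b) := by
  intro e he
  simp only [xA, List.mem_cons] at he
  rcases he with rfl | he
  · exact hb
  · exact (((act_inR h hr 1 b).scale' t).append ((act_inR h hr 2 b).scale' (t ^ 2))).append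
      ((act_inR h hr 3 b).scale' (t ^ 3)) e he

theorem xF_eq {f : Fast} (h : RowsOK D f) {r : ℕ} (hr : r < D.nroots) (t : ℤ) {b : ℕ}
    (hb : b < D.rank + D.nroots) : xF f r t b = xA D r t b := by
  simp only [xF, xA, actF_eq h hr le_rfl (by norm_num) hb,
    actF_eq h hr (show 1 ≤ 2 by norm_num) (by norm_num) hb,
    actF_eq h hr (show 1 ≤ 3 by norm_num) le_rfl hb]

theorem digit_packRow {f : Fast} (h : RowsOK D f) {r : ℕ} (hr : r < D.nroots) (k : ℕ) {s : ℕ}
    (hs : s < D.nroots) :
    digit (packRow D r k) (D.rank + s) =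
      codeAt D r k (D.negIdx.getD r 0) (D.chain.getD r #[]).toList s := by
  have hsm := h.small
  have hc : ∀ i ∈ List.range D.rank,
      (cond (Nat.beq k 1) (encode [(D.rank + r, - (D.cartanSR.getD i #[]).getD r 0)]) 0) < 65536 := by
    intro i hi
    cases Nat.beq k 1 with
    | false => simp
    | true =>
      simp only [cond_true]
      exact encode_lt (by omega) (by simpa using h.abound (List.mem_range.1 hi) r)
  obtain ⟨-, p2⟩ := horner_digit
    (fun i => cond (Nat.beq k 1) (encode [(D.rank + r, - (D.cartanSR.getD i #[]).getD r 0)]) 0)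
    (sweep D r k (D.negIdx.getD r 0) D.nroots 0 (D.chain.getD r #[]).toList)
    (List.range D.rank) hc
  rw [packRow]
  have := p2 s
  rw [List.length_range] at this
  rw [this, sweep_digit (l0 := (D.chain.getD r #[]).toList) (fun x => (codeAt_spec h hr k x).1)
    D.nroots 0 _ (h.keys r hr) (fun e _ => Nat.zero_le _) (fun _ _ => rfl) s hs, Nat.zero_add]

theorem decode_zero (cor : List (ℕ × ℤ)) : decode cor 0 = [] := rfl

theorem act_eq_nil_of_digits {f : Fast} (h : RowsOK D f) {r b : ℕ} (hr : r < D.nroots)
    (hb : b < D.rank + D.nroots)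
    (hd : Nat.beq (digit (f.t1.get r) b + digit (f.t2.get r) b + digit (f.t3.get r) b) 0 = true)
    {k : ℕ} (hk : 1 ≤ k) (hk' : k ≤ 3) : act D r k b = [] := by
  rw [← actF_eq h hr hk hk' hb]
  rw [Nat.beq_eq] at hd
  rcases (show k = 1 ∨ k = 2 ∨ k = 3 by omega) with rfl | rfl | rfl <;> simp only [actF]
  · rw [show digit (f.t1.get r) b = 0 by omega]; rfl
  · rw [show digit (f.t2.get r) b = 0 by omega]; rfl
  · rw [show digit (f.t3.get r) b = 0 by omega]; rfl

end CfsgLib.Lie.Chev
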