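import Cfsg.Agent.Lib.Lie.Chev.WClData

/-!
# The certificates hold for the seven data
-/

set_option autoImplicit false

namespace CfsgLib.Lie.Chev.WCl

open Cfsg.Lie

theorem gen_all {D : ChevalleyDatum}
    (hD : D ∈ [chevG2, chevB2, chevD4, chevF4, chevE6, chevE7, chevE8]) : genB D = true := by
  simp only [List.mem_cons, List.not_mem_nil, or_false] at hD
  rcases hD with rfl | rfl | rfl | rfl | rfl | rfl | rfl <;> decide +kernel

theorem sep_small {D : ChevalleyDatum} (hD : D ∈ [chevG2, chevB2, chevD4, chevF4]) :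
    ∃ N, sepB D 3 N = true := by
  simp only [List.mem_cons, List.not_mem_nil, or_false] at hD
  rcases hD with rfl | rfl | rfl | rfl
  exacts [⟨3, by decide +kernel⟩, ⟨4, by decide +kernel⟩, ⟨2, by decide +kernel⟩, ⟨2, by decide +kernel⟩]

theorem sep_big {D : ChevalleyDatum} (hD : D ∈ [chevE6, chevE7, chevE8]) : sepB D 2 1 = true := by
  simp only [List.mem_cons, List.not_mem_nil, or_false] at hD
  rcases hD with rfl | rfl | rfl <;> decide +kernel

end CfsgLib.Lie.Chev.WCl
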