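import Cfsg.Agent.Lib.Lie.Chev.Torus
import Cfsg.Agent.Lib.Lie.Exchange

/-!
# The monomial subgroup and the Weyl group as a group of permutations of the roots

A word in the simple reflections acts on the roots; the same word in the `n_{p_i}(1)` conjugates the
root subgroups accordingly. Conjugation formulas for permutations are read off from the group.
-/

set_option autoImplicit false

namespace CfsgLib.Lie.Chev

open Cfsg.Lie
open scoped MatrixGroups

variable {D : ChevalleyDatum}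

namespace Good

variable (G : Good D)

/-- the simple reflection as a permutation of the roots -/
def sP (i : Fin D.rank) : Equiv.Perm (Fin D.nroots) :=
  ⟨G.w i, G.w i, G.w_w i, G.w_w i⟩

theorem sP_apply (i : Fin D.rank) (s : Fin D.nroots) : G.sP i s = G.w i s := rfl

/-- the permutation of a word -/
def pw (l : List (Fin D.rank)) : Equiv.Perm (Fin D.nroots) := (l.map G.sP).prod

theorem pw_nil : G.pw [] = 1 := rfl

theorem pw_cons (i : Fin D.rank) (l : List (Fin D.rank)) : G.pw (i :: l) = G.sP i * G.pw l := by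
  simp [pw]

theorem pw_append (l l' : List (Fin D.rank)) : G.pw (l ++ l') = G.pw l * G.pw l' := by
  simp [pw]

theorem pw_single (i : Fin D.rank) : G.pw [i] = G.sP i := by simp [pw]

theorem sP_mul_self (i : Fin D.rank) : G.sP i * G.sP i = 1 := Equiv.ext (G.w_w i)

theorem sP_inv (i : Fin D.rank) : (G.sP i)⁻¹ = G.sP i :=
  inv_eq_of_mul_eq_one_right (G.sP_mul_self i)

theorem pw_reverse (l : List (Fin D.rank)) : G.pw l.reverse = (G.pw l)⁻¹ := by
  induction l with
  | nil => simp [pw_nil]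
  | cons i l ih => rw [List.reverse_cons, pw_append, pw_single, ih, pw_cons, mul_inv_rev, sP_inv]

theorem pw_negr (l : List (Fin D.rank)) (r : Fin D.nroots) :
    G.pw l (G.negr r) = G.negr (G.pw l r) := by
  induction l with
  | nil => rfl
  | cons i l ih => rw [pw_cons, Equiv.Perm.mul_apply, Equiv.Perm.mul_apply, ih, sP_apply, sP_apply, w_negr]

theorem rho_pw (l : List (Fin D.rank)) (r : Fin D.nroots) :
    G.rho (G.pw l r) = ∑ j, G.rho r j • G.rho (G.pw l (G.simp' j)) := by
  induction l with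
  | nil =>
    simp only [pw_nil, Equiv.Perm.one_apply, G.rho_simp]
    funext m
    simp [Pi.single_apply]
  | cons i l ih =>
    simp only [pw_cons, Equiv.Perm.mul_apply, sP_apply, G.rho_w]
    have hlin : cart D i (G.pw l r) = ∑ j, G.rho r j * cart D i (G.pw l (G.simp' j)) := by
      rw [G.cart_eq i (G.pw l r), ih]
      simp only [G.cart_eq i (G.pw l (G.simp' _)), Finset.sum_apply, Pi.smul_apply, smul_eq_mul,
        Finset.sum_mul, Finset.mul_sum]
      rw [Finset.sum_comm]
      exact Finset.sum_congr rfl fun j _ => Finset.sum_congr rfl fun m _ => by ring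
    rw [ih, hlin, Finset.sum_smul, ← Finset.sum_sub_distrib]
    exact Finset.sum_congr rfl fun j _ => by module

variable {K : Type*} [Field K]

include G

/-- `g` permutes the root subgroups by `π` -/
def NPerm (g : GL D.Idx K) (π : Equiv.Perm (Fin D.nroots)) : Prop :=
  ∀ s, ∃ c : Kˣ, ∀ t : K, g * G.xu s t * g⁻¹ = G.xu (π s) ((c : K) * t)

theorem NPerm.one : G.NPerm (1 : GL D.Idx K) 1 := fun s => ⟨1, fun t => by simp⟩

theorem NPerm.mul {g h : GL D.Idx K} {π σ : Equiv.Perm (Fin D.nroots)} (hg : G.NPerm g π)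
    (hh : G.NPerm h σ) : G.NPerm (g * h) (π * σ) := by
  intro s
  obtain ⟨c, hc⟩ := hh s
  obtain ⟨d, hd'⟩ := hg (σ s)
  refine ⟨d * c, fun t => ?_⟩
  rw [show g * h * G.xu s t * (g * h)⁻¹ = g * (h * G.xu s t * h⁻¹) * g⁻¹ by group, hc, hd']
  rw [Units.val_mul, mul_assoc]
  rfl

theorem NPerm.inv {g : GL D.Idx K} {π : Equiv.Perm (Fin D.nroots)} (hg : G.NPerm g π) :
    G.NPerm g⁻¹ π⁻¹ := by
  intro s
  obtain ⟨c, hc⟩ := hg (π⁻¹ s)
  refine ⟨c⁻¹, fun t => ?_⟩
  have := hc (((c⁻¹ : Kˣ) : K) * t)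
  rw [show π (π⁻¹ s) = s from π.apply_symm_apply s, Units.mul_inv_cancel_left] at this
  rw [← this]
  group

theorem NPerm.unique {g : GL D.Idx K} {π σ : Equiv.Perm (Fin D.nroots)} (h1 : G.NPerm g π)
    (h2 : G.NPerm g σ) : π = σ := by
  ext s : 1
  obtain ⟨c, hc⟩ := h1 s
  obtain ⟨d, hd'⟩ := h2 s
  exact G.xu_eq_xu ((hc 1).symm.trans (hd' 1)) (by simp)

theorem nPerm_nU (i : Fin D.rank) : G.NPerm (G.nU i : GL D.Idx K) (G.sP i) := by
  intro s
  rcases G.eta_unit i s with e | e
  · exact ⟨1, fun t => by rw [G.nU_xu, e, mul_assoc, mul_inv_cancel, mul_one]; simp [sP_apply]⟩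
  · exact ⟨-1, fun t => by rw [G.nU_xu, e, mul_assoc, mul_inv_cancel, mul_one]; simp [sP_apply]⟩

theorem nPerm_H {h : GL D.Idx K} (hh : h ∈ D.diagonalSubgroup K) : G.NPerm h 1 := fun s => by
  obtain ⟨a, ha⟩ := G.H_conj_xu hh s
  exact ⟨a, ha⟩

/-- the word in the `n_{p_i}(1)` -/
noncomputable def nw (l : List (Fin D.rank)) : GL D.Idx K := (l.map G.nU).prod

theorem nw_nil : G.nw [] = (1 : GL D.Idx K) := rfl

theorem nw_cons (i : Fin D.rank) (l : List (Fin D.rank)) :
    G.nw (i :: l) = (G.nU i : GL D.Idx K) * G.nw l := by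
  simp [nw]

theorem nw_append (l l' : List (Fin D.rank)) :
    G.nw (l ++ l') = (G.nw l : GL D.Idx K) * G.nw l' := by
  simp [nw]

theorem nPerm_nw (l : List (Fin D.rank)) : G.NPerm (G.nw l : GL D.Idx K) (G.pw l) := by
  induction l with
  | nil => exact NPerm.one G
  | cons i l ih => rw [nw_cons, pw_cons]; exact NPerm.mul G (G.nPerm_nU i) ih

theorem nU_conj_H (i : Fin D.rank) {h : GL D.Idx K} (hh : h ∈ D.diagonalSubgroup K) :
    G.nU i * h * (G.nU i)⁻¹ ∈ D.diagonalSubgroup K := by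
  induction hh using Subgroup.closure_induction with
  | one => simp
  | mul a b _ _ ha hb =>
    rw [show G.nU i * (a * b) * (G.nU i)⁻¹ = (G.nU i * a * (G.nU i)⁻¹) * (G.nU i * b * (G.nU i)⁻¹) by group]
    exact mul_mem ha hb
  | inv a _ ha =>
    rw [show G.nU i * a⁻¹ * (G.nU i)⁻¹ = (G.nU i * a * (G.nU i)⁻¹)⁻¹ by group]
    exact inv_mem ha
  | mem x hx =>
    obtain ⟨r, t, hr, ht, hx⟩ := hx
    have e : x = G.hd ⟨r, hr⟩ (Units.mk0 t ht) :=
      Units.ext (hx.trans (G.hMat_diag ⟨r, hr⟩ ht))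
    rw [e, G.hd_w, mul_assoc, mul_inv_cancel, mul_one]
    exact G.hd_mem_H _ _

theorem nU_sq (i : Fin D.rank) : G.nU i * G.nU i ∈ D.diagonalSubgroup K := by
  have h := G.nE_simp i (-1 : Kˣ)
  rw [Units.val_neg, Units.val_one, ← G.nE_inv, G.nE_simp_one] at h
  rw [show G.nU i * G.nU i = (G.hd (G.simp' i) (-1 : Kˣ))⁻¹ by
    rw [eq_inv_iff_mul_eq_one, ← mul_inv_cancel (G.nU (K := K) i)]
    conv_rhs => rw [h]
    have hc := G.hd_w i (G.simp' i) (-1 : Kˣ)
    rw [G.w_simp] at hc
    have hneg : G.hd (G.negr (G.simp' i)) (-1 : Kˣ) = G.hd (G.simp' i) (-1 : Kˣ) := by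
      rw [G.hd_eq_torθ, G.hd_eq_torθ]
      congr 1
      funext j
      have hw := G.coroot_w i (G.simp' i) j
      rw [G.w_simp, G.coroot_simp] at hw
      have hs : ∑ k : Fin D.rank, cart D k (G.simp' i) * (D.coroot.getD (G.simp' i).val #[]).getD k.val 0
          = 2 := by
        rw [Finset.sum_eq_single i]
        · rw [G.coroot_simp, if_pos rfl, mul_one, G.cart_simp]
        · intro b _ hb; rw [G.coroot_simp, if_neg hb, mul_zero]
        · simp
      rw [hs] at hw
      rw [hw, G.coroot_simp]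
      by_cases hji : j = i <;> simp [hji]
    rw [hneg] at hc
    rw [mul_assoc, hc]]
  exact inv_mem (G.hd_mem_H _ _)

/-- `n_{p_i}(1)` normalises `H` -/
theorem nU_mem_normalizer (i : Fin D.rank) :
    G.nU i ∈ Subgroup.normalizer (D.diagonalSubgroup K : Set (GL D.Idx K)) := by
  rw [Subgroup.mem_normalizer_iff]
  intro h
  refine ⟨fun hh => G.nU_conj_H i hh, fun hh => ?_⟩
  have h2 := G.nU_conj_H i hh
  have hsq := G.nU_sq (K := K) i
  have h3 := mul_mem (mul_mem (inv_mem hsq) h2) hsq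
  simpa [mul_assoc] using h3

theorem nw_mem_normalizer (l : List (Fin D.rank)) :
    G.nw l ∈ Subgroup.normalizer (D.diagonalSubgroup K : Set (GL D.Idx K)) :=
  list_prod_mem fun x hx => by
    obtain ⟨i, -, rfl⟩ := List.mem_map.1 hx
    exact G.nU_mem_normalizer i


/-- the root `v p` first becomes negative at some letter -/
theorem exists_delete : ∀ (l : List (Fin D.rank)) (r : Fin D.nroots), D.IsPosRoot r.val →
    ¬ D.IsPosRoot (G.pw l r).val →
    ∃ l₁ i l₂, l = l₁ ++ i :: l₂ ∧ G.pw l₂ r = G.simp' i := by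
  intro l
  induction l with
  | nil => intro r hr hn; exact absurd hr hn
  | cons i l ih =>
    intro r hr hn
    by_cases h : D.IsPosRoot (G.pw l r).val
    · refine ⟨[], i, l, rfl, ?_⟩
      by_contra hne
      apply hn
      rw [pw_cons, Equiv.Perm.mul_apply]
      exact G.w_pos h hne
    · obtain ⟨l₁, i', l₂, rfl, he⟩ := ih r hr h
      exact ⟨i :: l₁, i', l₂, rfl, he⟩


/-- conjugating a simple reflection to a simple reflection -/
theorem conj_sP {l : List (Fin D.rank)} {i j : Fin D.rank} (h : G.pw l (G.simp' j) = G.simp' i) :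
    G.pw l * G.sP j * (G.pw l)⁻¹ = G.sP i := by
  have h1 := NPerm.mul G (NPerm.mul G (G.nPerm_nw (K := ℚ) l) (G.nPerm_nU j)) (NPerm.inv G (G.nPerm_nw l))
  have h2 : ∀ (l : List (Fin D.rank)) (s : Fin D.nroots) (c : ℚˣ), (c = 1 ∨ c = -1) →
      ∃ c' : ℚˣ, (c' = 1 ∨ c' = -1) ∧
        G.nw l * G.nE s (c : ℚ) * (G.nw l)⁻¹ = G.nE (G.pw l s) (c' : ℚ) := by
    intro l
    induction l with
    | nil => intro s c hc; exact ⟨c, hc, by simp [nw_nil, pw_nil]⟩
    | cons a l ih =>
      intro s c hc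
      obtain ⟨c', hc', e⟩ := ih s c hc
      have e' : G.nU a * G.nE (G.pw l s) (c' : ℚ) * (G.nU a)⁻¹ =
          G.nE (G.sP a (G.pw l s)) ((G.eta a (G.pw l s) : ℚ) * c') := by
        rw [G.nU_nE, mul_assoc, mul_inv_cancel, mul_one]; rfl
      have e'' : G.nw (a :: l) * G.nE s (c : ℚ) * (G.nw (a :: l))⁻¹ =
          G.nE (G.sP a (G.pw l s)) ((G.eta a (G.pw l s) : ℚ) * c') := by
        rw [← e', ← e, nw_cons]; group
      rcases G.eta_unit a (G.pw l s) with u | u
      · exact ⟨c', hc', by rw [e'', u, pw_cons, Equiv.Perm.mul_apply]; simp⟩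
      · exact ⟨-c', by rcases hc' with rfl | rfl <;> simp, by
          rw [e'', u, pw_cons, Equiv.Perm.mul_apply]; simp⟩
  obtain ⟨c, hc, e⟩ := h2 l (G.simp' j) 1 (Or.inl rfl)
  rw [Units.val_one, G.nE_simp_one, h] at e
  rw [e] at h1
  rcases hc with rfl | rfl
  · rw [Units.val_one, G.nE_simp_one] at h1
    exact NPerm.unique G h1 (G.nPerm_nU i)
  · rw [Units.val_neg, Units.val_one, ← G.nE_inv, G.nE_simp_one] at h1
    exact (NPerm.unique G h1 (NPerm.inv G (G.nPerm_nU i))).trans (G.sP_inv i)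


/-- the deletion: `v s_j` is `v` with one letter removed when `v p_j` is negative -/
theorem delete_right {l : List (Fin D.rank)} {j : Fin D.rank}
    (h : ¬ D.IsPosRoot (G.pw l (G.simp' j)).val) :
    ∃ l₁ i l₂, l = l₁ ++ i :: l₂ ∧ G.pw l * G.sP j = G.pw (l₁ ++ l₂) ∧
      G.pw l₂ (G.simp' j) = G.simp' i := by
  obtain ⟨l₁, i, l₂, rfl, he⟩ := G.exists_delete l (G.simp' j) (G.simp_pos j) h
  refine ⟨l₁, i, l₂, rfl, ?_, he⟩
  have hc := G.conj_sP he
  rw [pw_append, pw_cons, pw_append, ← hc]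
  have hj := G.sP_mul_self j
  calc G.pw l₁ * (G.pw l₂ * G.sP j * (G.pw l₂)⁻¹ * G.pw l₂) * G.sP j
      = G.pw l₁ * G.pw l₂ * (G.sP j * G.sP j) := by group
    _ = G.pw l₁ * G.pw l₂ := by rw [hj, mul_one]


theorem negr_simp_not_pos (i : Fin D.rank) : ¬ D.IsPosRoot (G.negr (G.simp' i)).val := by
  rw [G.negr_pos_iff, not_not]; exact G.simp_pos i

theorem nU_mul_nE_mem (i : Fin D.rank) (c : Kˣ) (hc : c = 1 ∨ c = -1) :
    G.nU i * G.nE (G.simp' i) (c : K) ∈ D.diagonalSubgroup K := by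
  rcases hc with rfl | rfl
  · rw [Units.val_one, G.nE_simp_one]; exact G.nU_sq i
  · rw [Units.val_neg, Units.val_one, ← G.nE_inv, G.nE_simp_one, mul_inv_cancel]; exact one_mem _

theorem nw_conj_nE : ∀ (l : List (Fin D.rank)) (s : Fin D.nroots) (c : Kˣ), (c = 1 ∨ c = -1) →
    ∃ c' : Kˣ, (c' = 1 ∨ c' = -1) ∧
      G.nw l * G.nE s (c : K) = G.nE (G.pw l s) (c' : K) * G.nw l := by
  intro l
  induction l with
  | nil => intro s c hc; exact ⟨c, hc, by simp [nw_nil, pw_nil]⟩
  | cons a l ih =>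
    intro s c hc
    obtain ⟨c', hc', e⟩ := ih s c hc
    rcases G.eta_unit a (G.pw l s) with u | u
    · refine ⟨c', hc', ?_⟩
      rw [nw_cons, mul_assoc, e, ← mul_assoc, G.nU_nE, u, pw_cons, Equiv.Perm.mul_apply,
        Int.cast_one, one_mul, mul_assoc]
      rfl
    · refine ⟨-c', by rcases hc' with rfl | rfl <;> simp, ?_⟩
      rw [nw_cons, mul_assoc, e, ← mul_assoc, G.nU_nE, u, pw_cons, Equiv.Perm.mul_apply,
        Int.cast_neg, Int.cast_one, neg_one_mul, Units.val_neg, mul_assoc]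
      rfl

/-- a word that fixes all roots gives an element of `H` -/
theorem nw_mem_H : ∀ (n : ℕ) (l : List (Fin D.rank)), l.length = n → G.pw l = 1 →
    G.nw l ∈ D.diagonalSubgroup K := by
  intro n
  induction n using Nat.strong_induction_on with
  | _ n ih =>
    intro l hn hl
    rcases List.eq_nil_or_concat l with rfl | ⟨l', j, rfl⟩
    · exact one_mem _
    · rw [List.concat_eq_append] at hn hl ⊢
      rw [pw_append, pw_single] at hl
      have hneg : ¬ D.IsPosRoot (G.pw l' (G.simp' j)).val := by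
        have e : G.pw l' (G.negr (G.simp' j)) = G.simp' j := by
          rw [← G.w_simp, ← sP_apply, ← Equiv.Perm.mul_apply, hl]; rfl
        rw [G.pw_negr] at e
        rw [← G.negr_negr (G.pw l' (G.simp' j)), e]
        exact G.negr_simp_not_pos j
      obtain ⟨l₁, i, l₂, rfl, hperm, he⟩ := G.delete_right hneg
      have hlen : (l₁ ++ l₂).length < n := by simp at hn ⊢; omega
      have hrec := ih _ hlen (l₁ ++ l₂) rfl (hperm.symm.trans hl)
      obtain ⟨c, hc, e⟩ := G.nw_conj_nE (K := K) l₂ (G.simp' j) 1 (Or.inl rfl)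
      rw [Units.val_one, G.nE_simp_one, he] at e
      have hh := G.nU_mul_nE_mem (K := K) i c hc
      have hh' := (Subgroup.mem_normalizer_iff.1 (G.nw_mem_normalizer (K := K) l₁) _).1 hh
      have : G.nw (l₁ ++ i :: l₂ ++ [j]) =
          (G.nw l₁ * (G.nU i * G.nE (G.simp' i) (c : K)) * (G.nw l₁)⁻¹) * G.nw (l₁ ++ l₂) := by
        rw [nw_append, nw_append, nw_cons, nw_cons, nw_nil, mul_one, nw_append]
        simp only [mul_assoc, e, inv_mul_cancel_left]
      rw [this]
      exact mul_mem hh' hrec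

theorem nU_mem_monomial (i : Fin D.rank) : G.nU i ∈ D.monomialSubgroup K := by
  refine Subgroup.mem_sup_right (Subgroup.subset_closure ⟨(G.simp' i).val, (G.simp' i).isLt, ?_⟩)
  rw [G.nMat_eq, G.nE_simp_one]

theorem H_le_monomial : D.diagonalSubgroup K ≤ D.monomialSubgroup K := le_sup_left

/-- the subgroup generated by the `n_{p_i}(1)` -/
noncomputable def nGrp : Subgroup (GL D.Idx K) := Subgroup.closure (Set.range G.nU)

theorem nE_mem_HN (r : Fin D.nroots) :
    G.nE r 1 ∈ D.diagonalSubgroup K ⊔ G.nGrp := by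
  revert r
  refine G.orbit _ (fun i _ => ?_) fun i r hr => ?_
  · rw [G.nE_simp_one]; exact Subgroup.mem_sup_right (Subgroup.subset_closure ⟨i, rfl⟩)
  · have hn : G.nU i ∈ D.diagonalSubgroup K ⊔ G.nGrp :=
      Subgroup.mem_sup_right (Subgroup.subset_closure ⟨i, rfl⟩)
    have := mul_mem (mul_mem hn hr) (inv_mem hn)
    rw [G.nU_nE, mul_assoc, mul_inv_cancel, mul_one] at this
    rcases G.eta_unit i r with e | e
    · simpa [e] using this
    · rw [e] at this
      simp only [Int.cast_neg, Int.cast_one, mul_one, ← G.nE_inv] at this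
      simpa using inv_mem this

theorem monomial_eq : D.monomialSubgroup K = D.diagonalSubgroup K ⊔ G.nGrp := by
  refine le_antisymm (sup_le le_sup_left ((Subgroup.closure_le _).2 ?_)) (sup_le le_sup_left ?_)
  · rintro g ⟨r, hr, hg⟩
    rw [show g = G.nE ⟨r, hr⟩ 1 from Units.ext (hg.trans (G.nMat_eq ⟨r, hr⟩ 1))]
    exact G.nE_mem_HN _
  · rw [nGrp, Subgroup.closure_le]
    rintro g ⟨i, rfl⟩
    exact G.nU_mem_monomial i

theorem monomial_le_normalizer :
    D.monomialSubgroup K ≤ Subgroup.normalizer (D.diagonalSubgroup K : Set (GL D.Idx K)) := by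
  rw [G.monomial_eq]
  refine sup_le Subgroup.le_normalizer ((Subgroup.closure_le _).2 ?_)
  rintro g ⟨i, rfl⟩
  exact G.nU_mem_normalizer i

/-- every element of `N` is an element of `H` times a word in the `n_{p_i}(1)` -/
theorem monomial_decomp {n : GL D.Idx K} (hn : n ∈ D.monomialSubgroup K) :
    ∃ h ∈ D.diagonalSubgroup K, ∃ l, n = h * G.nw l := by
  rw [G.monomial_eq, ← Subgroup.closure_eq (D.diagonalSubgroup K), nGrp, ← Subgroup.closure_union] at hn
  induction hn using Subgroup.closure_induction_left with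
  | one => exact ⟨1, one_mem _, [], by simp [nw_nil]⟩
  | mul_left x hx y _ ih =>
    obtain ⟨h, hh, l, rfl⟩ := ih
    rcases hx with hx | ⟨i, rfl⟩
    · exact ⟨x * h, mul_mem hx hh, l, by rw [mul_assoc]⟩
    · refine ⟨G.nU i * h * (G.nU i)⁻¹, G.nU_conj_H i hh, i :: l, ?_⟩
      rw [nw_cons]; group
  | inv_mul_cancel x hx y _ ih =>
    obtain ⟨h, hh, l, rfl⟩ := ih
    rcases hx with hx | ⟨i, rfl⟩
    · exact ⟨x⁻¹ * h, mul_mem (inv_mem hx) hh, l, by rw [mul_assoc]⟩
    · refine ⟨(G.nU i * G.nU i)⁻¹ * (G.nU i * h * (G.nU i)⁻¹),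
        mul_mem (inv_mem (G.nU_sq i)) (G.nU_conj_H i hh), i :: l, ?_⟩
      rw [nw_cons]; group

/-- the Weyl group, as a group of permutations of the roots -/
def Wg (G : Good D) : Subgroup (Equiv.Perm (Fin D.nroots)) := Subgroup.closure (Set.range G.sP)


theorem pw_mem (l : List (Fin D.rank)) : G.pw l ∈ G.Wg :=
  list_prod_mem fun x hx => by
    obtain ⟨i, -, rfl⟩ := List.mem_map.1 hx
    exact Subgroup.subset_closure ⟨i, rfl⟩


theorem exists_pw {v : Equiv.Perm (Fin D.nroots)} (hv : v ∈ G.Wg) : ∃ l, G.pw l = v := by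
  induction hv using Subgroup.closure_induction_left with
  | one => exact ⟨[], rfl⟩
  | mul_left x hx y _ ih =>
    obtain ⟨l, rfl⟩ := ih; obtain ⟨i, rfl⟩ := hx
    exact ⟨i :: l, G.pw_cons i l⟩
  | inv_mul_cancel x hx y _ ih =>
    obtain ⟨l, rfl⟩ := ih; obtain ⟨i, rfl⟩ := hx
    exact ⟨i :: l, by rw [G.pw_cons, G.sP_inv]⟩


theorem sP_ne_one (i : Fin D.rank) : G.sP i ≠ 1 := fun h => by
  have := congrArg (fun p : Equiv.Perm (Fin D.nroots) => p (G.simp' i)) h
  simp only [sP_apply, Equiv.Perm.one_apply, G.w_simp] at this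
  exact G.negr_ne _ this


theorem sP_injective : Function.Injective G.sP := fun i j h => by
  by_contra hne
  have := congrArg (fun p : Equiv.Perm (Fin D.nroots) => p (G.simp' i)) h
  simp only [sP_apply, G.w_simp] at this
  have hp := G.w_pos (i := j) (G.simp_pos i) (fun e => hne (G.simp_injective e))
  rw [← this] at hp
  exact G.negr_simp_not_pos i hp


/-- the exchange condition -/
theorem exchange_word (i : Fin D.rank) (ω : List (Fin D.rank))
    (hred : ∀ ω', G.pw ω' = G.pw ω → ω.length ≤ ω'.length)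
    (hshort : ∃ ω', G.pw ω' = G.sP i * G.pw ω ∧ ω'.length ≤ ω.length) :
    ∃ k < ω.length, G.sP i * G.pw ω = G.pw (ω.eraseIdx k) := by
  have erase : ∀ l : List (Fin D.rank), ¬ D.IsPosRoot ((G.pw l)⁻¹ (G.simp' i)).val →
      ∃ k < l.length, G.sP i * G.pw l = G.pw (l.eraseIdx k) := by
    intro l hl
    rw [← G.pw_reverse] at hl
    obtain ⟨l₁, a, l₂, e, hperm, -⟩ := G.delete_right hl
    have e' : l = l₂.reverse ++ a :: l₁.reverse := by
      have := congrArg List.reverse e
      simpa using this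
    refine ⟨l₂.reverse.length, by rw [e']; simp, ?_⟩
    have h1 : l.eraseIdx l₂.reverse.length = (l₁ ++ l₂).reverse := by
      rw [e', List.eraseIdx_append_of_length_le le_rfl]; simp
    rw [h1, G.pw_reverse, ← hperm, G.pw_reverse, mul_inv_rev, inv_inv, G.sP_inv]
  by_cases hpos : D.IsPosRoot ((G.pw ω)⁻¹ (G.simp' i)).val
  · exfalso
    obtain ⟨ω', hω', hlen⟩ := hshort
    obtain ⟨k, hk, e⟩ := erase ω' (by
      rw [hω', mul_inv_rev, Equiv.Perm.mul_apply, G.sP_inv, sP_apply, G.w_simp, ← G.pw_reverse,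
        G.pw_negr, G.pw_reverse, G.negr_pos_iff, not_not]
      exact hpos)
    rw [hω', ← mul_assoc, G.sP_mul_self, one_mul] at e
    have := hred _ e.symm
    rw [List.length_eraseIdx, if_pos hk] at this
    omega
  · exact erase ω hpos


theorem coe_prod_map (ω : List (Fin D.rank)) :
    (((ω.map fun i => (⟨G.sP i, Subgroup.subset_closure ⟨i, rfl⟩⟩ : G.Wg))).prod :
      Equiv.Perm (Fin D.nroots)) = G.pw ω := by
  rw [Subgroup.val_list_prod, List.map_map]; rfl

/-- the Weyl group with the simple reflections satisfies the exchange condition -/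
def exSystem (G : Good D) : Exchange.ExSystem G.Wg (Fin D.rank) where
  f i := ⟨G.sP i, Subgroup.subset_closure ⟨i, rfl⟩⟩
  mul_self i := Subtype.ext (G.sP_mul_self i)
  inj _ _ h := G.sP_injective (congrArg Subtype.val h)
  ne_one i h := G.sP_ne_one i (congrArg Subtype.val h)
  gen w := by
    obtain ⟨l, hl⟩ := G.exists_pw w.2
    exact ⟨l, Subtype.ext ((G.coe_prod_map l).trans hl)⟩
  exchange i ω hred hshort := by
    obtain ⟨ω', h1, h2⟩ := hshort
    obtain ⟨k, hk, e⟩ := G.exchange_word i ω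
      (fun ω'' h'' => hred ω'' (Subtype.ext (by rw [G.coe_prod_map, G.coe_prod_map, h''])))
      ⟨ω', by
        have := congrArg Subtype.val h1
        rw [Subgroup.coe_mul, G.coe_prod_map, G.coe_prod_map] at this
        exact this, h2⟩
    refine ⟨k, hk, Subtype.ext ?_⟩
    rw [Subgroup.coe_mul, G.coe_prod_map, G.coe_prod_map]
    exact e


theorem exists_longest : ∃ l, ∀ r : Fin D.nroots,
    D.IsPosRoot r.val → ¬ D.IsPosRoot (G.pw l r).val := by
  classical
  let inv : List (Fin D.rank) → ℕ := fun l =>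
    (Finset.univ.filter fun r : Fin D.nroots => D.IsPosRoot r.val ∧ ¬ D.IsPosRoot (G.pw l r).val).card
  have hb : ∀ l, inv l ≤ D.nroots := fun l => le_trans (Finset.card_le_univ _) (by simp)
  obtain ⟨m, hm, hmax⟩ : ∃ m, (∃ l, inv l = m) ∧ ∀ l, inv l ≤ m := by
    have hP : ∃ l, inv l = inv [] := ⟨[], rfl⟩
    refine ⟨Nat.findGreatest (fun m => ∃ l, inv l = m) D.nroots,
      Nat.findGreatest_spec (P := fun m => ∃ l, inv l = m) (hb []) hP, fun l => ?_⟩
    exact Nat.le_findGreatest (hb l) ⟨l, rfl⟩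
  obtain ⟨l, rfl⟩ := hm
  have hsimp : ∀ j, ¬ D.IsPosRoot (G.pw l (G.simp' j)).val := by
    intro j hj
    have := hmax (l ++ [j])
    set A := Finset.univ.filter fun r : Fin D.nroots => D.IsPosRoot r.val ∧ ¬ D.IsPosRoot (G.pw l r).val
    have hsub : insert (G.simp' j) (A.image (G.w j)) ⊆ Finset.univ.filter
        fun r : Fin D.nroots => D.IsPosRoot r.val ∧ ¬ D.IsPosRoot (G.pw (l ++ [j]) r).val := by
      intro r hr
      simp only [Finset.mem_insert, Finset.mem_image, A, Finset.mem_filter, Finset.mem_univ,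
        true_and] at hr ⊢
      rw [pw_append, pw_single, Equiv.Perm.mul_apply, sP_apply]
      rcases hr with rfl | ⟨s, ⟨hs1, hs2⟩, rfl⟩
      · exact ⟨G.simp_pos j, by rw [G.w_simp, G.pw_negr, G.negr_pos_iff, not_not]; exact hj⟩
      · rw [G.w_w]
        exact ⟨G.w_pos hs1 (fun e => hs2 (e ▸ hj)), hs2⟩
    have hnot : G.simp' j ∉ A.image (G.w j) := by
      simp only [Finset.mem_image, A, Finset.mem_filter, Finset.mem_univ, true_and, not_exists,
        not_and, and_imp]
      intro s hs1 _ e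
      have : s = G.negr (G.simp' j) := by rw [← G.w_simp, ← e, G.w_w]
      exact G.negr_simp_not_pos j (this ▸ hs1)
    have h2 := Finset.card_le_card hsub
    rw [Finset.card_insert_of_notMem hnot, Finset.card_image_of_injective _ (G.w_injective j)] at h2
    change A.card + 1 ≤ inv (l ++ [j]) at h2
    change inv (l ++ [j]) ≤ A.card at this
    omega
  refine ⟨l, fun r hr h => ?_⟩
  rw [G.isPosRoot_iff, G.rho_pw] at h
  have hsum : G.ht (∑ j, G.rho r j • G.rho (G.pw l (G.simp' j))) =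
      ∑ j, G.rho r j * G.ht (G.rho (G.pw l (G.simp' j))) := by
    induction (Finset.univ : Finset (Fin D.rank)) using Finset.induction with
    | empty => simpa using G.ht_smul 0 0
    | insert a s ha ih => rw [Finset.sum_insert ha, Finset.sum_insert ha, G.ht_add, ih, G.ht_smul]
  rw [hsum] at h
  have hnn : ∀ j, 0 ≤ G.rho r j := by
    rcases G.rho_sign r with hh | hh
    · exact hh
    · exfalso
      have h0 := (G.isPosRoot_iff r).1 hr
      have : G.ht (G.rho r) ≤ 0 := Finset.sum_nonpos fun j _ =>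
        mul_nonpos_of_nonpos_of_nonneg (hh j) (pow_nonneg G.base_pos.le _)
      omega
  have : ∑ j, G.rho r j * G.ht (G.rho (G.pw l (G.simp' j))) ≤ 0 := Finset.sum_nonpos fun j _ => by
    refine mul_nonpos_of_nonneg_of_nonpos (hnn j) ?_
    have := hsimp j
    rw [G.isPosRoot_iff] at this
    omega
  omega

end Good

end CfsgLib.Lie.Chev
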